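/-
The Borel subgroup of the group of type G2 over the field with three elements in the 7-dimensional
representation, in coordinates, with a cocycle on it.
-/
import Cfsg.Agent.H50.GTwoThree.Field
import Cfsg.Agent.H50.CocycleExt

set_option autoImplicit false
set_option maxHeartbeats 1000000

namespace Cfsg.Agent.H50.GTwoThree

open Matrix

/-- coordinates on the unipotent part, by the six positive roots -/
structure Uni (R : Type) where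
  (x6 x7 x8 x9 x10 x11 : R)
  deriving DecidableEq

section

variable {R : Type} [CommRing R]

/-- product of the root elements, in increasing order -/
def uMat (a : Uni R) : Matrix (Fin 7) (Fin 7) R :=
  !![1, a.x7, -a.x8, -2 * a.x9 + 2 * a.x7 * a.x8, a.x10 + a.x7 * a.x9,
      -a.x11 - a.x8 * a.x9 - a.x7 * a.x8 ^ 2,
      a.x9 ^ 2 - 2 * a.x7 * a.x8 * a.x9 + a.x8 * a.x10 - a.x7 * a.x11;
    0, 1, a.x6, 2 * a.x8 + 2 * a.x6 * a.x7, a.x9 + a.x6 * a.x7 ^ 2,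
      -a.x8 ^ 2 - 2 * a.x6 * a.x7 * a.x8 + a.x6 * a.x9,
      -a.x11 - 2 * a.x8 * a.x9 - 2 * a.x6 * a.x7 * a.x9 + a.x6 * a.x7 ^ 2 * a.x8 - a.x6 * a.x10;
    0, 0, 1, 2 * a.x7, a.x7 ^ 2, a.x9 - 2 * a.x7 * a.x8,
      -a.x10 - 2 * a.x7 * a.x9 + a.x7 ^ 2 * a.x8;
    0, 0, 0, 1, a.x7, -a.x8, -a.x9 + a.x7 * a.x8;
    0, 0, 0, 0, 1, a.x6, a.x8 + a.x6 * a.x7;
    0, 0, 0, 0, 0, 1, a.x7;
    0, 0, 0, 0, 0, 0, 1]

/-- the product in coordinates -/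
def umul (a b : Uni R) : Uni R :=
  ⟨a.x6 + b.x6, a.x7 + b.x7, a.x8 + b.x8 - a.x7 * b.x6,
   a.x9 + b.x9 - 2 * a.x7 * b.x6 * b.x7 + 2 * a.x8 * b.x7 - a.x7 ^ 2 * b.x6,
   a.x10 + b.x10 + 3 * a.x7 * b.x6 * b.x7 ^ 2 - 3 * a.x8 * b.x7 ^ 2 + 3 * a.x7 ^ 2 * b.x6 * b.x7 -
     3 * a.x9 * b.x7 + a.x7 ^ 3 * b.x6,
   a.x11 + b.x11 + 6 * a.x7 * b.x6 * b.x7 * b.x8 - 6 * a.x8 * b.x7 * b.x8 +
     3 * a.x7 ^ 2 * b.x6 * b.x8 - 3 * a.x9 * b.x8 - 3 * a.x7 ^ 2 * b.x6 ^ 2 * b.x7 +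
     6 * a.x7 * a.x8 * b.x6 * b.x7 - 3 * a.x8 ^ 2 * b.x7 + 3 * a.x7 ^ 2 * a.x8 * b.x6 -
     2 * a.x7 ^ 3 * b.x6 ^ 2 - a.x10 * b.x6⟩

theorem uMat_mul (a b : Uni R) : uMat a * uMat b = uMat (umul a b) := by
  ext i j
  fin_cases i <;> fin_cases j <;>
    simp [uMat, umul, Matrix.mul_apply, Fin.sum_univ_seven] <;> ring

end

/-- coordinates on the Borel subgroup -/
structure Par where
  /-- sign on the short simple root -/
  al : F3
  /-- sign on the long simple root -/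
  be : F3
  /-- unipotent part -/
  u : Uni F3
  deriving DecidableEq

/-- both signs are units -/
def Valid (p : Par) : Prop := p.al * p.al = 1 ∧ p.be * p.be = 1

instance (p : Par) : Decidable (Valid p) := by unfold Valid; infer_instance

/-- weights of the seven basis vectors -/
def wts (al be : F3) : Fin 7 → F3 := ![be, al * be, al, 1, al, al * be, be]

/-- action of the torus on the unipotent part -/
def tAct (al be : F3) (a : Uni F3) : Uni F3 :=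
  ⟨be * a.x6, al * a.x7, al * be * a.x8, be * a.x9, al * be * a.x10, al * a.x11⟩

/-- the element with given coordinates -/
def psi (p : Par) : Matrix (Fin 7) (Fin 7) F3 := uMat p.u * Matrix.diagonal (wts p.al p.be)

/-- product in coordinates -/
def pmul (p q : Par) : Par := ⟨p.al * q.al, p.be * q.be, umul p.u (tAct p.al p.be q.u)⟩

theorem valid_pmul {p q : Par} (hp : Valid p) (hq : Valid q) : Valid (pmul p q) :=
  ⟨by show p.al * q.al * (p.al * q.al) = 1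
      linear_combination q.al * q.al * hp.1 + hq.1,
    by show p.be * q.be * (p.be * q.be) = 1
       linear_combination q.be * q.be * hp.2 + hq.2⟩

theorem diag_uMat {al be : F3} (ha : al * al = 1) (hb : be * be = 1) (b : Uni F3) :
    Matrix.diagonal (wts al be) * uMat b = uMat (tAct al be b) * Matrix.diagonal (wts al be) := by
  rcases F3.sq_cases al ha with rfl | rfl <;> rcases F3.sq_cases be hb with rfl | rfl <;>
    · ext i j
      rw [Matrix.diagonal_mul, Matrix.mul_diagonal]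
      fin_cases i <;> fin_cases j <;> simp [uMat, tAct, wts] <;> ring

theorem psi_mul {p q : Par} (hp : Valid p) : psi p * psi q = psi (pmul p q) := by
  rw [psi, psi, Matrix.mul_assoc, ← Matrix.mul_assoc (Matrix.diagonal _) (uMat q.u),
    diag_uMat hp.1 hp.2, Matrix.mul_assoc, Matrix.diagonal_mul_diagonal, ← Matrix.mul_assoc,
    uMat_mul, psi]
  congr 2
  funext i
  fin_cases i <;> simp [wts, pmul] <;> ring

/-- coordinates from a matrix -/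
def readPar (M : Matrix (Fin 7) (Fin 7) F3) : Par :=
  let x7 := M 0 1 * M 1 1
  let x8 := -(M 0 2 * M 2 2)
  let x6 := M 1 2 * M 2 2
  let x9 := M 1 4 * M 4 4 - x6 * x7 ^ 2
  ⟨M 2 2, M 0 0, ⟨x6, x7, x8, x9, M 0 4 * M 4 4 - x7 * x9,
    -(M 0 5 * M 5 5) - x8 * x9 - x7 * x8 ^ 2⟩⟩

theorem readPar_psi {p : Par} (hp : Valid p) : readPar (psi p) = p := by
  obtain ⟨al, be, ⟨a6, a7, a8, a9, a10, a11⟩⟩ := p
  obtain ⟨ha, hb⟩ := hp
  rcases F3.sq_cases al ha with rfl | rfl <;> rcases F3.sq_cases be hb with rfl | rfl <;>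
    simp [readPar, psi, uMat, wts] <;> ring

/-- the cocycle on the unipotent part -/
def ucoc (a b : Uni F3) : F3 :=
  -(a.x7 ^ 2 * b.x6 ^ 2) + a.x7 ^ 3 * a.x8 * b.x6 + a.x9 * b.x6 - a.x7 ^ 3 * b.x6 ^ 2 * b.x7 +
    a.x10 * b.x6 * b.x7 - a.x11 * b.x7 + a.x7 ^ 3 * b.x6 * b.x8 + a.x10 * b.x8

theorem ucoc_assoc (a b c : Uni F3) :
    ucoc a b + ucoc (umul a b) c = ucoc b c + ucoc a (umul b c) := by
  simp only [ucoc, umul]
  linear_combination ((-1 : F3) * a.x9 * b.x7 * c.x8 + (1 : F3) * a.x7 ^ 2 * b.x6 * b.x7 * c.x8 + (-1 : F3) * a.x8 * b.x7 ^ 2 * c.x8 + (1 : F3) * a.x7 * b.x6 * b.x7 ^ 2 * c.x8 + (1 : F3) * a.x7 * b.x7 ^ 2 * c.x6 * c.x8 + (1 : F3) * a.x7 ^ 2 * b.x7 * c.x6 * c.x8 + (1 : F3) * a.x7 * b.x6 ^ 2 * c.x7 + (-1 : F3) * a.x7 ^ 2 * a.x8 * b.x6 * c.x7 + (1 : F3) * a.x8 ^ 2 * b.x7 * c.x7 + (-2 : F3) * a.x7 * a.x8 * b.x6 * b.x7 * c.x7 + (1 : F3) * a.x7 ^ 2 * b.x6 ^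 2 * b.x7 * c.x7 + (1 : F3) * a.x9 * b.x8 * c.x7 + (-1 : F3) * a.x7 ^ 2 * b.x6 * b.x8 * c.x7 + (2 : F3) * a.x8 * b.x7 * b.x8 * c.x7 + (-2 : F3) * a.x7 * b.x6 * b.x7 * b.x8 * c.x7 + (1 : F3) * a.x7 * b.x6 * c.x6 * c.x7 + (-1 : F3) * a.x9 * b.x7 * c.x6 * c.x7 + (1 : F3) * a.x7 ^ 2 * b.x6 * b.x7 * c.x6 * c.x7 + (-1 : F3) * a.x8 * b.x7 ^ 2 * c.x6 * c.x7 + (1 : F3) * a.x7 * b.x6 * b.x7 ^ 2 * c.x6 * c.x7 + (-1 : F3) * a.x7 * b.x7 ^ 2 * c.x6 ^ 2 * c.x7 + (-1 : F3) * a.x7 ^ 2 * b.x7 * c.x6 ^ 2 * c.x7 + (1 : F3) * a.x8 * b.x7 * c.x6 + (-1 : F3) * a.x7 * b.x6 * b.x7 * c.x6 + (-1 : F3) * a.x7 ^ 2 * b.x6 * b.x7 ^ 2 * c.x6 + (1 : F3) * a.x7 * b.x7 ^ 2 * b.x8 * c.x6 + (1 : F3) * a.x7 * a.x8 * b.x7 ^ 2 * c.x6 + (1 : F3) * a.x7 ^ 2 * b.x7 * b.x8 * c.x6 + (1 : F3) * a.x7 ^ 2 * a.x8 * b.x7 * c.x6) * F3.three +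
    ((2 : F3) * b.x7 * c.x6 ^ 2 + (3 : F3) * b.x6 ^ 2 * c.x7 + (3 : F3) * b.x6 * c.x6 * c.x7 + (-1 : F3) * a.x7 * b.x6 * c.x6) * F3.cube a.x7 +
    ((-1 : F3) * a.x7 * b.x6 * c.x6 + (1 : F3) * a.x8 * c.x6) * F3.cube b.x7

theorem ucoc_tAct {al be : F3} (ha : al * al = 1) (hb : be * be = 1) (a b : Uni F3) :
    ucoc (tAct al be a) (tAct al be b) = ucoc a b := by
  rcases F3.sq_cases al ha with rfl | rfl <;> rcases F3.sq_cases be hb with rfl | rfl <;>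
    simp [ucoc, tAct] <;> ring

theorem tAct_umul {al be : F3} (ha : al * al = 1) (hb : be * be = 1) (a b : Uni F3) :
    tAct al be (umul a b) = umul (tAct al be a) (tAct al be b) := by
  rcases F3.sq_cases al ha with rfl | rfl <;> rcases F3.sq_cases be hb with rfl | rfl <;>
    simp [umul, tAct] <;> (repeat' apply And.intro) <;> ring

theorem tAct_tAct (al be al' be' : F3) (a : Uni F3) :
    tAct al be (tAct al' be' a) = tAct (al * al') (be * be') a := by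
  simp only [tAct, Uni.mk.injEq]
  refine ⟨?_, ?_, ?_, ?_, ?_, ?_⟩ <;> ring

/-- the cocycle on the Borel subgroup -/
def pcoc (p q : Par) : F3 := ucoc p.u (tAct p.al p.be q.u)

theorem pcoc_assoc {p q r : Par} (hp : Valid p) :
    pcoc p q + pcoc (pmul p q) r = pcoc q r + pcoc p (pmul q r) := by
  simp only [pcoc, pmul]
  rw [tAct_umul hp.1 hp.2, tAct_tAct,
    ← ucoc_tAct hp.1 hp.2 q.u (tAct q.al q.be r.u), tAct_tAct]
  exact ucoc_assoc _ _ _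

/-- the neutral coordinates -/
def pOne : Par := ⟨1, 1, ⟨0, 0, 0, 0, 0, 0⟩⟩

theorem pcoc_one (p : Par) : pcoc pOne p = 0 ∧ pcoc p pOne = 0 := by
  constructor <;> simp [pcoc, pOne, ucoc, tAct]

theorem psi_one : psi pOne = 1 := by
  ext i j
  rw [psi, Matrix.mul_diagonal]
  fin_cases i <;> fin_cases j <;> simp [pOne, uMat, wts]

end Cfsg.Agent.H50.GTwoThree
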