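/-
A central extension of Steinberg's cover of type G2 over the field with three elements inside the
derived group has kernel generated by one commutator of lifts, of order dividing three.
-/
import Cfsg.Agent.H38.St.SmallCases
import Cfsg.Agent.H38.St.SmallSplit
import Cfsg.Agent.H38.St.LiftData

set_option autoImplicit false

namespace Cfsg.Agent.H50.GTwoThree

open Cfsg.Lie Cfsg.Lie.ChevalleyDatum Cfsg.Agent.Chevalley
open Cfsg.Agent.H38.St Cfsg.Agent.H38.CT

/-- a root whose coroot is orthogonal to the first root and odd on the second -/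
def sepOdd (r s : ℕ) : Bool :=
  (List.range chevG2.nroots).any fun a =>
    (pairL chevG2 a r == 0) && ((pairL chevG2 a s) % 2 != 0)

theorem top_pairs : topAll chevG2 G2.tab.w
    (fun r s => sepOdd r s || (r == 9 && s == 6) || (r == 11 && s == 7)) = true := by decide +kernel

theorem moved : ∀ r < 12, ∃ i < 2, chevG2.cartan i r % 2 ≠ 0 := by decide +kernel

theorem free_pairs : freeB chevG2 7 11 = true ∧ freeB chevG2 11 7 = true ∧
    freeB chevG2 9 6 = true ∧ freeB chevG2 8 10 = true ∧ freeB chevG2 7 11 = true := by decide +kernel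

theorem w_vals : G2.tab.w 0 9 = 8 ∧ G2.tab.w 0 6 = 10 ∧ G2.tab.w 1 8 = 7 ∧ G2.tab.w 1 10 = 11 := by
  decide +kernel

variable {K : Type*} [Field K] [Fintype K] {P : Type*} [Group P]

theorem neg_one_zpow_ne (hK : Fintype.card K = 3) {k : ℤ} (hk : k % 2 ≠ 0) :
    (-1 : Kˣ) ^ k ≠ 1 := by
  have := charP_of_card (K := K) (q := 3) (k := 1) (by norm_num) hK
  rw [Odd.neg_one_zpow (Int.odd_iff.2 (by omega))]
  intro h
  have h3 : ((3 : ℕ) : K) = 0 := CharP.cast_eq_zero K 3
  push_cast at h3
  have h' : (-1 : K) = 1 := by simpa using congrArg Units.val h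
  exact one_ne_zero (show (1 : K) = 0 by linear_combination h3 + h')

/-- such a root -/
def SepOdd (r s : ℕ) : Prop :=
  ∃ a < chevG2.nroots, pairingSum chevG2 a r = 0 ∧ pairingSum chevG2 a s % 2 ≠ 0

theorem sepOdd_of_b {r s : ℕ} (h : sepOdd r s = true) : SepOdd r s := by
  simp only [sepOdd, List.any_eq_true, List.mem_range, Bool.and_eq_true, beq_iff_eq, bne_iff_ne,
    pairL_eq] at h
  exact h

/-- the distinguished commutator -/
noncomputable def delta (X : CExt P (chevG2.SteinbergCover K)) : P :=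
  X.cm (chevG2.scGen K 7 1) (chevG2.scGen K 11 1)

theorem prime_three (hK : Fintype.card K = 3) : PrimeK K := by
  have := charP_of_card (K := K) (q := 3) (k := 1) (by norm_num) hK
  exact primeK_three hK

theorem triv_seven_eleven (hK : Fintype.card K = 3) (X : CExt P (chevG2.SteinbergCover K))
    (h : delta X = 1) : Triv X 7 11 := by
  intro t u
  have hf := free_of_b free_pairs.1
  have hco := comK_free (K := K) (by decide : 7 < chevG2.nroots) hf
  refine eq_of_prime (P := P) (prime_three hK)
    (f := fun t u => X.cm (chevG2.scGen K 7 t) (chevG2.scGen K 11 u))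
    (g := fun _ _ => 1) ?_ ?_ (fun _ _ _ => (mul_one 1).symm) (fun _ _ _ => (mul_one 1).symm) h t u
  · intro t t' u
    rw [← sc_add (by decide), X.cm_mul_left_comm (hco t u) (hco t' u)]
  · intro t u u'
    rw [← sc_add (by decide), X.cm_mul_right_comm (hco t u')]

/-- the extension splits as soon as that commutator is trivial -/
theorem split_of_delta (hK : Fintype.card K = 3) (X : CExt P (chevG2.SteinbergCover K))
    (h : delta X = 1) : ∃ f : chevG2.SteinbergCover K →* P, ∀ x, X.p (f x) = x := by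
  have hmem : chevG2 ∈ [chevG2, chevB2, chevD4, chevF4, chevE6, chevE7, chevE8] := by simp
  obtain ⟨Q, -, hA⟩ := exists_stData hmem K
  have := charP_of_card (K := K) (q := 3) (k := 1) (by norm_num) hK
  obtain ⟨w1, w2, w3, w4⟩ := w_vals
  obtain ⟨f1, f2, f3, f4, -⟩ := free_pairs
  have h7 := triv_seven_eleven hK X h
  have h8 : Triv X 8 10 := triv_w X G2.cert hA (by decide : 1 < chevG2.rank) (by decide) (by decide)
    (comK_free (by decide) (free_of_b f4)) (by
      show Triv X (G2.tab.w 1 8) (G2.tab.w 1 10)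
      rw [w3, w4]; exact h7)
  have h9 : Triv X 9 6 := triv_w X G2.cert hA (by decide : 0 < chevG2.rank) (by decide) (by decide)
    (comK_free (by decide) (free_of_b f3)) (by
      show Triv X (G2.tab.w 0 9) (G2.tab.w 0 6)
      rw [w1, w2]; exact h8)
  have hall : ∀ r < chevG2.nroots, ∀ s < chevG2.nroots, s ≠ r → s ≠ chevG2.neg r →
      SepOdd r s ∨ (Free chevG2 r s ∧ Triv X r s) := by
    refine pair_descent G2.cert ?_ (of_topAll G2.cert (w := G2.tab.w) rfl ?_ top_pairs)
    · rintro i hi r hr s hs (⟨a, ha, e1, e2⟩ | ⟨hf, hT⟩)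
      · rw [← G2.cert.pairing_w hi ha hr] at e1
        rw [← G2.cert.pairing_w hi ha hs] at e2
        exact Or.inl ⟨_, (G2.cert.w_lt i hi a ha).1, e1, e2⟩
      · have hf' := free_w G2.cert hi (G2.cert.w_lt i hi r hr).1 hf
        rw [(G2.cert.w_lt i hi r hr).2, (G2.cert.w_lt i hi s hs).2] at hf'
        exact Or.inr ⟨hf', triv_w X G2.cert hA hi hr hs (comK_free hr hf') hT⟩
    · intro r s hr hs hq
      simp only [Bool.or_eq_true, Bool.and_eq_true, beq_iff_eq] at hq
      rcases hq with (hq | ⟨rfl, rfl⟩) | ⟨rfl, rfl⟩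
      · exact Or.inl (sepOdd_of_b hq)
      · exact Or.inr ⟨free_of_b f3, h9⟩
      · exact Or.inr ⟨free_of_b f2, h7.symm⟩
  obtain ⟨Φ⟩ := fam_of_roots X fun r hr => by
    obtain ⟨i, hi, hodd⟩ := moved r hr
    exact rootZ_scaler X hr (scl_hS G2.cert hA (show i < chevG2.rank from hi) (-1))
      (fun e => neg_one_zpow_ne hK hodd (Units.ext e)) (triv_self_prime X (prime_three hK) hr)
  refine Φ.exists_section G2.cert hA liftG2 fun r hr s hs a b => ?_
  rcases hall r hr s hs a b with ⟨c, -, e1, e2⟩ | ⟨hf, hT⟩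
  · exact Or.inl ⟨c, -1, e1, neg_one_zpow_ne hK e2⟩
  · exact Or.inr (Or.inr (r2_triv X Φ hr hf hT))

theorem delta_cube (hK : Fintype.card K = 3) (X : CExt P (chevG2.SteinbergCover K)) :
    delta X ^ 3 = 1 ∧ X.p (delta X) = 1 := by
  have := charP_of_card (K := K) (q := 3) (k := 1) (by norm_num) hK
  have hco := comK_free (K := K) (by decide : 7 < chevG2.nroots) (free_of_b free_pairs.1)
  refine ⟨?_, X.p_cm_comm (hco 1 1)⟩
  rw [pow_succ, pow_succ, pow_one]
  simp only [delta, ← X.cm_mul_right_comm (hco 1 _), sc_add (show 11 < chevG2.nroots by decide)]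
  rw [show (1 : K) + 1 + 1 = ((3 : ℕ) : K) by norm_num, CharP.cast_eq_zero, sc_gen_zero (by decide)]
  exact cm_one_right X _

/-- the kernel inside the derived group is generated by that commutator -/
theorem ker_le_zpowers (hK : Fintype.card K = 3) (X : CExt P (chevG2.SteinbergCover K))
    (hd : X.p.ker ≤ commutator P) : X.p.ker ≤ Subgroup.zpowers (delta X) := by
  set N := Subgroup.zpowers (delta X)
  have hN : N ≤ X.p.ker := Subgroup.zpowers_le.2 (delta_cube hK X).2
  have hNn : N.Normal := ⟨fun z hz g => by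
    rw [← (X.comm_ker (hN hz) g).eq, mul_inv_cancel_right]; exact hz⟩
  let Y : CExt (P ⧸ N) (chevG2.SteinbergCover K) :=
    ⟨QuotientGroup.lift N X.p hN, fun x => by
      obtain ⟨a, ha⟩ := X.surj x
      exact ⟨QuotientGroup.mk a, ha⟩, fun y hy => by
      obtain ⟨a, rfl⟩ := QuotientGroup.mk_surjective y
      rw [Subgroup.mem_center_iff]
      intro y'
      obtain ⟨b, rfl⟩ := QuotientGroup.mk_surjective y'
      exact congrArg (QuotientGroup.mk' N) (X.comm_ker hy b).eq.symm⟩
  have hδ : delta Y = 1 := by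
    rw [delta, Y.cm_eq (A := QuotientGroup.mk' N (X.lift (chevG2.scGen K 7 1)))
      (B := QuotientGroup.mk' N (X.lift (chevG2.scGen K 11 1))) (X.p_lift _) (X.p_lift _),
      ← map_inv, ← map_inv, ← map_mul, ← map_mul, ← map_mul]
    exact (QuotientGroup.eq_one_iff _).2 (Subgroup.mem_zpowers _)
  obtain ⟨f, hf⟩ := split_of_delta hK Y hδ
  have hY : Y.p.ker ≤ commutator (P ⧸ N) := by
    intro y hy
    obtain ⟨a, rfl⟩ := QuotientGroup.mk_surjective y
    rw [_root_.commutator_def,
      ← Subgroup.map_top_of_surjective (QuotientGroup.mk' N) (QuotientGroup.mk'_surjective N),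
      ← Subgroup.map_commutator, ← _root_.commutator_def]
    exact Subgroup.mem_map_of_mem _ (hd hy)
  intro z hz
  have : (QuotientGroup.mk z : P ⧸ N) ∈ Y.p.ker := hz
  rw [ker_eq_bot_of_section Y hY hf, Subgroup.mem_bot, QuotientGroup.eq_one_iff] at this
  exact this

theorem card_ker_le (hK : Fintype.card K = 3) (X : CExt P (chevG2.SteinbergCover K))
    (hd : X.p.ker ≤ commutator P) : Nat.card X.p.ker ≤ 3 := by
  have hfo : IsOfFinOrder (delta X) :=
    isOfFinOrder_iff_pow_eq_one.2 ⟨3, by norm_num, (delta_cube hK X).1⟩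
  have : Finite (Subgroup.zpowers (delta X)) := hfo.finite_zpowers.to_subtype
  refine (Subgroup.card_le_of_le (ker_le_zpowers hK X hd)).trans ?_
  rw [Nat.card_zpowers]
  exact Nat.le_of_dvd (by norm_num) (orderOf_dvd_of_pow_eq_one (delta_cube hK X).1)

end Cfsg.Agent.H50.GTwoThree
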