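/-
Coded `7 × 7` matrices over the field with three elements and an invariant of their cosets by
triangular matrices.
-/
import Cfsg.Agent.H50.GTwoThree.Borel

set_option autoImplicit false
set_option maxHeartbeats 1000000

namespace Cfsg.Agent.H50.GTwoThree

open Matrix

/-- lookup in a list cut into pieces of length 32 -/
def lkp {α : Type} (L : List (List α)) (i : ℕ) (d : α) : α := (L.getD (i / 32) []).getD (i % 32) d

/-- a test at the indices in the pieces `a, …, a + 6` that lie below 1456 -/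
def partIdx (f : ℕ → Bool) (a : ℕ) : Bool :=
  (List.range 7).all fun c => (List.range 32).all fun k =>
    !decide (32 * (a + c) + k < 1456) || f (32 * (a + c) + k)

theorem of_parts {f : ℕ → Bool} (h0 : partIdx f 0 = true) (h1 : partIdx f 7 = true)
    (h2 : partIdx f 14 = true) (h3 : partIdx f 21 = true) (h4 : partIdx f 28 = true)
    (h5 : partIdx f 35 = true) (h6 : partIdx f 42 = true) {i : ℕ} (hi : i < 1456) : f i = true := by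
  obtain ⟨a, ha, h⟩ : ∃ a, (a = i / 32 / 7 * 7) ∧ partIdx f a = true := by
    refine ⟨_, rfl, ?_⟩
    have : i / 32 / 7 < 7 := by omega
    generalize i / 32 / 7 = q at this
    interval_cases q <;> assumption
  simp only [partIdx, List.all_eq_true, List.mem_range, Bool.or_eq_true, Bool.not_eq_true',
    decide_eq_false_iff_not] at h
  have := h (i / 32 - a) (by omega) (i % 32) (by omega)
  rw [show 32 * (a + (i / 32 - a)) + i % 32 = i by omega] at this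
  exact this.resolve_left (not_not_intro hi)

/-- a row -/
structure V7 where
  (c0 c1 c2 c3 c4 c5 c6 : F3)
  deriving DecidableEq

/-- a matrix by its rows -/
structure M7 where
  (r0 r1 r2 r3 r4 r5 r6 : V7)
  deriving DecidableEq

/-- zero row -/
def zero7 : V7 := ⟨0, 0, 0, 0, 0, 0, 0⟩

/-- a multiple of a row added to another -/
def axpy : F3 → V7 → V7 → V7
  | .o, _, w => w
  | .e, v, w => ⟨v.c0 + w.c0, v.c1 + w.c1, v.c2 + w.c2, v.c3 + w.c3, v.c4 + w.c4, v.c5 + w.c5, v.c6 + w.c6⟩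
  | .n, v, w => ⟨-v.c0 + w.c0, -v.c1 + w.c1, -v.c2 + w.c2, -v.c3 + w.c3, -v.c4 + w.c4, -v.c5 + w.c5, -v.c6 + w.c6⟩

theorem axpy_eq (c : F3) (v w : V7) : axpy c v w = ⟨c * v.c0 + w.c0, c * v.c1 + w.c1, c * v.c2 + w.c2, c * v.c3 + w.c3, c * v.c4 + w.c4, c * v.c5 + w.c5, c * v.c6 + w.c6⟩ := by
  cases c
  · show w = _
    simp [show (F3.o : F3) = 0 from rfl]
  · show V7.mk _ _ _ _ _ _ _ = _
    simp [show (F3.e : F3) = 1 from rfl]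
  · show V7.mk _ _ _ _ _ _ _ = _
    simp [show (F3.n : F3) = -1 from rfl]

/-- combination of rows -/
def comb (x : V7) (M : M7) : V7 := axpy x.c0 M.r0 (axpy x.c1 M.r1 (axpy x.c2 M.r2 (axpy x.c3 M.r3 (axpy x.c4 M.r4 (axpy x.c5 M.r5 (axpy x.c6 M.r6 zero7))))))

namespace M7

/-- the matrix -/
def mat (x : M7) : Matrix (Fin 7) (Fin 7) F3 :=
  !![x.r0.c0, x.r0.c1, x.r0.c2, x.r0.c3, x.r0.c4, x.r0.c5, x.r0.c6;
    x.r1.c0, x.r1.c1, x.r1.c2, x.r1.c3, x.r1.c4, x.r1.c5, x.r1.c6;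
    x.r2.c0, x.r2.c1, x.r2.c2, x.r2.c3, x.r2.c4, x.r2.c5, x.r2.c6;
    x.r3.c0, x.r3.c1, x.r3.c2, x.r3.c3, x.r3.c4, x.r3.c5, x.r3.c6;
    x.r4.c0, x.r4.c1, x.r4.c2, x.r4.c3, x.r4.c4, x.r4.c5, x.r4.c6;
    x.r5.c0, x.r5.c1, x.r5.c2, x.r5.c3, x.r5.c4, x.r5.c5, x.r5.c6;
    x.r6.c0, x.r6.c1, x.r6.c2, x.r6.c3, x.r6.c4, x.r6.c5, x.r6.c6]

/-- product -/
def mul (x y : M7) : M7 := ⟨comb x.r0 y, comb x.r1 y, comb x.r2 y, comb x.r3 y, comb x.r4 y, comb x.r5 y, comb x.r6 y⟩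

theorem mat_mul (x y : M7) : (x.mul y).mat = x.mat * y.mat := by
  ext i j
  simp only [mul, comb, axpy_eq, zero7]
  fin_cases i <;> fin_cases j <;>
    simp [mat, Matrix.mul_apply, Fin.sum_univ_seven] <;> ring

theorem eq_of_mat {x y : M7} (h : x.mat = y.mat) : x = y := by
  have h' := fun i j : Fin 7 => congrFun (congrFun h i) j
  obtain ⟨⟨⟩, ⟨⟩, ⟨⟩, ⟨⟩, ⟨⟩, ⟨⟩, ⟨⟩⟩ := x
  obtain ⟨⟨⟩, ⟨⟩, ⟨⟩, ⟨⟩, ⟨⟩, ⟨⟩, ⟨⟩⟩ := y
  simp only [M7.mk.injEq, V7.mk.injEq]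
  refine ⟨⟨h' 0 0, h' 0 1, h' 0 2, h' 0 3, h' 0 4, h' 0 5, h' 0 6⟩, ⟨h' 1 0, h' 1 1, h' 1 2, h' 1 3, h' 1 4, h' 1 5, h' 1 6⟩, ⟨h' 2 0, h' 2 1, h' 2 2, h' 2 3, h' 2 4, h' 2 5, h' 2 6⟩, ⟨h' 3 0, h' 3 1, h' 3 2, h' 3 3, h' 3 4, h' 3 5, h' 3 6⟩, ⟨h' 4 0, h' 4 1, h' 4 2, h' 4 3, h' 4 4, h' 4 5, h' 4 6⟩, ⟨h' 5 0, h' 5 1, h' 5 2, h' 5 3, h' 5 4, h' 5 5, h' 5 6⟩, ⟨h' 6 0, h' 6 1, h' 6 2, h' 6 3, h' 6 4, h' 6 5, h' 6 6⟩⟩

/-- unit matrix -/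
def one : M7 :=
  ⟨⟨1, 0, 0, 0, 0, 0, 0⟩, ⟨0, 1, 0, 0, 0, 0, 0⟩, ⟨0, 0, 1, 0, 0, 0, 0⟩, ⟨0, 0, 0, 1, 0, 0, 0⟩, ⟨0, 0, 0, 0, 1, 0, 0⟩, ⟨0, 0, 0, 0, 0, 1, 0⟩, ⟨0, 0, 0, 0, 0, 0, 1⟩⟩

theorem mat_one : one.mat = 1 := by decide +kernel

/-- coded element with given coordinates -/
def psiC (p : Par) : M7 :=
  ⟨⟨p.be, (p.u.x7) * (p.al * p.be), (-p.u.x8) * p.al, -(-1) * p.u.x9 + (-1) * p.u.x7 * p.u.x8, (p.u.x10 + p.u.x7 * p.u.x9) * p.al, (-p.u.x11 - p.u.x8 * p.u.x9 - p.u.x7 * (p.u.x8 * p.u.x8)) * (p.al * p.be), ((p.u.x9 * p.u.x9) - (-1) * p.u.x7 * p.u.x8 * p.u.x9 + p.u.x8 * p.u.x10 - p.u.x7 * p.u.x11) * p.be⟩,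
   ⟨0, (p.al * p.be), (p.u.x6) * p.al, (-1) * p.u.x8 + (-1) * p.u.x6 * p.u.x7, (p.u.x9 + p.u.x6 * (p.u.x7 * p.u.x7)) * p.al, (-(p.u.x8 * p.u.x8) - (-1) * p.u.x6 * p.u.x7 * p.u.x8 + p.u.x6 * p.u.x9) * (p.al * p.be), (-p.u.x11 - (-1) * p.u.x8 * p.u.x9 - (-1) * p.u.x6 * p.u.x7 * p.u.x9 + p.u.x6 * (p.u.x7 * p.u.x7) * p.u.x8 - p.u.x6 * p.u.x10) * p.be⟩,
   ⟨0, 0, p.al, (-1) * p.u.x7, ((p.u.x7 * p.u.x7)) * p.al, (p.u.x9 - (-1) * p.u.x7 * p.u.x8) * (p.al * p.be), (-p.u.x10 - (-1) * p.u.x7 * p.u.x9 + (p.u.x7 * p.u.x7) * p.u.x8) * p.be⟩,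
   ⟨0, 0, 0, 1, (p.u.x7) * p.al, (-p.u.x8) * (p.al * p.be), (-p.u.x9 + p.u.x7 * p.u.x8) * p.be⟩,
   ⟨0, 0, 0, 0, p.al, (p.u.x6) * (p.al * p.be), (p.u.x8 + p.u.x6 * p.u.x7) * p.be⟩,
   ⟨0, 0, 0, 0, 0, (p.al * p.be), (p.u.x7) * p.be⟩,
   ⟨0, 0, 0, 0, 0, 0, p.be⟩⟩

theorem mat_psiC (p : Par) : (psiC p).mat = psi p := by
  ext i j
  have h2 : (2 : F3) = -1 := by decide +kernel
  rw [psi, Matrix.mul_diagonal]
  fin_cases i <;> fin_cases j <;> simp [psiC, mat, uMat, wts, pow_two, h2, sub_eq_add_neg] <;> ring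

/-- first column -/
def col (x : M7) : List F3 := [x.r0.c0, x.r1.c0, x.r2.c0, x.r3.c0, x.r4.c0, x.r5.c0, x.r6.c0]

/-- Plücker coordinates of the first two columns -/
def plk (x : M7) : List F3 :=
  [x.r0.c0 * x.r1.c1 - x.r1.c0 * x.r0.c1,
   x.r0.c0 * x.r2.c1 - x.r2.c0 * x.r0.c1,
   x.r0.c0 * x.r3.c1 - x.r3.c0 * x.r0.c1,
   x.r0.c0 * x.r4.c1 - x.r4.c0 * x.r0.c1,
   x.r0.c0 * x.r5.c1 - x.r5.c0 * x.r0.c1,
   x.r0.c0 * x.r6.c1 - x.r6.c0 * x.r0.c1,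
   x.r1.c0 * x.r2.c1 - x.r2.c0 * x.r1.c1,
   x.r1.c0 * x.r3.c1 - x.r3.c0 * x.r1.c1,
   x.r1.c0 * x.r4.c1 - x.r4.c0 * x.r1.c1,
   x.r1.c0 * x.r5.c1 - x.r5.c0 * x.r1.c1,
   x.r1.c0 * x.r6.c1 - x.r6.c0 * x.r1.c1,
   x.r2.c0 * x.r3.c1 - x.r3.c0 * x.r2.c1,
   x.r2.c0 * x.r4.c1 - x.r4.c0 * x.r2.c1,
   x.r2.c0 * x.r5.c1 - x.r5.c0 * x.r2.c1,
   x.r2.c0 * x.r6.c1 - x.r6.c0 * x.r2.c1,
   x.r3.c0 * x.r4.c1 - x.r4.c0 * x.r3.c1,
   x.r3.c0 * x.r5.c1 - x.r5.c0 * x.r3.c1,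
   x.r3.c0 * x.r6.c1 - x.r6.c0 * x.r3.c1,
   x.r4.c0 * x.r5.c1 - x.r5.c0 * x.r4.c1,
   x.r4.c0 * x.r6.c1 - x.r6.c0 * x.r4.c1,
   x.r5.c0 * x.r6.c1 - x.r6.c0 * x.r5.c1]

end M7

/-- first nonzero entry, or one -/
def lead : List F3 → F3
  | [] => 1
  | a :: l => if a = 0 then lead l else a

/-- scaled to leading entry one -/
def norm1 (l : List F3) : List F3 := l.map (lead l * ·)

theorem norm1_neg (l : List F3) : norm1 (l.map (-1 * ·)) = norm1 l := by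
  have hl : ∀ l : List F3, (∀ a ∈ l, a = 0) ∨ lead (l.map (-1 * ·)) = -lead l := by
    intro l
    induction l with
    | nil => exact Or.inl (by simp)
    | cons a l ih =>
      by_cases ha : a = 0
      · rcases ih with h | h
        · exact Or.inl (by simp [ha]; exact h)
        · exact Or.inr (by simpa [lead, ha] using h)
      · exact Or.inr (by simp [lead, ha])
  rcases hl l with h | h
  · rw [norm1, norm1, List.map_map]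
    refine List.map_congr_left fun a ha => ?_
    simp [h a ha]
  · rw [norm1, norm1, h, List.map_map]
    refine List.map_congr_left fun a _ => ?_
    simp only [Function.comp_apply]
    ring

theorem norm1_smul {c : F3} (hc : c * c = 1) (l : List F3) : norm1 (l.map (c * ·)) = norm1 l := by
  rcases F3.sq_cases c hc with rfl | rfl
  · simp
  · exact norm1_neg l

/-- positional code -/
def codeOf (l : List F3) : ℕ := l.foldl (fun r a => 3 * r + a.enc) 0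

/-- invariant of the coset by upper triangular matrices -/
def M7.key (x : M7) : ℕ := codeOf (norm1 x.col ++ norm1 x.plk)

theorem M7.key_mul_psiC (x : M7) {p : Par} (hp : Valid p) :
    M7.key (x.mul (M7.psiC p)) = M7.key x := by
  obtain ⟨ha, hb⟩ := hp
  have e1 : (x.mul (M7.psiC p)).col = x.col.map (p.be * ·) := by
    simp [M7.col, M7.mul, comb, axpy_eq, zero7, M7.psiC, mul_comm p.be]
  have e2 : (x.mul (M7.psiC p)).plk = x.plk.map (p.al * (p.be * p.be) * ·) := by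
    simp [M7.plk, M7.mul, comb, axpy_eq, zero7, M7.psiC]
    repeat' apply And.intro
    all_goals ring
  rw [M7.key, M7.key, e1, e2, norm1_smul hb, norm1_smul (c := p.al * (p.be * p.be))
    (by rw [hb, mul_one, ha])]

end Cfsg.Agent.H50.GTwoThree
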