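/- The root elements of type G2 in the 7-dimensional representation; generated. -/
import Cfsg.Agent.H50.GTwoThree.Code

set_option autoImplicit false
set_option maxRecDepth 100000

namespace Cfsg.Agent.H50.GTwoThree

/-- the root element of a root with parameter -/
def img : ℕ → F3 → M7
  | 0, .o => M7.one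
  | 0, .e => ⟨⟨.e,.o,.o,.o,.o,.o,.o⟩,⟨.o,.e,.o,.o,.o,.o,.o⟩,⟨.o,.o,.e,.o,.o,.o,.o⟩,⟨.o,.o,.o,.e,.o,.o,.o⟩,⟨.o,.o,.o,.o,.e,.o,.o⟩,⟨.n,.o,.o,.o,.o,.e,.o⟩,⟨.o,.n,.o,.o,.o,.o,.e⟩⟩
  | 0, .n => ⟨⟨.e,.o,.o,.o,.o,.o,.o⟩,⟨.o,.e,.o,.o,.o,.o,.o⟩,⟨.o,.o,.e,.o,.o,.o,.o⟩,⟨.o,.o,.o,.e,.o,.o,.o⟩,⟨.o,.o,.o,.o,.e,.o,.o⟩,⟨.e,.o,.o,.o,.o,.e,.o⟩,⟨.o,.e,.o,.o,.o,.o,.e⟩⟩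
  | 1, .o => M7.one
  | 1, .e => ⟨⟨.e,.o,.o,.o,.o,.o,.o⟩,⟨.o,.e,.o,.o,.o,.o,.o⟩,⟨.o,.o,.e,.o,.o,.o,.o⟩,⟨.o,.o,.o,.e,.o,.o,.o⟩,⟨.e,.o,.o,.o,.e,.o,.o⟩,⟨.o,.o,.o,.o,.o,.e,.o⟩,⟨.o,.o,.n,.o,.o,.o,.e⟩⟩
  | 1, .n => ⟨⟨.e,.o,.o,.o,.o,.o,.o⟩,⟨.o,.e,.o,.o,.o,.o,.o⟩,⟨.o,.o,.e,.o,.o,.o,.o⟩,⟨.o,.o,.o,.e,.o,.o,.o⟩,⟨.n,.o,.o,.o,.e,.o,.o⟩,⟨.o,.o,.o,.o,.o,.e,.o⟩,⟨.o,.o,.e,.o,.o,.o,.e⟩⟩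
  | 2, .o => M7.one
  | 2, .e => ⟨⟨.e,.o,.o,.o,.o,.o,.o⟩,⟨.o,.e,.o,.o,.o,.o,.o⟩,⟨.o,.o,.e,.o,.o,.o,.o⟩,⟨.n,.o,.o,.e,.o,.o,.o⟩,⟨.o,.e,.o,.o,.e,.o,.o⟩,⟨.o,.o,.e,.o,.o,.e,.o⟩,⟨.e,.o,.o,.e,.o,.o,.e⟩⟩
  | 2, .n => ⟨⟨.e,.o,.o,.o,.o,.o,.o⟩,⟨.o,.e,.o,.o,.o,.o,.o⟩,⟨.o,.o,.e,.o,.o,.o,.o⟩,⟨.e,.o,.o,.e,.o,.o,.o⟩,⟨.o,.n,.o,.o,.e,.o,.o⟩,⟨.o,.o,.n,.o,.o,.e,.o⟩,⟨.e,.o,.o,.n,.o,.o,.e⟩⟩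
  | 3, .o => M7.one
  | 3, .e => ⟨⟨.e,.o,.o,.o,.o,.o,.o⟩,⟨.o,.e,.o,.o,.o,.o,.o⟩,⟨.n,.o,.e,.o,.o,.o,.o⟩,⟨.o,.e,.o,.e,.o,.o,.o⟩,⟨.o,.o,.o,.o,.e,.o,.o⟩,⟨.o,.n,.o,.e,.o,.e,.o⟩,⟨.o,.o,.o,.o,.e,.o,.e⟩⟩
  | 3, .n => ⟨⟨.e,.o,.o,.o,.o,.o,.o⟩,⟨.o,.e,.o,.o,.o,.o,.o⟩,⟨.e,.o,.e,.o,.o,.o,.o⟩,⟨.o,.n,.o,.e,.o,.o,.o⟩,⟨.o,.o,.o,.o,.e,.o,.o⟩,⟨.o,.n,.o,.n,.o,.e,.o⟩,⟨.o,.o,.o,.o,.n,.o,.e⟩⟩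
  | 4, .o => M7.one
  | 4, .e => ⟨⟨.e,.o,.o,.o,.o,.o,.o⟩,⟨.e,.e,.o,.o,.o,.o,.o⟩,⟨.o,.o,.e,.o,.o,.o,.o⟩,⟨.o,.o,.e,.e,.o,.o,.o⟩,⟨.o,.o,.e,.n,.e,.o,.o⟩,⟨.o,.o,.o,.o,.o,.e,.o⟩,⟨.o,.o,.o,.o,.o,.e,.e⟩⟩
  | 4, .n => ⟨⟨.e,.o,.o,.o,.o,.o,.o⟩,⟨.n,.e,.o,.o,.o,.o,.o⟩,⟨.o,.o,.e,.o,.o,.o,.o⟩,⟨.o,.o,.n,.e,.o,.o,.o⟩,⟨.o,.o,.e,.e,.e,.o,.o⟩,⟨.o,.o,.o,.o,.o,.e,.o⟩,⟨.o,.o,.o,.o,.o,.n,.e⟩⟩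
  | 5, .o => M7.one
  | 5, .e => ⟨⟨.e,.o,.o,.o,.o,.o,.o⟩,⟨.o,.e,.o,.o,.o,.o,.o⟩,⟨.o,.e,.e,.o,.o,.o,.o⟩,⟨.o,.o,.o,.e,.o,.o,.o⟩,⟨.o,.o,.o,.o,.e,.o,.o⟩,⟨.o,.o,.o,.o,.e,.e,.o⟩,⟨.o,.o,.o,.o,.o,.o,.e⟩⟩
  | 5, .n => ⟨⟨.e,.o,.o,.o,.o,.o,.o⟩,⟨.o,.e,.o,.o,.o,.o,.o⟩,⟨.o,.n,.e,.o,.o,.o,.o⟩,⟨.o,.o,.o,.e,.o,.o,.o⟩,⟨.o,.o,.o,.o,.e,.o,.o⟩,⟨.o,.o,.o,.o,.n,.e,.o⟩,⟨.o,.o,.o,.o,.o,.o,.e⟩⟩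
  | 6, .o => M7.one
  | 6, .e => ⟨⟨.e,.o,.o,.o,.o,.o,.o⟩,⟨.o,.e,.e,.o,.o,.o,.o⟩,⟨.o,.o,.e,.o,.o,.o,.o⟩,⟨.o,.o,.o,.e,.o,.o,.o⟩,⟨.o,.o,.o,.o,.e,.e,.o⟩,⟨.o,.o,.o,.o,.o,.e,.o⟩,⟨.o,.o,.o,.o,.o,.o,.e⟩⟩
  | 6, .n => ⟨⟨.e,.o,.o,.o,.o,.o,.o⟩,⟨.o,.e,.n,.o,.o,.o,.o⟩,⟨.o,.o,.e,.o,.o,.o,.o⟩,⟨.o,.o,.o,.e,.o,.o,.o⟩,⟨.o,.o,.o,.o,.e,.n,.o⟩,⟨.o,.o,.o,.o,.o,.e,.o⟩,⟨.o,.o,.o,.o,.o,.o,.e⟩⟩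
  | 7, .o => M7.one
  | 7, .e => ⟨⟨.e,.e,.o,.o,.o,.o,.o⟩,⟨.o,.e,.o,.o,.o,.o,.o⟩,⟨.o,.o,.e,.n,.e,.o,.o⟩,⟨.o,.o,.o,.e,.e,.o,.o⟩,⟨.o,.o,.o,.o,.e,.o,.o⟩,⟨.o,.o,.o,.o,.o,.e,.e⟩,⟨.o,.o,.o,.o,.o,.o,.e⟩⟩
  | 7, .n => ⟨⟨.e,.n,.o,.o,.o,.o,.o⟩,⟨.o,.e,.o,.o,.o,.o,.o⟩,⟨.o,.o,.e,.e,.e,.o,.o⟩,⟨.o,.o,.o,.e,.n,.o,.o⟩,⟨.o,.o,.o,.o,.e,.o,.o⟩,⟨.o,.o,.o,.o,.o,.e,.n⟩,⟨.o,.o,.o,.o,.o,.o,.e⟩⟩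
  | 8, .o => M7.one
  | 8, .e => ⟨⟨.e,.o,.n,.o,.o,.o,.o⟩,⟨.o,.e,.o,.n,.o,.n,.o⟩,⟨.o,.o,.e,.o,.o,.o,.o⟩,⟨.o,.o,.o,.e,.o,.n,.o⟩,⟨.o,.o,.o,.o,.e,.o,.e⟩,⟨.o,.o,.o,.o,.o,.e,.o⟩,⟨.o,.o,.o,.o,.o,.o,.e⟩⟩
  | 8, .n => ⟨⟨.e,.o,.e,.o,.o,.o,.o⟩,⟨.o,.e,.o,.e,.o,.n,.o⟩,⟨.o,.o,.e,.o,.o,.o,.o⟩,⟨.o,.o,.o,.e,.o,.e,.o⟩,⟨.o,.o,.o,.o,.e,.o,.n⟩,⟨.o,.o,.o,.o,.o,.e,.o⟩,⟨.o,.o,.o,.o,.o,.o,.e⟩⟩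
  | 9, .o => M7.one
  | 9, .e => ⟨⟨.e,.o,.o,.e,.o,.o,.e⟩,⟨.o,.e,.o,.o,.e,.o,.o⟩,⟨.o,.o,.e,.o,.o,.e,.o⟩,⟨.o,.o,.o,.e,.o,.o,.n⟩,⟨.o,.o,.o,.o,.e,.o,.o⟩,⟨.o,.o,.o,.o,.o,.e,.o⟩,⟨.o,.o,.o,.o,.o,.o,.e⟩⟩
  | 9, .n => ⟨⟨.e,.o,.o,.n,.o,.o,.e⟩,⟨.o,.e,.o,.o,.n,.o,.o⟩,⟨.o,.o,.e,.o,.o,.n,.o⟩,⟨.o,.o,.o,.e,.o,.o,.e⟩,⟨.o,.o,.o,.o,.e,.o,.o⟩,⟨.o,.o,.o,.o,.o,.e,.o⟩,⟨.o,.o,.o,.o,.o,.o,.e⟩⟩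
  | 10, .o => M7.one
  | 10, .e => ⟨⟨.e,.o,.o,.o,.e,.o,.o⟩,⟨.o,.e,.o,.o,.o,.o,.o⟩,⟨.o,.o,.e,.o,.o,.o,.n⟩,⟨.o,.o,.o,.e,.o,.o,.o⟩,⟨.o,.o,.o,.o,.e,.o,.o⟩,⟨.o,.o,.o,.o,.o,.e,.o⟩,⟨.o,.o,.o,.o,.o,.o,.e⟩⟩
  | 10, .n => ⟨⟨.e,.o,.o,.o,.n,.o,.o⟩,⟨.o,.e,.o,.o,.o,.o,.o⟩,⟨.o,.o,.e,.o,.o,.o,.e⟩,⟨.o,.o,.o,.e,.o,.o,.o⟩,⟨.o,.o,.o,.o,.e,.o,.o⟩,⟨.o,.o,.o,.o,.o,.e,.o⟩,⟨.o,.o,.o,.o,.o,.o,.e⟩⟩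
  | 11, .o => M7.one
  | 11, .e => ⟨⟨.e,.o,.o,.o,.o,.n,.o⟩,⟨.o,.e,.o,.o,.o,.o,.n⟩,⟨.o,.o,.e,.o,.o,.o,.o⟩,⟨.o,.o,.o,.e,.o,.o,.o⟩,⟨.o,.o,.o,.o,.e,.o,.o⟩,⟨.o,.o,.o,.o,.o,.e,.o⟩,⟨.o,.o,.o,.o,.o,.o,.e⟩⟩
  | 11, .n => ⟨⟨.e,.o,.o,.o,.o,.e,.o⟩,⟨.o,.e,.o,.o,.o,.o,.e⟩,⟨.o,.o,.e,.o,.o,.o,.o⟩,⟨.o,.o,.o,.e,.o,.o,.o⟩,⟨.o,.o,.o,.o,.e,.o,.o⟩,⟨.o,.o,.o,.o,.o,.e,.o⟩,⟨.o,.o,.o,.o,.o,.o,.e⟩⟩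
  | _, _ => M7.one

/-- each root element as a word in those of the simple roots and their negatives -/
def imgWord : ℕ → List (ℕ × F3)
  | 0 => [(6, .e), (5, .n), (6, .e), (7, .e), (4, .n), (7, .e), (5, .e), (7, .n), (4, .e), (7, .n), (6, .n), (5, .e), (6, .n)]
  | 1 => [(7, .e), (4, .n), (7, .e), (5, .e), (7, .n), (4, .e), (7, .n)]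
  | 2 => [(7, .e), (4, .n), (7, .e), (6, .e), (5, .n), (6, .e), (4, .e), (6, .n), (5, .e), (6, .n), (7, .n), (4, .e), (7, .n)]
  | 3 => [(6, .e), (5, .n), (6, .e), (4, .e), (6, .n), (5, .e), (6, .n)]
  | 4 => [(4, .e)]
  | 5 => [(5, .e)]
  | 6 => [(6, .e)]
  | 7 => [(7, .e)]
  | 8 => [(6, .e), (5, .n), (6, .e), (7, .e), (6, .n), (5, .e), (6, .n)]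
  | 9 => [(7, .e), (4, .n), (7, .e), (6, .e), (5, .n), (6, .e), (7, .e), (6, .n), (5, .e), (6, .n), (7, .n), (4, .e), (7, .n)]
  | 10 => [(7, .e), (4, .n), (7, .e), (6, .e), (7, .n), (4, .e), (7, .n)]
  | 11 => [(6, .e), (5, .n), (6, .e), (7, .e), (4, .n), (7, .e), (6, .e), (7, .n), (4, .e), (7, .n), (6, .n), (5, .e), (6, .n)]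
  | _ => []

/-- adjoint for the invariant symmetric form -/
def adj (x : M7) : M7 :=
  ⟨⟨x.r6.c6, -x.r5.c6, x.r4.c6, x.r3.c6, x.r2.c6, -x.r1.c6, x.r0.c6⟩,
   ⟨-x.r6.c5, x.r5.c5, -x.r4.c5, -x.r3.c5, -x.r2.c5, x.r1.c5, -x.r0.c5⟩,
   ⟨x.r6.c4, -x.r5.c4, x.r4.c4, x.r3.c4, x.r2.c4, -x.r1.c4, x.r0.c4⟩,
   ⟨x.r6.c3, -x.r5.c3, x.r4.c3, x.r3.c3, x.r2.c3, -x.r1.c3, x.r0.c3⟩,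
   ⟨x.r6.c2, -x.r5.c2, x.r4.c2, x.r3.c2, x.r2.c2, -x.r1.c2, x.r0.c2⟩,
   ⟨-x.r6.c1, x.r5.c1, -x.r4.c1, -x.r3.c1, -x.r2.c1, x.r1.c1, -x.r0.c1⟩,
   ⟨x.r6.c0, -x.r5.c0, x.r4.c0, x.r3.c0, x.r2.c0, -x.r1.c0, x.r0.c0⟩⟩

/-- index of the neutral coset -/
def base : ℕ := 485

end Cfsg.Agent.H50.GTwoThree
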