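/- Coset representatives of the Borel subgroup; generated. -/
import Cfsg.Agent.H50.GTwoThree.Code

set_option autoImplicit false
set_option maxRecDepth 100000

namespace Cfsg.Agent.H50.GTwoThree

/-- part 0 -/
def repPart0 : List M7 :=
  [⟨⟨.o,.o,.o,.o,.o,.o,.e⟩,⟨.o,.o,.o,.o,.o,.n,.n⟩,⟨.o,.o,.o,.o,.e,.n,.e⟩,⟨.o,.o,.o,.n,.n,.n,.e⟩,⟨.o,.o,.e,.n,.e,.n,.e⟩,⟨.o,.n,.e,.e,.e,.o,.n⟩,⟨.e,.e,.e,.e,.e,.e,.e⟩⟩,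
   ⟨⟨.o,.o,.o,.o,.o,.o,.e⟩,⟨.o,.o,.o,.o,.e,.n,.e⟩,⟨.o,.o,.o,.o,.o,.e,.e⟩,⟨.o,.o,.o,.n,.n,.n,.n⟩,⟨.o,.n,.e,.e,.o,.e,.e⟩,⟨.o,.o,.n,.e,.n,.o,.e⟩,⟨.e,.e,.e,.n,.n,.n,.e⟩⟩,
   ⟨⟨.o,.o,.o,.o,.o,.o,.e⟩,⟨.o,.o,.o,.o,.e,.n,.e⟩,⟨.o,.o,.o,.o,.e,.o,.n⟩,⟨.o,.o,.o,.n,.n,.n,.n⟩,⟨.o,.n,.e,.e,.o,.e,.e⟩,⟨.o,.n,.o,.n,.n,.e,.n⟩,⟨.e,.e,.e,.n,.n,.n,.e⟩⟩,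
   ⟨⟨.o,.o,.o,.o,.o,.o,.e⟩,⟨.o,.o,.o,.o,.n,.o,.e⟩,⟨.o,.o,.o,.o,.e,.n,.e⟩,⟨.o,.o,.o,.n,.n,.n,.e⟩,⟨.o,.e,.o,.e,.o,.n,.n⟩,⟨.o,.n,.e,.e,.e,.o,.n⟩,⟨.e,.e,.e,.e,.e,.e,.e⟩⟩,
   ⟨⟨.o,.o,.o,.o,.o,.n,.e⟩,⟨.o,.o,.o,.o,.o,.o,.n⟩,⟨.o,.o,.e,.e,.e,.e,.e⟩,⟨.o,.o,.o,.e,.n,.e,.e⟩,⟨.o,.o,.o,.o,.e,.e,.e⟩,⟨.e,.n,.e,.n,.e,.e,.n⟩,⟨.o,.e,.e,.n,.e,.o,.e⟩⟩,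
   ⟨⟨.o,.o,.o,.o,.e,.o,.o⟩,⟨.o,.o,.o,.o,.o,.o,.e⟩,⟨.o,.e,.o,.o,.n,.o,.e⟩,⟨.o,.o,.o,.e,.n,.o,.e⟩,⟨.o,.o,.o,.o,.o,.n,.e⟩,⟨.n,.e,.o,.e,.o,.n,.o⟩,⟨.o,.o,.e,.e,.e,.n,.n⟩⟩,
   ⟨⟨.o,.o,.o,.o,.e,.o,.o⟩,⟨.o,.o,.o,.o,.o,.o,.n⟩,⟨.o,.n,.o,.o,.e,.o,.e⟩,⟨.o,.o,.o,.e,.e,.o,.e⟩,⟨.o,.o,.o,.o,.e,.e,.e⟩,⟨.e,.e,.o,.n,.n,.n,.o⟩,⟨.o,.e,.e,.n,.o,.n,.e⟩⟩,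
   ⟨⟨.o,.o,.o,.o,.e,.o,.o⟩,⟨.o,.o,.o,.o,.o,.o,.e⟩,⟨.o,.e,.o,.o,.n,.o,.e⟩,⟨.o,.o,.o,.e,.n,.o,.e⟩,⟨.o,.o,.o,.o,.n,.n,.e⟩,⟨.n,.e,.o,.e,.n,.n,.o⟩,⟨.o,.e,.e,.e,.o,.n,.n⟩⟩,
   ⟨⟨.o,.o,.o,.o,.o,.n,.e⟩,⟨.o,.o,.o,.o,.o,.n,.o⟩,⟨.o,.o,.e,.e,.e,.e,.e⟩,⟨.o,.o,.e,.n,.o,.n,.n⟩,⟨.o,.o,.e,.o,.o,.e,.e⟩,⟨.e,.n,.e,.n,.e,.e,.n⟩,⟨.e,.o,.n,.e,.n,.e,.o⟩⟩,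
   ⟨⟨.o,.o,.o,.o,.e,.o,.o⟩,⟨.o,.o,.o,.o,.e,.o,.e⟩,⟨.o,.e,.o,.o,.n,.o,.e⟩,⟨.o,.e,.o,.e,.e,.o,.n⟩,⟨.o,.e,.o,.n,.o,.n,.e⟩,⟨.n,.e,.o,.e,.o,.n,.o⟩,⟨.n,.e,.e,.n,.e,.e,.n⟩⟩,
   ⟨⟨.o,.o,.o,.o,.e,.o,.o⟩,⟨.o,.o,.o,.o,.e,.o,.e⟩,⟨.o,.e,.o,.o,.o,.o,.n⟩,⟨.o,.e,.o,.e,.e,.o,.n⟩,⟨.o,.e,.o,.n,.o,.n,.e⟩,⟨.n,.n,.o,.o,.o,.e,.e⟩,⟨.n,.e,.e,.n,.e,.e,.n⟩⟩,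
   ⟨⟨.o,.o,.o,.o,.e,.o,.o⟩,⟨.o,.o,.o,.o,.e,.o,.e⟩,⟨.o,.e,.o,.o,.e,.o,.e⟩,⟨.o,.e,.o,.e,.o,.o,.o⟩,⟨.o,.e,.o,.n,.e,.n,.o⟩,⟨.n,.e,.o,.n,.n,.n,.o⟩,⟨.n,.n,.e,.o,.e,.o,.e⟩⟩,
   ⟨⟨.o,.o,.o,.o,.o,.e,.o⟩,⟨.o,.o,.o,.o,.o,.n,.e⟩,⟨.o,.o,.e,.o,.o,.e,.e⟩,⟨.o,.o,.n,.e,.o,.e,.e⟩,⟨.o,.o,.e,.e,.e,.e,.e⟩,⟨.n,.o,.e,.n,.e,.e,.o⟩,⟨.e,.n,.e,.n,.e,.n,.e⟩⟩,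
   ⟨⟨.o,.o,.o,.o,.n,.e,.o⟩,⟨.o,.o,.o,.o,.e,.n,.e⟩,⟨.o,.n,.e,.o,.n,.e,.e⟩,⟨.o,.e,.n,.e,.n,.e,.e⟩,⟨.o,.n,.e,.e,.o,.e,.e⟩,⟨.n,.n,.e,.n,.o,.e,.o⟩,⟨.e,.e,.e,.n,.n,.n,.e⟩⟩,
   ⟨⟨.o,.o,.o,.o,.e,.o,.o⟩,⟨.o,.o,.o,.o,.n,.o,.e⟩,⟨.o,.e,.o,.o,.o,.o,.e⟩,⟨.o,.n,.o,.e,.n,.o,.n⟩,⟨.o,.e,.o,.e,.o,.n,.n⟩,⟨.n,.e,.o,.o,.o,.n,.e⟩,⟨.e,.e,.e,.e,.e,.e,.e⟩⟩,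
   ⟨⟨.o,.o,.o,.o,.n,.e,.o⟩,⟨.o,.o,.o,.o,.e,.n,.e⟩,⟨.o,.n,.e,.o,.o,.o,.n⟩,⟨.o,.e,.n,.e,.n,.e,.e⟩,⟨.o,.n,.e,.e,.o,.e,.e⟩,⟨.n,.e,.n,.o,.o,.n,.e⟩,⟨.e,.e,.e,.n,.n,.n,.e⟩⟩,
   ⟨⟨.o,.o,.o,.o,.o,.e,.o⟩,⟨.o,.o,.n,.o,.o,.e,.o⟩,⟨.o,.o,.o,.o,.o,.o,.e⟩,⟨.o,.o,.o,.e,.o,.n,.e⟩,⟨.e,.o,.n,.n,.o,.n,.e⟩,⟨.o,.o,.o,.o,.e,.e,.e⟩,⟨.o,.n,.n,.e,.e,.n,.o⟩⟩,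
   ⟨⟨.o,.o,.o,.o,.e,.o,.o⟩,⟨.o,.n,.o,.o,.e,.o,.o⟩,⟨.o,.o,.o,.o,.o,.o,.e⟩,⟨.o,.o,.o,.e,.e,.o,.e⟩,⟨.e,.e,.o,.n,.o,.o,.e⟩,⟨.o,.o,.o,.o,.o,.n,.n⟩,⟨.o,.o,.e,.n,.e,.n,.e⟩⟩,
   ⟨⟨.o,.o,.o,.o,.e,.o,.o⟩,⟨.o,.n,.o,.o,.e,.o,.o⟩,⟨.o,.o,.o,.o,.o,.o,.e⟩,⟨.o,.o,.o,.e,.e,.o,.e⟩,⟨.e,.e,.o,.n,.o,.o,.e⟩,⟨.o,.o,.o,.o,.n,.n,.n⟩,⟨.o,.e,.e,.n,.o,.n,.e⟩⟩,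
   ⟨⟨.o,.o,.o,.o,.n,.e,.o⟩,⟨.o,.e,.n,.o,.n,.e,.o⟩,⟨.o,.o,.o,.o,.o,.o,.e⟩,⟨.o,.o,.o,.e,.n,.e,.e⟩,⟨.e,.n,.e,.n,.o,.o,.e⟩,⟨.o,.o,.o,.o,.n,.n,.n⟩,⟨.o,.e,.e,.n,.e,.o,.e⟩⟩,
   ⟨⟨.o,.o,.o,.o,.o,.n,.o⟩,⟨.o,.o,.e,.o,.o,.e,.o⟩,⟨.o,.o,.o,.o,.o,.e,.e⟩,⟨.o,.o,.e,.e,.o,.e,.n⟩,⟨.e,.o,.o,.e,.o,.e,.e⟩,⟨.o,.o,.n,.e,.n,.e,.n⟩,⟨.e,.e,.e,.e,.e,.n,.n⟩⟩,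
   ⟨⟨.o,.o,.o,.o,.e,.o,.o⟩,⟨.o,.n,.o,.o,.e,.o,.o⟩,⟨.o,.o,.o,.o,.n,.o,.e⟩,⟨.o,.n,.o,.e,.n,.o,.e⟩,⟨.e,.e,.o,.n,.o,.o,.e⟩,⟨.o,.e,.o,.e,.o,.n,.o⟩,⟨.e,.e,.e,.e,.e,.n,.n⟩⟩,
   ⟨⟨.o,.o,.o,.o,.e,.o,.o⟩,⟨.o,.n,.o,.o,.n,.o,.o⟩,⟨.o,.o,.o,.o,.n,.o,.e⟩,⟨.o,.n,.o,.e,.n,.o,.n⟩,⟨.e,.o,.o,.e,.o,.o,.e⟩,⟨.o,.e,.o,.e,.o,.n,.n⟩,⟨.e,.e,.e,.e,.e,.e,.e⟩⟩,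
   ⟨⟨.o,.o,.o,.o,.n,.e,.o⟩,⟨.o,.e,.n,.o,.n,.e,.o⟩,⟨.o,.o,.o,.o,.e,.n,.e⟩,⟨.o,.e,.n,.e,.n,.e,.e⟩,⟨.e,.o,.o,.n,.o,.o,.e⟩,⟨.o,.n,.e,.e,.o,.e,.e⟩,⟨.e,.e,.e,.n,.n,.n,.e⟩⟩,
   ⟨⟨.o,.o,.o,.o,.o,.e,.o⟩,⟨.o,.o,.n,.o,.o,.e,.o⟩,⟨.o,.o,.o,.o,.o,.e,.e⟩,⟨.o,.o,.e,.e,.o,.o,.e⟩,⟨.e,.o,.e,.n,.o,.o,.e⟩,⟨.o,.o,.e,.n,.e,.n,.e⟩,⟨.n,.n,.e,.o,.e,.n,.o⟩⟩,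
   ⟨⟨.o,.o,.o,.o,.e,.o,.o⟩,⟨.o,.n,.o,.o,.e,.o,.o⟩,⟨.o,.o,.o,.o,.e,.o,.e⟩,⟨.o,.e,.o,.e,.o,.o,.e⟩,⟨.e,.e,.o,.n,.o,.o,.e⟩,⟨.o,.e,.o,.n,.e,.n,.e⟩,⟨.n,.n,.e,.o,.e,.n,.o⟩⟩,
   ⟨⟨.o,.o,.o,.o,.e,.o,.o⟩,⟨.o,.n,.o,.o,.n,.o,.o⟩,⟨.o,.o,.o,.o,.e,.o,.e⟩,⟨.o,.e,.o,.e,.e,.o,.n⟩,⟨.e,.o,.o,.e,.o,.o,.e⟩,⟨.o,.e,.o,.n,.o,.n,.e⟩,⟨.n,.e,.e,.n,.e,.e,.n⟩⟩,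
   ⟨⟨.o,.o,.o,.o,.e,.o,.o⟩,⟨.o,.n,.o,.o,.o,.o,.e⟩,⟨.o,.o,.o,.o,.e,.o,.e⟩,⟨.o,.e,.o,.e,.e,.o,.n⟩,⟨.e,.e,.o,.o,.o,.n,.n⟩,⟨.o,.e,.o,.n,.o,.n,.e⟩,⟨.n,.e,.e,.n,.e,.e,.n⟩⟩,
   ⟨⟨.o,.o,.o,.o,.o,.e,.o⟩,⟨.o,.o,.n,.o,.o,.e,.o⟩,⟨.o,.o,.n,.o,.o,.e,.e⟩,⟨.o,.o,.o,.e,.o,.n,.e⟩,⟨.e,.o,.n,.n,.o,.n,.e⟩,⟨.e,.o,.n,.n,.e,.o,.n⟩,⟨.o,.n,.n,.e,.e,.n,.o⟩⟩,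
   ⟨⟨.o,.o,.o,.o,.e,.o,.o⟩,⟨.o,.n,.o,.o,.e,.o,.o⟩,⟨.o,.n,.o,.o,.e,.o,.e⟩,⟨.o,.o,.o,.e,.e,.o,.e⟩,⟨.e,.e,.o,.n,.o,.o,.e⟩,⟨.e,.e,.o,.n,.o,.n,.o⟩,⟨.o,.o,.e,.n,.e,.n,.e⟩⟩,
   ⟨⟨.o,.o,.o,.o,.e,.o,.o⟩,⟨.o,.n,.o,.o,.e,.o,.o⟩,⟨.o,.n,.o,.o,.e,.o,.e⟩,⟨.o,.o,.o,.e,.e,.o,.e⟩,⟨.e,.e,.o,.n,.o,.o,.e⟩,⟨.e,.e,.o,.n,.n,.n,.o⟩,⟨.o,.e,.e,.n,.o,.n,.e⟩⟩,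
   ⟨⟨.o,.o,.o,.o,.n,.e,.o⟩,⟨.o,.e,.n,.o,.n,.e,.o⟩,⟨.o,.e,.n,.o,.n,.e,.e⟩,⟨.o,.o,.o,.e,.n,.e,.e⟩,⟨.e,.n,.e,.n,.o,.o,.e⟩,⟨.e,.n,.e,.n,.n,.n,.o⟩,⟨.o,.e,.e,.n,.e,.o,.e⟩⟩]

/-- part 1 -/
def repPart1 : List M7 :=
  [⟨⟨.o,.o,.o,.o,.o,.n,.o⟩,⟨.o,.o,.e,.o,.o,.e,.o⟩,⟨.o,.o,.e,.o,.o,.n,.e⟩,⟨.o,.o,.e,.e,.o,.e,.n⟩,⟨.e,.o,.o,.e,.o,.e,.e⟩,⟨.e,.o,.n,.n,.n,.n,.o⟩,⟨.e,.e,.e,.e,.e,.n,.n⟩⟩,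
   ⟨⟨.o,.o,.o,.o,.n,.e,.o⟩,⟨.o,.e,.n,.o,.e,.n,.o⟩,⟨.o,.e,.n,.o,.n,.e,.e⟩,⟨.o,.e,.n,.e,.e,.n,.n⟩,⟨.e,.o,.o,.e,.o,.o,.e⟩,⟨.e,.n,.e,.n,.n,.n,.o⟩,⟨.e,.o,.n,.e,.o,.n,.e⟩⟩,
   ⟨⟨.o,.o,.o,.o,.e,.o,.o⟩,⟨.o,.n,.o,.o,.n,.o,.o⟩,⟨.o,.n,.o,.o,.e,.o,.e⟩,⟨.o,.n,.o,.e,.n,.o,.n⟩,⟨.e,.o,.o,.e,.o,.o,.e⟩,⟨.e,.e,.o,.n,.o,.n,.o⟩,⟨.e,.e,.e,.e,.e,.e,.e⟩⟩,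
   ⟨⟨.o,.o,.o,.o,.e,.o,.o⟩,⟨.o,.n,.o,.o,.n,.o,.o⟩,⟨.o,.n,.o,.o,.e,.o,.e⟩,⟨.o,.n,.o,.e,.n,.o,.n⟩,⟨.e,.o,.o,.e,.o,.o,.e⟩,⟨.e,.e,.o,.n,.n,.n,.o⟩,⟨.e,.n,.e,.e,.n,.e,.e⟩⟩,
   ⟨⟨.o,.o,.o,.o,.o,.e,.o⟩,⟨.o,.o,.n,.o,.o,.e,.o⟩,⟨.o,.o,.n,.o,.o,.n,.e⟩,⟨.o,.o,.e,.e,.o,.o,.e⟩,⟨.e,.o,.e,.n,.o,.o,.e⟩,⟨.e,.o,.n,.e,.e,.n,.n⟩,⟨.n,.n,.e,.o,.e,.n,.o⟩⟩,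
   ⟨⟨.o,.o,.o,.o,.e,.o,.o⟩,⟨.o,.n,.o,.o,.o,.o,.o⟩,⟨.o,.n,.o,.o,.e,.o,.e⟩,⟨.o,.e,.o,.e,.o,.o,.o⟩,⟨.e,.o,.o,.o,.n,.o,.o⟩,⟨.e,.e,.o,.n,.n,.n,.o⟩,⟨.n,.o,.e,.o,.e,.o,.e⟩⟩,
   ⟨⟨.o,.o,.o,.o,.e,.o,.o⟩,⟨.o,.n,.o,.o,.n,.o,.o⟩,⟨.o,.n,.o,.o,.o,.o,.e⟩,⟨.o,.e,.o,.e,.e,.o,.n⟩,⟨.e,.o,.o,.e,.o,.o,.e⟩,⟨.e,.e,.o,.o,.o,.n,.n⟩,⟨.n,.e,.e,.n,.e,.e,.n⟩⟩,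
   ⟨⟨.o,.o,.o,.o,.e,.o,.o⟩,⟨.o,.n,.o,.o,.o,.o,.o⟩,⟨.o,.n,.o,.o,.e,.o,.e⟩,⟨.o,.e,.o,.e,.o,.o,.o⟩,⟨.e,.o,.o,.o,.n,.o,.o⟩,⟨.e,.e,.o,.n,.o,.n,.o⟩,⟨.n,.n,.e,.o,.e,.o,.e⟩⟩,
   ⟨⟨.o,.o,.o,.o,.o,.n,.e⟩,⟨.o,.o,.n,.n,.n,.n,.e⟩,⟨.o,.o,.e,.e,.e,.e,.e⟩,⟨.o,.o,.o,.e,.n,.e,.e⟩,⟨.n,.e,.n,.e,.o,.o,.n⟩,⟨.e,.n,.e,.n,.e,.e,.n⟩,⟨.o,.e,.e,.n,.e,.o,.e⟩⟩,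
   ⟨⟨.o,.o,.o,.o,.e,.o,.o⟩,⟨.o,.n,.o,.o,.e,.o,.o⟩,⟨.o,.e,.o,.o,.n,.o,.e⟩,⟨.o,.o,.o,.e,.n,.o,.e⟩,⟨.e,.n,.o,.n,.o,.o,.e⟩,⟨.n,.e,.o,.e,.o,.n,.o⟩,⟨.o,.o,.e,.e,.e,.n,.n⟩⟩,
   ⟨⟨.o,.o,.o,.o,.e,.o,.o⟩,⟨.o,.n,.o,.o,.e,.o,.o⟩,⟨.o,.e,.o,.o,.n,.o,.e⟩,⟨.o,.o,.o,.e,.n,.o,.e⟩,⟨.e,.n,.o,.n,.o,.o,.e⟩,⟨.n,.e,.o,.e,.n,.n,.o⟩,⟨.o,.e,.e,.e,.o,.n,.n⟩⟩,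
   ⟨⟨.o,.o,.o,.o,.e,.o,.o⟩,⟨.o,.e,.o,.o,.n,.o,.e⟩,⟨.o,.n,.o,.o,.e,.o,.e⟩,⟨.o,.o,.o,.e,.e,.o,.e⟩,⟨.n,.n,.o,.e,.n,.n,.e⟩,⟨.e,.e,.o,.n,.n,.n,.o⟩,⟨.o,.e,.e,.n,.o,.n,.e⟩⟩,
   ⟨⟨.o,.o,.o,.o,.o,.e,.o⟩,⟨.o,.o,.n,.o,.o,.e,.o⟩,⟨.o,.o,.e,.o,.o,.e,.e⟩,⟨.o,.o,.n,.e,.o,.e,.e⟩,⟨.e,.o,.o,.n,.o,.o,.e⟩,⟨.n,.o,.e,.n,.e,.e,.o⟩,⟨.e,.n,.e,.n,.e,.n,.e⟩⟩,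
   ⟨⟨.o,.o,.o,.o,.e,.o,.o⟩,⟨.o,.n,.o,.o,.e,.o,.o⟩,⟨.o,.e,.o,.o,.e,.o,.e⟩,⟨.o,.n,.o,.e,.n,.o,.e⟩,⟨.e,.e,.o,.n,.o,.o,.e⟩,⟨.n,.o,.o,.n,.o,.n,.n⟩,⟨.e,.e,.e,.e,.e,.n,.n⟩⟩,
   ⟨⟨.o,.o,.o,.o,.e,.o,.o⟩,⟨.o,.n,.o,.o,.n,.o,.o⟩,⟨.o,.e,.o,.o,.o,.o,.e⟩,⟨.o,.n,.o,.e,.n,.o,.n⟩,⟨.e,.o,.o,.e,.o,.o,.e⟩,⟨.n,.e,.o,.o,.o,.n,.e⟩,⟨.e,.e,.e,.e,.e,.e,.e⟩⟩,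
   ⟨⟨.o,.o,.o,.o,.n,.e,.o⟩,⟨.o,.e,.n,.o,.n,.e,.o⟩,⟨.o,.n,.e,.o,.n,.e,.e⟩,⟨.o,.e,.n,.e,.n,.e,.e⟩,⟨.e,.o,.o,.n,.o,.o,.e⟩,⟨.n,.n,.e,.n,.o,.e,.o⟩,⟨.e,.e,.e,.n,.n,.n,.e⟩⟩,
   ⟨⟨.o,.o,.o,.o,.o,.n,.e⟩,⟨.o,.o,.n,.n,.n,.e,.n⟩,⟨.o,.o,.e,.e,.e,.e,.e⟩,⟨.o,.o,.e,.n,.o,.n,.n⟩,⟨.n,.e,.o,.e,.n,.o,.n⟩,⟨.e,.n,.e,.n,.e,.e,.n⟩,⟨.e,.o,.n,.e,.n,.e,.o⟩⟩,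
   ⟨⟨.o,.o,.o,.o,.e,.o,.o⟩,⟨.o,.e,.o,.o,.o,.o,.e⟩,⟨.o,.n,.o,.o,.e,.o,.e⟩,⟨.o,.n,.o,.e,.n,.o,.n⟩,⟨.n,.e,.o,.o,.n,.n,.e⟩,⟨.e,.e,.o,.n,.n,.n,.o⟩,⟨.e,.n,.e,.e,.n,.e,.e⟩⟩,
   ⟨⟨.o,.o,.o,.o,.e,.o,.o⟩,⟨.o,.n,.o,.o,.n,.o,.o⟩,⟨.o,.e,.o,.o,.n,.o,.e⟩,⟨.o,.e,.o,.e,.e,.o,.n⟩,⟨.e,.o,.o,.e,.o,.o,.e⟩,⟨.n,.e,.o,.e,.o,.n,.o⟩,⟨.n,.e,.e,.n,.e,.e,.n⟩⟩,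
   ⟨⟨.o,.o,.o,.o,.e,.o,.o⟩,⟨.o,.n,.o,.o,.o,.o,.o⟩,⟨.o,.e,.o,.o,.e,.o,.e⟩,⟨.o,.e,.o,.e,.o,.o,.o⟩,⟨.e,.o,.o,.o,.n,.o,.o⟩,⟨.n,.e,.o,.n,.n,.n,.o⟩,⟨.n,.n,.e,.o,.e,.o,.e⟩⟩,
   ⟨⟨.o,.o,.e,.o,.o,.o,.o⟩,⟨.o,.o,.o,.o,.o,.e,.o⟩,⟨.e,.o,.n,.o,.o,.e,.o⟩,⟨.o,.o,.o,.n,.o,.e,.o⟩,⟨.o,.o,.o,.o,.o,.o,.e⟩,⟨.o,.e,.e,.n,.o,.n,.e⟩,⟨.o,.o,.o,.o,.e,.e,.e⟩⟩,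
   ⟨⟨.o,.n,.e,.o,.o,.o,.o⟩,⟨.o,.o,.o,.o,.n,.e,.o⟩,⟨.e,.e,.n,.o,.n,.e,.o⟩,⟨.o,.o,.o,.n,.n,.e,.o⟩,⟨.o,.o,.o,.o,.o,.o,.e⟩,⟨.o,.o,.e,.n,.e,.n,.e⟩,⟨.o,.o,.o,.o,.o,.e,.e⟩⟩,
   ⟨⟨.o,.e,.o,.o,.o,.o,.o⟩,⟨.o,.o,.o,.o,.e,.o,.o⟩,⟨.e,.n,.o,.o,.e,.o,.o⟩,⟨.o,.o,.o,.n,.e,.o,.o⟩,⟨.o,.o,.o,.o,.o,.o,.e⟩,⟨.o,.n,.n,.n,.n,.o,.e⟩,⟨.o,.o,.o,.o,.n,.n,.e⟩⟩,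
   ⟨⟨.o,.e,.o,.o,.o,.o,.o⟩,⟨.o,.o,.o,.o,.n,.o,.o⟩,⟨.n,.e,.o,.o,.e,.o,.o⟩,⟨.o,.o,.o,.n,.e,.o,.o⟩,⟨.o,.o,.o,.o,.o,.o,.n⟩,⟨.o,.e,.e,.e,.e,.o,.e⟩,⟨.o,.o,.o,.o,.n,.n,.e⟩⟩,
   ⟨⟨.o,.o,.e,.n,.e,.o,.o⟩,⟨.o,.o,.o,.o,.o,.e,.e⟩,⟨.e,.e,.n,.e,.n,.e,.e⟩,⟨.o,.o,.o,.n,.n,.e,.e⟩,⟨.o,.o,.n,.e,.n,.o,.e⟩,⟨.o,.e,.o,.n,.n,.n,.o⟩,⟨.e,.e,.n,.e,.o,.e,.n⟩⟩,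
   ⟨⟨.o,.e,.o,.o,.n,.o,.o⟩,⟨.o,.o,.o,.o,.e,.o,.o⟩,⟨.e,.e,.o,.n,.o,.o,.e⟩,⟨.o,.o,.o,.n,.n,.o,.n⟩,⟨.o,.n,.o,.o,.e,.o,.e⟩,⟨.o,.o,.n,.e,.n,.e,.n⟩,⟨.e,.e,.o,.n,.o,.n,.o⟩⟩,
   ⟨⟨.o,.e,.o,.o,.n,.o,.o⟩,⟨.o,.o,.o,.o,.e,.o,.o⟩,⟨.e,.e,.o,.n,.e,.o,.e⟩,⟨.o,.o,.o,.n,.n,.o,.n⟩,⟨.o,.n,.o,.o,.e,.o,.e⟩,⟨.o,.n,.n,.e,.o,.e,.o⟩,⟨.e,.e,.o,.n,.o,.n,.o⟩⟩,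
   ⟨⟨.o,.e,.o,.o,.o,.o,.o⟩,⟨.o,.o,.o,.o,.e,.o,.o⟩,⟨.e,.n,.o,.o,.e,.o,.o⟩,⟨.o,.o,.o,.n,.e,.o,.o⟩,⟨.o,.n,.o,.o,.o,.o,.e⟩,⟨.o,.e,.n,.n,.n,.o,.e⟩,⟨.e,.n,.o,.o,.n,.n,.e⟩⟩,
   ⟨⟨.o,.o,.e,.o,.o,.o,.o⟩,⟨.o,.o,.o,.o,.o,.e,.o⟩,⟨.e,.o,.n,.o,.o,.e,.o⟩,⟨.o,.o,.o,.n,.o,.e,.o⟩,⟨.o,.o,.e,.o,.o,.o,.e⟩,⟨.o,.e,.e,.n,.o,.n,.e⟩,⟨.n,.o,.e,.o,.e,.o,.e⟩⟩,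
   ⟨⟨.o,.n,.e,.o,.o,.o,.o⟩,⟨.o,.o,.o,.o,.n,.e,.o⟩,⟨.e,.e,.n,.o,.n,.e,.o⟩,⟨.o,.o,.o,.n,.n,.e,.o⟩,⟨.o,.n,.e,.o,.o,.o,.e⟩,⟨.o,.o,.e,.n,.e,.n,.e⟩,⟨.n,.n,.e,.o,.e,.o,.e⟩⟩,
   ⟨⟨.o,.n,.o,.o,.o,.o,.o⟩,⟨.o,.o,.o,.o,.e,.o,.o⟩,⟨.n,.n,.o,.o,.e,.o,.o⟩,⟨.o,.o,.o,.n,.n,.o,.o⟩,⟨.o,.n,.o,.o,.o,.o,.n⟩,⟨.o,.e,.n,.e,.n,.o,.n⟩,⟨.e,.e,.o,.o,.e,.e,.e⟩⟩,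
   ⟨⟨.o,.n,.e,.o,.o,.o,.o⟩,⟨.o,.o,.o,.o,.n,.e,.o⟩,⟨.e,.e,.n,.o,.e,.n,.o⟩,⟨.o,.o,.o,.n,.n,.e,.o⟩,⟨.o,.n,.e,.o,.o,.o,.e⟩,⟨.o,.n,.n,.n,.e,.n,.n⟩,⟨.n,.n,.e,.o,.e,.o,.e⟩⟩]

/-- part 2 -/
def repPart2 : List M7 :=
  [⟨⟨.o,.o,.e,.o,.o,.o,.o⟩,⟨.o,.o,.o,.o,.o,.e,.o⟩,⟨.e,.o,.n,.o,.o,.e,.o⟩,⟨.o,.o,.n,.n,.o,.e,.o⟩,⟨.o,.o,.o,.o,.o,.e,.e⟩,⟨.e,.e,.o,.n,.o,.o,.e⟩,⟨.o,.o,.e,.n,.e,.n,.e⟩⟩,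
   ⟨⟨.o,.e,.e,.o,.o,.o,.o⟩,⟨.o,.o,.o,.o,.e,.e,.o⟩,⟨.e,.n,.n,.o,.e,.e,.o⟩,⟨.o,.n,.n,.n,.e,.e,.o⟩,⟨.o,.o,.o,.o,.e,.e,.e⟩,⟨.e,.n,.e,.n,.o,.o,.e⟩,⟨.o,.e,.e,.n,.e,.o,.e⟩⟩,
   ⟨⟨.o,.e,.e,.o,.o,.o,.o⟩,⟨.o,.o,.o,.o,.e,.e,.o⟩,⟨.e,.n,.n,.o,.e,.e,.o⟩,⟨.o,.n,.n,.n,.e,.e,.o⟩,⟨.o,.o,.o,.o,.e,.e,.e⟩,⟨.e,.e,.o,.n,.o,.o,.e⟩,⟨.o,.e,.e,.n,.o,.n,.e⟩⟩,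
   ⟨⟨.o,.e,.e,.o,.o,.o,.o⟩,⟨.o,.o,.o,.o,.e,.e,.o⟩,⟨.e,.n,.n,.o,.e,.e,.o⟩,⟨.o,.n,.n,.n,.e,.e,.o⟩,⟨.o,.o,.o,.o,.e,.e,.e⟩,⟨.e,.o,.n,.n,.o,.o,.e⟩,⟨.o,.e,.e,.n,.n,.e,.e⟩⟩,
   ⟨⟨.o,.o,.e,.o,.o,.o,.o⟩,⟨.o,.o,.o,.o,.o,.e,.o⟩,⟨.e,.o,.e,.o,.o,.n,.o⟩,⟨.o,.o,.n,.n,.o,.n,.o⟩,⟨.o,.o,.n,.o,.o,.e,.e⟩,⟨.e,.e,.o,.e,.o,.e,.n⟩,⟨.e,.o,.n,.n,.e,.o,.n⟩⟩,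
   ⟨⟨.o,.e,.o,.o,.o,.o,.o⟩,⟨.o,.o,.o,.o,.e,.o,.o⟩,⟨.e,.o,.o,.o,.o,.o,.o⟩,⟨.o,.n,.o,.n,.o,.o,.o⟩,⟨.o,.n,.o,.o,.e,.o,.e⟩,⟨.e,.o,.n,.o,.o,.o,.o⟩,⟨.e,.e,.o,.n,.o,.n,.o⟩⟩,
   ⟨⟨.o,.e,.o,.o,.o,.o,.o⟩,⟨.o,.o,.o,.o,.e,.o,.o⟩,⟨.e,.o,.o,.o,.e,.o,.o⟩,⟨.o,.n,.o,.n,.o,.o,.o⟩,⟨.o,.n,.o,.o,.e,.o,.e⟩,⟨.e,.n,.n,.o,.e,.o,.e⟩,⟨.e,.e,.o,.n,.o,.n,.o⟩⟩,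
   ⟨⟨.o,.e,.o,.o,.o,.o,.o⟩,⟨.o,.o,.o,.o,.e,.o,.o⟩,⟨.e,.o,.o,.o,.n,.o,.o⟩,⟨.o,.n,.o,.n,.o,.o,.o⟩,⟨.o,.n,.o,.o,.e,.o,.e⟩,⟨.e,.e,.n,.o,.n,.o,.n⟩,⟨.e,.e,.o,.n,.o,.n,.o⟩⟩,
   ⟨⟨.o,.o,.e,.o,.o,.o,.o⟩,⟨.o,.o,.o,.o,.o,.e,.o⟩,⟨.e,.o,.o,.o,.o,.n,.o⟩,⟨.o,.o,.n,.n,.o,.o,.o⟩,⟨.o,.o,.e,.o,.o,.e,.e⟩,⟨.e,.e,.o,.o,.o,.n,.n⟩,⟨.n,.o,.e,.n,.e,.e,.o⟩⟩,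
   ⟨⟨.o,.e,.o,.o,.e,.o,.o⟩,⟨.o,.o,.o,.o,.e,.o,.o⟩,⟨.e,.o,.o,.e,.e,.o,.e⟩,⟨.o,.n,.o,.n,.n,.o,.e⟩,⟨.o,.e,.o,.o,.n,.o,.e⟩,⟨.e,.o,.n,.e,.e,.n,.n⟩,⟨.n,.e,.o,.e,.o,.n,.o⟩⟩,
   ⟨⟨.o,.e,.o,.o,.e,.o,.o⟩,⟨.o,.o,.o,.o,.e,.o,.o⟩,⟨.e,.o,.o,.e,.o,.o,.e⟩,⟨.o,.n,.o,.n,.n,.o,.e⟩,⟨.o,.e,.o,.o,.n,.o,.e⟩,⟨.e,.n,.n,.e,.n,.n,.e⟩,⟨.n,.e,.o,.e,.o,.n,.o⟩⟩,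
   ⟨⟨.o,.e,.o,.o,.o,.o,.o⟩,⟨.o,.o,.o,.o,.n,.o,.o⟩,⟨.n,.o,.o,.o,.n,.o,.o⟩,⟨.o,.n,.o,.n,.o,.o,.o⟩,⟨.o,.e,.o,.o,.n,.o,.n⟩,⟨.n,.e,.e,.o,.n,.o,.n⟩,⟨.e,.e,.o,.n,.o,.n,.o⟩⟩,
   ⟨⟨.o,.o,.e,.o,.o,.o,.o⟩,⟨.o,.o,.o,.o,.o,.e,.o⟩,⟨.e,.o,.n,.o,.o,.e,.o⟩,⟨.o,.o,.e,.n,.o,.e,.o⟩,⟨.o,.o,.o,.o,.o,.n,.e⟩,⟨.n,.e,.n,.n,.o,.e,.e⟩,⟨.o,.o,.e,.e,.e,.o,.e⟩⟩,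
   ⟨⟨.o,.e,.e,.e,.e,.o,.o⟩,⟨.o,.o,.o,.o,.n,.n,.e⟩,⟨.n,.o,.n,.n,.e,.n,.e⟩,⟨.o,.e,.e,.o,.e,.n,.e⟩,⟨.o,.o,.o,.o,.e,.e,.e⟩,⟨.e,.o,.n,.e,.n,.n,.o⟩,⟨.o,.e,.e,.n,.e,.o,.n⟩⟩,
   ⟨⟨.o,.e,.e,.o,.o,.o,.o⟩,⟨.o,.o,.o,.o,.e,.e,.o⟩,⟨.e,.n,.n,.o,.e,.e,.o⟩,⟨.o,.e,.e,.n,.e,.e,.o⟩,⟨.o,.o,.o,.o,.n,.n,.e⟩,⟨.n,.o,.n,.n,.e,.e,.e⟩,⟨.o,.e,.e,.e,.e,.o,.e⟩⟩,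
   ⟨⟨.o,.n,.e,.o,.o,.o,.o⟩,⟨.o,.o,.o,.o,.n,.e,.o⟩,⟨.e,.e,.n,.o,.o,.o,.o⟩,⟨.o,.n,.e,.n,.n,.e,.o⟩,⟨.o,.o,.o,.o,.e,.n,.e⟩,⟨.n,.e,.o,.n,.e,.n,.o⟩,⟨.o,.n,.e,.e,.o,.e,.e⟩⟩,
   ⟨⟨.o,.o,.e,.o,.o,.o,.o⟩,⟨.o,.o,.o,.o,.o,.e,.o⟩,⟨.e,.o,.e,.o,.o,.n,.o⟩,⟨.o,.o,.e,.n,.o,.n,.o⟩,⟨.o,.o,.n,.o,.o,.n,.e⟩,⟨.n,.e,.e,.e,.o,.o,.n⟩,⟨.e,.o,.n,.e,.e,.n,.n⟩⟩,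
   ⟨⟨.o,.n,.n,.o,.o,.o,.o⟩,⟨.o,.o,.o,.o,.n,.n,.o⟩,⟨.e,.n,.n,.o,.n,.n,.o⟩,⟨.o,.n,.n,.n,.e,.e,.o⟩,⟨.o,.e,.e,.o,.e,.e,.e⟩,⟨.n,.e,.n,.e,.n,.n,.e⟩,⟨.e,.e,.e,.e,.e,.n,.n⟩⟩,
   ⟨⟨.o,.e,.o,.o,.e,.o,.o⟩,⟨.o,.o,.o,.o,.e,.o,.o⟩,⟨.e,.o,.o,.e,.o,.o,.e⟩,⟨.o,.e,.o,.n,.e,.o,.e⟩,⟨.o,.n,.o,.o,.e,.o,.e⟩,⟨.n,.n,.n,.n,.n,.n,.n⟩,⟨.e,.e,.o,.n,.o,.n,.o⟩⟩,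
   ⟨⟨.o,.e,.o,.o,.e,.o,.o⟩,⟨.o,.o,.o,.o,.e,.o,.o⟩,⟨.e,.o,.o,.e,.e,.o,.e⟩,⟨.o,.e,.o,.n,.e,.o,.e⟩,⟨.o,.n,.o,.o,.e,.o,.e⟩,⟨.n,.e,.n,.n,.o,.n,.o⟩,⟨.e,.e,.o,.n,.o,.n,.o⟩⟩,
   ⟨⟨.o,.o,.e,.e,.e,.o,.o⟩,⟨.o,.o,.o,.o,.o,.n,.e⟩,⟨.n,.e,.o,.o,.o,.n,.e⟩,⟨.o,.o,.e,.o,.n,.o,.o⟩,⟨.o,.o,.e,.e,.e,.e,.e⟩,⟨.e,.e,.o,.o,.o,.e,.e⟩,⟨.e,.n,.e,.n,.e,.e,.n⟩⟩,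
   ⟨⟨.o,.e,.o,.o,.o,.o,.o⟩,⟨.o,.o,.o,.o,.e,.o,.o⟩,⟨.e,.o,.o,.o,.e,.o,.o⟩,⟨.o,.e,.o,.n,.o,.o,.o⟩,⟨.o,.e,.o,.o,.n,.o,.e⟩,⟨.n,.o,.n,.o,.n,.o,.e⟩,⟨.n,.e,.o,.e,.n,.n,.o⟩⟩,
   ⟨⟨.o,.e,.o,.o,.o,.o,.o⟩,⟨.o,.o,.o,.o,.e,.o,.o⟩,⟨.e,.o,.o,.o,.n,.o,.o⟩,⟨.o,.e,.o,.n,.o,.o,.o⟩,⟨.o,.e,.o,.o,.n,.o,.e⟩,⟨.n,.n,.n,.o,.e,.o,.n⟩,⟨.n,.e,.o,.e,.o,.n,.o⟩⟩,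
   ⟨⟨.o,.e,.o,.o,.o,.o,.o⟩,⟨.o,.o,.o,.o,.e,.o,.o⟩,⟨.e,.o,.o,.o,.e,.o,.o⟩,⟨.o,.e,.o,.n,.o,.o,.o⟩,⟨.o,.e,.o,.o,.n,.o,.e⟩,⟨.n,.e,.n,.o,.n,.o,.e⟩,⟨.n,.e,.o,.e,.o,.n,.o⟩⟩,
   ⟨⟨.o,.o,.e,.o,.o,.o,.o⟩,⟨.o,.o,.e,.o,.o,.e,.o⟩,⟨.e,.o,.n,.o,.o,.e,.o⟩,⟨.e,.o,.n,.n,.o,.n,.o⟩,⟨.e,.o,.n,.e,.o,.o,.e⟩,⟨.o,.e,.e,.n,.o,.n,.e⟩,⟨.o,.e,.e,.n,.e,.o,.n⟩⟩,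
   ⟨⟨.o,.n,.e,.o,.o,.o,.o⟩,⟨.o,.n,.e,.o,.n,.e,.o⟩,⟨.e,.e,.n,.o,.n,.e,.o⟩,⟨.e,.e,.n,.n,.e,.n,.o⟩,⟨.e,.e,.n,.e,.o,.o,.e⟩,⟨.o,.o,.e,.n,.e,.n,.e⟩,⟨.o,.o,.e,.n,.e,.o,.n⟩⟩,
   ⟨⟨.o,.e,.o,.o,.o,.o,.o⟩,⟨.o,.e,.o,.o,.e,.o,.o⟩,⟨.e,.n,.o,.o,.e,.o,.o⟩,⟨.e,.n,.o,.n,.n,.o,.o⟩,⟨.e,.n,.o,.e,.o,.o,.e⟩,⟨.o,.n,.n,.n,.n,.o,.e⟩,⟨.o,.n,.n,.n,.e,.n,.n⟩⟩,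
   ⟨⟨.o,.e,.o,.o,.o,.o,.o⟩,⟨.o,.e,.o,.o,.n,.o,.o⟩,⟨.n,.e,.o,.o,.e,.o,.o⟩,⟨.n,.e,.o,.n,.n,.o,.o⟩,⟨.n,.e,.o,.e,.o,.o,.n⟩,⟨.o,.e,.e,.e,.e,.o,.e⟩,⟨.o,.e,.e,.e,.o,.n,.n⟩⟩,
   ⟨⟨.o,.o,.e,.o,.o,.o,.o⟩,⟨.o,.o,.e,.o,.o,.e,.o⟩,⟨.e,.o,.o,.o,.o,.e,.o⟩,⟨.e,.o,.o,.n,.o,.e,.o⟩,⟨.e,.o,.n,.e,.o,.e,.e⟩,⟨.o,.e,.o,.o,.o,.o,.e⟩,⟨.e,.e,.o,.o,.e,.e,.e⟩⟩,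
   ⟨⟨.o,.n,.o,.o,.o,.o,.o⟩,⟨.o,.n,.o,.o,.e,.o,.o⟩,⟨.n,.e,.o,.o,.e,.o,.o⟩,⟨.n,.e,.o,.n,.n,.o,.o⟩,⟨.n,.n,.o,.e,.o,.o,.n⟩,⟨.o,.o,.n,.n,.n,.o,.n⟩,⟨.n,.e,.n,.n,.o,.e,.e⟩⟩,
   ⟨⟨.o,.e,.o,.o,.o,.o,.o⟩,⟨.o,.e,.o,.o,.e,.o,.o⟩,⟨.e,.e,.o,.o,.e,.o,.o⟩,⟨.e,.e,.o,.n,.o,.o,.o⟩,⟨.e,.o,.o,.e,.n,.o,.e⟩,⟨.o,.n,.n,.e,.n,.o,.e⟩,⟨.e,.o,.n,.e,.n,.n,.o⟩⟩,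
   ⟨⟨.o,.e,.o,.o,.o,.o,.o⟩,⟨.o,.e,.o,.o,.e,.o,.o⟩,⟨.e,.e,.o,.o,.n,.o,.o⟩,⟨.e,.e,.o,.n,.e,.o,.o⟩,⟨.e,.o,.o,.e,.o,.o,.e⟩,⟨.o,.e,.n,.e,.n,.o,.n⟩,⟨.e,.n,.n,.e,.n,.n,.e⟩⟩]

/-- part 3 -/
def repPart3 : List M7 :=
  [⟨⟨.o,.o,.e,.o,.o,.o,.o⟩,⟨.o,.o,.e,.o,.o,.e,.o⟩,⟨.e,.o,.o,.o,.o,.n,.o⟩,⟨.e,.o,.o,.n,.o,.n,.o⟩,⟨.e,.o,.e,.e,.o,.n,.e⟩,⟨.o,.e,.o,.o,.o,.o,.n⟩,⟨.n,.e,.o,.o,.e,.e,.n⟩⟩,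
   ⟨⟨.o,.n,.o,.o,.o,.o,.o⟩,⟨.o,.n,.o,.o,.e,.o,.o⟩,⟨.n,.e,.o,.o,.e,.o,.o⟩,⟨.n,.e,.o,.n,.n,.o,.o⟩,⟨.n,.o,.o,.e,.o,.o,.n⟩,⟨.o,.o,.n,.n,.n,.o,.n⟩,⟨.e,.n,.n,.n,.e,.e,.e⟩⟩,
   ⟨⟨.o,.e,.o,.o,.o,.o,.o⟩,⟨.o,.e,.o,.o,.n,.o,.o⟩,⟨.n,.e,.o,.o,.e,.o,.o⟩,⟨.n,.e,.o,.n,.n,.o,.o⟩,⟨.n,.n,.o,.e,.o,.o,.n⟩,⟨.o,.n,.e,.e,.e,.o,.e⟩,⟨.e,.e,.e,.e,.e,.n,.n⟩⟩,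
   ⟨⟨.o,.e,.o,.o,.o,.o,.o⟩,⟨.o,.e,.o,.o,.e,.o,.o⟩,⟨.e,.n,.o,.o,.e,.o,.o⟩,⟨.e,.n,.o,.n,.n,.o,.o⟩,⟨.e,.o,.o,.e,.o,.o,.e⟩,⟨.o,.e,.n,.n,.n,.o,.e⟩,⟨.n,.n,.n,.n,.n,.n,.n⟩⟩,
   ⟨⟨.o,.o,.e,.o,.o,.o,.o⟩,⟨.o,.o,.e,.o,.o,.e,.o⟩,⟨.e,.o,.o,.o,.o,.n,.o⟩,⟨.e,.o,.n,.n,.o,.n,.o⟩,⟨.e,.o,.n,.e,.o,.o,.e⟩,⟨.e,.e,.o,.o,.o,.n,.n⟩,⟨.o,.e,.e,.n,.e,.o,.n⟩⟩,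
   ⟨⟨.o,.e,.o,.o,.o,.o,.o⟩,⟨.o,.e,.o,.o,.n,.o,.o⟩,⟨.n,.n,.o,.o,.o,.o,.o⟩,⟨.n,.e,.o,.n,.n,.o,.o⟩,⟨.n,.e,.o,.e,.o,.o,.n⟩,⟨.n,.n,.e,.n,.e,.o,.o⟩,⟨.o,.e,.e,.e,.o,.n,.n⟩⟩,
   ⟨⟨.o,.n,.e,.o,.o,.o,.o⟩,⟨.o,.n,.e,.o,.n,.e,.o⟩,⟨.e,.o,.o,.o,.e,.n,.o⟩,⟨.e,.e,.n,.n,.e,.n,.o⟩,⟨.e,.e,.n,.e,.o,.o,.e⟩,⟨.e,.e,.o,.o,.e,.n,.n⟩,⟨.o,.o,.e,.n,.e,.o,.n⟩⟩,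
   ⟨⟨.o,.e,.o,.o,.o,.o,.o⟩,⟨.o,.e,.o,.o,.e,.o,.o⟩,⟨.e,.o,.o,.o,.n,.o,.o⟩,⟨.e,.n,.o,.n,.n,.o,.o⟩,⟨.e,.n,.o,.e,.o,.o,.e⟩,⟨.e,.e,.n,.o,.n,.o,.n⟩,⟨.o,.n,.n,.n,.e,.n,.n⟩⟩,
   ⟨⟨.o,.o,.e,.o,.o,.o,.o⟩,⟨.o,.o,.e,.o,.o,.e,.o⟩,⟨.e,.o,.n,.o,.o,.e,.o⟩,⟨.e,.o,.e,.n,.o,.n,.o⟩,⟨.e,.o,.o,.e,.o,.e,.e⟩,⟨.e,.e,.o,.n,.o,.o,.e⟩,⟨.e,.e,.e,.e,.e,.n,.n⟩⟩,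
   ⟨⟨.o,.n,.e,.o,.o,.o,.o⟩,⟨.o,.n,.e,.o,.n,.e,.o⟩,⟨.e,.n,.e,.o,.n,.e,.o⟩,⟨.e,.o,.o,.n,.o,.o,.o⟩,⟨.e,.e,.n,.e,.o,.o,.e⟩,⟨.e,.n,.n,.e,.o,.o,.e⟩,⟨.e,.e,.o,.o,.e,.o,.o⟩⟩,
   ⟨⟨.o,.e,.e,.o,.o,.o,.o⟩,⟨.o,.e,.e,.o,.e,.e,.o⟩,⟨.e,.n,.n,.o,.e,.e,.o⟩,⟨.e,.e,.e,.n,.n,.n,.o⟩,⟨.e,.o,.o,.e,.e,.e,.e⟩,⟨.e,.e,.o,.n,.o,.o,.e⟩,⟨.e,.n,.e,.e,.o,.n,.n⟩⟩,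
   ⟨⟨.o,.n,.o,.o,.o,.o,.o⟩,⟨.o,.n,.o,.o,.e,.o,.o⟩,⟨.n,.o,.o,.o,.n,.o,.o⟩,⟨.n,.e,.o,.n,.n,.o,.o⟩,⟨.n,.n,.o,.e,.o,.o,.n⟩,⟨.n,.n,.n,.o,.n,.o,.e⟩,⟨.n,.e,.n,.n,.o,.e,.e⟩⟩,
   ⟨⟨.o,.o,.e,.o,.o,.o,.o⟩,⟨.o,.o,.e,.o,.o,.e,.o⟩,⟨.e,.o,.o,.o,.o,.e,.o⟩,⟨.e,.o,.n,.n,.o,.e,.o⟩,⟨.e,.o,.o,.e,.o,.n,.e⟩,⟨.e,.e,.o,.o,.o,.e,.e⟩,⟨.n,.e,.e,.n,.e,.n,.e⟩⟩,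
   ⟨⟨.o,.e,.o,.o,.o,.o,.o⟩,⟨.o,.e,.o,.o,.e,.o,.o⟩,⟨.e,.o,.o,.o,.o,.o,.o⟩,⟨.e,.n,.o,.n,.o,.o,.o⟩,⟨.e,.o,.o,.e,.e,.o,.e⟩,⟨.e,.o,.n,.o,.o,.o,.o⟩,⟨.n,.e,.n,.n,.o,.n,.o⟩⟩,
   ⟨⟨.o,.e,.o,.o,.o,.o,.o⟩,⟨.o,.e,.o,.o,.n,.o,.o⟩,⟨.n,.n,.o,.o,.o,.o,.o⟩,⟨.n,.e,.o,.n,.n,.o,.o⟩,⟨.n,.n,.o,.e,.o,.o,.n⟩,⟨.n,.e,.e,.n,.e,.o,.o⟩,⟨.e,.e,.e,.e,.e,.n,.n⟩⟩,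
   ⟨⟨.o,.e,.o,.o,.o,.o,.o⟩,⟨.o,.e,.o,.o,.e,.o,.o⟩,⟨.e,.o,.o,.o,.n,.o,.o⟩,⟨.e,.n,.o,.n,.n,.o,.o⟩,⟨.e,.o,.o,.e,.o,.o,.e⟩,⟨.e,.e,.n,.o,.n,.o,.n⟩,⟨.n,.n,.n,.n,.n,.n,.n⟩⟩,
   ⟨⟨.o,.o,.e,.o,.o,.o,.o⟩,⟨.o,.o,.e,.o,.o,.e,.o⟩,⟨.e,.o,.o,.o,.o,.e,.o⟩,⟨.e,.o,.e,.n,.o,.e,.o⟩,⟨.e,.o,.e,.e,.o,.o,.e⟩,⟨.n,.e,.o,.o,.o,.n,.e⟩,⟨.o,.e,.e,.e,.e,.o,.e⟩⟩,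
   ⟨⟨.o,.e,.o,.o,.o,.o,.o⟩,⟨.o,.e,.o,.o,.n,.o,.o⟩,⟨.n,.e,.o,.o,.o,.o,.o⟩,⟨.n,.n,.o,.n,.e,.o,.o⟩,⟨.n,.n,.o,.e,.o,.o,.n⟩,⟨.e,.n,.e,.e,.e,.o,.o⟩,⟨.o,.e,.e,.n,.o,.n,.e⟩⟩,
   ⟨⟨.o,.e,.o,.o,.o,.o,.o⟩,⟨.o,.e,.o,.o,.e,.o,.o⟩,⟨.e,.o,.o,.o,.e,.o,.o⟩,⟨.e,.e,.o,.n,.e,.o,.o⟩,⟨.e,.e,.o,.e,.o,.o,.e⟩,⟨.n,.n,.n,.o,.n,.o,.e⟩,⟨.o,.o,.n,.e,.n,.n,.e⟩⟩,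
   ⟨⟨.o,.e,.o,.o,.o,.o,.o⟩,⟨.o,.e,.o,.o,.e,.o,.o⟩,⟨.e,.o,.o,.o,.e,.o,.o⟩,⟨.e,.e,.o,.n,.e,.o,.o⟩,⟨.e,.e,.o,.e,.o,.o,.e⟩,⟨.n,.e,.n,.o,.n,.o,.e⟩,⟨.o,.n,.n,.e,.e,.n,.e⟩⟩,
   ⟨⟨.o,.o,.e,.o,.o,.o,.o⟩,⟨.o,.o,.e,.o,.o,.e,.o⟩,⟨.e,.o,.o,.o,.o,.n,.o⟩,⟨.e,.o,.e,.n,.o,.n,.o⟩,⟨.e,.o,.o,.e,.o,.e,.e⟩,⟨.n,.e,.o,.o,.o,.e,.n⟩,⟨.e,.e,.e,.e,.e,.n,.n⟩⟩,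
   ⟨⟨.o,.e,.o,.o,.o,.o,.o⟩,⟨.o,.e,.o,.o,.e,.o,.o⟩,⟨.e,.o,.o,.o,.e,.o,.o⟩,⟨.e,.e,.o,.n,.e,.o,.o⟩,⟨.e,.o,.o,.e,.o,.o,.e⟩,⟨.n,.o,.n,.o,.n,.o,.e⟩,⟨.e,.e,.n,.e,.e,.n,.e⟩⟩,
   ⟨⟨.o,.e,.o,.o,.o,.o,.o⟩,⟨.o,.e,.o,.o,.e,.o,.o⟩,⟨.e,.o,.o,.o,.n,.o,.o⟩,⟨.e,.e,.o,.n,.n,.o,.o⟩,⟨.e,.o,.o,.e,.e,.o,.e⟩,⟨.n,.n,.n,.o,.e,.o,.n⟩,⟨.e,.o,.n,.e,.e,.n,.n⟩⟩,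
   ⟨⟨.o,.e,.o,.o,.o,.o,.o⟩,⟨.o,.e,.o,.o,.e,.o,.o⟩,⟨.e,.o,.o,.o,.e,.o,.o⟩,⟨.e,.e,.o,.n,.e,.o,.o⟩,⟨.e,.o,.o,.e,.o,.o,.e⟩,⟨.n,.e,.n,.o,.n,.o,.e⟩,⟨.e,.n,.n,.e,.n,.n,.e⟩⟩,
   ⟨⟨.o,.o,.e,.o,.o,.o,.o⟩,⟨.o,.o,.e,.o,.o,.e,.o⟩,⟨.e,.o,.n,.o,.o,.e,.o⟩,⟨.e,.o,.o,.n,.o,.n,.o⟩,⟨.e,.o,.e,.e,.o,.n,.e⟩,⟨.n,.e,.n,.n,.o,.e,.e⟩,⟨.n,.e,.o,.o,.e,.e,.n⟩⟩,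
   ⟨⟨.o,.e,.o,.o,.o,.o,.o⟩,⟨.o,.e,.o,.o,.e,.o,.o⟩,⟨.e,.o,.o,.o,.e,.o,.o⟩,⟨.e,.e,.o,.n,.e,.o,.o⟩,⟨.e,.n,.o,.e,.o,.o,.e⟩,⟨.n,.o,.n,.o,.n,.o,.e⟩,⟨.n,.e,.n,.e,.n,.n,.e⟩⟩,
   ⟨⟨.o,.e,.o,.o,.o,.o,.o⟩,⟨.o,.e,.o,.o,.e,.o,.o⟩,⟨.e,.e,.o,.o,.o,.o,.o⟩,⟨.e,.n,.o,.n,.n,.o,.o⟩,⟨.e,.o,.o,.e,.o,.o,.e⟩,⟨.n,.e,.n,.e,.n,.o,.o⟩,⟨.n,.n,.n,.n,.n,.n,.n⟩⟩,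
   ⟨⟨.o,.e,.o,.o,.o,.o,.o⟩,⟨.o,.e,.o,.o,.e,.o,.o⟩,⟨.e,.e,.o,.o,.e,.o,.o⟩,⟨.e,.n,.o,.n,.o,.o,.o⟩,⟨.e,.o,.o,.e,.e,.o,.e⟩,⟨.n,.o,.n,.e,.e,.o,.e⟩,⟨.n,.e,.n,.n,.o,.n,.o⟩⟩,
   ⟨⟨.o,.o,.e,.o,.o,.o,.o⟩,⟨.o,.o,.n,.o,.o,.e,.o⟩,⟨.e,.o,.n,.o,.o,.e,.o⟩,⟨.n,.o,.e,.n,.o,.o,.o⟩,⟨.e,.o,.n,.n,.o,.n,.e⟩,⟨.o,.e,.e,.n,.o,.n,.e⟩,⟨.o,.n,.n,.e,.e,.n,.o⟩⟩,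
   ⟨⟨.o,.e,.o,.o,.o,.o,.o⟩,⟨.o,.n,.o,.o,.e,.o,.o⟩,⟨.e,.e,.o,.o,.e,.o,.o⟩,⟨.n,.n,.o,.n,.e,.o,.o⟩,⟨.e,.e,.o,.n,.o,.o,.e⟩,⟨.o,.o,.n,.e,.n,.o,.e⟩,⟨.o,.o,.e,.n,.e,.n,.e⟩⟩,
   ⟨⟨.o,.e,.o,.o,.o,.o,.o⟩,⟨.o,.n,.o,.o,.e,.o,.o⟩,⟨.e,.e,.o,.o,.e,.o,.o⟩,⟨.n,.n,.o,.n,.e,.o,.o⟩,⟨.e,.e,.o,.n,.o,.o,.e⟩,⟨.o,.n,.n,.e,.n,.o,.e⟩,⟨.o,.e,.e,.n,.o,.n,.e⟩⟩,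
   ⟨⟨.o,.n,.e,.o,.o,.o,.o⟩,⟨.o,.e,.n,.o,.n,.e,.o⟩,⟨.e,.n,.e,.o,.n,.e,.o⟩,⟨.n,.e,.n,.n,.n,.e,.o⟩,⟨.e,.n,.e,.n,.o,.o,.e⟩,⟨.o,.n,.n,.e,.e,.n,.e⟩,⟨.o,.e,.e,.n,.e,.o,.e⟩⟩]

/-- part 4 -/
def repPart4 : List M7 :=
  [⟨⟨.o,.o,.n,.o,.o,.e,.o⟩,⟨.o,.o,.e,.o,.o,.e,.o⟩,⟨.e,.o,.n,.n,.o,.e,.e⟩,⟨.n,.o,.e,.o,.o,.o,.e⟩,⟨.e,.o,.o,.e,.o,.e,.e⟩,⟨.o,.n,.e,.e,.e,.o,.e⟩,⟨.e,.e,.e,.e,.e,.n,.n⟩⟩,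
   ⟨⟨.o,.n,.o,.o,.o,.o,.o⟩,⟨.o,.e,.o,.o,.e,.o,.o⟩,⟨.n,.e,.o,.o,.e,.o,.o⟩,⟨.e,.n,.o,.n,.o,.o,.o⟩,⟨.n,.n,.o,.n,.n,.o,.n⟩,⟨.o,.o,.n,.n,.n,.o,.n⟩,⟨.n,.e,.e,.e,.n,.e,.o⟩⟩,
   ⟨⟨.o,.n,.e,.o,.o,.o,.o⟩,⟨.o,.e,.n,.o,.n,.e,.o⟩,⟨.e,.n,.e,.o,.n,.e,.o⟩,⟨.n,.e,.n,.n,.n,.e,.o⟩,⟨.e,.o,.o,.n,.o,.o,.e⟩,⟨.o,.e,.o,.e,.e,.n,.e⟩,⟨.e,.e,.e,.n,.n,.n,.e⟩⟩,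
   ⟨⟨.o,.e,.o,.o,.o,.o,.o⟩,⟨.o,.n,.o,.o,.e,.o,.o⟩,⟨.e,.n,.o,.o,.n,.o,.o⟩,⟨.n,.e,.o,.n,.n,.o,.o⟩,⟨.e,.e,.o,.n,.o,.o,.e⟩,⟨.o,.e,.n,.n,.n,.o,.n⟩,⟨.e,.e,.e,.e,.e,.n,.n⟩⟩,
   ⟨⟨.o,.o,.e,.o,.o,.o,.o⟩,⟨.o,.o,.n,.o,.o,.e,.o⟩,⟨.e,.o,.o,.o,.o,.n,.o⟩,⟨.n,.o,.o,.n,.o,.e,.o⟩,⟨.e,.o,.e,.n,.o,.n,.e⟩,⟨.o,.e,.o,.o,.o,.o,.n⟩,⟨.n,.n,.o,.o,.e,.e,.e⟩⟩,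
   ⟨⟨.o,.e,.o,.o,.o,.o,.o⟩,⟨.o,.n,.o,.o,.e,.o,.o⟩,⟨.e,.e,.o,.o,.e,.o,.o⟩,⟨.n,.n,.o,.n,.e,.o,.o⟩,⟨.e,.n,.o,.n,.o,.o,.e⟩,⟨.o,.o,.n,.e,.n,.o,.e⟩,⟨.n,.n,.e,.n,.o,.n,.e⟩⟩,
   ⟨⟨.o,.e,.o,.o,.o,.o,.o⟩,⟨.o,.n,.o,.o,.e,.o,.o⟩,⟨.e,.n,.o,.o,.n,.o,.o⟩,⟨.n,.e,.o,.n,.n,.o,.o⟩,⟨.e,.o,.o,.n,.o,.o,.e⟩,⟨.o,.n,.n,.n,.n,.o,.n⟩,⟨.n,.n,.e,.e,.e,.n,.n⟩⟩,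
   ⟨⟨.o,.e,.o,.o,.o,.o,.o⟩,⟨.o,.n,.o,.o,.e,.o,.o⟩,⟨.e,.n,.o,.o,.e,.o,.o⟩,⟨.n,.e,.o,.n,.o,.o,.o⟩,⟨.e,.o,.o,.n,.n,.o,.e⟩,⟨.o,.e,.n,.n,.n,.o,.e⟩,⟨.n,.o,.e,.e,.e,.n,.o⟩⟩,
   ⟨⟨.o,.o,.e,.o,.o,.o,.o⟩,⟨.o,.o,.n,.o,.o,.e,.o⟩,⟨.e,.o,.e,.o,.o,.n,.o⟩,⟨.n,.o,.e,.n,.o,.o,.o⟩,⟨.e,.o,.n,.n,.o,.n,.e⟩,⟨.e,.e,.o,.e,.o,.e,.n⟩,⟨.o,.n,.n,.e,.e,.n,.o⟩⟩,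
   ⟨⟨.o,.e,.o,.o,.o,.o,.o⟩,⟨.o,.n,.o,.o,.e,.o,.o⟩,⟨.e,.o,.o,.o,.n,.o,.o⟩,⟨.n,.n,.o,.n,.e,.o,.o⟩,⟨.e,.e,.o,.n,.o,.o,.e⟩,⟨.e,.o,.n,.o,.n,.o,.n⟩,⟨.o,.e,.e,.n,.o,.n,.e⟩⟩,
   ⟨⟨.o,.n,.e,.o,.o,.o,.o⟩,⟨.o,.e,.n,.o,.n,.e,.o⟩,⟨.e,.o,.o,.o,.e,.n,.o⟩,⟨.n,.e,.n,.n,.n,.e,.o⟩,⟨.e,.n,.e,.n,.o,.o,.e⟩,⟨.e,.e,.o,.o,.e,.n,.n⟩,⟨.o,.e,.e,.n,.e,.o,.e⟩⟩,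
   ⟨⟨.o,.e,.o,.o,.o,.o,.o⟩,⟨.o,.n,.o,.o,.e,.o,.o⟩,⟨.e,.o,.o,.o,.n,.o,.o⟩,⟨.n,.n,.o,.n,.e,.o,.o⟩,⟨.e,.e,.o,.n,.o,.o,.e⟩,⟨.e,.e,.n,.o,.n,.o,.n⟩,⟨.o,.o,.e,.n,.e,.n,.e⟩⟩,
   ⟨⟨.o,.o,.e,.o,.o,.o,.o⟩,⟨.o,.o,.n,.o,.o,.e,.o⟩,⟨.e,.o,.o,.o,.o,.n,.o⟩,⟨.n,.o,.n,.n,.o,.e,.o⟩,⟨.e,.o,.o,.n,.o,.o,.e⟩,⟨.e,.e,.o,.o,.o,.n,.n⟩,⟨.e,.n,.e,.n,.e,.n,.e⟩⟩,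
   ⟨⟨.o,.e,.o,.o,.o,.o,.o⟩,⟨.o,.n,.o,.o,.n,.o,.o⟩,⟨.n,.n,.o,.o,.o,.o,.o⟩,⟨.e,.o,.o,.n,.n,.o,.o⟩,⟨.n,.n,.o,.n,.e,.o,.n⟩,⟨.n,.n,.e,.n,.e,.o,.o⟩,⟨.n,.o,.n,.o,.e,.n,.n⟩⟩,
   ⟨⟨.o,.n,.e,.o,.o,.o,.o⟩,⟨.o,.e,.n,.o,.n,.e,.o⟩,⟨.e,.o,.o,.o,.e,.n,.o⟩,⟨.n,.e,.n,.n,.n,.e,.o⟩,⟨.e,.o,.o,.n,.o,.o,.e⟩,⟨.e,.e,.o,.o,.e,.n,.n⟩,⟨.e,.e,.e,.n,.n,.n,.e⟩⟩,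
   ⟨⟨.o,.e,.o,.o,.o,.o,.o⟩,⟨.o,.n,.o,.o,.e,.o,.o⟩,⟨.e,.e,.o,.o,.o,.o,.o⟩,⟨.n,.e,.o,.n,.n,.o,.o⟩,⟨.e,.e,.o,.n,.o,.o,.e⟩,⟨.e,.n,.n,.e,.n,.o,.o⟩,⟨.e,.e,.e,.e,.e,.n,.n⟩⟩,
   ⟨⟨.o,.o,.e,.o,.o,.o,.o⟩,⟨.o,.o,.n,.o,.o,.e,.o⟩,⟨.e,.o,.n,.o,.o,.e,.o⟩,⟨.n,.o,.o,.n,.o,.o,.o⟩,⟨.e,.o,.e,.n,.o,.o,.e⟩,⟨.e,.e,.o,.n,.o,.o,.e⟩,⟨.n,.n,.e,.o,.e,.n,.o⟩⟩,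
   ⟨⟨.o,.e,.o,.o,.o,.o,.o⟩,⟨.o,.n,.o,.o,.e,.o,.o⟩,⟨.e,.n,.o,.o,.e,.o,.o⟩,⟨.n,.o,.o,.n,.o,.o,.o⟩,⟨.e,.e,.o,.n,.o,.o,.e⟩,⟨.e,.n,.n,.n,.o,.o,.e⟩,⟨.n,.n,.e,.o,.e,.n,.o⟩⟩,
   ⟨⟨.o,.e,.o,.o,.o,.o,.o⟩,⟨.o,.n,.o,.o,.e,.o,.o⟩,⟨.e,.o,.o,.o,.n,.o,.o⟩,⟨.n,.n,.o,.n,.e,.o,.o⟩,⟨.e,.n,.o,.n,.o,.o,.e⟩,⟨.e,.n,.n,.o,.n,.o,.n⟩,⟨.n,.n,.e,.n,.o,.n,.e⟩⟩,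
   ⟨⟨.o,.e,.o,.o,.o,.o,.o⟩,⟨.o,.n,.o,.o,.e,.o,.o⟩,⟨.e,.e,.o,.o,.o,.o,.o⟩,⟨.n,.e,.o,.n,.n,.o,.o⟩,⟨.e,.o,.o,.n,.o,.o,.e⟩,⟨.e,.n,.n,.e,.n,.o,.o⟩,⟨.n,.n,.e,.e,.e,.n,.n⟩⟩,
   ⟨⟨.o,.o,.e,.e,.e,.o,.o⟩,⟨.o,.o,.n,.n,.n,.n,.e⟩,⟨.n,.e,.o,.o,.o,.n,.e⟩,⟨.e,.n,.e,.o,.n,.e,.n⟩,⟨.n,.e,.n,.e,.o,.o,.n⟩,⟨.e,.e,.o,.o,.o,.e,.e⟩,⟨.o,.e,.e,.n,.e,.o,.e⟩⟩,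
   ⟨⟨.o,.e,.o,.o,.o,.o,.o⟩,⟨.o,.n,.o,.o,.e,.o,.o⟩,⟨.e,.o,.o,.o,.e,.o,.o⟩,⟨.n,.e,.o,.n,.n,.o,.o⟩,⟨.e,.n,.o,.n,.o,.o,.e⟩,⟨.n,.o,.n,.o,.n,.o,.e⟩,⟨.o,.e,.e,.e,.o,.n,.n⟩⟩,
   ⟨⟨.o,.n,.o,.o,.o,.o,.o⟩,⟨.o,.e,.o,.o,.e,.o,.o⟩,⟨.n,.e,.o,.o,.e,.o,.o⟩,⟨.e,.e,.o,.n,.o,.o,.o⟩,⟨.n,.n,.o,.n,.e,.o,.n⟩,⟨.e,.o,.n,.n,.e,.o,.n⟩,⟨.o,.e,.e,.n,.n,.e,.o⟩⟩,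
   ⟨⟨.o,.e,.o,.o,.o,.o,.o⟩,⟨.o,.n,.o,.o,.e,.o,.o⟩,⟨.e,.o,.o,.o,.e,.o,.o⟩,⟨.n,.e,.o,.n,.n,.o,.o⟩,⟨.e,.n,.o,.n,.o,.o,.e⟩,⟨.n,.e,.n,.o,.n,.o,.e⟩,⟨.o,.o,.e,.e,.e,.n,.n⟩⟩,
   ⟨⟨.o,.o,.n,.o,.o,.e,.o⟩,⟨.o,.o,.e,.o,.o,.e,.o⟩,⟨.e,.o,.e,.n,.o,.o,.e⟩,⟨.n,.o,.e,.o,.o,.o,.e⟩,⟨.e,.o,.o,.e,.o,.e,.e⟩,⟨.n,.n,.e,.o,.e,.n,.o⟩,⟨.e,.e,.e,.e,.e,.n,.n⟩⟩,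
   ⟨⟨.o,.e,.o,.o,.o,.o,.o⟩,⟨.o,.n,.o,.o,.e,.o,.o⟩,⟨.e,.o,.o,.o,.e,.o,.o⟩,⟨.n,.e,.o,.n,.n,.o,.o⟩,⟨.e,.e,.o,.n,.o,.o,.e⟩,⟨.n,.o,.n,.o,.n,.o,.e⟩,⟨.e,.e,.e,.e,.e,.n,.n⟩⟩,
   ⟨⟨.o,.e,.o,.o,.o,.o,.o⟩,⟨.o,.n,.o,.o,.e,.o,.o⟩,⟨.e,.e,.o,.o,.o,.o,.o⟩,⟨.n,.o,.o,.n,.n,.o,.o⟩,⟨.e,.n,.o,.n,.e,.o,.e⟩,⟨.n,.e,.n,.e,.n,.o,.o⟩,⟨.e,.o,.e,.o,.e,.n,.n⟩⟩,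
   ⟨⟨.o,.n,.e,.o,.o,.o,.o⟩,⟨.o,.e,.n,.o,.n,.e,.o⟩,⟨.e,.e,.n,.o,.o,.o,.o⟩,⟨.n,.e,.n,.n,.n,.e,.o⟩,⟨.e,.o,.o,.n,.o,.o,.e⟩,⟨.n,.e,.o,.n,.e,.n,.o⟩,⟨.e,.e,.e,.n,.n,.n,.e⟩⟩,
   ⟨⟨.o,.o,.e,.o,.o,.o,.o⟩,⟨.o,.o,.n,.o,.o,.e,.o⟩,⟨.e,.o,.e,.o,.o,.n,.o⟩,⟨.n,.o,.o,.n,.o,.o,.o⟩,⟨.e,.o,.e,.n,.o,.o,.e⟩,⟨.n,.e,.e,.e,.o,.o,.n⟩,⟨.n,.n,.e,.o,.e,.n,.o⟩⟩,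
   ⟨⟨.o,.n,.o,.o,.e,.o,.o⟩,⟨.o,.e,.o,.o,.e,.o,.o⟩,⟨.e,.o,.o,.n,.n,.o,.e⟩,⟨.n,.n,.o,.o,.n,.o,.e⟩,⟨.e,.o,.o,.e,.o,.o,.e⟩,⟨.n,.o,.e,.e,.e,.n,.o⟩,⟨.n,.n,.n,.n,.n,.n,.n⟩⟩,
   ⟨⟨.o,.e,.o,.o,.o,.o,.o⟩,⟨.o,.n,.o,.o,.e,.o,.o⟩,⟨.e,.o,.o,.o,.e,.o,.o⟩,⟨.n,.e,.o,.n,.n,.o,.o⟩,⟨.e,.o,.o,.n,.o,.o,.e⟩,⟨.n,.n,.n,.o,.n,.o,.e⟩,⟨.n,.n,.e,.e,.e,.n,.n⟩⟩,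
   ⟨⟨.o,.e,.o,.o,.o,.o,.o⟩,⟨.o,.n,.o,.o,.e,.o,.o⟩,⟨.e,.o,.o,.o,.e,.o,.o⟩,⟨.n,.e,.o,.n,.n,.o,.o⟩,⟨.e,.o,.o,.n,.o,.o,.e⟩,⟨.n,.e,.n,.o,.n,.o,.e⟩,⟨.n,.o,.e,.e,.o,.n,.n⟩⟩]

/-- part 5 -/
def repPart5 : List M7 :=
  [⟨⟨.o,.o,.e,.e,.e,.o,.o⟩,⟨.e,.n,.e,.e,.e,.o,.o⟩,⟨.o,.o,.o,.o,.o,.n,.e⟩,⟨.o,.o,.o,.n,.e,.n,.e⟩,⟨.o,.e,.e,.n,.o,.n,.e⟩,⟨.o,.o,.o,.o,.o,.o,.n⟩,⟨.o,.o,.o,.o,.e,.e,.e⟩⟩,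
   ⟨⟨.o,.e,.o,.o,.o,.o,.o⟩,⟨.n,.e,.o,.o,.o,.o,.o⟩,⟨.o,.o,.o,.o,.e,.o,.o⟩,⟨.o,.o,.o,.n,.e,.o,.o⟩,⟨.o,.o,.e,.e,.e,.o,.o⟩,⟨.o,.o,.o,.o,.o,.o,.e⟩,⟨.o,.o,.o,.o,.o,.n,.e⟩⟩,
   ⟨⟨.o,.n,.o,.o,.o,.o,.o⟩,⟨.e,.e,.o,.o,.o,.o,.o⟩,⟨.o,.o,.o,.o,.e,.o,.o⟩,⟨.o,.o,.o,.n,.n,.o,.o⟩,⟨.o,.e,.e,.n,.e,.o,.o⟩,⟨.o,.o,.o,.o,.o,.o,.n⟩,⟨.o,.o,.o,.o,.e,.e,.e⟩⟩,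
   ⟨⟨.o,.e,.o,.o,.o,.o,.o⟩,⟨.n,.e,.o,.o,.o,.o,.o⟩,⟨.o,.o,.o,.o,.e,.o,.o⟩,⟨.o,.o,.o,.n,.e,.o,.o⟩,⟨.o,.e,.e,.e,.e,.o,.o⟩,⟨.o,.o,.o,.o,.o,.o,.e⟩,⟨.o,.o,.o,.o,.n,.n,.e⟩⟩,
   ⟨⟨.o,.o,.n,.e,.n,.e,.o⟩,⟨.e,.e,.e,.e,.n,.e,.o⟩,⟨.o,.o,.o,.o,.o,.e,.e⟩,⟨.o,.o,.o,.n,.n,.n,.e⟩,⟨.o,.n,.o,.n,.o,.e,.e⟩,⟨.o,.o,.n,.e,.n,.e,.n⟩,⟨.e,.e,.e,.e,.e,.e,.e⟩⟩,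
   ⟨⟨.o,.n,.o,.o,.o,.o,.o⟩,⟨.e,.e,.o,.o,.e,.o,.o⟩,⟨.o,.o,.o,.o,.e,.o,.o⟩,⟨.o,.o,.o,.n,.n,.o,.o⟩,⟨.o,.o,.e,.n,.e,.o,.n⟩,⟨.o,.n,.o,.o,.o,.o,.n⟩,⟨.e,.e,.o,.o,.e,.e,.e⟩⟩,
   ⟨⟨.o,.n,.o,.o,.o,.o,.o⟩,⟨.e,.e,.o,.o,.o,.o,.o⟩,⟨.o,.o,.o,.o,.e,.o,.o⟩,⟨.o,.o,.o,.n,.n,.o,.o⟩,⟨.o,.e,.e,.n,.e,.o,.o⟩,⟨.o,.n,.o,.o,.o,.o,.n⟩,⟨.e,.e,.o,.o,.e,.e,.e⟩⟩,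
   ⟨⟨.o,.n,.e,.o,.o,.o,.o⟩,⟨.n,.n,.e,.o,.o,.o,.o⟩,⟨.o,.o,.o,.o,.n,.e,.o⟩,⟨.o,.o,.o,.n,.n,.e,.o⟩,⟨.o,.n,.o,.e,.n,.e,.o⟩,⟨.o,.n,.e,.o,.o,.o,.e⟩,⟨.n,.n,.e,.o,.e,.o,.e⟩⟩,
   ⟨⟨.o,.o,.e,.e,.e,.o,.o⟩,⟨.e,.n,.e,.e,.e,.o,.o⟩,⟨.o,.o,.o,.o,.o,.n,.e⟩,⟨.o,.o,.o,.n,.e,.n,.e⟩,⟨.o,.e,.e,.n,.o,.n,.e⟩,⟨.o,.o,.n,.n,.n,.o,.n⟩,⟨.n,.e,.n,.n,.o,.e,.e⟩⟩,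
   ⟨⟨.o,.e,.e,.n,.e,.o,.o⟩,⟨.n,.o,.e,.n,.e,.o,.o⟩,⟨.o,.o,.o,.o,.e,.e,.e⟩,⟨.o,.o,.o,.n,.o,.e,.e⟩,⟨.o,.o,.e,.o,.o,.e,.e⟩,⟨.o,.n,.n,.e,.n,.o,.e⟩,⟨.e,.o,.n,.e,.n,.n,.o⟩⟩,
   ⟨⟨.o,.n,.o,.o,.o,.o,.o⟩,⟨.e,.n,.o,.o,.o,.o,.o⟩,⟨.o,.o,.o,.o,.e,.o,.o⟩,⟨.o,.o,.o,.n,.e,.o,.o⟩,⟨.o,.e,.e,.e,.e,.o,.o⟩,⟨.o,.e,.o,.o,.o,.o,.n⟩,⟨.n,.e,.o,.o,.e,.e,.n⟩⟩,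
   ⟨⟨.o,.e,.o,.o,.o,.o,.o⟩,⟨.n,.e,.o,.o,.o,.o,.o⟩,⟨.o,.o,.o,.o,.e,.o,.o⟩,⟨.o,.o,.o,.n,.e,.o,.o⟩,⟨.o,.e,.e,.e,.e,.o,.o⟩,⟨.o,.n,.o,.o,.o,.o,.e⟩,⟨.e,.n,.o,.o,.n,.n,.e⟩⟩,
   ⟨⟨.o,.o,.e,.n,.e,.o,.o⟩,⟨.n,.n,.e,.n,.e,.o,.o⟩,⟨.o,.o,.o,.o,.o,.e,.e⟩,⟨.o,.o,.n,.o,.e,.e,.e⟩,⟨.n,.e,.n,.n,.o,.e,.e⟩,⟨.o,.o,.o,.o,.o,.e,.n⟩,⟨.o,.o,.e,.e,.e,.o,.e⟩⟩,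
   ⟨⟨.o,.e,.e,.n,.e,.o,.o⟩,⟨.n,.o,.e,.n,.e,.o,.o⟩,⟨.o,.o,.o,.o,.e,.e,.e⟩,⟨.o,.n,.n,.o,.n,.e,.e⟩,⟨.n,.o,.n,.n,.e,.e,.e⟩,⟨.o,.o,.o,.o,.e,.e,.n⟩,⟨.o,.e,.e,.e,.e,.o,.e⟩⟩,
   ⟨⟨.o,.e,.e,.o,.o,.o,.o⟩,⟨.e,.n,.n,.o,.o,.o,.o⟩,⟨.o,.o,.o,.o,.n,.n,.o⟩,⟨.o,.n,.n,.n,.e,.e,.o⟩,⟨.e,.e,.o,.n,.n,.n,.o⟩,⟨.o,.o,.o,.o,.n,.n,.n⟩,⟨.o,.e,.e,.n,.o,.n,.e⟩⟩,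
   ⟨⟨.o,.e,.e,.o,.o,.o,.o⟩,⟨.n,.e,.e,.o,.o,.o,.o⟩,⟨.o,.o,.o,.o,.e,.e,.o⟩,⟨.o,.n,.n,.n,.e,.e,.o⟩,⟨.n,.n,.o,.e,.e,.e,.o⟩,⟨.o,.o,.o,.o,.e,.e,.e⟩,⟨.o,.e,.e,.n,.o,.n,.e⟩⟩,
   ⟨⟨.o,.o,.e,.n,.e,.o,.o⟩,⟨.n,.n,.e,.n,.e,.o,.o⟩,⟨.o,.o,.o,.o,.o,.e,.e⟩,⟨.o,.o,.n,.o,.e,.e,.e⟩,⟨.n,.e,.n,.n,.o,.e,.e⟩,⟨.o,.o,.e,.n,.e,.e,.n⟩,⟨.n,.n,.n,.o,.n,.o,.e⟩⟩,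
   ⟨⟨.o,.e,.o,.o,.o,.o,.o⟩,⟨.e,.o,.o,.o,.o,.o,.o⟩,⟨.o,.o,.o,.o,.n,.o,.o⟩,⟨.o,.n,.o,.n,.o,.o,.o⟩,⟨.e,.o,.n,.o,.o,.o,.o⟩,⟨.o,.e,.o,.o,.n,.o,.n⟩,⟨.e,.e,.o,.n,.o,.n,.o⟩⟩,
   ⟨⟨.o,.e,.e,.o,.o,.o,.o⟩,⟨.n,.e,.e,.o,.o,.o,.o⟩,⟨.o,.o,.o,.o,.e,.e,.o⟩,⟨.o,.n,.n,.n,.e,.e,.o⟩,⟨.n,.o,.e,.e,.e,.e,.o⟩,⟨.o,.e,.e,.o,.e,.e,.e⟩,⟨.n,.n,.n,.n,.n,.e,.e⟩⟩,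
   ⟨⟨.o,.n,.e,.o,.o,.o,.o⟩,⟨.n,.n,.e,.o,.o,.o,.o⟩,⟨.o,.o,.o,.o,.n,.e,.o⟩,⟨.o,.e,.n,.n,.n,.e,.o⟩,⟨.n,.e,.e,.e,.n,.e,.o⟩,⟨.o,.n,.e,.o,.n,.e,.e⟩,⟨.n,.e,.n,.n,.o,.e,.e⟩⟩,
   ⟨⟨.o,.o,.e,.n,.e,.o,.o⟩,⟨.n,.n,.e,.n,.e,.o,.o⟩,⟨.o,.o,.o,.o,.o,.e,.e⟩,⟨.o,.o,.n,.o,.e,.e,.e⟩,⟨.n,.e,.n,.n,.o,.e,.e⟩,⟨.o,.o,.n,.e,.n,.e,.n⟩,⟨.e,.e,.o,.n,.o,.o,.e⟩⟩,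
   ⟨⟨.o,.e,.e,.n,.e,.o,.o⟩,⟨.n,.o,.e,.n,.e,.o,.o⟩,⟨.o,.o,.o,.o,.e,.e,.e⟩,⟨.o,.n,.n,.o,.n,.e,.e⟩,⟨.n,.o,.n,.n,.e,.e,.e⟩,⟨.o,.n,.n,.e,.o,.e,.n⟩,⟨.e,.e,.o,.n,.o,.o,.e⟩⟩,
   ⟨⟨.o,.n,.e,.n,.e,.o,.o⟩,⟨.n,.e,.e,.n,.e,.o,.o⟩,⟨.o,.o,.o,.o,.n,.e,.e⟩,⟨.o,.e,.n,.o,.o,.e,.e⟩,⟨.n,.n,.n,.n,.n,.e,.e⟩,⟨.o,.e,.n,.e,.e,.e,.n⟩,⟨.e,.e,.o,.n,.o,.o,.e⟩⟩,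
   ⟨⟨.o,.e,.o,.o,.o,.o,.o⟩,⟨.n,.o,.o,.o,.n,.o,.o⟩,⟨.o,.o,.o,.o,.e,.o,.o⟩,⟨.o,.n,.o,.n,.o,.o,.o⟩,⟨.n,.e,.e,.o,.n,.o,.n⟩,⟨.o,.n,.o,.o,.e,.o,.e⟩,⟨.e,.e,.o,.n,.o,.n,.o⟩⟩,
   ⟨⟨.o,.o,.n,.o,.o,.o,.o⟩,⟨.n,.o,.n,.o,.o,.o,.o⟩,⟨.o,.o,.o,.o,.o,.n,.o⟩,⟨.o,.o,.n,.n,.o,.n,.o⟩,⟨.e,.e,.n,.e,.o,.n,.o⟩,⟨.o,.o,.o,.o,.o,.e,.e⟩,⟨.o,.o,.n,.e,.n,.o,.e⟩⟩,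
   ⟨⟨.o,.n,.n,.o,.o,.o,.o⟩,⟨.e,.e,.e,.o,.o,.o,.o⟩,⟨.o,.o,.o,.o,.e,.e,.o⟩,⟨.o,.n,.n,.n,.n,.n,.o⟩,⟨.n,.n,.o,.n,.e,.e,.o⟩,⟨.o,.o,.o,.o,.n,.n,.n⟩,⟨.o,.n,.n,.e,.e,.n,.e⟩⟩,
   ⟨⟨.o,.e,.e,.o,.o,.o,.o⟩,⟨.e,.n,.n,.o,.o,.o,.o⟩,⟨.o,.o,.o,.o,.n,.n,.o⟩,⟨.o,.e,.e,.n,.e,.e,.o⟩,⟨.n,.o,.n,.n,.n,.n,.o⟩,⟨.o,.o,.o,.o,.e,.e,.n⟩,⟨.o,.e,.e,.e,.e,.o,.e⟩⟩,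
   ⟨⟨.o,.n,.n,.o,.o,.o,.o⟩,⟨.n,.n,.n,.o,.o,.o,.o⟩,⟨.o,.o,.o,.o,.n,.n,.o⟩,⟨.o,.n,.n,.n,.n,.n,.o⟩,⟨.e,.o,.n,.e,.n,.n,.o⟩,⟨.o,.o,.o,.o,.e,.e,.e⟩,⟨.o,.n,.n,.e,.n,.o,.e⟩⟩,
   ⟨⟨.o,.o,.n,.e,.n,.o,.o⟩,⟨.n,.n,.n,.e,.n,.o,.o⟩,⟨.o,.o,.o,.o,.o,.n,.n⟩,⟨.o,.o,.n,.o,.e,.n,.n⟩,⟨.e,.n,.n,.n,.o,.n,.n⟩,⟨.o,.o,.n,.e,.n,.e,.n⟩,⟨.n,.n,.e,.o,.e,.o,.e⟩⟩,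
   ⟨⟨.o,.e,.o,.o,.o,.o,.o⟩,⟨.n,.o,.o,.o,.o,.o,.o⟩,⟨.o,.o,.o,.o,.e,.o,.o⟩,⟨.o,.e,.o,.n,.o,.o,.o⟩,⟨.e,.o,.e,.o,.o,.o,.o⟩,⟨.o,.e,.o,.o,.n,.o,.e⟩,⟨.n,.e,.o,.e,.o,.n,.o⟩⟩,
   ⟨⟨.o,.n,.o,.o,.o,.o,.o⟩,⟨.e,.n,.o,.o,.o,.o,.o⟩,⟨.o,.o,.o,.o,.e,.o,.o⟩,⟨.o,.n,.o,.n,.e,.o,.o⟩,⟨.n,.n,.e,.e,.e,.o,.o⟩,⟨.o,.n,.o,.o,.n,.o,.n⟩,⟨.e,.e,.o,.e,.o,.e,.n⟩⟩,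
   ⟨⟨.o,.e,.o,.o,.o,.o,.o⟩,⟨.n,.o,.o,.o,.e,.o,.o⟩,⟨.o,.o,.o,.o,.e,.o,.o⟩,⟨.o,.e,.o,.n,.o,.o,.o⟩,⟨.e,.e,.e,.o,.n,.o,.e⟩,⟨.o,.e,.o,.o,.n,.o,.e⟩,⟨.n,.e,.o,.e,.o,.n,.o⟩⟩]

/-- part 6 -/
def repPart6 : List M7 :=
  [⟨⟨.o,.o,.e,.e,.e,.o,.o⟩,⟨.e,.n,.e,.e,.e,.o,.o⟩,⟨.o,.o,.o,.o,.o,.n,.e⟩,⟨.o,.o,.e,.o,.n,.n,.e⟩,⟨.n,.n,.o,.e,.n,.n,.e⟩,⟨.o,.o,.n,.n,.n,.e,.e⟩,⟨.n,.e,.o,.e,.o,.n,.o⟩⟩,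
   ⟨⟨.o,.e,.o,.o,.o,.o,.o⟩,⟨.n,.o,.o,.o,.o,.o,.o⟩,⟨.o,.o,.o,.o,.e,.o,.o⟩,⟨.o,.e,.o,.n,.o,.o,.o⟩,⟨.e,.o,.e,.o,.o,.o,.o⟩,⟨.o,.n,.o,.o,.n,.o,.e⟩,⟨.e,.e,.o,.e,.o,.n,.o⟩⟩,
   ⟨⟨.o,.n,.n,.o,.o,.o,.o⟩,⟨.n,.e,.e,.o,.o,.o,.o⟩,⟨.o,.o,.o,.o,.n,.n,.o⟩,⟨.o,.n,.n,.n,.e,.e,.o⟩,⟨.e,.o,.n,.n,.n,.n,.o⟩,⟨.o,.e,.e,.o,.e,.e,.e⟩,⟨.e,.e,.e,.e,.e,.n,.n⟩⟩,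
   ⟨⟨.o,.e,.o,.o,.o,.o,.o⟩,⟨.n,.o,.o,.o,.o,.o,.o⟩,⟨.o,.o,.o,.o,.e,.o,.o⟩,⟨.o,.e,.o,.n,.o,.o,.o⟩,⟨.e,.e,.e,.o,.o,.o,.o⟩,⟨.o,.n,.o,.o,.n,.o,.e⟩,⟨.e,.e,.o,.e,.n,.n,.o⟩⟩,
   ⟨⟨.o,.o,.e,.e,.e,.o,.o⟩,⟨.e,.n,.e,.e,.e,.o,.o⟩,⟨.o,.o,.n,.n,.n,.n,.e⟩,⟨.e,.n,.e,.o,.n,.n,.e⟩,⟨.o,.e,.e,.n,.o,.n,.e⟩,⟨.n,.e,.n,.e,.o,.n,.o⟩,⟨.o,.e,.e,.n,.e,.o,.n⟩⟩,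
   ⟨⟨.o,.e,.o,.o,.o,.o,.o⟩,⟨.n,.n,.o,.o,.n,.o,.o⟩,⟨.o,.n,.o,.o,.e,.o,.o⟩,⟨.n,.n,.o,.n,.e,.o,.o⟩,⟨.o,.o,.e,.n,.e,.o,.n⟩,⟨.e,.e,.o,.n,.o,.o,.e⟩,⟨.o,.o,.e,.n,.e,.n,.e⟩⟩,
   ⟨⟨.o,.e,.o,.o,.o,.o,.o⟩,⟨.n,.o,.o,.o,.o,.o,.o⟩,⟨.o,.n,.o,.o,.e,.o,.o⟩,⟨.n,.o,.o,.n,.o,.o,.o⟩,⟨.o,.n,.e,.o,.o,.o,.o⟩,⟨.e,.o,.o,.n,.o,.o,.e⟩,⟨.o,.n,.e,.o,.e,.n,.o⟩⟩,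
   ⟨⟨.o,.e,.o,.o,.o,.o,.o⟩,⟨.n,.n,.o,.o,.n,.o,.o⟩,⟨.o,.n,.o,.o,.e,.o,.o⟩,⟨.n,.n,.o,.n,.e,.o,.o⟩,⟨.o,.e,.e,.n,.e,.o,.n⟩,⟨.e,.e,.o,.n,.o,.o,.e⟩,⟨.o,.e,.e,.n,.o,.n,.e⟩⟩,
   ⟨⟨.o,.o,.e,.o,.o,.o,.o⟩,⟨.n,.o,.o,.o,.o,.o,.o⟩,⟨.o,.o,.n,.o,.o,.e,.o⟩,⟨.n,.o,.o,.n,.o,.o,.o⟩,⟨.o,.n,.e,.o,.o,.o,.o⟩,⟨.e,.o,.e,.n,.o,.o,.e⟩,⟨.n,.n,.e,.o,.e,.n,.o⟩⟩,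
   ⟨⟨.o,.e,.o,.o,.o,.o,.o⟩,⟨.n,.o,.o,.o,.o,.o,.o⟩,⟨.o,.n,.o,.o,.e,.o,.o⟩,⟨.n,.o,.o,.n,.o,.o,.o⟩,⟨.o,.o,.e,.o,.o,.o,.o⟩,⟨.e,.e,.o,.n,.o,.o,.e⟩,⟨.n,.o,.e,.o,.o,.n,.o⟩⟩,
   ⟨⟨.o,.e,.o,.o,.o,.o,.o⟩,⟨.n,.o,.o,.o,.o,.o,.o⟩,⟨.o,.n,.o,.o,.e,.o,.o⟩,⟨.n,.o,.o,.n,.o,.o,.o⟩,⟨.o,.n,.e,.o,.o,.o,.o⟩,⟨.e,.e,.o,.n,.o,.o,.e⟩,⟨.n,.n,.e,.o,.e,.n,.o⟩⟩,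
   ⟨⟨.o,.e,.o,.o,.o,.o,.o⟩,⟨.n,.e,.o,.o,.e,.o,.o⟩,⟨.o,.n,.o,.o,.e,.o,.o⟩,⟨.n,.e,.o,.n,.n,.o,.o⟩,⟨.o,.e,.e,.e,.e,.o,.e⟩,⟨.e,.o,.o,.n,.o,.o,.e⟩,⟨.n,.n,.e,.e,.e,.n,.n⟩⟩,
   ⟨⟨.o,.o,.n,.o,.o,.o,.o⟩,⟨.n,.o,.o,.o,.o,.n,.o⟩,⟨.o,.o,.e,.o,.o,.n,.o⟩,⟨.n,.o,.o,.n,.o,.n,.o⟩,⟨.o,.e,.n,.o,.o,.o,.e⟩,⟨.e,.o,.e,.n,.o,.e,.e⟩,⟨.e,.e,.n,.o,.n,.n,.e⟩⟩,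
   ⟨⟨.o,.e,.o,.o,.o,.o,.o⟩,⟨.n,.e,.o,.o,.e,.o,.o⟩,⟨.o,.n,.o,.o,.e,.o,.o⟩,⟨.n,.e,.o,.n,.n,.o,.o⟩,⟨.o,.o,.e,.e,.e,.o,.e⟩,⟨.e,.e,.o,.n,.o,.o,.e⟩,⟨.e,.n,.e,.e,.o,.n,.n⟩⟩,
   ⟨⟨.o,.e,.o,.o,.o,.o,.o⟩,⟨.n,.e,.o,.o,.e,.o,.o⟩,⟨.o,.n,.o,.o,.e,.o,.o⟩,⟨.n,.e,.o,.n,.n,.o,.o⟩,⟨.o,.n,.e,.e,.e,.o,.e⟩,⟨.e,.e,.o,.n,.o,.o,.e⟩,⟨.e,.e,.e,.e,.e,.n,.n⟩⟩,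
   ⟨⟨.o,.e,.o,.o,.o,.o,.o⟩,⟨.e,.n,.o,.o,.e,.o,.o⟩,⟨.o,.n,.o,.o,.n,.o,.o⟩,⟨.e,.n,.o,.n,.n,.o,.o⟩,⟨.o,.e,.n,.n,.n,.o,.e⟩,⟨.n,.o,.o,.n,.o,.o,.n⟩,⟨.n,.n,.n,.n,.n,.n,.n⟩⟩,
   ⟨⟨.o,.o,.e,.o,.o,.o,.o⟩,⟨.n,.o,.n,.o,.o,.e,.o⟩,⟨.o,.o,.n,.o,.o,.e,.o⟩,⟨.n,.o,.e,.n,.o,.o,.o⟩,⟨.n,.n,.o,.n,.o,.n,.e⟩,⟨.e,.o,.n,.n,.o,.n,.e⟩,⟨.o,.n,.n,.e,.e,.n,.o⟩⟩,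
   ⟨⟨.o,.e,.o,.o,.o,.o,.o⟩,⟨.n,.o,.o,.o,.e,.o,.o⟩,⟨.o,.n,.o,.o,.e,.o,.o⟩,⟨.n,.n,.o,.n,.e,.o,.o⟩,⟨.n,.o,.e,.o,.e,.o,.e⟩,⟨.e,.e,.o,.n,.o,.o,.e⟩,⟨.o,.e,.e,.n,.o,.n,.e⟩⟩,
   ⟨⟨.o,.e,.o,.o,.o,.o,.o⟩,⟨.n,.o,.o,.o,.e,.o,.o⟩,⟨.o,.n,.o,.o,.e,.o,.o⟩,⟨.n,.n,.o,.n,.e,.o,.o⟩,⟨.n,.n,.e,.o,.e,.o,.e⟩,⟨.e,.e,.o,.n,.o,.o,.e⟩,⟨.o,.o,.e,.n,.e,.n,.e⟩⟩,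
   ⟨⟨.o,.n,.o,.o,.o,.o,.o⟩,⟨.e,.o,.o,.o,.o,.o,.o⟩,⟨.o,.e,.o,.o,.e,.o,.o⟩,⟨.e,.e,.o,.n,.o,.o,.o⟩,⟨.e,.n,.e,.o,.o,.o,.o⟩,⟨.n,.n,.o,.n,.e,.o,.n⟩,⟨.o,.e,.e,.n,.n,.e,.o⟩⟩,
   ⟨⟨.o,.o,.e,.o,.o,.o,.o⟩,⟨.n,.o,.n,.o,.o,.o,.o⟩,⟨.o,.o,.n,.o,.o,.e,.o⟩,⟨.n,.o,.e,.n,.o,.n,.o⟩,⟨.n,.n,.o,.n,.o,.e,.o⟩,⟨.e,.o,.o,.n,.o,.o,.e⟩,⟨.n,.n,.e,.e,.e,.n,.n⟩⟩,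
   ⟨⟨.o,.e,.o,.o,.o,.o,.o⟩,⟨.n,.o,.o,.o,.e,.o,.o⟩,⟨.o,.n,.o,.o,.e,.o,.o⟩,⟨.n,.n,.o,.n,.e,.o,.o⟩,⟨.n,.o,.e,.o,.e,.o,.e⟩,⟨.e,.n,.o,.n,.o,.o,.e⟩,⟨.n,.e,.e,.n,.e,.n,.e⟩⟩,
   ⟨⟨.o,.e,.o,.o,.o,.o,.o⟩,⟨.n,.n,.o,.o,.o,.o,.o⟩,⟨.o,.n,.o,.o,.e,.o,.o⟩,⟨.n,.e,.o,.n,.n,.o,.o⟩,⟨.n,.e,.e,.n,.e,.o,.o⟩,⟨.e,.o,.o,.n,.o,.o,.e⟩,⟨.n,.n,.e,.e,.e,.n,.n⟩⟩,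
   ⟨⟨.o,.e,.o,.o,.o,.o,.o⟩,⟨.n,.o,.o,.o,.e,.o,.o⟩,⟨.o,.n,.o,.o,.e,.o,.o⟩,⟨.n,.n,.o,.n,.e,.o,.o⟩,⟨.n,.e,.e,.o,.e,.o,.e⟩,⟨.e,.n,.o,.n,.o,.o,.e⟩,⟨.n,.n,.e,.n,.o,.n,.e⟩⟩,
   ⟨⟨.o,.o,.n,.o,.o,.o,.o⟩,⟨.n,.o,.n,.o,.o,.o,.o⟩,⟨.o,.o,.e,.o,.o,.n,.o⟩,⟨.n,.o,.o,.n,.o,.n,.o⟩,⟨.n,.e,.e,.e,.o,.n,.o⟩,⟨.e,.o,.e,.n,.o,.e,.e⟩,⟨.e,.e,.n,.o,.n,.n,.e⟩⟩,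
   ⟨⟨.o,.e,.o,.o,.o,.o,.o⟩,⟨.n,.n,.o,.o,.o,.o,.o⟩,⟨.o,.n,.o,.o,.e,.o,.o⟩,⟨.n,.e,.o,.n,.n,.o,.o⟩,⟨.n,.n,.e,.n,.e,.o,.o⟩,⟨.e,.e,.o,.n,.o,.o,.e⟩,⟨.e,.n,.e,.e,.o,.n,.n⟩⟩,
   ⟨⟨.o,.e,.o,.o,.o,.o,.o⟩,⟨.n,.n,.o,.o,.o,.o,.o⟩,⟨.o,.n,.o,.o,.e,.o,.o⟩,⟨.n,.e,.o,.n,.n,.o,.o⟩,⟨.n,.e,.e,.n,.e,.o,.o⟩,⟨.e,.e,.o,.n,.o,.o,.e⟩,⟨.e,.e,.e,.e,.e,.n,.n⟩⟩,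
   ⟨⟨.o,.n,.e,.o,.o,.o,.o⟩,⟨.n,.e,.n,.o,.o,.o,.o⟩,⟨.o,.e,.n,.o,.n,.e,.o⟩,⟨.n,.n,.e,.n,.e,.n,.o⟩,⟨.n,.o,.n,.n,.n,.e,.o⟩,⟨.e,.n,.e,.n,.o,.o,.e⟩,⟨.e,.o,.n,.e,.e,.o,.n⟩⟩,
   ⟨⟨.o,.o,.e,.o,.o,.o,.o⟩,⟨.n,.o,.o,.o,.o,.o,.o⟩,⟨.o,.o,.n,.o,.o,.e,.o⟩,⟨.n,.o,.e,.n,.o,.o,.o⟩,⟨.e,.n,.e,.o,.o,.o,.o⟩,⟨.e,.o,.n,.n,.o,.n,.e⟩,⟨.o,.n,.n,.e,.e,.n,.o⟩⟩,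
   ⟨⟨.o,.e,.o,.o,.o,.o,.o⟩,⟨.n,.e,.o,.o,.o,.o,.o⟩,⟨.o,.n,.o,.o,.e,.o,.o⟩,⟨.n,.n,.o,.n,.e,.o,.o⟩,⟨.e,.n,.e,.e,.e,.o,.o⟩,⟨.e,.e,.o,.n,.o,.o,.e⟩,⟨.o,.e,.e,.n,.o,.n,.e⟩⟩,
   ⟨⟨.o,.e,.o,.o,.o,.o,.o⟩,⟨.n,.e,.o,.o,.o,.o,.o⟩,⟨.o,.n,.o,.o,.e,.o,.o⟩,⟨.n,.n,.o,.n,.e,.o,.o⟩,⟨.e,.e,.e,.e,.e,.o,.o⟩,⟨.e,.e,.o,.n,.o,.o,.e⟩,⟨.o,.o,.e,.n,.e,.n,.e⟩⟩,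
   ⟨⟨.o,.n,.e,.o,.o,.o,.o⟩,⟨.n,.n,.e,.o,.o,.o,.o⟩,⟨.o,.e,.n,.o,.n,.e,.o⟩,⟨.n,.e,.n,.n,.n,.e,.o⟩,⟨.e,.o,.n,.e,.n,.e,.o⟩,⟨.e,.n,.e,.n,.o,.o,.e⟩,⟨.o,.e,.e,.n,.e,.o,.e⟩⟩]

/-- part 7 -/
def repPart7 : List M7 :=
  [⟨⟨.o,.o,.e,.o,.o,.o,.o⟩,⟨.n,.o,.n,.o,.o,.e,.o⟩,⟨.o,.o,.n,.o,.o,.e,.o⟩,⟨.n,.o,.o,.n,.o,.o,.o⟩,⟨.e,.n,.n,.n,.o,.o,.e⟩,⟨.e,.o,.e,.n,.o,.o,.e⟩,⟨.n,.n,.e,.o,.e,.n,.o⟩⟩,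
   ⟨⟨.o,.e,.o,.o,.o,.o,.o⟩,⟨.n,.e,.o,.o,.o,.o,.o⟩,⟨.o,.n,.o,.o,.e,.o,.o⟩,⟨.n,.n,.o,.n,.e,.o,.o⟩,⟨.e,.n,.e,.e,.e,.o,.o⟩,⟨.e,.n,.o,.n,.o,.o,.e⟩,⟨.n,.n,.e,.n,.o,.n,.e⟩⟩,
   ⟨⟨.o,.e,.o,.o,.o,.o,.o⟩,⟨.n,.e,.o,.o,.o,.o,.o⟩,⟨.o,.n,.o,.o,.e,.o,.o⟩,⟨.n,.n,.o,.n,.e,.o,.o⟩,⟨.e,.e,.e,.e,.e,.o,.o⟩,⟨.e,.n,.o,.n,.o,.o,.e⟩,⟨.n,.e,.e,.n,.e,.n,.e⟩⟩,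
   ⟨⟨.o,.n,.o,.o,.o,.o,.o⟩,⟨.e,.e,.o,.o,.o,.o,.o⟩,⟨.o,.e,.o,.o,.e,.o,.o⟩,⟨.e,.o,.o,.n,.n,.o,.o⟩,⟨.n,.e,.e,.n,.e,.o,.o⟩,⟨.n,.n,.o,.n,.e,.o,.n⟩,⟨.e,.n,.e,.o,.e,.e,.e⟩⟩,
   ⟨⟨.o,.o,.e,.e,.e,.o,.o⟩,⟨.e,.n,.n,.n,.n,.o,.o⟩,⟨.o,.o,.n,.n,.n,.n,.e⟩,⟨.e,.n,.o,.n,.e,.e,.n⟩,⟨.n,.n,.n,.e,.o,.n,.e⟩,⟨.n,.e,.n,.e,.o,.n,.o⟩,⟨.n,.n,.o,.o,.e,.n,.n⟩⟩,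
   ⟨⟨.o,.e,.o,.o,.o,.o,.o⟩,⟨.n,.o,.o,.o,.n,.o,.o⟩,⟨.o,.n,.o,.o,.e,.o,.o⟩,⟨.n,.e,.o,.n,.n,.o,.o⟩,⟨.e,.o,.e,.o,.e,.o,.n⟩,⟨.e,.e,.o,.n,.o,.o,.e⟩,⟨.e,.e,.e,.e,.e,.n,.n⟩⟩,
   ⟨⟨.o,.n,.e,.o,.o,.o,.o⟩,⟨.n,.n,.e,.o,.o,.o,.o⟩,⟨.o,.e,.n,.o,.n,.e,.o⟩,⟨.n,.e,.n,.n,.n,.e,.o⟩,⟨.e,.n,.o,.e,.n,.e,.o⟩,⟨.e,.o,.o,.n,.o,.o,.e⟩,⟨.e,.e,.e,.n,.n,.n,.e⟩⟩,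
   ⟨⟨.o,.e,.o,.o,.o,.o,.o⟩,⟨.n,.o,.o,.o,.n,.o,.o⟩,⟨.o,.n,.o,.o,.e,.o,.o⟩,⟨.n,.e,.o,.n,.n,.o,.o⟩,⟨.e,.e,.e,.o,.e,.o,.n⟩,⟨.e,.e,.o,.n,.o,.o,.e⟩,⟨.e,.n,.e,.e,.o,.n,.n⟩⟩,
   ⟨⟨.o,.o,.e,.o,.o,.o,.o⟩,⟨.n,.o,.e,.o,.o,.n,.o⟩,⟨.o,.o,.e,.o,.o,.e,.o⟩,⟨.e,.o,.n,.n,.o,.n,.o⟩,⟨.o,.n,.n,.e,.o,.e,.n⟩,⟨.e,.o,.n,.e,.o,.o,.e⟩,⟨.o,.e,.e,.n,.e,.o,.n⟩⟩,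
   ⟨⟨.o,.e,.o,.o,.o,.o,.o⟩,⟨.e,.e,.o,.o,.e,.o,.o⟩,⟨.o,.e,.o,.o,.n,.o,.o⟩,⟨.n,.n,.o,.n,.e,.o,.o⟩,⟨.o,.o,.n,.e,.n,.o,.e⟩,⟨.n,.n,.o,.e,.o,.o,.n⟩,⟨.o,.o,.e,.n,.e,.n,.e⟩⟩,
   ⟨⟨.o,.e,.o,.o,.o,.o,.o⟩,⟨.e,.e,.o,.o,.e,.o,.o⟩,⟨.o,.e,.o,.o,.n,.o,.o⟩,⟨.n,.n,.o,.n,.e,.o,.o⟩,⟨.o,.n,.n,.e,.n,.o,.e⟩,⟨.n,.n,.o,.e,.o,.o,.n⟩,⟨.o,.e,.e,.n,.o,.n,.e⟩⟩,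
   ⟨⟨.o,.e,.o,.o,.o,.o,.o⟩,⟨.n,.n,.o,.o,.e,.o,.o⟩,⟨.o,.e,.o,.o,.e,.o,.o⟩,⟨.e,.e,.o,.n,.e,.o,.o⟩,⟨.o,.e,.e,.n,.e,.o,.e⟩,⟨.e,.e,.o,.e,.o,.o,.e⟩,⟨.o,.n,.n,.e,.e,.n,.e⟩⟩,
   ⟨⟨.o,.o,.e,.o,.o,.o,.o⟩,⟨.n,.o,.o,.o,.o,.e,.o⟩,⟨.o,.o,.e,.o,.o,.e,.o⟩,⟨.e,.o,.o,.n,.o,.n,.o⟩,⟨.o,.n,.o,.o,.o,.o,.e⟩,⟨.e,.o,.e,.e,.o,.n,.e⟩,⟨.n,.e,.o,.o,.e,.e,.n⟩⟩,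
   ⟨⟨.o,.n,.o,.o,.o,.o,.o⟩,⟨.e,.o,.o,.o,.o,.o,.o⟩,⟨.o,.n,.o,.o,.e,.o,.o⟩,⟨.n,.o,.o,.n,.o,.o,.o⟩,⟨.o,.o,.e,.o,.o,.o,.o⟩,⟨.n,.n,.o,.e,.o,.o,.n⟩,⟨.e,.o,.n,.o,.o,.e,.o⟩⟩,
   ⟨⟨.o,.n,.n,.o,.o,.o,.o⟩,⟨.n,.n,.n,.o,.o,.o,.o⟩,⟨.o,.n,.n,.o,.n,.n,.o⟩,⟨.e,.e,.e,.n,.n,.n,.o⟩,⟨.o,.e,.o,.e,.n,.n,.o⟩,⟨.e,.o,.o,.e,.e,.e,.e⟩,⟨.n,.e,.n,.n,.o,.e,.e⟩⟩,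
   ⟨⟨.o,.n,.o,.o,.o,.o,.o⟩,⟨.e,.o,.o,.o,.o,.o,.o⟩,⟨.o,.n,.o,.o,.e,.o,.o⟩,⟨.n,.o,.o,.n,.o,.o,.o⟩,⟨.o,.n,.e,.o,.o,.o,.o⟩,⟨.n,.n,.o,.e,.o,.o,.n⟩,⟨.e,.e,.n,.o,.n,.e,.o⟩⟩,
   ⟨⟨.o,.o,.e,.o,.o,.o,.o⟩,⟨.n,.o,.n,.o,.o,.o,.o⟩,⟨.o,.o,.e,.o,.o,.e,.o⟩,⟨.e,.o,.e,.n,.o,.n,.o⟩,⟨.o,.n,.o,.n,.o,.e,.o⟩,⟨.e,.o,.o,.e,.o,.e,.e⟩,⟨.e,.e,.e,.e,.e,.n,.n⟩⟩,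
   ⟨⟨.o,.e,.o,.o,.o,.o,.o⟩,⟨.e,.e,.o,.o,.e,.o,.o⟩,⟨.o,.e,.o,.o,.n,.o,.o⟩,⟨.n,.n,.o,.n,.e,.o,.o⟩,⟨.o,.o,.n,.e,.n,.o,.e⟩,⟨.n,.e,.o,.e,.o,.o,.n⟩,⟨.n,.n,.e,.n,.o,.n,.e⟩⟩,
   ⟨⟨.o,.e,.o,.o,.o,.o,.o⟩,⟨.n,.o,.o,.o,.o,.o,.o⟩,⟨.o,.e,.o,.o,.e,.o,.o⟩,⟨.e,.o,.o,.n,.o,.o,.o⟩,⟨.o,.n,.e,.o,.o,.o,.o⟩,⟨.e,.n,.o,.e,.o,.o,.e⟩,⟨.e,.e,.n,.o,.e,.n,.o⟩⟩,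
   ⟨⟨.o,.n,.e,.o,.o,.o,.o⟩,⟨.n,.o,.o,.o,.o,.o,.o⟩,⟨.o,.n,.e,.o,.n,.e,.o⟩,⟨.e,.o,.o,.n,.o,.o,.o⟩,⟨.o,.n,.o,.o,.o,.o,.o⟩,⟨.e,.e,.n,.e,.o,.o,.e⟩,⟨.e,.e,.o,.o,.e,.o,.o⟩⟩,
   ⟨⟨.o,.o,.e,.o,.o,.o,.o⟩,⟨.n,.o,.o,.o,.o,.e,.o⟩,⟨.o,.o,.e,.o,.o,.e,.o⟩,⟨.e,.o,.n,.n,.o,.n,.o⟩,⟨.n,.n,.o,.o,.o,.e,.e⟩,⟨.e,.o,.n,.e,.o,.o,.e⟩,⟨.o,.e,.e,.n,.e,.o,.n⟩⟩,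
   ⟨⟨.o,.e,.o,.o,.o,.o,.o⟩,⟨.e,.e,.o,.o,.o,.o,.o⟩,⟨.o,.e,.o,.o,.n,.o,.o⟩,⟨.n,.e,.o,.n,.n,.o,.o⟩,⟨.e,.e,.n,.e,.n,.o,.o⟩,⟨.n,.e,.o,.e,.o,.o,.n⟩,⟨.o,.e,.e,.e,.o,.n,.n⟩⟩,
   ⟨⟨.o,.e,.o,.o,.o,.o,.o⟩,⟨.n,.e,.o,.o,.o,.o,.o⟩,⟨.o,.e,.o,.o,.e,.o,.o⟩,⟨.e,.e,.o,.n,.e,.o,.o⟩,⟨.n,.o,.e,.e,.e,.o,.o⟩,⟨.e,.e,.o,.e,.o,.o,.e⟩,⟨.o,.n,.n,.e,.e,.n,.e⟩⟩,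
   ⟨⟨.o,.e,.o,.o,.o,.o,.o⟩,⟨.n,.e,.o,.o,.o,.o,.o⟩,⟨.o,.e,.o,.o,.e,.o,.o⟩,⟨.e,.e,.o,.n,.e,.o,.o⟩,⟨.n,.n,.e,.e,.e,.o,.o⟩,⟨.e,.e,.o,.e,.o,.o,.e⟩,⟨.o,.o,.n,.e,.n,.n,.e⟩⟩,
   ⟨⟨.o,.o,.e,.o,.o,.o,.o⟩,⟨.n,.o,.n,.o,.o,.o,.o⟩,⟨.o,.o,.e,.o,.o,.e,.o⟩,⟨.e,.o,.o,.n,.o,.n,.o⟩,⟨.n,.n,.n,.n,.o,.e,.o⟩,⟨.e,.o,.e,.e,.o,.n,.e⟩,⟨.n,.e,.o,.o,.e,.e,.n⟩⟩,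
   ⟨⟨.o,.e,.o,.o,.o,.o,.o⟩,⟨.e,.n,.o,.o,.e,.o,.o⟩,⟨.o,.e,.o,.o,.n,.o,.o⟩,⟨.n,.o,.o,.n,.o,.o,.o⟩,⟨.e,.n,.n,.n,.o,.o,.e⟩,⟨.n,.e,.o,.e,.o,.o,.n⟩,⟨.e,.o,.e,.o,.o,.n,.o⟩⟩,
   ⟨⟨.o,.e,.o,.o,.o,.o,.o⟩,⟨.n,.o,.o,.o,.e,.o,.o⟩,⟨.o,.e,.o,.o,.e,.o,.o⟩,⟨.e,.n,.o,.n,.n,.o,.o⟩,⟨.n,.n,.e,.o,.e,.o,.e⟩,⟨.e,.o,.o,.e,.o,.o,.e⟩,⟨.n,.n,.n,.n,.n,.n,.n⟩⟩,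
   ⟨⟨.o,.n,.e,.o,.o,.o,.o⟩,⟨.n,.n,.e,.o,.o,.o,.o⟩,⟨.o,.n,.e,.o,.n,.e,.o⟩,⟨.e,.n,.e,.n,.n,.e,.o⟩,⟨.n,.e,.e,.e,.n,.e,.o⟩,⟨.e,.e,.n,.e,.o,.o,.e⟩,⟨.n,.n,.n,.e,.e,.o,.e⟩⟩,
   ⟨⟨.o,.o,.e,.o,.o,.o,.o⟩,⟨.n,.o,.e,.o,.o,.n,.o⟩,⟨.o,.o,.e,.o,.o,.e,.o⟩,⟨.e,.o,.e,.n,.o,.n,.o⟩,⟨.n,.n,.o,.e,.o,.o,.n⟩,⟨.e,.o,.o,.e,.o,.e,.e⟩,⟨.e,.e,.e,.e,.e,.n,.n⟩⟩,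
   ⟨⟨.o,.n,.o,.o,.o,.o,.o⟩,⟨.e,.o,.o,.o,.e,.o,.o⟩,⟨.o,.n,.o,.o,.e,.o,.o⟩,⟨.n,.e,.o,.n,.n,.o,.o⟩,⟨.e,.o,.e,.o,.e,.o,.n⟩,⟨.n,.n,.o,.e,.o,.o,.n⟩,⟨.n,.n,.n,.n,.n,.e,.e⟩⟩,
   ⟨⟨.o,.n,.o,.o,.o,.o,.o⟩,⟨.e,.o,.o,.o,.e,.o,.o⟩,⟨.o,.n,.o,.o,.e,.o,.o⟩,⟨.n,.e,.o,.n,.n,.o,.o⟩,⟨.e,.e,.e,.o,.e,.o,.n⟩,⟨.n,.n,.o,.e,.o,.o,.n⟩,⟨.n,.e,.n,.n,.o,.e,.e⟩⟩,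
   ⟨⟨.o,.e,.o,.o,.o,.o,.o⟩,⟨.n,.e,.o,.o,.o,.o,.o⟩,⟨.o,.e,.o,.o,.e,.o,.o⟩,⟨.e,.e,.o,.n,.e,.o,.o⟩,⟨.n,.n,.e,.e,.e,.o,.o⟩,⟨.e,.o,.o,.e,.o,.o,.e⟩,⟨.e,.n,.n,.e,.n,.n,.e⟩⟩]

/-- part 8 -/
def repPart8 : List M7 :=
  [⟨⟨.o,.o,.e,.o,.o,.o,.o⟩,⟨.n,.o,.n,.o,.o,.o,.o⟩,⟨.o,.o,.e,.o,.o,.e,.o⟩,⟨.e,.o,.n,.n,.o,.n,.o⟩,⟨.e,.n,.e,.n,.o,.e,.o⟩,⟨.e,.o,.n,.e,.o,.o,.e⟩,⟨.o,.e,.e,.n,.e,.o,.n⟩⟩,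
   ⟨⟨.o,.e,.o,.o,.o,.o,.o⟩,⟨.e,.o,.o,.o,.e,.o,.o⟩,⟨.o,.e,.o,.o,.n,.o,.o⟩,⟨.n,.e,.o,.n,.n,.o,.o⟩,⟨.n,.o,.n,.o,.n,.o,.e⟩,⟨.n,.e,.o,.e,.o,.o,.n⟩,⟨.o,.e,.e,.e,.o,.n,.n⟩⟩,
   ⟨⟨.o,.e,.o,.o,.o,.o,.o⟩,⟨.n,.n,.o,.o,.o,.o,.o⟩,⟨.o,.e,.o,.o,.e,.o,.o⟩,⟨.e,.n,.o,.n,.n,.o,.o⟩,⟨.e,.o,.e,.n,.e,.o,.o⟩,⟨.e,.n,.o,.e,.o,.o,.e⟩,⟨.o,.n,.n,.n,.e,.n,.n⟩⟩,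
   ⟨⟨.o,.n,.e,.o,.o,.o,.o⟩,⟨.n,.e,.n,.o,.o,.o,.o⟩,⟨.o,.n,.e,.o,.n,.e,.o⟩,⟨.e,.e,.n,.n,.e,.n,.o⟩,⟨.e,.e,.e,.n,.n,.e,.o⟩,⟨.e,.e,.n,.e,.o,.o,.e⟩,⟨.o,.o,.e,.n,.e,.o,.n⟩⟩,
   ⟨⟨.o,.o,.n,.o,.o,.o,.o⟩,⟨.n,.o,.n,.o,.o,.o,.o⟩,⟨.o,.o,.n,.o,.o,.n,.o⟩,⟨.e,.o,.o,.n,.o,.n,.o⟩,⟨.e,.e,.n,.e,.o,.n,.o⟩,⟨.e,.o,.n,.e,.o,.n,.e⟩,⟨.n,.n,.o,.o,.n,.e,.e⟩⟩,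
   ⟨⟨.o,.e,.e,.o,.o,.o,.o⟩,⟨.n,.e,.e,.o,.o,.o,.o⟩,⟨.o,.e,.e,.o,.e,.e,.o⟩,⟨.e,.o,.o,.n,.e,.e,.o⟩,⟨.e,.n,.o,.e,.e,.e,.o⟩,⟨.e,.e,.e,.e,.e,.e,.e⟩,⟨.n,.n,.e,.o,.e,.o,.e⟩⟩,
   ⟨⟨.o,.n,.e,.o,.o,.o,.o⟩,⟨.n,.n,.e,.o,.o,.o,.o⟩,⟨.o,.n,.e,.o,.n,.e,.o⟩,⟨.e,.o,.o,.n,.n,.e,.o⟩,⟨.e,.n,.o,.e,.n,.e,.o⟩,⟨.e,.n,.e,.e,.n,.e,.e⟩,⟨.n,.o,.e,.o,.e,.o,.e⟩⟩,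
   ⟨⟨.o,.e,.o,.o,.o,.o,.o⟩,⟨.n,.n,.o,.o,.o,.o,.o⟩,⟨.o,.e,.o,.o,.e,.o,.o⟩,⟨.e,.n,.o,.n,.n,.o,.o⟩,⟨.e,.n,.e,.n,.e,.o,.o⟩,⟨.e,.o,.o,.e,.o,.o,.e⟩,⟨.n,.n,.n,.n,.n,.n,.n⟩⟩,
   ⟨⟨.o,.o,.e,.o,.o,.o,.o⟩,⟨.n,.o,.o,.o,.o,.e,.o⟩,⟨.o,.o,.e,.o,.o,.e,.o⟩,⟨.e,.o,.e,.n,.o,.n,.o⟩,⟨.e,.n,.o,.o,.o,.n,.e⟩,⟨.e,.o,.o,.e,.o,.e,.e⟩,⟨.e,.e,.e,.e,.e,.n,.n⟩⟩,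
   ⟨⟨.o,.n,.o,.o,.o,.o,.o⟩,⟨.e,.e,.o,.o,.o,.o,.o⟩,⟨.o,.n,.o,.o,.e,.o,.o⟩,⟨.n,.e,.o,.n,.n,.o,.o⟩,⟨.n,.n,.e,.n,.e,.o,.o⟩,⟨.n,.n,.o,.e,.o,.o,.n⟩,⟨.n,.e,.n,.n,.o,.e,.e⟩⟩,
   ⟨⟨.o,.e,.o,.o,.o,.o,.o⟩,⟨.n,.n,.o,.o,.o,.o,.o⟩,⟨.o,.e,.o,.o,.e,.o,.o⟩,⟨.e,.n,.o,.n,.n,.o,.o⟩,⟨.e,.o,.e,.n,.e,.o,.o⟩,⟨.e,.e,.o,.e,.o,.o,.e⟩,⟨.e,.o,.n,.n,.e,.n,.n⟩⟩,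
   ⟨⟨.o,.n,.o,.o,.o,.o,.o⟩,⟨.e,.e,.o,.o,.o,.o,.o⟩,⟨.o,.n,.o,.o,.e,.o,.o⟩,⟨.n,.e,.o,.n,.n,.o,.o⟩,⟨.n,.e,.e,.n,.e,.o,.o⟩,⟨.n,.n,.o,.e,.o,.o,.n⟩,⟨.n,.n,.n,.n,.n,.e,.e⟩⟩,
   ⟨⟨.o,.o,.e,.e,.e,.o,.o⟩,⟨.e,.n,.e,.e,.e,.o,.o⟩,⟨.e,.n,.e,.e,.e,.n,.e⟩,⟨.o,.o,.o,.n,.e,.n,.e⟩,⟨.o,.e,.e,.n,.o,.n,.e⟩,⟨.o,.e,.e,.n,.o,.n,.o⟩,⟨.o,.o,.o,.o,.e,.e,.e⟩⟩,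
   ⟨⟨.o,.e,.o,.o,.o,.o,.o⟩,⟨.n,.e,.o,.o,.o,.o,.o⟩,⟨.n,.e,.o,.o,.e,.o,.o⟩,⟨.o,.o,.o,.n,.e,.o,.o⟩,⟨.o,.o,.e,.e,.e,.o,.o⟩,⟨.o,.o,.e,.e,.e,.o,.e⟩,⟨.o,.o,.o,.o,.o,.n,.e⟩⟩,
   ⟨⟨.o,.n,.o,.o,.o,.o,.o⟩,⟨.e,.e,.o,.o,.o,.o,.o⟩,⟨.e,.e,.o,.o,.e,.o,.o⟩,⟨.o,.o,.o,.n,.n,.o,.o⟩,⟨.o,.e,.e,.n,.e,.o,.o⟩,⟨.o,.e,.e,.n,.e,.o,.n⟩,⟨.o,.o,.o,.o,.e,.e,.e⟩⟩,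
   ⟨⟨.o,.e,.o,.o,.o,.o,.o⟩,⟨.n,.e,.o,.o,.o,.o,.o⟩,⟨.n,.e,.o,.o,.e,.o,.o⟩,⟨.o,.o,.o,.n,.e,.o,.o⟩,⟨.o,.e,.e,.e,.e,.o,.o⟩,⟨.o,.e,.e,.e,.e,.o,.e⟩,⟨.o,.o,.o,.o,.n,.n,.e⟩⟩,
   ⟨⟨.o,.o,.n,.e,.n,.e,.o⟩,⟨.e,.e,.e,.e,.n,.e,.o⟩,⟨.e,.e,.e,.e,.n,.n,.e⟩,⟨.o,.o,.o,.n,.n,.n,.e⟩,⟨.o,.n,.o,.n,.o,.e,.e⟩,⟨.o,.n,.n,.o,.n,.n,.o⟩,⟨.e,.e,.e,.e,.e,.e,.e⟩⟩,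
   ⟨⟨.o,.e,.o,.o,.o,.o,.o⟩,⟨.n,.e,.o,.o,.o,.o,.o⟩,⟨.n,.e,.o,.o,.e,.o,.o⟩,⟨.o,.o,.o,.n,.e,.o,.o⟩,⟨.o,.o,.e,.e,.e,.o,.o⟩,⟨.o,.e,.e,.e,.e,.o,.e⟩,⟨.n,.e,.o,.o,.o,.n,.e⟩⟩,
   ⟨⟨.o,.n,.o,.o,.o,.o,.o⟩,⟨.e,.e,.o,.o,.o,.o,.o⟩,⟨.e,.e,.o,.o,.e,.o,.o⟩,⟨.o,.o,.o,.n,.n,.o,.o⟩,⟨.o,.e,.e,.n,.e,.o,.o⟩,⟨.o,.o,.e,.n,.e,.o,.n⟩,⟨.e,.e,.o,.o,.e,.e,.e⟩⟩,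
   ⟨⟨.o,.n,.e,.o,.o,.o,.o⟩,⟨.n,.n,.e,.o,.o,.o,.o⟩,⟨.n,.n,.e,.o,.n,.e,.o⟩,⟨.o,.o,.o,.n,.n,.e,.o⟩,⟨.o,.n,.o,.e,.n,.e,.o⟩,⟨.o,.e,.e,.e,.n,.e,.e⟩,⟨.n,.n,.e,.o,.e,.o,.e⟩⟩,
   ⟨⟨.o,.o,.e,.e,.e,.o,.o⟩,⟨.e,.n,.e,.e,.e,.o,.o⟩,⟨.e,.n,.e,.e,.e,.n,.e⟩,⟨.o,.o,.o,.n,.e,.n,.e⟩,⟨.o,.e,.e,.n,.o,.n,.e⟩,⟨.o,.e,.o,.e,.n,.n,.o⟩,⟨.n,.e,.n,.n,.o,.e,.e⟩⟩,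
   ⟨⟨.o,.e,.o,.o,.o,.o,.o⟩,⟨.n,.e,.o,.o,.o,.o,.o⟩,⟨.n,.e,.o,.o,.e,.o,.o⟩,⟨.o,.o,.o,.n,.e,.o,.o⟩,⟨.o,.o,.e,.e,.e,.o,.o⟩,⟨.o,.n,.e,.e,.e,.o,.e⟩,⟨.e,.n,.o,.o,.o,.n,.e⟩⟩,
   ⟨⟨.o,.e,.o,.o,.o,.o,.o⟩,⟨.n,.e,.o,.o,.o,.o,.o⟩,⟨.n,.e,.o,.o,.e,.o,.o⟩,⟨.o,.o,.o,.n,.e,.o,.o⟩,⟨.o,.n,.e,.e,.e,.o,.o⟩,⟨.o,.e,.e,.e,.e,.o,.e⟩,⟨.e,.n,.o,.o,.e,.n,.e⟩⟩,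
   ⟨⟨.o,.e,.o,.o,.o,.o,.o⟩,⟨.n,.e,.o,.o,.o,.o,.o⟩,⟨.n,.e,.o,.o,.e,.o,.o⟩,⟨.o,.o,.o,.n,.e,.o,.o⟩,⟨.o,.e,.e,.e,.e,.o,.o⟩,⟨.o,.o,.e,.e,.e,.o,.e⟩,⟨.e,.n,.o,.o,.n,.n,.e⟩⟩,
   ⟨⟨.o,.o,.e,.n,.e,.o,.o⟩,⟨.n,.n,.e,.n,.e,.o,.o⟩,⟨.n,.n,.e,.n,.e,.e,.e⟩,⟨.o,.o,.n,.o,.e,.e,.e⟩,⟨.n,.e,.n,.n,.o,.e,.e⟩,⟨.n,.e,.n,.n,.o,.n,.o⟩,⟨.o,.o,.e,.e,.e,.o,.e⟩⟩,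
   ⟨⟨.o,.e,.e,.n,.e,.o,.o⟩,⟨.n,.o,.e,.n,.e,.o,.o⟩,⟨.n,.o,.e,.n,.n,.e,.e⟩,⟨.o,.n,.n,.o,.n,.e,.e⟩,⟨.n,.o,.n,.n,.e,.e,.e⟩,⟨.n,.o,.n,.n,.n,.n,.o⟩,⟨.o,.e,.e,.e,.e,.o,.e⟩⟩,
   ⟨⟨.o,.e,.e,.o,.o,.o,.o⟩,⟨.e,.n,.n,.o,.n,.n,.o⟩,⟨.e,.n,.n,.o,.e,.e,.o⟩,⟨.o,.n,.n,.n,.e,.e,.o⟩,⟨.e,.e,.o,.n,.e,.e,.n⟩,⟨.e,.e,.o,.n,.o,.o,.e⟩,⟨.o,.e,.e,.n,.o,.n,.e⟩⟩,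
   ⟨⟨.o,.e,.e,.o,.o,.o,.o⟩,⟨.n,.e,.e,.o,.o,.o,.o⟩,⟨.n,.e,.e,.o,.e,.e,.o⟩,⟨.o,.n,.n,.n,.e,.e,.o⟩,⟨.n,.n,.o,.e,.e,.e,.o⟩,⟨.n,.n,.o,.e,.n,.n,.e⟩,⟨.o,.e,.e,.n,.o,.n,.e⟩⟩,
   ⟨⟨.o,.o,.e,.o,.o,.o,.o⟩,⟨.n,.o,.o,.o,.o,.o,.o⟩,⟨.n,.o,.o,.o,.o,.e,.o⟩,⟨.o,.o,.n,.n,.o,.o,.o⟩,⟨.n,.n,.n,.o,.o,.o,.o⟩,⟨.n,.n,.o,.o,.o,.e,.e⟩,⟨.n,.o,.e,.n,.e,.e,.o⟩⟩,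
   ⟨⟨.o,.e,.o,.o,.o,.o,.o⟩,⟨.e,.o,.o,.o,.o,.o,.o⟩,⟨.e,.o,.o,.o,.n,.o,.o⟩,⟨.o,.n,.o,.n,.o,.o,.o⟩,⟨.e,.o,.n,.o,.o,.o,.o⟩,⟨.e,.e,.n,.o,.n,.o,.n⟩,⟨.e,.e,.o,.n,.o,.n,.o⟩⟩,
   ⟨⟨.o,.e,.e,.o,.o,.o,.o⟩,⟨.n,.e,.e,.o,.o,.o,.o⟩,⟨.n,.e,.e,.o,.e,.e,.o⟩,⟨.o,.n,.n,.n,.e,.e,.o⟩,⟨.n,.o,.e,.e,.e,.e,.o⟩,⟨.n,.e,.n,.e,.n,.n,.e⟩,⟨.n,.n,.n,.n,.n,.e,.e⟩⟩,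
   ⟨⟨.o,.n,.e,.o,.o,.o,.o⟩,⟨.n,.n,.e,.o,.o,.o,.o⟩,⟨.n,.n,.e,.o,.n,.e,.o⟩,⟨.o,.e,.n,.n,.n,.e,.o⟩,⟨.n,.e,.e,.e,.n,.e,.o⟩,⟨.n,.o,.n,.e,.e,.n,.e⟩,⟨.n,.e,.n,.n,.o,.e,.e⟩⟩]

/-- part 9 -/
def repPart9 : List M7 :=
  [⟨⟨.o,.o,.e,.n,.e,.o,.o⟩,⟨.n,.n,.e,.n,.e,.o,.o⟩,⟨.n,.n,.e,.n,.e,.e,.e⟩,⟨.o,.o,.n,.o,.e,.e,.e⟩,⟨.n,.e,.n,.n,.o,.e,.e⟩,⟨.n,.e,.e,.o,.n,.n,.o⟩,⟨.e,.e,.o,.n,.o,.o,.e⟩⟩,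
   ⟨⟨.o,.e,.o,.o,.o,.o,.o⟩,⟨.n,.o,.o,.o,.o,.o,.o⟩,⟨.n,.o,.o,.o,.e,.o,.o⟩,⟨.o,.n,.o,.n,.o,.o,.o⟩,⟨.n,.o,.e,.o,.o,.o,.o⟩,⟨.n,.n,.e,.o,.e,.o,.e⟩,⟨.e,.e,.o,.n,.o,.n,.o⟩⟩,
   ⟨⟨.o,.e,.e,.o,.o,.o,.o⟩,⟨.n,.n,.n,.o,.o,.o,.o⟩,⟨.n,.n,.n,.o,.e,.e,.o⟩,⟨.o,.n,.n,.n,.n,.n,.o⟩,⟨.n,.e,.n,.n,.e,.e,.o⟩,⟨.n,.o,.e,.n,.n,.n,.e⟩,⟨.e,.n,.n,.n,.o,.n,.n⟩⟩,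
   ⟨⟨.o,.e,.o,.o,.o,.o,.o⟩,⟨.n,.o,.o,.o,.o,.o,.o⟩,⟨.n,.o,.o,.o,.e,.o,.o⟩,⟨.o,.n,.o,.n,.o,.o,.o⟩,⟨.n,.e,.e,.o,.o,.o,.o⟩,⟨.n,.o,.e,.o,.e,.o,.e⟩,⟨.e,.e,.o,.n,.n,.n,.o⟩⟩,
   ⟨⟨.o,.o,.n,.o,.o,.o,.o⟩,⟨.n,.o,.n,.o,.o,.o,.o⟩,⟨.n,.o,.n,.o,.o,.n,.o⟩,⟨.o,.o,.n,.n,.o,.n,.o⟩,⟨.e,.e,.n,.e,.o,.n,.o⟩,⟨.e,.e,.n,.e,.o,.o,.e⟩,⟨.o,.o,.n,.e,.n,.o,.e⟩⟩,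
   ⟨⟨.o,.n,.n,.o,.o,.o,.o⟩,⟨.e,.e,.e,.o,.o,.o,.o⟩,⟨.e,.e,.e,.o,.e,.e,.o⟩,⟨.o,.n,.n,.n,.n,.n,.o⟩,⟨.n,.n,.o,.n,.e,.e,.o⟩,⟨.n,.n,.o,.n,.o,.o,.n⟩,⟨.o,.n,.n,.e,.e,.n,.e⟩⟩,
   ⟨⟨.o,.e,.e,.o,.o,.o,.o⟩,⟨.e,.n,.n,.o,.n,.n,.o⟩,⟨.e,.n,.n,.o,.e,.e,.o⟩,⟨.o,.e,.e,.n,.e,.e,.o⟩,⟨.n,.o,.n,.n,.o,.o,.n⟩,⟨.n,.o,.n,.n,.e,.e,.e⟩,⟨.o,.e,.e,.e,.e,.o,.e⟩⟩,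
   ⟨⟨.o,.n,.n,.o,.o,.o,.o⟩,⟨.n,.n,.n,.o,.o,.o,.o⟩,⟨.n,.n,.n,.o,.n,.n,.o⟩,⟨.o,.n,.n,.n,.n,.n,.o⟩,⟨.e,.o,.n,.e,.n,.n,.o⟩,⟨.e,.o,.n,.e,.o,.o,.e⟩,⟨.o,.n,.n,.e,.n,.o,.e⟩⟩,
   ⟨⟨.o,.o,.e,.o,.o,.o,.o⟩,⟨.n,.o,.o,.o,.o,.o,.o⟩,⟨.n,.o,.o,.o,.o,.e,.o⟩,⟨.o,.o,.e,.n,.o,.o,.o⟩,⟨.e,.n,.n,.o,.o,.o,.o⟩,⟨.e,.n,.o,.o,.o,.n,.e⟩,⟨.n,.o,.e,.e,.e,.e,.o⟩⟩,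
   ⟨⟨.o,.e,.o,.o,.o,.o,.o⟩,⟨.n,.o,.o,.o,.o,.o,.o⟩,⟨.n,.o,.o,.o,.e,.o,.o⟩,⟨.o,.e,.o,.n,.o,.o,.o⟩,⟨.e,.o,.e,.o,.o,.o,.o⟩,⟨.e,.e,.e,.o,.n,.o,.e⟩,⟨.n,.e,.o,.e,.o,.n,.o⟩⟩,
   ⟨⟨.o,.n,.o,.o,.o,.o,.o⟩,⟨.e,.n,.o,.o,.o,.o,.o⟩,⟨.e,.n,.o,.o,.e,.o,.o⟩,⟨.o,.n,.o,.n,.e,.o,.o⟩,⟨.n,.n,.e,.e,.e,.o,.o⟩,⟨.n,.e,.e,.e,.o,.o,.n⟩,⟨.e,.e,.o,.e,.o,.e,.n⟩⟩,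
   ⟨⟨.o,.e,.o,.o,.e,.o,.o⟩,⟨.e,.o,.o,.e,.e,.o,.e⟩,⟨.e,.o,.o,.e,.o,.o,.e⟩,⟨.o,.e,.o,.n,.e,.o,.e⟩,⟨.n,.e,.n,.n,.o,.n,.o⟩,⟨.n,.n,.n,.n,.n,.n,.n⟩,⟨.e,.e,.o,.n,.o,.n,.o⟩⟩,
   ⟨⟨.o,.o,.e,.o,.o,.o,.o⟩,⟨.n,.o,.n,.o,.o,.o,.o⟩,⟨.n,.o,.n,.o,.o,.e,.o⟩,⟨.o,.o,.e,.n,.o,.n,.o⟩,⟨.e,.n,.n,.n,.o,.e,.o⟩,⟨.e,.n,.e,.n,.o,.o,.e⟩,⟨.e,.o,.n,.e,.e,.o,.n⟩⟩,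
   ⟨⟨.o,.e,.o,.o,.o,.o,.o⟩,⟨.e,.o,.o,.o,.o,.o,.o⟩,⟨.e,.o,.o,.o,.n,.o,.o⟩,⟨.o,.e,.o,.n,.o,.o,.o⟩,⟨.n,.o,.n,.o,.o,.o,.o⟩,⟨.n,.n,.n,.o,.e,.o,.n⟩,⟨.n,.e,.o,.e,.o,.n,.o⟩⟩,
   ⟨⟨.o,.n,.n,.o,.o,.o,.o⟩,⟨.n,.e,.e,.o,.o,.o,.o⟩,⟨.n,.e,.e,.o,.n,.n,.o⟩,⟨.o,.n,.n,.n,.e,.e,.o⟩,⟨.e,.o,.n,.n,.n,.n,.o⟩,⟨.e,.e,.o,.n,.o,.o,.e⟩,⟨.e,.e,.e,.e,.e,.n,.n⟩⟩,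
   ⟨⟨.o,.e,.n,.o,.o,.o,.o⟩,⟨.n,.n,.e,.o,.o,.o,.o⟩,⟨.n,.n,.e,.o,.e,.n,.o⟩,⟨.o,.e,.n,.n,.n,.e,.o⟩,⟨.e,.n,.n,.n,.e,.n,.o⟩,⟨.e,.e,.o,.n,.o,.o,.e⟩,⟨.e,.n,.e,.e,.o,.n,.n⟩⟩,
   ⟨⟨.o,.o,.e,.o,.o,.o,.o⟩,⟨.n,.o,.e,.o,.o,.o,.o⟩,⟨.n,.o,.o,.o,.o,.e,.o⟩,⟨.n,.o,.e,.n,.o,.e,.o⟩,⟨.o,.n,.e,.e,.o,.e,.o⟩,⟨.e,.n,.o,.o,.o,.n,.e⟩,⟨.o,.n,.e,.e,.e,.o,.e⟩⟩,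
   ⟨⟨.o,.n,.n,.o,.o,.o,.o⟩,⟨.n,.n,.n,.o,.o,.o,.o⟩,⟨.n,.o,.o,.o,.n,.n,.o⟩,⟨.n,.n,.n,.n,.n,.n,.o⟩,⟨.o,.o,.n,.e,.n,.n,.o⟩,⟨.e,.e,.o,.o,.e,.e,.e⟩,⟨.o,.o,.n,.e,.n,.o,.e⟩⟩,
   ⟨⟨.o,.e,.n,.o,.o,.o,.o⟩,⟨.n,.e,.n,.o,.o,.o,.o⟩,⟨.n,.o,.o,.o,.e,.n,.o⟩,⟨.n,.e,.n,.n,.e,.n,.o⟩,⟨.o,.n,.n,.e,.e,.n,.o⟩,⟨.e,.e,.o,.o,.n,.e,.e⟩,⟨.o,.n,.n,.e,.n,.o,.e⟩⟩,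
   ⟨⟨.o,.e,.o,.o,.o,.o,.o⟩,⟨.n,.n,.o,.o,.n,.o,.o⟩,⟨.n,.e,.o,.o,.o,.o,.o⟩,⟨.n,.n,.o,.n,.e,.o,.o⟩,⟨.o,.e,.e,.n,.e,.o,.n⟩,⟨.e,.n,.e,.e,.e,.o,.o⟩,⟨.o,.e,.e,.n,.o,.n,.e⟩⟩,
   ⟨⟨.o,.o,.e,.o,.o,.o,.o⟩,⟨.n,.o,.o,.o,.o,.o,.o⟩,⟨.n,.o,.n,.o,.o,.e,.o⟩,⟨.n,.o,.o,.n,.o,.o,.o⟩,⟨.o,.n,.e,.o,.o,.o,.o⟩,⟨.e,.n,.n,.n,.o,.o,.e⟩,⟨.n,.n,.e,.o,.e,.n,.o⟩⟩,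
   ⟨⟨.o,.e,.o,.o,.o,.o,.o⟩,⟨.n,.o,.o,.o,.o,.o,.o⟩,⟨.n,.n,.o,.o,.e,.o,.o⟩,⟨.n,.o,.o,.n,.o,.o,.o⟩,⟨.o,.o,.e,.o,.o,.o,.o⟩,⟨.e,.e,.e,.n,.o,.o,.e⟩,⟨.n,.o,.e,.o,.o,.n,.o⟩⟩,
   ⟨⟨.o,.e,.o,.o,.o,.o,.o⟩,⟨.n,.o,.o,.o,.o,.o,.o⟩,⟨.n,.n,.o,.o,.e,.o,.o⟩,⟨.n,.o,.o,.n,.o,.o,.o⟩,⟨.o,.n,.e,.o,.o,.o,.o⟩,⟨.e,.o,.e,.n,.o,.o,.e⟩,⟨.n,.n,.e,.o,.e,.n,.o⟩⟩,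
   ⟨⟨.o,.n,.n,.o,.o,.o,.o⟩,⟨.n,.o,.o,.o,.o,.o,.o⟩,⟨.n,.e,.e,.o,.n,.n,.o⟩,⟨.n,.o,.o,.n,.o,.o,.o⟩,⟨.o,.n,.e,.o,.o,.o,.o⟩,⟨.e,.e,.o,.n,.o,.o,.e⟩,⟨.n,.n,.e,.o,.e,.n,.o⟩⟩,
   ⟨⟨.o,.o,.n,.o,.o,.o,.o⟩,⟨.n,.o,.e,.o,.o,.o,.o⟩,⟨.n,.o,.n,.o,.o,.n,.o⟩,⟨.n,.o,.e,.n,.o,.e,.o⟩,⟨.o,.e,.n,.n,.o,.n,.o⟩,⟨.e,.e,.n,.e,.o,.o,.e⟩,⟨.e,.e,.e,.n,.n,.o,.n⟩⟩,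
   ⟨⟨.o,.e,.o,.o,.o,.o,.o⟩,⟨.n,.e,.o,.o,.e,.o,.o⟩,⟨.n,.o,.o,.o,.n,.o,.o⟩,⟨.n,.e,.o,.n,.n,.o,.o⟩,⟨.o,.o,.e,.e,.e,.o,.e⟩,⟨.e,.e,.e,.o,.e,.o,.n⟩,⟨.e,.n,.e,.e,.o,.n,.n⟩⟩,
   ⟨⟨.o,.e,.o,.o,.o,.o,.o⟩,⟨.n,.e,.o,.o,.e,.o,.o⟩,⟨.n,.o,.o,.o,.n,.o,.o⟩,⟨.n,.e,.o,.n,.n,.o,.o⟩,⟨.o,.n,.e,.e,.e,.o,.e⟩,⟨.e,.o,.e,.o,.e,.o,.n⟩,⟨.e,.e,.e,.e,.e,.n,.n⟩⟩,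
   ⟨⟨.o,.n,.n,.o,.o,.o,.o⟩,⟨.e,.e,.e,.o,.o,.o,.o⟩,⟨.e,.n,.n,.o,.e,.e,.o⟩,⟨.e,.e,.e,.n,.n,.n,.o⟩,⟨.o,.n,.o,.n,.e,.e,.o⟩,⟨.n,.n,.o,.e,.o,.o,.n⟩,⟨.n,.e,.n,.n,.o,.e,.e⟩⟩,
   ⟨⟨.o,.o,.e,.e,.e,.o,.o⟩,⟨.e,.n,.n,.n,.n,.o,.o⟩,⟨.e,.n,.e,.e,.e,.n,.e⟩,⟨.e,.n,.e,.o,.n,.e,.n⟩,⟨.e,.o,.n,.e,.o,.n,.e⟩,⟨.o,.e,.e,.n,.o,.n,.o⟩,⟨.o,.e,.e,.n,.e,.o,.e⟩⟩,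
   ⟨⟨.o,.e,.o,.o,.o,.o,.o⟩,⟨.n,.n,.o,.o,.o,.o,.o⟩,⟨.n,.e,.o,.o,.e,.o,.o⟩,⟨.n,.e,.o,.n,.n,.o,.o⟩,⟨.n,.n,.e,.n,.e,.o,.o⟩,⟨.o,.e,.e,.e,.e,.o,.e⟩,⟨.o,.e,.e,.e,.o,.n,.n⟩⟩,
   ⟨⟨.o,.e,.o,.o,.o,.o,.o⟩,⟨.n,.n,.o,.o,.o,.o,.o⟩,⟨.n,.e,.o,.o,.e,.o,.o⟩,⟨.n,.e,.o,.n,.n,.o,.o⟩,⟨.n,.e,.e,.n,.e,.o,.o⟩,⟨.o,.o,.e,.e,.e,.o,.e⟩,⟨.o,.o,.e,.e,.e,.n,.n⟩⟩,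
   ⟨⟨.o,.n,.o,.o,.o,.o,.o⟩,⟨.e,.o,.o,.o,.o,.o,.o⟩,⟨.e,.e,.o,.o,.e,.o,.o⟩,⟨.e,.e,.o,.n,.o,.o,.o⟩,⟨.e,.n,.e,.o,.o,.o,.o⟩,⟨.o,.e,.e,.n,.e,.o,.n⟩,⟨.o,.e,.e,.n,.n,.e,.o⟩⟩]

/-- part 10 -/
def repPart10 : List M7 :=
  [⟨⟨.o,.o,.n,.o,.o,.o,.o⟩,⟨.e,.o,.e,.o,.o,.o,.o⟩,⟨.e,.o,.n,.o,.o,.e,.o⟩,⟨.e,.o,.n,.n,.o,.n,.o⟩,⟨.e,.n,.n,.n,.o,.e,.o⟩,⟨.o,.n,.n,.e,.o,.e,.n⟩,⟨.e,.n,.e,.e,.n,.e,.e⟩⟩,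
   ⟨⟨.o,.e,.o,.o,.o,.o,.o⟩,⟨.n,.o,.o,.o,.e,.o,.o⟩,⟨.n,.n,.o,.o,.n,.o,.o⟩,⟨.n,.n,.o,.n,.e,.o,.o⟩,⟨.n,.o,.e,.o,.e,.o,.e⟩,⟨.o,.n,.e,.n,.e,.o,.n⟩,⟨.n,.e,.e,.n,.e,.n,.e⟩⟩,
   ⟨⟨.o,.e,.o,.o,.o,.o,.o⟩,⟨.n,.n,.o,.o,.o,.o,.o⟩,⟨.n,.e,.o,.o,.e,.o,.o⟩,⟨.n,.e,.o,.n,.n,.o,.o⟩,⟨.n,.e,.e,.n,.e,.o,.o⟩,⟨.o,.e,.e,.e,.e,.o,.e⟩,⟨.n,.n,.e,.e,.e,.n,.n⟩⟩,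
   ⟨⟨.o,.e,.n,.o,.o,.o,.o⟩,⟨.e,.n,.e,.o,.o,.o,.o⟩,⟨.e,.e,.n,.o,.n,.e,.o⟩,⟨.e,.e,.n,.n,.e,.n,.o⟩,⟨.e,.o,.n,.n,.n,.e,.o⟩,⟨.o,.o,.n,.e,.n,.e,.n⟩,⟨.e,.e,.e,.e,.e,.e,.e⟩⟩,
   ⟨⟨.o,.o,.n,.o,.o,.o,.o⟩,⟨.n,.o,.n,.o,.o,.o,.o⟩,⟨.n,.o,.o,.o,.o,.n,.o⟩,⟨.n,.o,.o,.n,.o,.n,.o⟩,⟨.n,.e,.e,.e,.o,.n,.o⟩,⟨.o,.e,.n,.o,.o,.o,.e⟩,⟨.e,.e,.n,.o,.n,.n,.e⟩⟩,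
   ⟨⟨.o,.e,.o,.o,.o,.o,.o⟩,⟨.n,.n,.o,.o,.o,.o,.o⟩,⟨.n,.e,.o,.o,.e,.o,.o⟩,⟨.n,.e,.o,.n,.n,.o,.o⟩,⟨.n,.n,.e,.n,.e,.o,.o⟩,⟨.o,.o,.e,.e,.e,.o,.e⟩,⟨.e,.n,.e,.e,.o,.n,.n⟩⟩,
   ⟨⟨.o,.e,.o,.o,.o,.o,.o⟩,⟨.n,.n,.o,.o,.o,.o,.o⟩,⟨.n,.e,.o,.o,.e,.o,.o⟩,⟨.n,.e,.o,.n,.n,.o,.o⟩,⟨.n,.e,.e,.n,.e,.o,.o⟩,⟨.o,.n,.e,.e,.e,.o,.e⟩,⟨.e,.e,.e,.e,.e,.n,.n⟩⟩,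
   ⟨⟨.o,.n,.e,.o,.o,.o,.o⟩,⟨.n,.e,.n,.o,.o,.o,.o⟩,⟨.n,.n,.e,.o,.n,.e,.o⟩,⟨.n,.n,.e,.n,.e,.n,.o⟩,⟨.n,.o,.n,.n,.n,.e,.o⟩,⟨.o,.n,.o,.e,.n,.e,.e⟩,⟨.e,.o,.n,.e,.e,.o,.n⟩⟩,
   ⟨⟨.o,.o,.e,.o,.o,.o,.o⟩,⟨.n,.o,.o,.o,.o,.o,.o⟩,⟨.n,.o,.n,.o,.o,.e,.o⟩,⟨.n,.o,.e,.n,.o,.o,.o⟩,⟨.e,.n,.e,.o,.o,.o,.o⟩,⟨.n,.n,.o,.n,.o,.n,.e⟩,⟨.o,.n,.n,.e,.e,.n,.o⟩⟩,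
   ⟨⟨.o,.e,.o,.o,.o,.o,.o⟩,⟨.n,.e,.o,.o,.o,.o,.o⟩,⟨.n,.o,.o,.o,.e,.o,.o⟩,⟨.n,.n,.o,.n,.e,.o,.o⟩,⟨.e,.n,.e,.e,.e,.o,.o⟩,⟨.n,.o,.e,.o,.e,.o,.e⟩,⟨.o,.e,.e,.n,.o,.n,.e⟩⟩,
   ⟨⟨.o,.e,.o,.o,.o,.o,.o⟩,⟨.n,.e,.o,.o,.o,.o,.o⟩,⟨.n,.o,.o,.o,.e,.o,.o⟩,⟨.n,.n,.o,.n,.e,.o,.o⟩,⟨.e,.e,.e,.e,.e,.o,.o⟩,⟨.n,.n,.e,.o,.e,.o,.e⟩,⟨.o,.o,.e,.n,.e,.n,.e⟩⟩,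
   ⟨⟨.o,.n,.e,.o,.o,.o,.o⟩,⟨.n,.n,.e,.o,.o,.o,.o⟩,⟨.n,.o,.o,.o,.n,.e,.o⟩,⟨.n,.e,.n,.n,.n,.e,.o⟩,⟨.e,.o,.n,.e,.n,.e,.o⟩,⟨.n,.n,.o,.o,.n,.e,.e⟩,⟨.o,.e,.e,.n,.e,.o,.e⟩⟩,
   ⟨⟨.o,.o,.e,.n,.e,.o,.o⟩,⟨.n,.n,.n,.e,.n,.o,.o⟩,⟨.n,.n,.e,.n,.e,.e,.e⟩,⟨.n,.n,.o,.n,.n,.n,.n⟩,⟨.e,.o,.e,.e,.o,.e,.e⟩,⟨.n,.e,.n,.n,.o,.n,.o⟩,⟨.n,.e,.o,.o,.e,.n,.e⟩⟩,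
   ⟨⟨.o,.n,.o,.o,.o,.o,.o⟩,⟨.n,.n,.o,.o,.o,.o,.o⟩,⟨.n,.o,.o,.o,.n,.o,.o⟩,⟨.n,.e,.o,.n,.n,.o,.o⟩,⟨.e,.e,.n,.e,.n,.o,.o⟩,⟨.n,.n,.n,.o,.n,.o,.e⟩,⟨.n,.e,.n,.n,.o,.e,.e⟩⟩,
   ⟨⟨.o,.e,.o,.o,.o,.o,.o⟩,⟨.n,.e,.o,.o,.o,.o,.o⟩,⟨.n,.o,.o,.o,.e,.o,.o⟩,⟨.n,.n,.o,.n,.e,.o,.o⟩,⟨.e,.e,.e,.e,.e,.o,.o⟩,⟨.n,.o,.e,.o,.e,.o,.e⟩,⟨.n,.e,.e,.n,.e,.n,.e⟩⟩,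
   ⟨⟨.o,.n,.e,.o,.o,.o,.o⟩,⟨.n,.n,.e,.o,.o,.o,.o⟩,⟨.n,.o,.o,.o,.n,.e,.o⟩,⟨.n,.e,.n,.n,.n,.e,.o⟩,⟨.e,.o,.n,.e,.n,.e,.o⟩,⟨.n,.e,.e,.o,.n,.e,.e⟩,⟨.n,.o,.n,.n,.e,.o,.e⟩⟩,
   ⟨⟨.o,.o,.e,.o,.o,.o,.o⟩,⟨.n,.o,.e,.o,.o,.o,.o⟩,⟨.n,.o,.o,.o,.o,.e,.o⟩,⟨.n,.o,.n,.n,.o,.e,.o⟩,⟨.e,.n,.o,.e,.o,.e,.o⟩,⟨.n,.n,.o,.o,.o,.e,.e⟩,⟨.e,.n,.e,.n,.e,.n,.e⟩⟩,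
   ⟨⟨.o,.e,.o,.o,.o,.o,.o⟩,⟨.n,.o,.o,.o,.n,.o,.o⟩,⟨.n,.n,.o,.o,.o,.o,.o⟩,⟨.n,.e,.o,.n,.n,.o,.o⟩,⟨.e,.o,.e,.o,.e,.o,.n⟩,⟨.n,.e,.e,.n,.e,.o,.o⟩,⟨.e,.e,.e,.e,.e,.n,.n⟩⟩,
   ⟨⟨.o,.n,.e,.o,.o,.o,.o⟩,⟨.n,.n,.e,.o,.o,.o,.o⟩,⟨.n,.o,.o,.o,.n,.e,.o⟩,⟨.n,.e,.n,.n,.n,.e,.o⟩,⟨.e,.n,.o,.e,.n,.e,.o⟩,⟨.n,.n,.o,.o,.n,.e,.e⟩,⟨.e,.e,.e,.n,.n,.n,.e⟩⟩,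
   ⟨⟨.o,.e,.e,.o,.o,.o,.o⟩,⟨.n,.n,.n,.o,.o,.o,.o⟩,⟨.n,.e,.e,.o,.e,.e,.o⟩,⟨.n,.o,.o,.n,.n,.n,.o⟩,⟨.e,.n,.o,.n,.e,.e,.o⟩,⟨.n,.e,.n,.e,.n,.n,.e⟩,⟨.e,.o,.e,.o,.e,.o,.n⟩⟩,
   ⟨⟨.o,.o,.e,.o,.o,.o,.o⟩,⟨.n,.o,.e,.o,.o,.o,.o⟩,⟨.n,.o,.n,.o,.o,.e,.o⟩,⟨.e,.o,.n,.n,.o,.e,.o⟩,⟨.o,.n,.n,.e,.o,.e,.o⟩,⟨.e,.n,.e,.n,.o,.o,.e⟩,⟨.o,.e,.e,.n,.e,.o,.e⟩⟩,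
   ⟨⟨.o,.n,.n,.o,.o,.o,.o⟩,⟨.n,.n,.n,.o,.o,.o,.o⟩,⟨.n,.e,.e,.o,.n,.n,.o⟩,⟨.e,.e,.e,.n,.n,.n,.o⟩,⟨.o,.o,.n,.e,.n,.n,.o⟩,⟨.e,.e,.o,.n,.o,.o,.e⟩,⟨.o,.o,.e,.n,.e,.n,.e⟩⟩,
   ⟨⟨.o,.e,.n,.o,.o,.o,.o⟩,⟨.n,.e,.n,.o,.o,.o,.o⟩,⟨.n,.n,.e,.o,.e,.n,.o⟩,⟨.e,.n,.e,.n,.e,.n,.o⟩,⟨.o,.n,.n,.e,.e,.n,.o⟩,⟨.e,.e,.o,.n,.o,.o,.e⟩,⟨.o,.e,.e,.n,.o,.n,.e⟩⟩,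
   ⟨⟨.o,.e,.o,.o,.o,.o,.o⟩,⟨.n,.e,.o,.o,.o,.o,.o⟩,⟨.n,.n,.o,.o,.e,.o,.o⟩,⟨.e,.n,.o,.n,.e,.o,.o⟩,⟨.o,.e,.e,.e,.e,.o,.o⟩,⟨.e,.o,.e,.n,.o,.o,.e⟩,⟨.o,.n,.n,.n,.e,.n,.e⟩⟩,
   ⟨⟨.o,.o,.e,.o,.o,.o,.o⟩,⟨.n,.o,.e,.o,.o,.o,.o⟩,⟨.n,.o,.n,.o,.o,.e,.o⟩,⟨.e,.o,.n,.n,.o,.e,.o⟩,⟨.o,.n,.o,.e,.o,.e,.o⟩,⟨.e,.n,.o,.n,.o,.o,.e⟩,⟨.n,.e,.e,.n,.e,.n,.e⟩⟩,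
   ⟨⟨.o,.n,.n,.o,.o,.o,.o⟩,⟨.e,.o,.o,.o,.o,.o,.o⟩,⟨.e,.n,.n,.o,.e,.e,.o⟩,⟨.n,.o,.o,.n,.o,.o,.o⟩,⟨.o,.o,.e,.o,.o,.o,.o⟩,⟨.n,.n,.o,.e,.o,.o,.n⟩,⟨.e,.o,.n,.o,.o,.e,.o⟩⟩,
   ⟨⟨.o,.e,.e,.o,.o,.o,.o⟩,⟨.n,.e,.e,.o,.o,.o,.o⟩,⟨.n,.n,.n,.o,.e,.e,.o⟩,⟨.e,.n,.n,.n,.e,.e,.o⟩,⟨.o,.n,.o,.e,.e,.e,.o⟩,⟨.e,.n,.o,.n,.o,.o,.e⟩,⟨.n,.n,.e,.n,.o,.n,.e⟩⟩,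
   ⟨⟨.o,.e,.o,.o,.o,.o,.o⟩,⟨.n,.n,.o,.o,.e,.o,.o⟩,⟨.n,.o,.o,.o,.n,.o,.o⟩,⟨.e,.e,.o,.n,.e,.o,.o⟩,⟨.o,.e,.e,.n,.e,.o,.e⟩,⟨.e,.o,.e,.o,.e,.o,.n⟩,⟨.n,.e,.n,.e,.n,.n,.e⟩⟩,
   ⟨⟨.o,.o,.e,.o,.o,.o,.o⟩,⟨.n,.o,.n,.o,.o,.o,.o⟩,⟨.n,.o,.o,.o,.o,.e,.o⟩,⟨.e,.o,.e,.n,.o,.n,.o⟩,⟨.o,.n,.o,.n,.o,.e,.o⟩,⟨.e,.n,.o,.o,.o,.n,.e⟩,⟨.e,.e,.e,.e,.e,.n,.n⟩⟩,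
   ⟨⟨.o,.e,.o,.o,.o,.o,.o⟩,⟨.e,.e,.o,.o,.e,.o,.o⟩,⟨.e,.n,.o,.o,.o,.o,.o⟩,⟨.n,.n,.o,.n,.e,.o,.o⟩,⟨.o,.o,.n,.e,.n,.o,.e⟩,⟨.n,.e,.n,.n,.n,.o,.o⟩,⟨.n,.n,.e,.n,.o,.n,.e⟩⟩,
   ⟨⟨.o,.n,.n,.o,.o,.o,.o⟩,⟨.n,.e,.e,.o,.o,.o,.o⟩,⟨.n,.o,.o,.o,.n,.n,.o⟩,⟨.e,.n,.n,.n,.e,.e,.o⟩,⟨.o,.e,.o,.n,.n,.n,.o⟩,⟨.e,.e,.o,.o,.e,.e,.e⟩,⟨.e,.e,.n,.e,.o,.e,.n⟩⟩,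
   ⟨⟨.o,.n,.e,.o,.o,.o,.o⟩,⟨.n,.o,.o,.o,.o,.o,.o⟩,⟨.n,.n,.e,.o,.n,.e,.o⟩,⟨.e,.o,.o,.n,.o,.o,.o⟩,⟨.o,.n,.o,.o,.o,.o,.o⟩,⟨.e,.o,.n,.e,.o,.o,.e⟩,⟨.e,.e,.o,.o,.e,.o,.o⟩⟩]

/-- part 11 -/
def repPart11 : List M7 :=
  [⟨⟨.o,.o,.e,.o,.o,.o,.o⟩,⟨.n,.o,.e,.o,.o,.o,.o⟩,⟨.n,.o,.n,.o,.o,.e,.o⟩,⟨.e,.o,.e,.n,.o,.e,.o⟩,⟨.n,.n,.e,.e,.o,.e,.o⟩,⟨.o,.n,.n,.n,.o,.e,.e⟩,⟨.o,.e,.e,.e,.e,.o,.e⟩⟩,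
   ⟨⟨.o,.e,.o,.o,.o,.o,.o⟩,⟨.e,.o,.o,.o,.n,.o,.o⟩,⟨.e,.e,.o,.o,.e,.o,.o⟩,⟨.n,.n,.o,.n,.e,.o,.o⟩,⟨.e,.o,.n,.o,.n,.o,.n⟩,⟨.o,.n,.n,.e,.n,.o,.e⟩,⟨.o,.e,.e,.n,.o,.n,.e⟩⟩,
   ⟨⟨.o,.e,.o,.o,.o,.o,.o⟩,⟨.n,.e,.o,.o,.o,.o,.o⟩,⟨.n,.n,.o,.o,.e,.o,.o⟩,⟨.e,.e,.o,.n,.e,.o,.o⟩,⟨.n,.o,.e,.e,.e,.o,.o⟩,⟨.o,.e,.e,.n,.e,.o,.e⟩,⟨.o,.n,.n,.e,.e,.n,.e⟩⟩,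
   ⟨⟨.o,.e,.o,.o,.o,.o,.o⟩,⟨.n,.e,.o,.o,.o,.o,.o⟩,⟨.n,.n,.o,.o,.e,.o,.o⟩,⟨.e,.e,.o,.n,.e,.o,.o⟩,⟨.n,.n,.e,.e,.e,.o,.o⟩,⟨.o,.o,.e,.n,.e,.o,.e⟩,⟨.o,.o,.n,.e,.n,.n,.e⟩⟩,
   ⟨⟨.o,.o,.e,.o,.o,.o,.o⟩,⟨.n,.o,.n,.o,.o,.o,.o⟩,⟨.n,.o,.o,.o,.o,.e,.o⟩,⟨.e,.o,.o,.n,.o,.n,.o⟩,⟨.n,.n,.n,.n,.o,.e,.o⟩,⟨.o,.n,.o,.o,.o,.o,.e⟩,⟨.n,.e,.o,.o,.e,.e,.n⟩⟩,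
   ⟨⟨.o,.n,.o,.o,.o,.o,.o⟩,⟨.e,.n,.o,.o,.o,.o,.o⟩,⟨.e,.e,.o,.o,.e,.o,.o⟩,⟨.n,.n,.o,.n,.e,.o,.o⟩,⟨.e,.n,.e,.e,.e,.o,.o⟩,⟨.o,.o,.e,.n,.e,.o,.n⟩,⟨.e,.e,.n,.e,.o,.e,.n⟩⟩,
   ⟨⟨.o,.e,.o,.o,.o,.o,.o⟩,⟨.n,.e,.o,.o,.o,.o,.o⟩,⟨.n,.n,.o,.o,.e,.o,.o⟩,⟨.e,.e,.o,.n,.e,.o,.o⟩,⟨.n,.o,.e,.e,.e,.o,.o⟩,⟨.o,.n,.e,.n,.e,.o,.e⟩,⟨.n,.o,.n,.e,.e,.n,.e⟩⟩,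
   ⟨⟨.o,.n,.e,.o,.o,.o,.o⟩,⟨.n,.n,.e,.o,.o,.o,.o⟩,⟨.n,.e,.n,.o,.n,.e,.o⟩,⟨.e,.n,.e,.n,.n,.e,.o⟩,⟨.n,.e,.e,.e,.n,.e,.o⟩,⟨.o,.n,.o,.n,.n,.e,.e⟩,⟨.n,.n,.n,.e,.e,.o,.e⟩⟩,
   ⟨⟨.o,.o,.e,.o,.o,.o,.o⟩,⟨.n,.o,.e,.o,.o,.o,.o⟩,⟨.n,.o,.n,.o,.o,.e,.o⟩,⟨.e,.o,.e,.n,.o,.e,.o⟩,⟨.n,.n,.o,.e,.o,.e,.o⟩,⟨.o,.n,.o,.n,.o,.e,.e⟩,⟨.e,.e,.e,.e,.e,.e,.e⟩⟩,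
   ⟨⟨.o,.e,.o,.o,.o,.o,.o⟩,⟨.n,.e,.o,.o,.o,.o,.o⟩,⟨.n,.n,.o,.o,.e,.o,.o⟩,⟨.e,.e,.o,.n,.e,.o,.o⟩,⟨.n,.e,.e,.e,.e,.o,.o⟩,⟨.o,.e,.e,.n,.e,.o,.e⟩,⟨.e,.o,.n,.e,.o,.n,.e⟩⟩,
   ⟨⟨.o,.e,.o,.o,.o,.o,.o⟩,⟨.n,.o,.o,.o,.o,.o,.o⟩,⟨.n,.e,.o,.o,.e,.o,.o⟩,⟨.e,.n,.o,.n,.o,.o,.o⟩,⟨.n,.n,.e,.o,.o,.o,.o⟩,⟨.o,.o,.e,.e,.e,.o,.e⟩,⟨.e,.n,.n,.n,.e,.n,.o⟩⟩,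
   ⟨⟨.o,.e,.o,.o,.o,.o,.o⟩,⟨.n,.o,.o,.o,.o,.o,.o⟩,⟨.n,.e,.o,.o,.e,.o,.o⟩,⟨.e,.n,.o,.n,.o,.o,.o⟩,⟨.n,.e,.e,.o,.o,.o,.o⟩,⟨.o,.n,.e,.e,.e,.o,.e⟩,⟨.e,.o,.n,.n,.n,.n,.o⟩⟩,
   ⟨⟨.o,.o,.e,.o,.o,.o,.o⟩,⟨.n,.o,.n,.o,.o,.o,.o⟩,⟨.n,.o,.o,.o,.o,.e,.o⟩,⟨.e,.o,.n,.n,.o,.n,.o⟩,⟨.e,.n,.e,.n,.o,.e,.o⟩,⟨.n,.n,.o,.o,.o,.e,.e⟩,⟨.o,.e,.e,.n,.e,.o,.n⟩⟩,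
   ⟨⟨.o,.e,.o,.o,.o,.o,.o⟩,⟨.e,.n,.o,.o,.o,.o,.o⟩,⟨.e,.o,.o,.o,.n,.o,.o⟩,⟨.n,.n,.o,.n,.e,.o,.o⟩,⟨.n,.e,.n,.n,.n,.o,.o⟩,⟨.e,.o,.n,.o,.n,.o,.n⟩,⟨.o,.e,.e,.n,.o,.n,.e⟩⟩,
   ⟨⟨.o,.e,.o,.o,.o,.o,.o⟩,⟨.n,.n,.o,.o,.o,.o,.o⟩,⟨.n,.o,.o,.o,.e,.o,.o⟩,⟨.e,.n,.o,.n,.n,.o,.o⟩,⟨.e,.o,.e,.n,.e,.o,.o⟩,⟨.n,.n,.e,.o,.e,.o,.e⟩,⟨.o,.n,.n,.n,.e,.n,.n⟩⟩,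
   ⟨⟨.o,.e,.o,.o,.o,.o,.o⟩,⟨.e,.n,.o,.o,.o,.o,.o⟩,⟨.e,.o,.o,.o,.n,.o,.o⟩,⟨.n,.n,.o,.n,.e,.o,.o⟩,⟨.n,.n,.n,.n,.n,.o,.o⟩,⟨.e,.e,.n,.o,.n,.o,.n⟩,⟨.o,.o,.e,.n,.e,.n,.e⟩⟩,
   ⟨⟨.o,.o,.n,.o,.o,.o,.o⟩,⟨.n,.o,.n,.o,.o,.o,.o⟩,⟨.n,.o,.e,.o,.o,.n,.o⟩,⟨.e,.o,.o,.n,.o,.n,.o⟩,⟨.e,.e,.o,.e,.o,.n,.o⟩,⟨.n,.e,.n,.n,.o,.e,.e⟩,⟨.n,.n,.n,.o,.n,.o,.e⟩⟩,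
   ⟨⟨.o,.e,.e,.o,.o,.o,.o⟩,⟨.n,.e,.e,.o,.o,.o,.o⟩,⟨.n,.n,.n,.o,.e,.e,.o⟩,⟨.e,.o,.o,.n,.e,.e,.o⟩,⟨.e,.n,.o,.e,.e,.e,.o⟩,⟨.n,.o,.e,.n,.n,.n,.e⟩,⟨.n,.n,.e,.o,.e,.o,.e⟩⟩,
   ⟨⟨.o,.e,.o,.o,.o,.o,.o⟩,⟨.n,.n,.o,.o,.o,.o,.o⟩,⟨.n,.o,.o,.o,.e,.o,.o⟩,⟨.e,.n,.o,.n,.n,.o,.o⟩,⟨.e,.o,.e,.n,.e,.o,.o⟩,⟨.n,.o,.e,.o,.e,.o,.e⟩,⟨.n,.e,.n,.n,.e,.n,.n⟩⟩,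
   ⟨⟨.o,.e,.o,.o,.o,.o,.o⟩,⟨.n,.n,.o,.o,.o,.o,.o⟩,⟨.n,.o,.o,.o,.e,.o,.o⟩,⟨.e,.n,.o,.n,.n,.o,.o⟩,⟨.e,.n,.e,.n,.e,.o,.o⟩,⟨.n,.n,.e,.o,.e,.o,.e⟩,⟨.n,.n,.n,.n,.n,.n,.n⟩⟩,
   ⟨⟨.o,.o,.e,.o,.o,.o,.o⟩,⟨.n,.o,.e,.o,.o,.o,.o⟩,⟨.n,.o,.n,.o,.o,.e,.o⟩,⟨.e,.o,.o,.n,.o,.e,.o⟩,⟨.e,.n,.n,.e,.o,.e,.o⟩,⟨.n,.n,.e,.n,.o,.n,.e⟩,⟨.e,.e,.o,.o,.e,.e,.e⟩⟩,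
   ⟨⟨.o,.n,.o,.o,.o,.o,.o⟩,⟨.e,.e,.o,.o,.o,.o,.o⟩,⟨.e,.o,.o,.o,.e,.o,.o⟩,⟨.n,.e,.o,.n,.n,.o,.o⟩,⟨.n,.n,.e,.n,.e,.o,.o⟩,⟨.e,.e,.e,.o,.e,.o,.n⟩,⟨.n,.e,.n,.n,.o,.e,.e⟩⟩,
   ⟨⟨.o,.e,.e,.o,.o,.o,.o⟩,⟨.n,.e,.e,.o,.o,.o,.o⟩,⟨.n,.n,.n,.o,.e,.e,.o⟩,⟨.e,.o,.o,.n,.e,.e,.o⟩,⟨.e,.e,.n,.e,.e,.e,.o⟩,⟨.n,.o,.e,.n,.n,.n,.e⟩,⟨.e,.e,.o,.o,.n,.e,.e⟩⟩,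
   ⟨⟨.o,.n,.o,.o,.o,.o,.o⟩,⟨.e,.e,.o,.o,.o,.o,.o⟩,⟨.e,.o,.o,.o,.e,.o,.o⟩,⟨.n,.e,.o,.n,.n,.o,.o⟩,⟨.n,.e,.e,.n,.e,.o,.o⟩,⟨.e,.o,.e,.o,.e,.o,.n⟩,⟨.n,.n,.n,.n,.n,.e,.e⟩⟩,
   ⟨⟨.o,.o,.e,.o,.o,.o,.o⟩,⟨.n,.o,.e,.o,.o,.o,.o⟩,⟨.e,.o,.n,.o,.o,.e,.o⟩,⟨.o,.o,.o,.n,.o,.e,.o⟩,⟨.o,.n,.n,.e,.o,.e,.o⟩,⟨.o,.e,.e,.n,.o,.n,.e⟩,⟨.o,.o,.o,.o,.e,.e,.e⟩⟩,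
   ⟨⟨.o,.n,.e,.o,.o,.o,.o⟩,⟨.n,.n,.e,.o,.o,.o,.o⟩,⟨.e,.e,.n,.o,.n,.e,.o⟩,⟨.o,.o,.o,.n,.n,.e,.o⟩,⟨.o,.o,.n,.e,.n,.e,.o⟩,⟨.o,.o,.e,.n,.e,.n,.e⟩,⟨.o,.o,.o,.o,.o,.e,.e⟩⟩,
   ⟨⟨.o,.e,.o,.o,.o,.o,.o⟩,⟨.e,.n,.o,.o,.e,.o,.o⟩,⟨.n,.e,.o,.o,.e,.o,.o⟩,⟨.o,.o,.o,.n,.e,.o,.o⟩,⟨.o,.n,.n,.n,.n,.o,.e⟩,⟨.o,.e,.e,.e,.e,.o,.e⟩,⟨.o,.o,.o,.o,.n,.n,.e⟩⟩,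
   ⟨⟨.o,.e,.o,.o,.o,.o,.o⟩,⟨.n,.e,.o,.o,.o,.o,.o⟩,⟨.e,.n,.o,.o,.e,.o,.o⟩,⟨.o,.o,.o,.n,.e,.o,.o⟩,⟨.o,.e,.e,.e,.e,.o,.o⟩,⟨.o,.n,.n,.n,.n,.o,.e⟩,⟨.o,.o,.o,.o,.n,.n,.e⟩⟩,
   ⟨⟨.o,.o,.e,.o,.o,.o,.o⟩,⟨.n,.o,.e,.o,.o,.o,.o⟩,⟨.e,.o,.n,.o,.o,.e,.o⟩,⟨.o,.o,.o,.n,.o,.e,.o⟩,⟨.o,.n,.o,.e,.o,.e,.o⟩,⟨.o,.e,.e,.n,.o,.n,.e⟩,⟨.n,.o,.e,.o,.e,.o,.e⟩⟩,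
   ⟨⟨.o,.e,.o,.o,.o,.o,.o⟩,⟨.n,.e,.o,.o,.o,.o,.o⟩,⟨.e,.n,.o,.o,.e,.o,.o⟩,⟨.o,.o,.o,.n,.e,.o,.o⟩,⟨.o,.o,.e,.e,.e,.o,.o⟩,⟨.o,.e,.n,.n,.n,.o,.e⟩,⟨.n,.e,.o,.o,.o,.n,.e⟩⟩,
   ⟨⟨.o,.n,.o,.o,.o,.o,.o⟩,⟨.e,.e,.o,.o,.o,.o,.o⟩,⟨.n,.n,.o,.o,.e,.o,.o⟩,⟨.o,.o,.o,.n,.n,.o,.o⟩,⟨.o,.e,.e,.n,.e,.o,.o⟩,⟨.o,.e,.n,.e,.n,.o,.n⟩,⟨.e,.e,.o,.o,.e,.e,.e⟩⟩,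
   ⟨⟨.o,.n,.e,.o,.o,.o,.o⟩,⟨.n,.n,.e,.o,.o,.o,.o⟩,⟨.e,.e,.n,.o,.n,.e,.o⟩,⟨.o,.o,.o,.n,.n,.e,.o⟩,⟨.o,.n,.o,.e,.n,.e,.o⟩,⟨.o,.o,.e,.n,.e,.n,.e⟩,⟨.n,.n,.e,.o,.e,.o,.e⟩⟩]

/-- part 12 -/
def repPart12 : List M7 :=
  [⟨⟨.o,.o,.e,.n,.e,.o,.o⟩,⟨.n,.n,.e,.n,.e,.o,.o⟩,⟨.e,.e,.n,.e,.n,.e,.e⟩,⟨.o,.o,.o,.n,.n,.e,.e⟩,⟨.o,.n,.n,.n,.o,.e,.e⟩,⟨.o,.e,.o,.n,.n,.n,.o⟩,⟨.e,.e,.n,.e,.o,.e,.n⟩⟩,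
   ⟨⟨.o,.n,.e,.o,.o,.o,.o⟩,⟨.n,.e,.n,.o,.o,.o,.o⟩,⟨.e,.n,.e,.o,.n,.e,.o⟩,⟨.o,.o,.o,.n,.e,.n,.o⟩,⟨.o,.o,.n,.n,.n,.e,.o⟩,⟨.o,.e,.o,.e,.e,.n,.e⟩,⟨.e,.n,.e,.o,.o,.e,.n⟩⟩,
   ⟨⟨.o,.n,.o,.o,.o,.o,.o⟩,⟨.e,.n,.o,.o,.o,.o,.o⟩,⟨.n,.e,.o,.o,.e,.o,.o⟩,⟨.o,.o,.o,.n,.e,.o,.o⟩,⟨.o,.e,.e,.e,.e,.o,.o⟩,⟨.o,.o,.n,.n,.n,.o,.n⟩,⟨.n,.e,.o,.o,.e,.e,.n⟩⟩,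
   ⟨⟨.o,.e,.o,.o,.o,.o,.o⟩,⟨.n,.e,.o,.o,.o,.o,.o⟩,⟨.e,.n,.o,.o,.e,.o,.o⟩,⟨.o,.o,.o,.n,.e,.o,.o⟩,⟨.o,.e,.e,.e,.e,.o,.o⟩,⟨.o,.e,.n,.n,.n,.o,.e⟩,⟨.e,.n,.o,.o,.n,.n,.e⟩⟩,
   ⟨⟨.o,.o,.e,.o,.o,.o,.o⟩,⟨.n,.o,.e,.o,.o,.o,.o⟩,⟨.e,.o,.n,.o,.o,.e,.o⟩,⟨.o,.o,.n,.n,.o,.e,.o⟩,⟨.n,.n,.o,.e,.o,.e,.o⟩,⟨.e,.e,.o,.n,.o,.o,.e⟩,⟨.o,.o,.e,.n,.e,.n,.e⟩⟩,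
   ⟨⟨.o,.e,.e,.o,.o,.o,.o⟩,⟨.n,.e,.e,.o,.o,.o,.o⟩,⟨.e,.n,.n,.o,.e,.e,.o⟩,⟨.o,.n,.n,.n,.e,.e,.o⟩,⟨.n,.e,.n,.e,.e,.e,.o⟩,⟨.e,.n,.e,.n,.o,.o,.e⟩,⟨.o,.e,.e,.n,.e,.o,.e⟩⟩,
   ⟨⟨.o,.e,.e,.o,.o,.o,.o⟩,⟨.n,.e,.e,.o,.o,.o,.o⟩,⟨.e,.n,.n,.o,.e,.e,.o⟩,⟨.o,.n,.n,.n,.e,.e,.o⟩,⟨.n,.o,.e,.e,.e,.e,.o⟩,⟨.e,.o,.n,.n,.o,.o,.e⟩,⟨.o,.e,.e,.n,.n,.e,.e⟩⟩,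
   ⟨⟨.o,.e,.e,.o,.o,.o,.o⟩,⟨.n,.e,.e,.o,.o,.o,.o⟩,⟨.e,.n,.n,.o,.e,.e,.o⟩,⟨.o,.n,.n,.n,.e,.e,.o⟩,⟨.n,.n,.o,.e,.e,.e,.o⟩,⟨.e,.e,.o,.n,.o,.o,.e⟩,⟨.o,.e,.e,.n,.o,.n,.e⟩⟩,
   ⟨⟨.o,.o,.e,.o,.o,.o,.o⟩,⟨.n,.o,.e,.o,.o,.o,.o⟩,⟨.e,.o,.n,.o,.o,.e,.o⟩,⟨.o,.o,.n,.n,.o,.e,.o⟩,⟨.n,.n,.e,.e,.o,.e,.o⟩,⟨.e,.e,.o,.n,.o,.o,.e⟩,⟨.n,.o,.n,.n,.e,.e,.e⟩⟩,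
   ⟨⟨.o,.e,.o,.o,.o,.o,.o⟩,⟨.e,.o,.o,.o,.o,.o,.o⟩,⟨.n,.o,.o,.o,.n,.o,.o⟩,⟨.o,.n,.o,.n,.o,.o,.o⟩,⟨.e,.o,.n,.o,.o,.o,.o⟩,⟨.n,.e,.e,.o,.n,.o,.n⟩,⟨.e,.e,.o,.n,.o,.n,.o⟩⟩,
   ⟨⟨.o,.e,.e,.o,.o,.o,.o⟩,⟨.n,.e,.e,.o,.o,.o,.o⟩,⟨.e,.n,.n,.o,.e,.e,.o⟩,⟨.o,.n,.n,.n,.e,.e,.o⟩,⟨.n,.o,.e,.e,.e,.e,.o⟩,⟨.e,.e,.o,.n,.o,.o,.e⟩,⟨.n,.n,.n,.n,.n,.e,.e⟩⟩,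
   ⟨⟨.o,.n,.e,.o,.o,.o,.o⟩,⟨.n,.n,.e,.o,.o,.o,.o⟩,⟨.e,.e,.n,.o,.n,.e,.o⟩,⟨.o,.e,.n,.n,.n,.e,.o⟩,⟨.n,.e,.e,.e,.n,.e,.o⟩,⟨.e,.e,.o,.n,.o,.o,.e⟩,⟨.n,.e,.n,.n,.o,.e,.e⟩⟩,
   ⟨⟨.o,.o,.e,.n,.e,.o,.o⟩,⟨.n,.n,.e,.n,.e,.o,.o⟩,⟨.e,.e,.n,.e,.n,.e,.e⟩,⟨.o,.o,.n,.o,.e,.e,.e⟩,⟨.n,.e,.n,.n,.o,.e,.e⟩,⟨.e,.n,.o,.n,.n,.o,.e⟩,⟨.e,.e,.o,.n,.o,.o,.e⟩⟩,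
   ⟨⟨.o,.e,.o,.o,.o,.o,.o⟩,⟨.n,.o,.o,.o,.o,.o,.o⟩,⟨.e,.o,.o,.o,.e,.o,.o⟩,⟨.o,.n,.o,.n,.o,.o,.o⟩,⟨.n,.o,.e,.o,.o,.o,.o⟩,⟨.e,.n,.n,.o,.e,.o,.e⟩,⟨.e,.e,.o,.n,.o,.n,.o⟩⟩,
   ⟨⟨.o,.e,.e,.o,.o,.o,.o⟩,⟨.e,.n,.n,.o,.e,.e,.o⟩,⟨.n,.e,.e,.o,.e,.e,.o⟩,⟨.o,.n,.n,.n,.e,.e,.o⟩,⟨.e,.e,.o,.n,.o,.o,.e⟩,⟨.n,.e,.n,.e,.n,.n,.e⟩,⟨.n,.n,.n,.n,.n,.e,.e⟩⟩,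
   ⟨⟨.o,.e,.o,.o,.o,.o,.o⟩,⟨.n,.o,.o,.o,.n,.o,.o⟩,⟨.e,.o,.o,.o,.n,.o,.o⟩,⟨.o,.n,.o,.n,.o,.o,.o⟩,⟨.n,.e,.e,.o,.n,.o,.n⟩,⟨.e,.e,.n,.o,.n,.o,.n⟩,⟨.e,.e,.o,.n,.o,.n,.o⟩⟩,
   ⟨⟨.o,.o,.e,.o,.o,.o,.o⟩,⟨.n,.o,.e,.o,.o,.o,.o⟩,⟨.e,.o,.n,.o,.o,.e,.o⟩,⟨.o,.o,.e,.n,.o,.e,.o⟩,⟨.e,.n,.e,.e,.o,.e,.o⟩,⟨.n,.e,.n,.n,.o,.e,.e⟩,⟨.o,.o,.e,.e,.e,.o,.e⟩⟩,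
   ⟨⟨.o,.e,.e,.e,.e,.o,.o⟩,⟨.e,.o,.e,.e,.e,.o,.o⟩,⟨.n,.o,.n,.n,.e,.n,.e⟩,⟨.o,.e,.e,.o,.e,.n,.e⟩,⟨.n,.o,.e,.n,.n,.n,.e⟩,⟨.e,.o,.n,.e,.n,.n,.o⟩,⟨.o,.e,.e,.n,.e,.o,.n⟩⟩,
   ⟨⟨.o,.n,.n,.o,.o,.o,.o⟩,⟨.e,.e,.e,.o,.o,.o,.o⟩,⟨.n,.n,.n,.o,.e,.e,.o⟩,⟨.o,.n,.n,.n,.n,.n,.o⟩,⟨.n,.o,.e,.n,.e,.e,.o⟩,⟨.e,.o,.n,.e,.e,.e,.n⟩,⟨.o,.n,.n,.e,.n,.o,.e⟩⟩,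
   ⟨⟨.o,.e,.e,.o,.o,.o,.o⟩,⟨.n,.e,.e,.o,.o,.o,.o⟩,⟨.e,.n,.n,.o,.e,.e,.o⟩,⟨.o,.e,.e,.n,.e,.e,.o⟩,⟨.e,.o,.e,.e,.e,.e,.o⟩,⟨.n,.o,.n,.n,.e,.e,.e⟩,⟨.o,.e,.e,.e,.e,.o,.e⟩⟩,
   ⟨⟨.o,.o,.e,.e,.e,.o,.o⟩,⟨.e,.n,.o,.o,.o,.o,.o⟩,⟨.n,.e,.o,.o,.o,.n,.e⟩,⟨.o,.o,.e,.o,.n,.o,.o⟩,⟨.n,.n,.e,.e,.e,.o,.o⟩,⟨.e,.e,.o,.o,.o,.e,.e⟩,⟨.e,.n,.e,.n,.e,.e,.n⟩⟩,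
   ⟨⟨.o,.e,.o,.o,.o,.o,.o⟩,⟨.n,.o,.o,.o,.o,.o,.o⟩,⟨.e,.o,.o,.o,.e,.o,.o⟩,⟨.o,.e,.o,.n,.o,.o,.o⟩,⟨.e,.o,.e,.o,.o,.o,.o⟩,⟨.n,.e,.n,.o,.n,.o,.e⟩,⟨.n,.e,.o,.e,.o,.n,.o⟩⟩,
   ⟨⟨.o,.n,.o,.o,.o,.o,.o⟩,⟨.e,.n,.o,.o,.o,.o,.o⟩,⟨.n,.e,.o,.o,.e,.o,.o⟩,⟨.o,.n,.o,.n,.e,.o,.o⟩,⟨.n,.n,.e,.e,.e,.o,.o⟩,⟨.e,.o,.n,.n,.e,.o,.n⟩,⟨.e,.e,.o,.e,.o,.e,.n⟩⟩,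
   ⟨⟨.o,.e,.o,.o,.o,.o,.o⟩,⟨.n,.o,.o,.o,.o,.o,.o⟩,⟨.e,.o,.o,.o,.e,.o,.o⟩,⟨.o,.e,.o,.n,.o,.o,.o⟩,⟨.e,.e,.e,.o,.o,.o,.o⟩,⟨.n,.o,.n,.o,.n,.o,.e⟩,⟨.n,.e,.o,.e,.n,.n,.o⟩⟩,
   ⟨⟨.o,.o,.e,.o,.o,.o,.o⟩,⟨.n,.o,.o,.o,.o,.o,.o⟩,⟨.e,.o,.o,.o,.o,.e,.o⟩,⟨.o,.o,.e,.n,.o,.o,.o⟩,⟨.e,.n,.n,.o,.o,.o,.o⟩,⟨.n,.e,.o,.o,.o,.n,.e⟩,⟨.e,.o,.e,.e,.e,.e,.o⟩⟩,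
   ⟨⟨.o,.e,.o,.o,.o,.o,.o⟩,⟨.n,.o,.o,.o,.o,.o,.o⟩,⟨.e,.o,.o,.o,.e,.o,.o⟩,⟨.o,.e,.o,.n,.o,.o,.o⟩,⟨.e,.o,.e,.o,.o,.o,.o⟩,⟨.n,.n,.n,.o,.n,.o,.e⟩,⟨.e,.e,.o,.e,.o,.n,.o⟩⟩,
   ⟨⟨.o,.n,.n,.o,.o,.o,.o⟩,⟨.n,.e,.e,.o,.o,.o,.o⟩,⟨.e,.n,.n,.o,.n,.n,.o⟩,⟨.o,.n,.n,.n,.e,.e,.o⟩,⟨.e,.o,.n,.n,.n,.n,.o⟩,⟨.n,.e,.n,.e,.n,.n,.e⟩,⟨.e,.e,.e,.e,.e,.n,.n⟩⟩,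
   ⟨⟨.o,.e,.o,.o,.o,.o,.o⟩,⟨.n,.o,.o,.o,.o,.o,.o⟩,⟨.e,.o,.o,.o,.e,.o,.o⟩,⟨.o,.e,.o,.n,.o,.o,.o⟩,⟨.e,.e,.e,.o,.o,.o,.o⟩,⟨.n,.e,.n,.o,.n,.o,.e⟩,⟨.e,.e,.o,.e,.n,.n,.o⟩⟩,
   ⟨⟨.o,.o,.e,.o,.o,.o,.o⟩,⟨.n,.o,.e,.o,.o,.o,.o⟩,⟨.e,.o,.e,.o,.o,.e,.o⟩,⟨.n,.o,.e,.n,.o,.e,.o⟩,⟨.o,.n,.n,.e,.o,.e,.o⟩,⟨.e,.e,.o,.e,.o,.o,.e⟩,⟨.o,.n,.n,.e,.e,.n,.e⟩⟩,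
   ⟨⟨.o,.e,.o,.o,.o,.o,.o⟩,⟨.n,.n,.o,.o,.n,.o,.o⟩,⟨.e,.o,.o,.o,.n,.o,.o⟩,⟨.n,.n,.o,.n,.e,.o,.o⟩,⟨.o,.o,.e,.n,.e,.o,.n⟩,⟨.e,.e,.n,.o,.n,.o,.n⟩,⟨.o,.o,.e,.n,.e,.n,.e⟩⟩,
   ⟨⟨.o,.n,.e,.o,.o,.o,.o⟩,⟨.n,.n,.e,.o,.o,.o,.o⟩,⟨.e,.n,.e,.o,.n,.e,.o⟩,⟨.n,.n,.e,.n,.n,.e,.o⟩,⟨.o,.e,.e,.e,.n,.e,.o⟩,⟨.e,.o,.e,.e,.o,.o,.e⟩,⟨.o,.e,.e,.e,.e,.o,.e⟩⟩,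
   ⟨⟨.o,.e,.o,.o,.o,.o,.o⟩,⟨.n,.n,.o,.o,.n,.o,.o⟩,⟨.e,.o,.o,.o,.n,.o,.o⟩,⟨.n,.n,.o,.n,.e,.o,.o⟩,⟨.o,.e,.e,.n,.e,.o,.n⟩,⟨.e,.o,.n,.o,.n,.o,.n⟩,⟨.o,.e,.e,.n,.o,.n,.e⟩⟩]

/-- part 13 -/
def repPart13 : List M7 :=
  [⟨⟨.o,.o,.e,.o,.o,.o,.o⟩,⟨.n,.o,.o,.o,.o,.o,.o⟩,⟨.e,.o,.n,.o,.o,.e,.o⟩,⟨.n,.o,.o,.n,.o,.o,.o⟩,⟨.o,.n,.e,.o,.o,.o,.o⟩,⟨.e,.e,.o,.n,.o,.o,.e⟩,⟨.n,.n,.e,.o,.e,.n,.o⟩⟩,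
   ⟨⟨.o,.e,.e,.o,.o,.o,.o⟩,⟨.n,.o,.o,.o,.o,.o,.o⟩,⟨.e,.n,.n,.o,.e,.e,.o⟩,⟨.n,.o,.o,.n,.o,.o,.o⟩,⟨.o,.o,.e,.o,.o,.o,.o⟩,⟨.e,.e,.o,.n,.o,.o,.e⟩,⟨.n,.o,.e,.o,.o,.n,.o⟩⟩,
   ⟨⟨.o,.e,.o,.o,.o,.o,.o⟩,⟨.n,.o,.o,.o,.o,.o,.o⟩,⟨.e,.n,.o,.o,.e,.o,.o⟩,⟨.n,.o,.o,.n,.o,.o,.o⟩,⟨.o,.n,.e,.o,.o,.o,.o⟩,⟨.e,.n,.n,.n,.o,.o,.e⟩,⟨.n,.n,.e,.o,.e,.n,.o⟩⟩,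
   ⟨⟨.o,.n,.n,.o,.o,.o,.o⟩,⟨.n,.o,.o,.o,.o,.o,.o⟩,⟨.e,.e,.e,.o,.n,.n,.o⟩,⟨.n,.o,.o,.n,.o,.o,.o⟩,⟨.o,.n,.e,.o,.o,.o,.o⟩,⟨.e,.o,.e,.n,.o,.o,.e⟩,⟨.n,.n,.e,.o,.e,.n,.o⟩⟩,
   ⟨⟨.o,.o,.n,.o,.o,.o,.o⟩,⟨.n,.o,.e,.o,.o,.o,.o⟩,⟨.e,.o,.o,.o,.o,.n,.o⟩,⟨.n,.o,.e,.n,.o,.e,.o⟩,⟨.o,.e,.n,.n,.o,.n,.o⟩,⟨.e,.n,.e,.o,.o,.n,.e⟩,⟨.e,.e,.e,.n,.n,.o,.n⟩⟩,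
   ⟨⟨.o,.e,.o,.o,.o,.o,.o⟩,⟨.e,.n,.o,.o,.e,.o,.o⟩,⟨.n,.o,.o,.o,.e,.o,.o⟩,⟨.e,.n,.o,.n,.n,.o,.o⟩,⟨.o,.o,.n,.n,.n,.o,.e⟩,⟨.n,.o,.e,.o,.e,.o,.e⟩,⟨.n,.e,.n,.n,.e,.n,.n⟩⟩,
   ⟨⟨.o,.e,.o,.o,.o,.o,.o⟩,⟨.n,.e,.o,.o,.e,.o,.o⟩,⟨.e,.e,.o,.o,.o,.o,.o⟩,⟨.n,.e,.o,.n,.n,.o,.o⟩,⟨.o,.n,.e,.e,.e,.o,.e⟩,⟨.e,.n,.n,.e,.n,.o,.o⟩,⟨.e,.e,.e,.e,.e,.n,.n⟩⟩,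
   ⟨⟨.o,.e,.o,.o,.o,.o,.o⟩,⟨.e,.n,.o,.o,.e,.o,.o⟩,⟨.n,.o,.o,.o,.e,.o,.o⟩,⟨.e,.n,.o,.n,.n,.o,.o⟩,⟨.o,.e,.n,.n,.n,.o,.e⟩,⟨.n,.n,.e,.o,.e,.o,.e⟩,⟨.n,.n,.n,.n,.n,.n,.n⟩⟩,
   ⟨⟨.o,.o,.e,.e,.e,.o,.o⟩,⟨.e,.n,.n,.n,.n,.o,.o⟩,⟨.n,.e,.o,.o,.o,.n,.e⟩,⟨.e,.n,.e,.o,.n,.e,.n⟩,⟨.e,.o,.n,.e,.o,.n,.e⟩,⟨.e,.e,.o,.o,.o,.e,.e⟩,⟨.o,.e,.e,.n,.e,.o,.e⟩⟩,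
   ⟨⟨.o,.e,.o,.o,.o,.o,.o⟩,⟨.n,.n,.o,.o,.o,.o,.o⟩,⟨.e,.o,.o,.o,.e,.o,.o⟩,⟨.n,.e,.o,.n,.n,.o,.o⟩,⟨.n,.n,.e,.n,.e,.o,.o⟩,⟨.n,.o,.n,.o,.n,.o,.e⟩,⟨.o,.e,.e,.e,.o,.n,.n⟩⟩,
   ⟨⟨.o,.e,.o,.o,.o,.o,.o⟩,⟨.n,.n,.o,.o,.o,.o,.o⟩,⟨.e,.o,.o,.o,.e,.o,.o⟩,⟨.n,.e,.o,.n,.n,.o,.o⟩,⟨.n,.e,.e,.n,.e,.o,.o⟩,⟨.n,.e,.n,.o,.n,.o,.e⟩,⟨.o,.o,.e,.e,.e,.n,.n⟩⟩,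
   ⟨⟨.o,.n,.o,.o,.o,.o,.o⟩,⟨.e,.o,.o,.o,.o,.o,.o⟩,⟨.n,.e,.o,.o,.e,.o,.o⟩,⟨.e,.e,.o,.n,.o,.o,.o⟩,⟨.e,.n,.e,.o,.o,.o,.o⟩,⟨.e,.o,.n,.n,.e,.o,.n⟩,⟨.o,.e,.e,.n,.n,.e,.o⟩⟩,
   ⟨⟨.o,.o,.e,.o,.o,.o,.o⟩,⟨.n,.o,.n,.o,.o,.o,.o⟩,⟨.e,.o,.o,.o,.o,.e,.o⟩,⟨.n,.o,.e,.n,.o,.n,.o⟩,⟨.n,.n,.o,.n,.o,.e,.o⟩,⟨.n,.e,.o,.o,.o,.n,.e⟩,⟨.n,.n,.e,.e,.e,.n,.n⟩⟩,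
   ⟨⟨.o,.e,.o,.o,.o,.o,.o⟩,⟨.n,.n,.o,.o,.o,.o,.o⟩,⟨.e,.o,.o,.o,.e,.o,.o⟩,⟨.n,.e,.o,.n,.n,.o,.o⟩,⟨.n,.n,.e,.n,.e,.o,.o⟩,⟨.n,.e,.n,.o,.n,.o,.e⟩,⟨.n,.o,.e,.e,.o,.n,.n⟩⟩,
   ⟨⟨.o,.e,.o,.o,.o,.o,.o⟩,⟨.n,.n,.o,.o,.o,.o,.o⟩,⟨.e,.o,.o,.o,.e,.o,.o⟩,⟨.n,.e,.o,.n,.n,.o,.o⟩,⟨.n,.e,.e,.n,.e,.o,.o⟩,⟨.n,.n,.n,.o,.n,.o,.e⟩,⟨.n,.n,.e,.e,.e,.n,.n⟩⟩,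
   ⟨⟨.o,.e,.n,.o,.o,.o,.o⟩,⟨.e,.n,.e,.o,.o,.o,.o⟩,⟨.n,.o,.o,.o,.n,.e,.o⟩,⟨.e,.e,.n,.n,.e,.n,.o⟩,⟨.e,.o,.n,.n,.n,.e,.o⟩,⟨.e,.o,.e,.o,.e,.n,.n⟩,⟨.e,.e,.e,.e,.e,.e,.e⟩⟩,
   ⟨⟨.o,.o,.n,.o,.o,.o,.o⟩,⟨.n,.o,.n,.o,.o,.o,.o⟩,⟨.e,.o,.n,.o,.o,.n,.o⟩,⟨.n,.o,.o,.n,.o,.n,.o⟩,⟨.n,.e,.e,.e,.o,.n,.o⟩,⟨.n,.n,.o,.e,.o,.n,.e⟩,⟨.e,.e,.n,.o,.n,.n,.e⟩⟩,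
   ⟨⟨.o,.e,.o,.o,.o,.o,.o⟩,⟨.n,.n,.o,.o,.o,.o,.o⟩,⟨.e,.o,.o,.o,.e,.o,.o⟩,⟨.n,.e,.o,.n,.n,.o,.o⟩,⟨.n,.n,.e,.n,.e,.o,.o⟩,⟨.n,.n,.n,.o,.n,.o,.e⟩,⟨.e,.n,.e,.e,.o,.n,.n⟩⟩,
   ⟨⟨.o,.e,.o,.o,.o,.o,.o⟩,⟨.n,.n,.o,.o,.o,.o,.o⟩,⟨.e,.o,.o,.o,.e,.o,.o⟩,⟨.n,.e,.o,.n,.n,.o,.o⟩,⟨.n,.e,.e,.n,.e,.o,.o⟩,⟨.n,.o,.n,.o,.n,.o,.e⟩,⟨.e,.e,.e,.e,.e,.n,.n⟩⟩,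
   ⟨⟨.o,.e,.n,.o,.o,.o,.o⟩,⟨.n,.e,.n,.o,.o,.o,.o⟩,⟨.e,.e,.n,.o,.e,.n,.o⟩,⟨.n,.o,.o,.n,.e,.n,.o⟩,⟨.n,.n,.n,.e,.e,.n,.o⟩,⟨.n,.o,.n,.e,.e,.n,.e⟩,⟨.e,.e,.o,.o,.e,.e,.e⟩⟩,
   ⟨⟨.o,.o,.e,.o,.o,.o,.o⟩,⟨.n,.o,.o,.o,.o,.o,.o⟩,⟨.e,.o,.n,.o,.o,.e,.o⟩,⟨.n,.o,.e,.n,.o,.o,.o⟩,⟨.e,.n,.e,.o,.o,.o,.o⟩,⟨.o,.e,.e,.n,.o,.n,.e⟩,⟨.o,.n,.n,.e,.e,.n,.o⟩⟩,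
   ⟨⟨.o,.e,.o,.o,.o,.o,.o⟩,⟨.n,.e,.o,.o,.o,.o,.o⟩,⟨.e,.e,.o,.o,.e,.o,.o⟩,⟨.n,.n,.o,.n,.e,.o,.o⟩,⟨.e,.n,.e,.e,.e,.o,.o⟩,⟨.o,.n,.n,.e,.n,.o,.e⟩,⟨.o,.e,.e,.n,.o,.n,.e⟩⟩,
   ⟨⟨.o,.e,.o,.o,.o,.o,.o⟩,⟨.n,.e,.o,.o,.o,.o,.o⟩,⟨.e,.e,.o,.o,.e,.o,.o⟩,⟨.n,.n,.o,.n,.e,.o,.o⟩,⟨.e,.e,.e,.e,.e,.o,.o⟩,⟨.o,.o,.n,.e,.n,.o,.e⟩,⟨.o,.o,.e,.n,.e,.n,.e⟩⟩,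
   ⟨⟨.o,.n,.e,.o,.o,.o,.o⟩,⟨.n,.n,.e,.o,.o,.o,.o⟩,⟨.e,.n,.e,.o,.n,.e,.o⟩,⟨.n,.e,.n,.n,.n,.e,.o⟩,⟨.e,.o,.n,.e,.n,.e,.o⟩,⟨.o,.n,.n,.e,.e,.n,.e⟩,⟨.o,.e,.e,.n,.e,.o,.e⟩⟩,
   ⟨⟨.o,.o,.e,.n,.e,.o,.o⟩,⟨.n,.n,.n,.e,.n,.o,.o⟩,⟨.e,.e,.o,.o,.o,.e,.e⟩,⟨.n,.n,.o,.n,.n,.n,.n⟩,⟨.e,.o,.e,.e,.o,.e,.e⟩,⟨.o,.e,.o,.o,.o,.o,.e⟩,⟨.n,.e,.o,.o,.e,.n,.e⟩⟩,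
   ⟨⟨.o,.e,.o,.o,.o,.o,.o⟩,⟨.n,.e,.o,.o,.o,.o,.o⟩,⟨.e,.e,.o,.o,.e,.o,.o⟩,⟨.n,.n,.o,.n,.e,.o,.o⟩,⟨.e,.n,.e,.e,.e,.o,.o⟩,⟨.o,.o,.n,.e,.n,.o,.e⟩,⟨.n,.n,.e,.n,.o,.n,.e⟩⟩,
   ⟨⟨.o,.e,.o,.o,.o,.o,.o⟩,⟨.n,.o,.o,.o,.o,.o,.o⟩,⟨.e,.n,.o,.o,.e,.o,.o⟩,⟨.n,.e,.o,.n,.o,.o,.o⟩,⟨.e,.n,.e,.o,.o,.o,.o⟩,⟨.o,.e,.n,.n,.n,.o,.e⟩,⟨.n,.o,.e,.e,.e,.n,.o⟩⟩,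
   ⟨⟨.o,.e,.o,.o,.o,.o,.o⟩,⟨.e,.e,.o,.o,.e,.o,.o⟩,⟨.n,.e,.o,.o,.e,.o,.o⟩,⟨.e,.n,.o,.n,.o,.o,.o⟩,⟨.n,.o,.n,.e,.e,.o,.e⟩,⟨.o,.n,.e,.e,.e,.o,.e⟩,⟨.e,.o,.n,.n,.n,.n,.o⟩⟩,
   ⟨⟨.o,.o,.e,.o,.o,.o,.o⟩,⟨.n,.o,.n,.o,.o,.o,.o⟩,⟨.e,.o,.o,.o,.o,.e,.o⟩,⟨.n,.o,.o,.n,.o,.n,.o⟩,⟨.e,.n,.n,.n,.o,.e,.o⟩,⟨.o,.e,.o,.o,.o,.o,.e⟩,⟨.e,.n,.o,.o,.e,.e,.n⟩⟩,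
   ⟨⟨.o,.e,.o,.o,.o,.o,.o⟩,⟨.n,.o,.o,.o,.n,.o,.o⟩,⟨.e,.n,.o,.o,.n,.o,.o⟩,⟨.n,.e,.o,.n,.n,.o,.o⟩,⟨.e,.o,.e,.o,.e,.o,.n⟩,⟨.o,.e,.n,.n,.n,.o,.n⟩,⟨.e,.e,.e,.e,.e,.n,.n⟩⟩,
   ⟨⟨.o,.n,.e,.o,.o,.o,.o⟩,⟨.n,.n,.e,.o,.o,.o,.o⟩,⟨.e,.n,.e,.o,.n,.e,.o⟩,⟨.n,.e,.n,.n,.n,.e,.o⟩,⟨.e,.n,.o,.e,.n,.e,.o⟩,⟨.o,.e,.o,.e,.e,.n,.e⟩,⟨.e,.e,.e,.n,.n,.n,.e⟩⟩,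
   ⟨⟨.o,.n,.o,.o,.o,.o,.o⟩,⟨.e,.o,.o,.o,.o,.o,.o⟩,⟨.n,.e,.o,.o,.e,.o,.o⟩,⟨.e,.n,.o,.n,.o,.o,.o⟩,⟨.n,.n,.e,.o,.o,.o,.o⟩,⟨.o,.o,.n,.n,.n,.o,.n⟩,⟨.n,.e,.e,.e,.n,.e,.o⟩⟩]

/-- part 14 -/
def repPart14 : List M7 :=
  [⟨⟨.o,.o,.e,.n,.e,.o,.o⟩,⟨.n,.n,.e,.n,.e,.o,.o⟩,⟨.e,.e,.o,.o,.o,.e,.e⟩,⟨.e,.e,.n,.o,.e,.e,.e⟩,⟨.o,.n,.n,.n,.o,.e,.e⟩,⟨.e,.n,.o,.o,.o,.e,.n⟩,⟨.o,.e,.e,.e,.e,.o,.e⟩⟩,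
   ⟨⟨.o,.e,.o,.o,.o,.o,.o⟩,⟨.e,.e,.o,.o,.e,.o,.o⟩,⟨.n,.o,.o,.o,.e,.o,.o⟩,⟨.n,.n,.o,.n,.e,.o,.o⟩,⟨.o,.o,.n,.e,.n,.o,.e⟩,⟨.n,.n,.e,.o,.e,.o,.e⟩,⟨.o,.o,.e,.n,.e,.n,.e⟩⟩,
   ⟨⟨.o,.e,.o,.o,.o,.o,.o⟩,⟨.e,.e,.o,.o,.e,.o,.o⟩,⟨.n,.o,.o,.o,.e,.o,.o⟩,⟨.n,.n,.o,.n,.e,.o,.o⟩,⟨.o,.n,.n,.e,.n,.o,.e⟩,⟨.n,.o,.e,.o,.e,.o,.e⟩,⟨.o,.e,.e,.n,.o,.n,.e⟩⟩,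
   ⟨⟨.o,.n,.e,.o,.o,.o,.o⟩,⟨.e,.n,.e,.o,.n,.e,.o⟩,⟨.n,.o,.o,.o,.n,.e,.o⟩,⟨.n,.e,.n,.n,.n,.e,.o⟩,⟨.o,.n,.n,.e,.e,.n,.e⟩,⟨.n,.n,.o,.o,.n,.e,.e⟩,⟨.o,.e,.e,.n,.e,.o,.e⟩⟩,
   ⟨⟨.o,.o,.e,.o,.o,.o,.o⟩,⟨.n,.o,.e,.o,.o,.o,.o⟩,⟨.e,.o,.o,.o,.o,.e,.o⟩,⟨.e,.o,.n,.n,.o,.e,.o⟩,⟨.o,.n,.o,.e,.o,.e,.o⟩,⟨.e,.e,.o,.o,.o,.e,.e⟩,⟨.n,.e,.e,.n,.e,.n,.e⟩⟩,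
   ⟨⟨.o,.e,.e,.o,.o,.o,.o⟩,⟨.e,.o,.o,.o,.e,.e,.o⟩,⟨.n,.e,.e,.o,.e,.e,.o⟩,⟨.n,.o,.o,.n,.n,.n,.o⟩,⟨.o,.o,.n,.o,.o,.o,.e⟩,⟨.n,.e,.n,.e,.n,.n,.e⟩,⟨.e,.o,.e,.o,.e,.o,.n⟩⟩,
   ⟨⟨.o,.n,.n,.o,.o,.o,.o⟩,⟨.n,.n,.n,.o,.o,.o,.o⟩,⟨.e,.o,.o,.o,.n,.n,.o⟩,⟨.e,.e,.e,.n,.n,.n,.o⟩,⟨.o,.e,.o,.e,.n,.n,.o⟩,⟨.e,.n,.o,.o,.n,.n,.e⟩,⟨.n,.e,.n,.n,.o,.e,.e⟩⟩,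
   ⟨⟨.o,.e,.o,.o,.o,.o,.o⟩,⟨.n,.e,.o,.o,.o,.o,.o⟩,⟨.e,.o,.o,.o,.e,.o,.o⟩,⟨.e,.n,.o,.n,.e,.o,.o⟩,⟨.o,.e,.e,.e,.e,.o,.o⟩,⟨.e,.n,.n,.o,.e,.o,.e⟩,⟨.n,.o,.n,.n,.e,.n,.e⟩⟩,
   ⟨⟨.o,.o,.e,.o,.o,.o,.o⟩,⟨.n,.o,.n,.o,.o,.o,.o⟩,⟨.e,.o,.n,.o,.o,.e,.o⟩,⟨.e,.o,.e,.n,.o,.n,.o⟩,⟨.o,.n,.o,.n,.o,.e,.o⟩,⟨.e,.e,.o,.n,.o,.o,.e⟩,⟨.e,.e,.e,.e,.e,.n,.n⟩⟩,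
   ⟨⟨.o,.e,.e,.o,.o,.o,.o⟩,⟨.n,.n,.n,.o,.o,.o,.o⟩,⟨.e,.n,.n,.o,.e,.e,.o⟩,⟨.e,.e,.e,.n,.n,.n,.o⟩,⟨.o,.o,.e,.n,.e,.e,.o⟩,⟨.e,.o,.n,.n,.o,.o,.e⟩,⟨.e,.e,.o,.e,.n,.e,.n⟩⟩,
   ⟨⟨.o,.e,.e,.o,.o,.o,.o⟩,⟨.n,.n,.n,.o,.o,.o,.o⟩,⟨.e,.n,.n,.o,.e,.e,.o⟩,⟨.e,.e,.e,.n,.n,.n,.o⟩,⟨.o,.n,.o,.n,.e,.e,.o⟩,⟨.e,.e,.o,.n,.o,.o,.e⟩,⟨.e,.n,.e,.e,.o,.n,.n⟩⟩,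
   ⟨⟨.o,.n,.e,.o,.o,.o,.o⟩,⟨.n,.o,.o,.o,.o,.o,.o⟩,⟨.e,.n,.e,.o,.n,.e,.o⟩,⟨.e,.o,.o,.n,.o,.o,.o⟩,⟨.o,.n,.o,.o,.o,.o,.o⟩,⟨.e,.n,.n,.e,.o,.o,.e⟩,⟨.e,.e,.o,.o,.e,.o,.o⟩⟩,
   ⟨⟨.o,.o,.e,.o,.o,.o,.o⟩,⟨.n,.o,.e,.o,.o,.o,.o⟩,⟨.e,.o,.o,.o,.o,.e,.o⟩,⟨.e,.o,.e,.n,.o,.e,.o⟩,⟨.n,.n,.e,.e,.o,.e,.o⟩,⟨.n,.e,.o,.o,.o,.n,.e⟩,⟨.o,.e,.e,.e,.e,.o,.e⟩⟩,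
   ⟨⟨.o,.e,.o,.o,.o,.o,.o⟩,⟨.e,.o,.o,.o,.n,.o,.o⟩,⟨.n,.e,.o,.o,.o,.o,.o⟩,⟨.n,.n,.o,.n,.e,.o,.o⟩,⟨.e,.o,.n,.o,.n,.o,.n⟩,⟨.e,.n,.e,.e,.e,.o,.o⟩,⟨.o,.e,.e,.n,.o,.n,.e⟩⟩,
   ⟨⟨.o,.e,.o,.o,.o,.o,.o⟩,⟨.n,.e,.o,.o,.o,.o,.o⟩,⟨.e,.o,.o,.o,.e,.o,.o⟩,⟨.e,.e,.o,.n,.e,.o,.o⟩,⟨.n,.o,.e,.e,.e,.o,.o⟩,⟨.n,.e,.n,.o,.n,.o,.e⟩,⟨.o,.n,.n,.e,.e,.n,.e⟩⟩,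
   ⟨⟨.o,.e,.o,.o,.o,.o,.o⟩,⟨.n,.e,.o,.o,.o,.o,.o⟩,⟨.e,.o,.o,.o,.e,.o,.o⟩,⟨.e,.e,.o,.n,.e,.o,.o⟩,⟨.n,.n,.e,.e,.e,.o,.o⟩,⟨.n,.n,.n,.o,.n,.o,.e⟩,⟨.o,.o,.n,.e,.n,.n,.e⟩⟩,
   ⟨⟨.o,.o,.e,.o,.o,.o,.o⟩,⟨.n,.o,.n,.o,.o,.o,.o⟩,⟨.e,.o,.n,.o,.o,.e,.o⟩,⟨.e,.o,.o,.n,.o,.n,.o⟩,⟨.n,.n,.n,.n,.o,.e,.o⟩,⟨.n,.e,.n,.n,.o,.e,.e⟩,⟨.n,.e,.o,.o,.e,.e,.n⟩⟩,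
   ⟨⟨.o,.n,.o,.o,.o,.o,.o⟩,⟨.e,.n,.o,.o,.o,.o,.o⟩,⟨.n,.o,.o,.o,.e,.o,.o⟩,⟨.n,.n,.o,.n,.e,.o,.o⟩,⟨.e,.n,.e,.e,.e,.o,.o⟩,⟨.e,.n,.n,.o,.n,.o,.n⟩,⟨.e,.e,.n,.e,.o,.e,.n⟩⟩,
   ⟨⟨.o,.e,.e,.o,.o,.o,.o⟩,⟨.n,.n,.n,.o,.o,.o,.o⟩,⟨.e,.n,.n,.o,.e,.e,.o⟩,⟨.e,.o,.o,.n,.n,.n,.o⟩,⟨.n,.e,.n,.n,.e,.e,.o⟩,⟨.n,.o,.n,.n,.e,.e,.e⟩,⟨.n,.e,.o,.o,.n,.e,.n⟩⟩,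
   ⟨⟨.o,.e,.o,.o,.o,.o,.o⟩,⟨.n,.e,.o,.o,.o,.o,.o⟩,⟨.e,.o,.o,.o,.e,.o,.o⟩,⟨.e,.e,.o,.n,.e,.o,.o⟩,⟨.n,.n,.e,.e,.e,.o,.o⟩,⟨.n,.o,.n,.o,.n,.o,.e⟩,⟨.n,.e,.n,.e,.n,.n,.e⟩⟩,
   ⟨⟨.o,.o,.e,.e,.e,.o,.o⟩,⟨.e,.n,.e,.e,.e,.o,.o⟩,⟨.n,.e,.o,.o,.o,.n,.e⟩,⟨.n,.e,.e,.o,.n,.n,.e⟩,⟨.e,.o,.o,.e,.n,.n,.e⟩,⟨.e,.e,.o,.o,.o,.e,.e⟩,⟨.n,.o,.e,.n,.e,.n,.o⟩⟩,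
   ⟨⟨.o,.e,.o,.o,.o,.o,.o⟩,⟨.e,.n,.o,.o,.e,.o,.o⟩,⟨.n,.n,.o,.o,.e,.o,.o⟩,⟨.n,.o,.o,.n,.o,.o,.o⟩,⟨.e,.n,.n,.n,.o,.o,.e⟩,⟨.e,.o,.e,.n,.o,.o,.e⟩,⟨.n,.n,.e,.o,.e,.n,.o⟩⟩,
   ⟨⟨.o,.e,.o,.o,.o,.o,.o⟩,⟨.n,.e,.o,.o,.o,.o,.o⟩,⟨.e,.o,.o,.o,.e,.o,.o⟩,⟨.e,.e,.o,.n,.e,.o,.o⟩,⟨.n,.o,.e,.e,.e,.o,.o⟩,⟨.n,.o,.n,.o,.n,.o,.e⟩,⟨.e,.e,.n,.e,.e,.n,.e⟩⟩,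
   ⟨⟨.o,.e,.o,.o,.o,.o,.o⟩,⟨.n,.e,.o,.o,.o,.o,.o⟩,⟨.e,.o,.o,.o,.e,.o,.o⟩,⟨.e,.e,.o,.n,.e,.o,.o⟩,⟨.n,.n,.e,.e,.e,.o,.o⟩,⟨.n,.e,.n,.o,.n,.o,.e⟩,⟨.e,.n,.n,.e,.n,.n,.e⟩⟩,
   ⟨⟨.o,.o,.e,.o,.o,.o,.o⟩,⟨.n,.o,.n,.o,.o,.o,.o⟩,⟨.e,.o,.n,.o,.o,.e,.o⟩,⟨.e,.o,.n,.n,.o,.n,.o⟩,⟨.e,.n,.e,.n,.o,.e,.o⟩,⟨.o,.e,.e,.n,.o,.n,.e⟩,⟨.o,.e,.e,.n,.e,.o,.n⟩⟩,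
   ⟨⟨.o,.e,.o,.o,.o,.o,.o⟩,⟨.e,.o,.o,.o,.e,.o,.o⟩,⟨.n,.e,.o,.o,.e,.o,.o⟩,⟨.n,.e,.o,.n,.n,.o,.o⟩,⟨.n,.o,.n,.o,.n,.o,.e⟩,⟨.o,.e,.e,.e,.e,.o,.e⟩,⟨.o,.e,.e,.e,.o,.n,.n⟩⟩,
   ⟨⟨.o,.e,.o,.o,.o,.o,.o⟩,⟨.n,.n,.o,.o,.o,.o,.o⟩,⟨.e,.n,.o,.o,.e,.o,.o⟩,⟨.e,.n,.o,.n,.n,.o,.o⟩,⟨.e,.o,.e,.n,.e,.o,.o⟩,⟨.o,.n,.n,.n,.n,.o,.e⟩,⟨.o,.n,.n,.n,.e,.n,.n⟩⟩,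
   ⟨⟨.o,.n,.e,.o,.o,.o,.o⟩,⟨.n,.e,.n,.o,.o,.o,.o⟩,⟨.e,.e,.n,.o,.n,.e,.o⟩,⟨.e,.e,.n,.n,.e,.n,.o⟩,⟨.e,.e,.e,.n,.n,.e,.o⟩,⟨.o,.o,.e,.n,.e,.n,.e⟩,⟨.o,.o,.e,.n,.e,.o,.n⟩⟩,
   ⟨⟨.o,.o,.e,.o,.o,.o,.o⟩,⟨.n,.o,.n,.o,.o,.o,.o⟩,⟨.e,.o,.n,.o,.o,.e,.o⟩,⟨.e,.o,.n,.n,.o,.n,.o⟩,⟨.e,.n,.n,.n,.o,.e,.o⟩,⟨.o,.e,.e,.n,.o,.n,.e⟩,⟨.n,.e,.n,.n,.e,.n,.n⟩⟩,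
   ⟨⟨.o,.e,.o,.o,.o,.o,.o⟩,⟨.e,.o,.o,.o,.e,.o,.o⟩,⟨.n,.e,.o,.o,.e,.o,.o⟩,⟨.n,.e,.o,.n,.n,.o,.o⟩,⟨.n,.o,.n,.o,.n,.o,.e⟩,⟨.o,.n,.e,.e,.e,.o,.e⟩,⟨.e,.e,.e,.e,.e,.n,.n⟩⟩,
   ⟨⟨.o,.n,.o,.o,.o,.o,.o⟩,⟨.e,.e,.o,.o,.o,.o,.o⟩,⟨.n,.e,.o,.o,.e,.o,.o⟩,⟨.n,.e,.o,.n,.n,.o,.o⟩,⟨.n,.o,.e,.n,.e,.o,.o⟩,⟨.o,.o,.n,.n,.n,.o,.n⟩,⟨.e,.n,.n,.n,.e,.e,.e⟩⟩,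
   ⟨⟨.o,.e,.o,.o,.o,.o,.o⟩,⟨.n,.n,.o,.o,.o,.o,.o⟩,⟨.e,.n,.o,.o,.e,.o,.o⟩,⟨.e,.n,.o,.n,.n,.o,.o⟩,⟨.e,.n,.e,.n,.e,.o,.o⟩,⟨.o,.e,.n,.n,.n,.o,.e⟩,⟨.n,.n,.n,.n,.n,.n,.n⟩⟩]

/-- part 15 -/
def repPart15 : List M7 :=
  [⟨⟨.o,.o,.e,.o,.o,.o,.o⟩,⟨.n,.o,.e,.o,.o,.o,.o⟩,⟨.e,.o,.o,.o,.o,.e,.o⟩,⟨.e,.o,.o,.n,.o,.e,.o⟩,⟨.e,.n,.n,.e,.o,.e,.o⟩,⟨.o,.e,.o,.o,.o,.o,.e⟩,⟨.e,.e,.o,.o,.e,.e,.e⟩⟩,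
   ⟨⟨.o,.n,.o,.o,.o,.o,.o⟩,⟨.e,.e,.o,.o,.o,.o,.o⟩,⟨.n,.e,.o,.o,.e,.o,.o⟩,⟨.n,.e,.o,.n,.n,.o,.o⟩,⟨.n,.n,.e,.n,.e,.o,.o⟩,⟨.o,.o,.n,.n,.n,.o,.n⟩,⟨.n,.e,.n,.n,.o,.e,.e⟩⟩,
   ⟨⟨.o,.n,.o,.o,.o,.o,.o⟩,⟨.e,.e,.o,.o,.o,.o,.o⟩,⟨.n,.e,.o,.o,.e,.o,.o⟩,⟨.n,.e,.o,.n,.n,.o,.o⟩,⟨.n,.o,.e,.n,.e,.o,.o⟩,⟨.o,.n,.n,.n,.n,.o,.n⟩,⟨.n,.o,.n,.n,.e,.e,.e⟩⟩,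
   ⟨⟨.o,.e,.o,.o,.o,.o,.o⟩,⟨.n,.o,.o,.o,.o,.o,.o⟩,⟨.e,.e,.o,.o,.e,.o,.o⟩,⟨.e,.e,.o,.n,.o,.o,.o⟩,⟨.e,.e,.e,.o,.o,.o,.o⟩,⟨.o,.n,.n,.e,.n,.o,.e⟩,⟨.e,.o,.n,.e,.n,.n,.o⟩⟩,
   ⟨⟨.e,.o,.o,.o,.o,.o,.o⟩,⟨.o,.o,.e,.o,.o,.o,.o⟩,⟨.o,.n,.e,.o,.o,.o,.o⟩,⟨.o,.o,.o,.e,.o,.o,.o⟩,⟨.o,.o,.o,.o,.o,.e,.o⟩,⟨.o,.o,.o,.o,.n,.e,.o⟩,⟨.o,.o,.o,.o,.o,.o,.e⟩⟩,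
   ⟨⟨.e,.o,.o,.o,.o,.o,.o⟩,⟨.o,.e,.o,.o,.o,.o,.o⟩,⟨.o,.o,.e,.o,.o,.o,.o⟩,⟨.o,.o,.o,.e,.o,.o,.o⟩,⟨.o,.o,.o,.o,.e,.o,.o⟩,⟨.o,.o,.o,.o,.o,.e,.o⟩,⟨.o,.o,.o,.o,.o,.o,.e⟩⟩,
   ⟨⟨.e,.o,.o,.o,.o,.o,.o⟩,⟨.o,.e,.o,.o,.o,.o,.o⟩,⟨.o,.e,.e,.o,.o,.o,.o⟩,⟨.o,.o,.o,.e,.o,.o,.o⟩,⟨.o,.o,.o,.o,.e,.o,.o⟩,⟨.o,.o,.o,.o,.e,.e,.o⟩,⟨.o,.o,.o,.o,.o,.o,.e⟩⟩,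
   ⟨⟨.e,.o,.o,.o,.o,.o,.o⟩,⟨.o,.e,.o,.o,.o,.o,.o⟩,⟨.o,.n,.e,.o,.o,.o,.o⟩,⟨.o,.o,.o,.e,.o,.o,.o⟩,⟨.o,.o,.o,.o,.e,.o,.o⟩,⟨.o,.o,.o,.o,.n,.e,.o⟩,⟨.o,.o,.o,.o,.o,.o,.e⟩⟩,
   ⟨⟨.e,.e,.o,.o,.o,.o,.o⟩,⟨.o,.o,.n,.e,.n,.o,.o⟩,⟨.o,.e,.e,.n,.e,.o,.o⟩,⟨.o,.o,.o,.e,.e,.o,.o⟩,⟨.o,.o,.o,.o,.o,.n,.n⟩,⟨.e,.e,.o,.o,.e,.e,.e⟩,⟨.o,.o,.n,.e,.n,.o,.e⟩⟩,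
   ⟨⟨.e,.n,.o,.o,.o,.o,.o⟩,⟨.o,.e,.e,.e,.e,.o,.o⟩,⟨.o,.o,.e,.e,.e,.o,.o⟩,⟨.o,.o,.o,.e,.n,.o,.o⟩,⟨.o,.o,.o,.o,.e,.e,.n⟩,⟨.e,.n,.o,.o,.o,.e,.n⟩,⟨.o,.e,.e,.e,.e,.o,.e⟩⟩,
   ⟨⟨.e,.o,.o,.o,.o,.o,.o⟩,⟨.o,.n,.e,.o,.o,.o,.o⟩,⟨.o,.n,.o,.o,.o,.o,.o⟩,⟨.o,.o,.o,.e,.o,.o,.o⟩,⟨.o,.o,.o,.o,.n,.e,.o⟩,⟨.e,.o,.o,.o,.n,.o,.o⟩,⟨.o,.n,.e,.o,.o,.o,.e⟩⟩,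
   ⟨⟨.n,.e,.o,.o,.o,.o,.o⟩,⟨.o,.n,.o,.o,.o,.o,.o⟩,⟨.o,.e,.e,.e,.e,.o,.o⟩,⟨.o,.o,.o,.e,.n,.o,.o⟩,⟨.o,.o,.o,.o,.e,.o,.o⟩,⟨.n,.e,.o,.o,.n,.n,.e⟩,⟨.o,.n,.o,.o,.o,.o,.n⟩⟩,
   ⟨⟨.e,.e,.o,.o,.o,.o,.o⟩,⟨.o,.o,.e,.n,.e,.o,.o⟩,⟨.o,.n,.e,.n,.e,.o,.o⟩,⟨.o,.o,.o,.e,.e,.o,.o⟩,⟨.o,.o,.o,.o,.o,.e,.e⟩,⟨.n,.n,.o,.o,.n,.e,.e⟩,⟨.o,.o,.n,.e,.n,.o,.e⟩⟩,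
   ⟨⟨.e,.e,.o,.o,.o,.o,.o⟩,⟨.o,.e,.e,.n,.e,.o,.o⟩,⟨.o,.o,.e,.n,.e,.o,.o⟩,⟨.o,.o,.o,.e,.e,.o,.o⟩,⟨.o,.o,.o,.o,.e,.e,.e⟩,⟨.n,.n,.o,.o,.o,.e,.e⟩,⟨.o,.n,.n,.e,.n,.o,.e⟩⟩,
   ⟨⟨.e,.o,.o,.o,.o,.o,.o⟩,⟨.o,.e,.o,.o,.o,.o,.o⟩,⟨.o,.e,.e,.o,.o,.o,.o⟩,⟨.o,.o,.o,.e,.o,.o,.o⟩,⟨.o,.o,.o,.o,.e,.o,.o⟩,⟨.n,.o,.o,.o,.e,.e,.o⟩,⟨.o,.n,.o,.o,.o,.o,.e⟩⟩,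
   ⟨⟨.e,.n,.e,.o,.o,.o,.o⟩,⟨.o,.e,.e,.n,.n,.e,.o⟩,⟨.o,.n,.o,.n,.n,.e,.o⟩,⟨.o,.o,.o,.e,.n,.e,.o⟩,⟨.o,.o,.o,.o,.e,.e,.e⟩,⟨.n,.e,.n,.o,.n,.o,.e⟩,⟨.o,.n,.n,.e,.e,.n,.e⟩⟩,
   ⟨⟨.e,.o,.n,.o,.o,.o,.o⟩,⟨.o,.o,.e,.o,.o,.o,.o⟩,⟨.o,.n,.n,.e,.o,.e,.o⟩,⟨.o,.o,.o,.e,.o,.n,.o⟩,⟨.e,.o,.n,.o,.o,.e,.o⟩,⟨.o,.o,.o,.o,.n,.n,.n⟩,⟨.o,.e,.e,.n,.o,.n,.e⟩⟩,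
   ⟨⟨.e,.e,.o,.o,.o,.o,.o⟩,⟨.o,.e,.o,.o,.o,.o,.o⟩,⟨.o,.o,.e,.n,.e,.o,.o⟩,⟨.o,.o,.o,.e,.e,.o,.o⟩,⟨.e,.e,.o,.o,.e,.o,.o⟩,⟨.o,.o,.o,.o,.o,.e,.e⟩,⟨.o,.o,.n,.e,.n,.o,.e⟩⟩,
   ⟨⟨.e,.e,.o,.o,.o,.o,.o⟩,⟨.o,.e,.o,.o,.o,.o,.o⟩,⟨.o,.e,.e,.n,.e,.o,.o⟩,⟨.o,.o,.o,.e,.e,.o,.o⟩,⟨.e,.e,.o,.o,.e,.o,.o⟩,⟨.o,.o,.o,.o,.e,.e,.e⟩,⟨.o,.n,.n,.e,.n,.o,.e⟩⟩,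
   ⟨⟨.e,.e,.o,.o,.o,.o,.o⟩,⟨.o,.n,.e,.n,.e,.o,.o⟩,⟨.o,.e,.e,.n,.e,.o,.o⟩,⟨.o,.o,.o,.e,.e,.o,.o⟩,⟨.e,.e,.o,.o,.n,.e,.e⟩,⟨.o,.o,.o,.o,.e,.e,.e⟩,⟨.o,.n,.n,.e,.n,.o,.e⟩⟩,
   ⟨⟨.e,.o,.n,.o,.o,.o,.o⟩,⟨.o,.o,.e,.o,.o,.o,.o⟩,⟨.o,.n,.o,.e,.o,.e,.o⟩,⟨.o,.o,.o,.e,.o,.n,.o⟩,⟨.e,.o,.n,.o,.o,.e,.o⟩,⟨.e,.o,.n,.o,.n,.o,.n⟩,⟨.o,.e,.e,.n,.o,.n,.e⟩⟩,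
   ⟨⟨.e,.e,.o,.o,.o,.o,.o⟩,⟨.o,.n,.e,.n,.e,.o,.o⟩,⟨.o,.o,.n,.e,.n,.o,.o⟩,⟨.o,.o,.o,.e,.e,.o,.o⟩,⟨.e,.e,.o,.o,.n,.e,.e⟩,⟨.e,.e,.o,.o,.o,.n,.n⟩,⟨.o,.n,.n,.e,.n,.o,.e⟩⟩,
   ⟨⟨.e,.e,.o,.o,.o,.o,.o⟩,⟨.o,.e,.o,.o,.o,.o,.o⟩,⟨.o,.e,.e,.n,.e,.o,.o⟩,⟨.o,.o,.o,.e,.e,.o,.o⟩,⟨.e,.e,.o,.o,.e,.o,.o⟩,⟨.e,.e,.o,.o,.e,.e,.e⟩,⟨.o,.o,.n,.e,.n,.o,.e⟩⟩,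
   ⟨⟨.e,.e,.o,.o,.o,.o,.o⟩,⟨.o,.e,.o,.o,.o,.o,.o⟩,⟨.o,.n,.e,.n,.e,.o,.o⟩,⟨.o,.o,.o,.e,.e,.o,.o⟩,⟨.e,.e,.o,.o,.e,.o,.o⟩,⟨.e,.e,.o,.o,.n,.e,.e⟩,⟨.o,.n,.n,.e,.n,.o,.e⟩⟩,
   ⟨⟨.e,.o,.o,.o,.o,.o,.o⟩,⟨.o,.o,.e,.o,.o,.o,.o⟩,⟨.o,.n,.n,.o,.o,.o,.o⟩,⟨.o,.o,.o,.e,.o,.o,.o⟩,⟨.e,.o,.o,.o,.o,.e,.o⟩,⟨.n,.o,.o,.o,.n,.n,.o⟩,⟨.o,.e,.o,.o,.o,.o,.e⟩⟩,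
   ⟨⟨.e,.e,.o,.o,.o,.o,.o⟩,⟨.o,.e,.o,.o,.o,.o,.o⟩,⟨.o,.o,.e,.n,.e,.o,.o⟩,⟨.o,.o,.o,.e,.e,.o,.o⟩,⟨.e,.e,.o,.o,.e,.o,.o⟩,⟨.n,.n,.o,.o,.o,.e,.e⟩,⟨.o,.n,.n,.e,.n,.o,.e⟩⟩,
   ⟨⟨.e,.n,.e,.o,.o,.o,.o⟩,⟨.o,.n,.e,.o,.o,.o,.o⟩,⟨.o,.n,.o,.n,.n,.e,.o⟩,⟨.o,.o,.o,.e,.n,.e,.o⟩,⟨.e,.n,.e,.o,.n,.e,.o⟩,⟨.n,.e,.n,.o,.n,.o,.e⟩,⟨.o,.n,.n,.e,.e,.n,.e⟩⟩,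
   ⟨⟨.e,.e,.o,.o,.o,.o,.o⟩,⟨.o,.e,.o,.o,.o,.o,.o⟩,⟨.o,.n,.e,.n,.e,.o,.o⟩,⟨.o,.o,.o,.e,.e,.o,.o⟩,⟨.e,.e,.o,.o,.e,.o,.o⟩,⟨.n,.n,.o,.o,.n,.e,.e⟩,⟨.o,.o,.n,.e,.n,.o,.e⟩⟩,
   ⟨⟨.e,.o,.e,.o,.o,.o,.o⟩,⟨.o,.o,.e,.o,.o,.o,.o⟩,⟨.o,.n,.n,.n,.o,.e,.o⟩,⟨.o,.o,.o,.e,.o,.e,.o⟩,⟨.n,.o,.n,.o,.o,.e,.o⟩,⟨.o,.o,.o,.o,.n,.n,.e⟩,⟨.o,.n,.n,.n,.o,.e,.e⟩⟩,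
   ⟨⟨.e,.n,.o,.o,.o,.o,.o⟩,⟨.o,.e,.o,.o,.o,.o,.o⟩,⟨.o,.o,.e,.e,.e,.o,.o⟩,⟨.o,.o,.o,.e,.n,.o,.o⟩,⟨.n,.e,.o,.o,.e,.o,.o⟩,⟨.o,.o,.o,.o,.o,.e,.n⟩,⟨.o,.o,.e,.e,.e,.o,.e⟩⟩,
   ⟨⟨.e,.n,.o,.o,.o,.o,.o⟩,⟨.o,.e,.o,.o,.o,.o,.o⟩,⟨.o,.e,.e,.e,.e,.o,.o⟩,⟨.o,.o,.o,.e,.n,.o,.o⟩,⟨.n,.e,.o,.o,.e,.o,.o⟩,⟨.o,.o,.o,.o,.e,.e,.n⟩,⟨.o,.e,.e,.e,.e,.o,.e⟩⟩,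
   ⟨⟨.n,.n,.o,.o,.o,.o,.o⟩,⟨.o,.n,.o,.o,.o,.o,.o⟩,⟨.o,.e,.e,.n,.e,.o,.o⟩,⟨.o,.o,.o,.e,.e,.o,.o⟩,⟨.e,.e,.o,.o,.e,.o,.o⟩,⟨.o,.o,.o,.o,.n,.n,.n⟩,⟨.o,.e,.e,.n,.e,.o,.n⟩⟩]

/-- part 16 -/
def repPart16 : List M7 :=
  [⟨⟨.e,.e,.o,.o,.o,.o,.o⟩,⟨.o,.o,.e,.n,.e,.o,.o⟩,⟨.o,.n,.e,.n,.e,.o,.o⟩,⟨.o,.o,.o,.e,.e,.o,.o⟩,⟨.n,.n,.o,.o,.o,.e,.e⟩,⟨.e,.e,.o,.o,.n,.e,.e⟩,⟨.o,.n,.n,.e,.n,.o,.e⟩⟩,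
   ⟨⟨.e,.n,.o,.o,.o,.o,.o⟩,⟨.o,.e,.o,.o,.o,.o,.o⟩,⟨.o,.o,.e,.e,.e,.o,.o⟩,⟨.o,.o,.o,.e,.n,.o,.o⟩,⟨.n,.e,.o,.o,.e,.o,.o⟩,⟨.e,.n,.o,.o,.o,.e,.n⟩,⟨.o,.e,.e,.e,.e,.o,.e⟩⟩,
   ⟨⟨.e,.o,.n,.o,.o,.o,.o⟩,⟨.o,.n,.e,.e,.o,.e,.o⟩,⟨.o,.n,.o,.e,.o,.e,.o⟩,⟨.o,.o,.o,.e,.o,.n,.o⟩,⟨.n,.o,.e,.o,.n,.e,.n⟩,⟨.e,.o,.n,.o,.n,.o,.n⟩,⟨.o,.e,.e,.n,.o,.n,.e⟩⟩,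
   ⟨⟨.e,.e,.o,.o,.o,.o,.o⟩,⟨.o,.n,.e,.n,.e,.o,.o⟩,⟨.o,.e,.e,.n,.e,.o,.o⟩,⟨.o,.o,.o,.e,.e,.o,.o⟩,⟨.n,.n,.o,.o,.n,.e,.e⟩,⟨.e,.e,.o,.o,.e,.e,.e⟩,⟨.o,.o,.n,.e,.n,.o,.e⟩⟩,
   ⟨⟨.e,.o,.e,.o,.o,.o,.o⟩,⟨.o,.o,.e,.o,.o,.o,.o⟩,⟨.o,.n,.o,.n,.o,.e,.o⟩,⟨.o,.o,.o,.e,.o,.e,.o⟩,⟨.n,.o,.n,.o,.o,.e,.o⟩,⟨.n,.o,.n,.o,.n,.o,.e⟩,⟨.o,.n,.n,.n,.o,.e,.e⟩⟩,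
   ⟨⟨.n,.n,.o,.o,.o,.o,.o⟩,⟨.o,.n,.o,.o,.o,.o,.o⟩,⟨.o,.o,.e,.n,.e,.o,.o⟩,⟨.o,.o,.o,.e,.e,.o,.o⟩,⟨.e,.e,.o,.o,.e,.o,.o⟩,⟨.e,.e,.o,.o,.o,.n,.n⟩,⟨.o,.e,.e,.n,.e,.o,.n⟩⟩,
   ⟨⟨.e,.n,.o,.o,.o,.o,.o⟩,⟨.o,.e,.o,.o,.o,.o,.o⟩,⟨.o,.e,.e,.e,.e,.o,.o⟩,⟨.o,.o,.o,.e,.n,.o,.o⟩,⟨.n,.e,.o,.o,.e,.o,.o⟩,⟨.n,.e,.o,.o,.e,.e,.n⟩,⟨.o,.o,.e,.e,.e,.o,.e⟩⟩,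
   ⟨⟨.e,.n,.o,.o,.o,.o,.o⟩,⟨.o,.e,.o,.o,.o,.o,.o⟩,⟨.o,.n,.e,.e,.e,.o,.o⟩,⟨.o,.o,.o,.e,.n,.o,.o⟩,⟨.n,.e,.o,.o,.e,.o,.o⟩,⟨.n,.e,.o,.o,.n,.e,.n⟩,⟨.o,.e,.e,.e,.e,.o,.e⟩⟩,
   ⟨⟨.e,.o,.o,.o,.o,.o,.o⟩,⟨.o,.o,.n,.o,.o,.o,.o⟩,⟨.o,.e,.e,.o,.o,.o,.o⟩,⟨.e,.o,.o,.e,.o,.o,.o⟩,⟨.o,.o,.e,.o,.o,.n,.o⟩,⟨.o,.n,.n,.o,.e,.e,.o⟩,⟨.e,.o,.o,.n,.o,.o,.e⟩⟩,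
   ⟨⟨.e,.n,.n,.o,.o,.o,.o⟩,⟨.o,.e,.e,.o,.o,.o,.o⟩,⟨.o,.o,.e,.e,.e,.e,.o⟩,⟨.e,.n,.n,.e,.n,.n,.o⟩,⟨.o,.n,.n,.o,.e,.e,.o⟩,⟨.o,.o,.n,.n,.n,.o,.n⟩,⟨.e,.n,.n,.n,.e,.e,.e⟩⟩,
   ⟨⟨.e,.o,.o,.o,.o,.o,.o⟩,⟨.o,.e,.o,.o,.o,.o,.o⟩,⟨.o,.e,.e,.o,.o,.o,.o⟩,⟨.e,.o,.o,.e,.o,.o,.o⟩,⟨.o,.n,.o,.o,.e,.o,.o⟩,⟨.o,.n,.n,.o,.e,.e,.o⟩,⟨.e,.o,.o,.n,.o,.o,.e⟩⟩,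
   ⟨⟨.e,.o,.o,.o,.o,.o,.o⟩,⟨.o,.n,.e,.o,.o,.o,.o⟩,⟨.o,.e,.e,.o,.o,.o,.o⟩,⟨.e,.o,.o,.e,.o,.o,.o⟩,⟨.o,.e,.n,.o,.n,.e,.o⟩,⟨.o,.n,.n,.o,.e,.e,.o⟩,⟨.e,.o,.o,.n,.o,.o,.e⟩⟩,
   ⟨⟨.e,.o,.o,.o,.o,.o,.o⟩,⟨.o,.o,.n,.o,.o,.o,.o⟩,⟨.o,.e,.n,.o,.o,.o,.o⟩,⟨.e,.o,.o,.e,.o,.o,.o⟩,⟨.o,.o,.e,.o,.o,.n,.o⟩,⟨.e,.n,.e,.o,.e,.n,.o⟩,⟨.e,.o,.n,.n,.o,.o,.e⟩⟩,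
   ⟨⟨.e,.o,.o,.o,.o,.o,.o⟩,⟨.o,.e,.o,.o,.o,.o,.o⟩,⟨.o,.o,.e,.o,.o,.o,.o⟩,⟨.e,.o,.o,.e,.o,.o,.o⟩,⟨.o,.n,.o,.o,.e,.o,.o⟩,⟨.e,.o,.n,.o,.o,.e,.o⟩,⟨.e,.e,.o,.n,.o,.o,.e⟩⟩,
   ⟨⟨.e,.o,.o,.o,.o,.o,.o⟩,⟨.o,.e,.o,.o,.o,.o,.o⟩,⟨.o,.e,.e,.o,.o,.o,.o⟩,⟨.e,.o,.o,.e,.o,.o,.o⟩,⟨.o,.n,.o,.o,.e,.o,.o⟩,⟨.e,.n,.n,.o,.e,.e,.o⟩,⟨.e,.e,.o,.n,.o,.o,.e⟩⟩,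
   ⟨⟨.e,.o,.o,.o,.o,.o,.o⟩,⟨.o,.e,.o,.o,.o,.o,.o⟩,⟨.o,.n,.e,.o,.o,.o,.o⟩,⟨.e,.o,.o,.e,.o,.o,.o⟩,⟨.o,.n,.o,.o,.e,.o,.o⟩,⟨.e,.e,.n,.o,.n,.e,.o⟩,⟨.e,.e,.o,.n,.o,.o,.e⟩⟩,
   ⟨⟨.e,.e,.e,.o,.o,.o,.o⟩,⟨.o,.o,.e,.n,.e,.e,.o⟩,⟨.o,.n,.o,.n,.e,.e,.o⟩,⟨.e,.e,.e,.e,.e,.e,.o⟩,⟨.o,.o,.n,.e,.n,.o,.e⟩,⟨.n,.o,.n,.e,.e,.n,.e⟩,⟨.e,.e,.o,.o,.e,.e,.e⟩⟩,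
   ⟨⟨.e,.o,.o,.o,.o,.o,.o⟩,⟨.o,.e,.o,.o,.o,.o,.o⟩,⟨.o,.o,.e,.o,.o,.o,.o⟩,⟨.e,.o,.o,.e,.o,.o,.o⟩,⟨.o,.n,.o,.o,.e,.o,.o⟩,⟨.n,.o,.n,.o,.o,.e,.o⟩,⟨.e,.n,.o,.n,.o,.o,.e⟩⟩,
   ⟨⟨.e,.o,.o,.o,.o,.o,.o⟩,⟨.o,.n,.o,.o,.o,.o,.o⟩,⟨.o,.n,.n,.o,.o,.o,.o⟩,⟨.e,.o,.o,.e,.o,.o,.o⟩,⟨.o,.e,.o,.o,.n,.o,.o⟩,⟨.n,.e,.e,.o,.n,.n,.o⟩,⟨.e,.e,.o,.n,.o,.o,.e⟩⟩,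
   ⟨⟨.e,.o,.o,.o,.o,.o,.o⟩,⟨.o,.e,.o,.o,.o,.o,.o⟩,⟨.o,.n,.e,.o,.o,.o,.o⟩,⟨.e,.o,.o,.e,.o,.o,.o⟩,⟨.o,.n,.o,.o,.e,.o,.o⟩,⟨.n,.e,.n,.o,.n,.e,.o⟩,⟨.e,.n,.o,.n,.o,.o,.e⟩⟩,
   ⟨⟨.e,.o,.o,.o,.o,.o,.o⟩,⟨.o,.o,.e,.o,.o,.o,.o⟩,⟨.o,.n,.o,.o,.o,.o,.o⟩,⟨.e,.o,.o,.e,.o,.o,.o⟩,⟨.e,.o,.n,.o,.o,.e,.o⟩,⟨.o,.e,.o,.o,.n,.o,.o⟩,⟨.e,.e,.o,.n,.o,.o,.e⟩⟩,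
   ⟨⟨.e,.n,.n,.o,.o,.o,.o⟩,⟨.o,.n,.n,.o,.o,.o,.o⟩,⟨.o,.o,.n,.n,.n,.n,.o⟩,⟨.e,.n,.n,.e,.n,.n,.o⟩,⟨.e,.o,.o,.o,.n,.n,.o⟩,⟨.o,.o,.e,.e,.e,.o,.e⟩,⟨.e,.n,.o,.o,.n,.n,.e⟩⟩,
   ⟨⟨.e,.o,.o,.o,.o,.o,.o⟩,⟨.o,.n,.e,.o,.o,.o,.o⟩,⟨.o,.n,.o,.o,.o,.o,.o⟩,⟨.e,.o,.o,.e,.o,.o,.o⟩,⟨.e,.e,.n,.o,.n,.e,.o⟩,⟨.o,.e,.o,.o,.n,.o,.o⟩,⟨.e,.e,.o,.n,.o,.o,.e⟩⟩,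
   ⟨⟨.e,.o,.o,.o,.o,.o,.o⟩,⟨.o,.e,.e,.o,.o,.o,.o⟩,⟨.o,.n,.o,.o,.o,.o,.o⟩,⟨.e,.o,.o,.e,.o,.o,.o⟩,⟨.e,.n,.n,.o,.e,.e,.o⟩,⟨.o,.e,.o,.o,.n,.o,.o⟩,⟨.e,.e,.o,.n,.o,.o,.e⟩⟩,
   ⟨⟨.e,.o,.o,.o,.o,.o,.o⟩,⟨.o,.o,.e,.o,.o,.o,.o⟩,⟨.o,.n,.e,.o,.o,.o,.o⟩,⟨.e,.o,.o,.e,.o,.o,.o⟩,⟨.e,.o,.n,.o,.o,.e,.o⟩,⟨.e,.e,.n,.o,.n,.e,.o⟩,⟨.e,.e,.o,.n,.o,.o,.e⟩⟩,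
   ⟨⟨.e,.o,.o,.o,.o,.o,.o⟩,⟨.o,.e,.e,.o,.o,.o,.o⟩,⟨.o,.o,.e,.o,.o,.o,.o⟩,⟨.e,.o,.o,.e,.o,.o,.o⟩,⟨.e,.n,.n,.o,.e,.e,.o⟩,⟨.e,.o,.n,.o,.o,.e,.o⟩,⟨.e,.e,.o,.n,.o,.o,.e⟩⟩,
   ⟨⟨.e,.o,.o,.o,.o,.o,.o⟩,⟨.o,.e,.e,.o,.o,.o,.o⟩,⟨.o,.e,.n,.o,.o,.o,.o⟩,⟨.e,.o,.o,.e,.o,.o,.o⟩,⟨.e,.n,.n,.o,.e,.e,.o⟩,⟨.e,.n,.e,.o,.e,.n,.o⟩,⟨.e,.o,.n,.n,.o,.o,.e⟩⟩,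
   ⟨⟨.e,.o,.o,.o,.o,.o,.o⟩,⟨.o,.n,.e,.o,.o,.o,.o⟩,⟨.o,.e,.e,.o,.o,.o,.o⟩,⟨.e,.o,.o,.e,.o,.o,.o⟩,⟨.e,.e,.n,.o,.n,.e,.o⟩,⟨.e,.n,.n,.o,.e,.e,.o⟩,⟨.e,.e,.o,.n,.o,.o,.e⟩⟩,
   ⟨⟨.e,.o,.o,.o,.o,.o,.o⟩,⟨.o,.o,.e,.o,.o,.o,.o⟩,⟨.o,.n,.n,.o,.o,.o,.o⟩,⟨.e,.o,.o,.e,.o,.o,.o⟩,⟨.e,.o,.n,.o,.o,.e,.o⟩,⟨.n,.e,.e,.o,.n,.n,.o⟩,⟨.e,.e,.o,.n,.o,.o,.e⟩⟩,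
   ⟨⟨.e,.o,.o,.o,.o,.o,.o⟩,⟨.o,.n,.e,.o,.o,.o,.o⟩,⟨.o,.o,.n,.o,.o,.o,.o⟩,⟨.e,.o,.o,.e,.o,.o,.o⟩,⟨.e,.e,.n,.o,.n,.e,.o⟩,⟨.n,.o,.e,.o,.o,.n,.o⟩,⟨.e,.e,.o,.n,.o,.o,.e⟩⟩,
   ⟨⟨.e,.o,.o,.o,.o,.o,.o⟩,⟨.o,.e,.e,.o,.o,.o,.o⟩,⟨.o,.e,.n,.o,.o,.o,.o⟩,⟨.e,.o,.o,.e,.o,.o,.o⟩,⟨.e,.n,.n,.o,.e,.e,.o⟩,⟨.n,.n,.e,.o,.e,.n,.o⟩,⟨.e,.e,.o,.n,.o,.o,.e⟩⟩,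
   ⟨⟨.e,.e,.e,.o,.o,.o,.o⟩,⟨.o,.e,.e,.o,.o,.o,.o⟩,⟨.o,.n,.o,.n,.e,.e,.o⟩,⟨.e,.e,.e,.e,.e,.e,.o⟩,⟨.e,.o,.o,.o,.e,.e,.o⟩,⟨.n,.o,.n,.e,.e,.n,.e⟩,⟨.e,.e,.o,.o,.e,.e,.e⟩⟩]

/-- part 17 -/
def repPart17 : List M7 :=
  [⟨⟨.e,.o,.o,.o,.o,.o,.o⟩,⟨.o,.o,.n,.o,.o,.o,.o⟩,⟨.o,.e,.o,.o,.o,.o,.o⟩,⟨.e,.o,.o,.e,.o,.o,.o⟩,⟨.n,.o,.e,.o,.o,.n,.o⟩,⟨.o,.n,.o,.o,.e,.o,.o⟩,⟨.e,.e,.o,.n,.o,.o,.e⟩⟩,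
   ⟨⟨.e,.e,.e,.o,.o,.o,.o⟩,⟨.o,.n,.n,.o,.o,.o,.o⟩,⟨.o,.o,.n,.e,.n,.n,.o⟩,⟨.e,.e,.e,.e,.e,.e,.o⟩,⟨.n,.o,.o,.o,.n,.n,.o⟩,⟨.o,.o,.e,.n,.e,.o,.n⟩,⟨.e,.e,.o,.o,.e,.e,.e⟩⟩,
   ⟨⟨.e,.o,.o,.o,.o,.o,.o⟩,⟨.o,.e,.n,.o,.o,.o,.o⟩,⟨.o,.e,.o,.o,.o,.o,.o⟩,⟨.e,.o,.o,.e,.o,.o,.o⟩,⟨.n,.n,.e,.o,.e,.n,.o⟩,⟨.o,.n,.o,.o,.e,.o,.o⟩,⟨.e,.e,.o,.n,.o,.o,.e⟩⟩,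
   ⟨⟨.e,.o,.o,.o,.o,.o,.o⟩,⟨.o,.n,.n,.o,.o,.o,.o⟩,⟨.o,.e,.o,.o,.o,.o,.o⟩,⟨.e,.o,.o,.e,.o,.o,.o⟩,⟨.n,.e,.e,.o,.n,.n,.o⟩,⟨.o,.n,.o,.o,.e,.o,.o⟩,⟨.e,.e,.o,.n,.o,.o,.e⟩⟩,
   ⟨⟨.e,.o,.o,.o,.o,.o,.o⟩,⟨.o,.o,.n,.o,.o,.o,.o⟩,⟨.o,.e,.e,.o,.o,.o,.o⟩,⟨.e,.o,.o,.e,.o,.o,.o⟩,⟨.n,.o,.e,.o,.o,.n,.o⟩,⟨.e,.n,.n,.o,.e,.e,.o⟩,⟨.e,.e,.o,.n,.o,.o,.e⟩⟩,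
   ⟨⟨.e,.o,.o,.o,.o,.o,.o⟩,⟨.o,.e,.n,.o,.o,.o,.o⟩,⟨.o,.o,.e,.o,.o,.o,.o⟩,⟨.e,.o,.o,.e,.o,.o,.o⟩,⟨.n,.n,.e,.o,.e,.n,.o⟩,⟨.e,.o,.n,.o,.o,.e,.o⟩,⟨.e,.e,.o,.n,.o,.o,.e⟩⟩,
   ⟨⟨.e,.o,.o,.o,.o,.o,.o⟩,⟨.o,.n,.n,.o,.o,.o,.o⟩,⟨.o,.n,.e,.o,.o,.o,.o⟩,⟨.e,.o,.o,.e,.o,.o,.o⟩,⟨.n,.e,.e,.o,.n,.n,.o⟩,⟨.e,.e,.n,.o,.n,.e,.o⟩,⟨.e,.e,.o,.n,.o,.o,.e⟩⟩,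
   ⟨⟨.n,.e,.n,.o,.o,.o,.o⟩,⟨.o,.n,.e,.o,.o,.o,.o⟩,⟨.o,.e,.o,.e,.e,.n,.o⟩,⟨.n,.e,.n,.e,.n,.e,.o⟩,⟨.e,.o,.o,.o,.e,.n,.o⟩,⟨.n,.o,.n,.n,.e,.e,.e⟩,⟨.n,.e,.o,.o,.n,.e,.n⟩⟩,
   ⟨⟨.e,.o,.o,.o,.o,.o,.o⟩,⟨.o,.o,.e,.o,.o,.o,.o⟩,⟨.o,.n,.e,.o,.o,.o,.o⟩,⟨.e,.o,.o,.e,.o,.o,.o⟩,⟨.n,.o,.n,.o,.o,.e,.o⟩,⟨.n,.e,.n,.o,.n,.e,.o⟩,⟨.e,.n,.o,.n,.o,.o,.e⟩⟩,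
   ⟨⟨.e,.o,.o,.o,.o,.o,.o⟩,⟨.o,.n,.n,.o,.o,.o,.o⟩,⟨.o,.o,.n,.o,.o,.o,.o⟩,⟨.e,.o,.o,.e,.o,.o,.o⟩,⟨.n,.e,.e,.o,.n,.n,.o⟩,⟨.n,.o,.e,.o,.o,.n,.o⟩,⟨.e,.e,.o,.n,.o,.o,.e⟩⟩,
   ⟨⟨.n,.n,.n,.o,.o,.o,.o⟩,⟨.o,.n,.n,.o,.o,.o,.o⟩,⟨.o,.n,.o,.n,.e,.e,.o⟩,⟨.n,.n,.n,.e,.e,.e,.o⟩,⟨.e,.n,.n,.o,.e,.e,.o⟩,⟨.e,.n,.e,.e,.o,.n,.n⟩,⟨.n,.n,.o,.e,.o,.o,.n⟩⟩,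
   ⟨⟨.e,.o,.o,.o,.o,.o,.o⟩,⟨.o,.e,.n,.o,.o,.o,.o⟩,⟨.o,.n,.n,.o,.o,.o,.o⟩,⟨.e,.o,.o,.e,.o,.o,.o⟩,⟨.n,.n,.e,.o,.e,.n,.o⟩,⟨.n,.e,.e,.o,.n,.n,.o⟩,⟨.e,.e,.o,.n,.o,.o,.e⟩⟩,
   ⟨⟨.e,.e,.e,.o,.o,.o,.o⟩,⟨.o,.o,.e,.n,.e,.e,.o⟩,⟨.o,.n,.o,.n,.e,.e,.o⟩,⟨.n,.n,.n,.e,.e,.e,.o⟩,⟨.o,.o,.e,.n,.e,.n,.e⟩,⟨.o,.n,.o,.n,.o,.e,.e⟩,⟨.e,.e,.e,.e,.e,.e,.e⟩⟩,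
   ⟨⟨.e,.e,.e,.o,.o,.o,.o⟩,⟨.o,.e,.e,.o,.o,.o,.o⟩,⟨.o,.o,.e,.n,.e,.e,.o⟩,⟨.n,.n,.n,.e,.e,.e,.o⟩,⟨.o,.e,.e,.o,.e,.e,.o⟩,⟨.o,.o,.e,.n,.e,.n,.e⟩,⟨.e,.e,.e,.e,.e,.e,.e⟩⟩,
   ⟨⟨.e,.o,.o,.o,.o,.o,.o⟩,⟨.o,.n,.o,.o,.o,.o,.o⟩,⟨.o,.n,.n,.o,.o,.o,.o⟩,⟨.n,.o,.o,.e,.o,.o,.o⟩,⟨.o,.n,.o,.o,.n,.o,.o⟩,⟨.o,.n,.n,.o,.n,.n,.o⟩,⟨.e,.o,.o,.e,.o,.o,.e⟩⟩,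
   ⟨⟨.e,.e,.e,.o,.o,.o,.o⟩,⟨.o,.e,.e,.o,.o,.o,.o⟩,⟨.o,.n,.o,.n,.e,.e,.o⟩,⟨.n,.n,.n,.e,.e,.e,.o⟩,⟨.o,.e,.e,.o,.e,.e,.o⟩,⟨.o,.n,.o,.n,.o,.e,.e⟩,⟨.e,.e,.e,.e,.e,.e,.e⟩⟩,
   ⟨⟨.e,.o,.o,.o,.o,.o,.o⟩,⟨.o,.o,.e,.o,.o,.o,.o⟩,⟨.o,.n,.o,.o,.o,.o,.o⟩,⟨.n,.o,.o,.e,.o,.o,.o⟩,⟨.o,.o,.e,.o,.o,.e,.o⟩,⟨.e,.n,.o,.o,.n,.o,.o⟩,⟨.e,.o,.e,.e,.o,.o,.e⟩⟩,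
   ⟨⟨.e,.o,.o,.o,.o,.o,.o⟩,⟨.o,.e,.o,.o,.o,.o,.o⟩,⟨.o,.o,.e,.o,.o,.o,.o⟩,⟨.n,.o,.o,.e,.o,.o,.o⟩,⟨.o,.e,.o,.o,.e,.o,.o⟩,⟨.e,.o,.e,.o,.o,.e,.o⟩,⟨.e,.e,.o,.e,.o,.o,.e⟩⟩,
   ⟨⟨.e,.o,.o,.o,.o,.o,.o⟩,⟨.o,.e,.o,.o,.o,.o,.o⟩,⟨.o,.e,.e,.o,.o,.o,.o⟩,⟨.n,.o,.o,.e,.o,.o,.o⟩,⟨.o,.e,.o,.o,.e,.o,.o⟩,⟨.e,.e,.e,.o,.e,.e,.o⟩,⟨.e,.e,.o,.e,.o,.o,.e⟩⟩,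
   ⟨⟨.e,.o,.o,.o,.o,.o,.o⟩,⟨.o,.e,.o,.o,.o,.o,.o⟩,⟨.o,.n,.e,.o,.o,.o,.o⟩,⟨.n,.o,.o,.e,.o,.o,.o⟩,⟨.o,.e,.o,.o,.e,.o,.o⟩,⟨.e,.n,.e,.o,.n,.e,.o⟩,⟨.e,.e,.o,.e,.o,.o,.e⟩⟩,
   ⟨⟨.e,.e,.e,.o,.o,.o,.o⟩,⟨.o,.o,.e,.n,.e,.e,.o⟩,⟨.o,.n,.o,.n,.e,.e,.o⟩,⟨.n,.n,.n,.e,.e,.e,.o⟩,⟨.o,.o,.e,.n,.e,.n,.e⟩,⟨.n,.e,.n,.n,.o,.e,.e⟩,⟨.e,.e,.o,.n,.o,.o,.e⟩⟩,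
   ⟨⟨.e,.o,.e,.o,.o,.o,.o⟩,⟨.o,.n,.e,.n,.o,.e,.o⟩,⟨.o,.o,.n,.o,.o,.o,.o⟩,⟨.n,.o,.n,.e,.o,.e,.o⟩,⟨.o,.n,.e,.n,.n,.n,.e⟩,⟨.n,.o,.e,.o,.o,.n,.o⟩,⟨.e,.e,.o,.n,.o,.o,.e⟩⟩,
   ⟨⟨.e,.o,.e,.o,.o,.o,.o⟩,⟨.o,.n,.e,.n,.o,.e,.o⟩,⟨.o,.n,.o,.n,.o,.e,.o⟩,⟨.n,.o,.n,.e,.o,.e,.o⟩,⟨.o,.n,.e,.n,.n,.n,.e⟩,⟨.n,.n,.n,.n,.n,.e,.e⟩,⟨.e,.e,.o,.n,.o,.o,.e⟩⟩,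
   ⟨⟨.e,.o,.e,.o,.o,.o,.o⟩,⟨.o,.n,.e,.n,.o,.e,.o⟩,⟨.o,.e,.e,.e,.o,.n,.o⟩,⟨.n,.o,.n,.e,.o,.e,.o⟩,⟨.o,.n,.e,.n,.n,.n,.e⟩,⟨.n,.e,.o,.e,.e,.o,.n⟩,⟨.e,.e,.o,.n,.o,.o,.e⟩⟩,
   ⟨⟨.e,.o,.e,.o,.o,.o,.o⟩,⟨.o,.o,.e,.o,.o,.o,.o⟩,⟨.o,.n,.e,.n,.o,.e,.o⟩,⟨.n,.o,.n,.e,.o,.e,.o⟩,⟨.e,.o,.n,.o,.o,.e,.o⟩,⟨.o,.n,.e,.n,.n,.n,.e⟩,⟨.e,.e,.o,.n,.o,.o,.e⟩⟩,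
   ⟨⟨.e,.e,.e,.o,.o,.o,.o⟩,⟨.o,.e,.e,.o,.o,.o,.o⟩,⟨.o,.o,.e,.n,.e,.e,.o⟩,⟨.n,.n,.n,.e,.e,.e,.o⟩,⟨.e,.n,.n,.o,.e,.e,.o⟩,⟨.o,.o,.e,.n,.e,.n,.e⟩,⟨.e,.e,.o,.n,.o,.o,.e⟩⟩,
   ⟨⟨.e,.o,.e,.o,.o,.o,.o⟩,⟨.o,.n,.n,.n,.o,.e,.o⟩,⟨.o,.n,.e,.n,.o,.e,.o⟩,⟨.n,.o,.n,.e,.o,.e,.o⟩,⟨.e,.n,.o,.n,.n,.o,.e⟩,⟨.o,.n,.e,.n,.n,.n,.e⟩,⟨.e,.e,.o,.n,.o,.o,.e⟩⟩,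
   ⟨⟨.e,.n,.e,.o,.o,.o,.o⟩,⟨.o,.n,.e,.o,.o,.o,.o⟩,⟨.o,.e,.e,.n,.n,.e,.o⟩,⟨.n,.e,.n,.e,.n,.e,.o⟩,⟨.e,.e,.n,.o,.n,.e,.o⟩,⟨.o,.e,.e,.n,.o,.n,.e⟩,⟨.e,.e,.o,.n,.o,.o,.e⟩⟩,
   ⟨⟨.e,.o,.e,.o,.o,.o,.o⟩,⟨.o,.o,.e,.o,.o,.o,.o⟩,⟨.o,.n,.n,.n,.o,.e,.o⟩,⟨.n,.o,.n,.e,.o,.e,.o⟩,⟨.e,.o,.n,.o,.o,.e,.o⟩,⟨.e,.n,.o,.n,.n,.o,.e⟩,⟨.e,.e,.o,.n,.o,.o,.e⟩⟩,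
   ⟨⟨.e,.n,.e,.o,.o,.o,.o⟩,⟨.o,.n,.e,.o,.o,.o,.o⟩,⟨.o,.o,.n,.n,.n,.e,.o⟩,⟨.n,.e,.n,.e,.n,.e,.o⟩,⟨.e,.e,.n,.o,.n,.e,.o⟩,⟨.e,.n,.o,.n,.n,.o,.e⟩,⟨.e,.e,.o,.n,.o,.o,.e⟩⟩,
   ⟨⟨.e,.e,.e,.o,.o,.o,.o⟩,⟨.o,.e,.e,.o,.o,.o,.o⟩,⟨.o,.e,.n,.n,.e,.e,.o⟩,⟨.n,.n,.n,.e,.e,.e,.o⟩,⟨.e,.n,.n,.o,.e,.e,.o⟩,⟨.e,.n,.o,.n,.n,.o,.e⟩,⟨.e,.e,.o,.n,.o,.o,.e⟩⟩,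
   ⟨⟨.e,.o,.o,.o,.o,.o,.o⟩,⟨.o,.n,.e,.o,.o,.o,.o⟩,⟨.o,.e,.e,.o,.o,.o,.o⟩,⟨.n,.o,.o,.e,.o,.o,.o⟩,⟨.e,.n,.e,.o,.n,.e,.o⟩,⟨.e,.e,.e,.o,.e,.e,.o⟩,⟨.e,.e,.o,.e,.o,.o,.e⟩⟩]

/-- part 18 -/
def repPart18 : List M7 :=
  [⟨⟨.e,.o,.e,.o,.o,.o,.o⟩,⟨.o,.o,.e,.o,.o,.o,.o⟩,⟨.o,.n,.o,.n,.o,.e,.o⟩,⟨.n,.o,.n,.e,.o,.e,.o⟩,⟨.e,.o,.n,.o,.o,.e,.o⟩,⟨.n,.n,.n,.n,.n,.e,.e⟩,⟨.e,.e,.o,.n,.o,.o,.e⟩⟩,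
   ⟨⟨.e,.o,.o,.o,.o,.o,.o⟩,⟨.o,.n,.e,.o,.o,.o,.o⟩,⟨.o,.o,.n,.o,.o,.o,.o⟩,⟨.n,.o,.o,.e,.o,.o,.o⟩,⟨.e,.n,.e,.o,.n,.e,.o⟩,⟨.n,.o,.n,.o,.o,.n,.o⟩,⟨.e,.e,.o,.e,.o,.o,.e⟩⟩,
   ⟨⟨.e,.n,.e,.o,.o,.o,.o⟩,⟨.o,.n,.e,.o,.o,.o,.o⟩,⟨.o,.n,.o,.n,.n,.e,.o⟩,⟨.n,.e,.n,.e,.n,.e,.o⟩,⟨.e,.e,.n,.o,.n,.e,.o⟩,⟨.n,.o,.n,.n,.e,.e,.e⟩,⟨.e,.e,.o,.n,.o,.o,.e⟩⟩,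
   ⟨⟨.e,.e,.e,.o,.o,.o,.o⟩,⟨.o,.e,.e,.o,.o,.o,.o⟩,⟨.o,.n,.o,.n,.e,.e,.o⟩,⟨.n,.n,.n,.e,.e,.e,.o⟩,⟨.e,.n,.n,.o,.e,.e,.o⟩,⟨.n,.e,.n,.n,.o,.e,.e⟩,⟨.e,.e,.o,.n,.o,.o,.e⟩⟩,
   ⟨⟨.e,.o,.o,.o,.o,.o,.o⟩,⟨.o,.o,.n,.o,.o,.o,.o⟩,⟨.o,.e,.n,.o,.o,.o,.o⟩,⟨.n,.o,.o,.e,.o,.o,.o⟩,⟨.n,.o,.n,.o,.o,.n,.o⟩,⟨.o,.e,.n,.o,.e,.n,.o⟩,⟨.e,.e,.n,.e,.o,.o,.e⟩⟩,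
   ⟨⟨.e,.e,.e,.o,.o,.o,.o⟩,⟨.o,.n,.n,.o,.o,.o,.o⟩,⟨.o,.o,.n,.e,.n,.n,.o⟩,⟨.n,.n,.n,.e,.e,.e,.o⟩,⟨.n,.e,.e,.o,.n,.n,.o⟩,⟨.o,.o,.n,.e,.n,.e,.n⟩,⟨.e,.e,.o,.n,.o,.o,.e⟩⟩,
   ⟨⟨.e,.e,.e,.o,.o,.o,.o⟩,⟨.o,.e,.e,.o,.o,.o,.o⟩,⟨.o,.e,.n,.n,.e,.e,.o⟩,⟨.n,.n,.n,.e,.e,.e,.o⟩,⟨.n,.o,.o,.o,.e,.e,.o⟩,⟨.o,.e,.n,.n,.n,.o,.e⟩,⟨.e,.n,.o,.o,.n,.n,.e⟩⟩,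
   ⟨⟨.e,.n,.e,.o,.o,.o,.o⟩,⟨.o,.e,.n,.o,.o,.o,.o⟩,⟨.o,.n,.n,.e,.e,.n,.o⟩,⟨.n,.e,.n,.e,.n,.e,.o⟩,⟨.n,.n,.e,.o,.e,.n,.o⟩,⟨.o,.n,.n,.e,.o,.e,.n⟩,⟨.e,.e,.o,.n,.o,.o,.e⟩⟩,
   ⟨⟨.e,.o,.o,.o,.o,.o,.o⟩,⟨.o,.o,.n,.o,.o,.o,.o⟩,⟨.o,.e,.o,.o,.o,.o,.o⟩,⟨.n,.o,.o,.e,.o,.o,.o⟩,⟨.n,.o,.n,.o,.o,.n,.o⟩,⟨.e,.e,.o,.o,.e,.o,.o⟩,⟨.e,.e,.n,.e,.o,.o,.e⟩⟩,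
   ⟨⟨.e,.n,.n,.o,.o,.o,.o⟩,⟨.o,.n,.n,.o,.o,.o,.o⟩,⟨.o,.o,.n,.n,.n,.n,.o⟩,⟨.n,.e,.e,.e,.n,.n,.o⟩,⟨.n,.o,.o,.o,.n,.n,.o⟩,⟨.e,.n,.e,.n,.n,.e,.e⟩,⟨.e,.e,.o,.o,.e,.e,.e⟩⟩,
   ⟨⟨.n,.e,.e,.o,.o,.o,.o⟩,⟨.o,.n,.n,.o,.o,.o,.o⟩,⟨.o,.n,.o,.e,.e,.e,.o⟩,⟨.e,.n,.n,.e,.n,.n,.o⟩,⟨.e,.e,.e,.o,.e,.e,.o⟩,⟨.n,.o,.e,.e,.n,.e,.e⟩,⟨.n,.n,.o,.n,.o,.o,.n⟩⟩,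
   ⟨⟨.e,.o,.o,.o,.o,.o,.o⟩,⟨.o,.n,.n,.o,.o,.o,.o⟩,⟨.o,.e,.o,.o,.o,.o,.o⟩,⟨.n,.o,.o,.e,.o,.o,.o⟩,⟨.n,.n,.n,.o,.n,.n,.o⟩,⟨.e,.e,.o,.o,.e,.o,.o⟩,⟨.e,.o,.n,.e,.o,.o,.e⟩⟩,
   ⟨⟨.e,.o,.o,.o,.o,.o,.o⟩,⟨.o,.o,.n,.o,.o,.o,.o⟩,⟨.o,.e,.e,.o,.o,.o,.o⟩,⟨.n,.o,.o,.e,.o,.o,.o⟩,⟨.n,.o,.n,.o,.o,.n,.o⟩,⟨.n,.e,.e,.o,.e,.e,.o⟩,⟨.e,.e,.n,.e,.o,.o,.e⟩⟩,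
   ⟨⟨.n,.n,.e,.e,.e,.o,.o⟩,⟨.o,.e,.e,.e,.e,.o,.o⟩,⟨.o,.o,.n,.e,.n,.n,.e⟩,⟨.e,.e,.n,.o,.o,.n,.e⟩,⟨.e,.n,.o,.o,.n,.n,.e⟩,⟨.e,.e,.e,.o,.e,.o,.n⟩,⟨.n,.e,.n,.n,.o,.e,.e⟩⟩,
   ⟨⟨.e,.e,.e,.o,.o,.o,.o⟩,⟨.o,.n,.e,.e,.n,.n,.o⟩,⟨.o,.n,.o,.n,.e,.e,.o⟩,⟨.n,.n,.n,.e,.e,.e,.o⟩,⟨.n,.e,.o,.e,.e,.o,.n⟩,⟨.n,.e,.n,.n,.o,.e,.e⟩,⟨.e,.e,.o,.n,.o,.o,.e⟩⟩,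
   ⟨⟨.e,.n,.n,.o,.o,.o,.o⟩,⟨.o,.n,.n,.o,.o,.o,.o⟩,⟨.o,.e,.o,.n,.n,.n,.o⟩,⟨.n,.e,.e,.e,.n,.n,.o⟩,⟨.n,.o,.o,.o,.n,.n,.o⟩,⟨.n,.n,.e,.n,.o,.n,.e⟩,⟨.e,.e,.o,.o,.e,.e,.e⟩⟩,
   ⟨⟨.e,.o,.o,.o,.o,.o,.o⟩,⟨.o,.o,.n,.o,.o,.o,.o⟩,⟨.e,.e,.e,.o,.o,.o,.o⟩,⟨.o,.o,.e,.e,.o,.o,.o⟩,⟨.o,.o,.o,.o,.o,.n,.o⟩,⟨.o,.o,.e,.n,.e,.e,.o⟩,⟨.o,.o,.o,.o,.o,.e,.e⟩⟩,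
   ⟨⟨.e,.o,.o,.o,.o,.o,.o⟩,⟨.o,.e,.e,.o,.o,.o,.o⟩,⟨.e,.o,.e,.o,.o,.o,.o⟩,⟨.o,.n,.n,.e,.o,.o,.o⟩,⟨.o,.o,.o,.o,.e,.e,.o⟩,⟨.o,.n,.n,.n,.o,.e,.o⟩,⟨.o,.o,.o,.o,.n,.n,.e⟩⟩,
   ⟨⟨.e,.o,.o,.o,.o,.o,.o⟩,⟨.o,.n,.n,.o,.o,.o,.o⟩,⟨.e,.n,.e,.o,.o,.o,.o⟩,⟨.o,.e,.e,.e,.o,.o,.o⟩,⟨.o,.o,.o,.o,.n,.n,.o⟩,⟨.o,.e,.e,.n,.n,.e,.o⟩,⟨.o,.o,.o,.o,.e,.e,.e⟩⟩,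
   ⟨⟨.n,.e,.o,.o,.o,.o,.o⟩,⟨.o,.e,.e,.e,.e,.o,.o⟩,⟨.n,.o,.e,.e,.e,.o,.o⟩,⟨.o,.n,.n,.o,.e,.o,.o⟩,⟨.o,.o,.o,.o,.n,.n,.e⟩,⟨.o,.n,.n,.e,.e,.n,.e⟩,⟨.o,.o,.o,.o,.e,.e,.e⟩⟩,
   ⟨⟨.n,.n,.e,.o,.o,.o,.o⟩,⟨.o,.o,.n,.e,.n,.e,.o⟩,⟨.n,.e,.e,.e,.n,.e,.o⟩,⟨.o,.o,.e,.o,.n,.e,.o⟩,⟨.o,.o,.o,.o,.o,.e,.e⟩,⟨.n,.n,.n,.e,.e,.o,.e⟩,⟨.o,.o,.n,.e,.n,.o,.e⟩⟩,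
   ⟨⟨.e,.e,.o,.o,.n,.o,.o⟩,⟨.o,.e,.e,.n,.e,.o,.e⟩,⟨.e,.e,.e,.n,.o,.o,.e⟩,⟨.o,.n,.n,.n,.o,.o,.n⟩,⟨.o,.o,.o,.o,.e,.e,.e⟩,⟨.e,.o,.n,.o,.o,.e,.o⟩,⟨.o,.e,.e,.n,.o,.n,.e⟩⟩,
   ⟨⟨.n,.o,.e,.o,.o,.o,.o⟩,⟨.o,.n,.n,.e,.o,.e,.o⟩,⟨.n,.n,.e,.e,.o,.e,.o⟩,⟨.o,.e,.e,.o,.o,.e,.o⟩,⟨.o,.o,.o,.o,.e,.e,.e⟩,⟨.n,.e,.n,.e,.e,.o,.e⟩,⟨.o,.n,.n,.e,.n,.o,.e⟩⟩,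
   ⟨⟨.n,.n,.o,.o,.o,.o,.o⟩,⟨.o,.e,.e,.n,.e,.o,.o⟩,⟨.n,.e,.e,.n,.e,.o,.o⟩,⟨.o,.n,.n,.n,.o,.o,.o⟩,⟨.o,.o,.o,.o,.n,.n,.n⟩,⟨.n,.e,.n,.o,.n,.n,.n⟩,⟨.o,.e,.e,.n,.n,.e,.o⟩⟩,
   ⟨⟨.n,.n,.o,.o,.o,.o,.o⟩,⟨.o,.o,.n,.e,.n,.o,.o⟩,⟨.n,.e,.e,.n,.e,.o,.o⟩,⟨.o,.o,.e,.o,.n,.o,.o⟩,⟨.o,.o,.o,.o,.o,.e,.e⟩,⟨.e,.e,.e,.e,.e,.n,.n⟩,⟨.o,.o,.e,.n,.e,.n,.e⟩⟩,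
   ⟨⟨.n,.n,.o,.o,.o,.o,.o⟩,⟨.o,.n,.n,.e,.n,.o,.o⟩,⟨.n,.n,.e,.n,.e,.o,.o⟩,⟨.o,.e,.e,.o,.n,.o,.o⟩,⟨.o,.o,.o,.o,.e,.e,.e⟩,⟨.e,.n,.e,.e,.o,.n,.n⟩,⟨.o,.e,.e,.n,.o,.n,.e⟩⟩,
   ⟨⟨.n,.n,.o,.o,.o,.o,.o⟩,⟨.o,.n,.n,.e,.n,.o,.o⟩,⟨.n,.e,.o,.o,.o,.o,.o⟩,⟨.o,.e,.e,.o,.n,.o,.o⟩,⟨.o,.o,.o,.o,.e,.e,.e⟩,⟨.e,.n,.e,.e,.e,.o,.o⟩,⟨.o,.e,.e,.n,.o,.n,.e⟩⟩,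
   ⟨⟨.n,.n,.o,.o,.o,.o,.o⟩,⟨.o,.n,.n,.e,.n,.o,.o⟩,⟨.n,.o,.n,.e,.n,.o,.o⟩,⟨.o,.e,.e,.o,.n,.o,.o⟩,⟨.o,.o,.o,.o,.e,.e,.e⟩,⟨.e,.n,.e,.e,.n,.e,.e⟩,⟨.o,.e,.e,.n,.o,.n,.e⟩⟩,
   ⟨⟨.e,.o,.n,.o,.o,.o,.o⟩,⟨.o,.o,.e,.o,.o,.o,.o⟩,⟨.e,.n,.e,.e,.o,.e,.o⟩,⟨.o,.o,.n,.e,.o,.n,.o⟩,⟨.e,.o,.n,.o,.o,.e,.o⟩,⟨.o,.o,.n,.n,.n,.o,.n⟩,⟨.n,.e,.n,.n,.o,.e,.e⟩⟩,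
   ⟨⟨.e,.o,.o,.o,.o,.o,.o⟩,⟨.o,.e,.o,.o,.o,.o,.o⟩,⟨.e,.o,.e,.o,.o,.o,.o⟩,⟨.o,.n,.o,.e,.o,.o,.o⟩,⟨.e,.o,.o,.o,.e,.o,.o⟩,⟨.o,.n,.o,.n,.o,.e,.o⟩,⟨.n,.o,.n,.o,.n,.o,.e⟩⟩,
   ⟨⟨.e,.o,.o,.o,.o,.o,.o⟩,⟨.o,.e,.o,.o,.o,.o,.o⟩,⟨.e,.e,.e,.o,.o,.o,.o⟩,⟨.o,.n,.o,.e,.o,.o,.o⟩,⟨.e,.o,.o,.o,.e,.o,.o⟩,⟨.o,.n,.o,.n,.e,.e,.o⟩,⟨.n,.n,.n,.o,.n,.o,.e⟩⟩,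
   ⟨⟨.e,.o,.o,.o,.o,.o,.o⟩,⟨.o,.e,.o,.o,.o,.o,.o⟩,⟨.e,.n,.e,.o,.o,.o,.o⟩,⟨.o,.n,.o,.e,.o,.o,.o⟩,⟨.e,.o,.o,.o,.e,.o,.o⟩,⟨.o,.n,.o,.n,.n,.e,.o⟩,⟨.n,.e,.n,.o,.n,.o,.e⟩⟩]

/-- part 19 -/
def repPart19 : List M7 :=
  [⟨⟨.e,.o,.n,.o,.o,.o,.o⟩,⟨.o,.o,.e,.o,.o,.o,.o⟩,⟨.e,.n,.n,.e,.o,.e,.o⟩,⟨.o,.o,.n,.e,.o,.n,.o⟩,⟨.e,.o,.n,.o,.o,.e,.o⟩,⟨.e,.o,.e,.n,.n,.e,.n⟩,⟨.n,.e,.n,.n,.o,.e,.e⟩⟩,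
   ⟨⟨.e,.o,.o,.o,.o,.o,.o⟩,⟨.o,.n,.o,.o,.o,.o,.o⟩,⟨.e,.o,.n,.o,.o,.o,.o⟩,⟨.o,.e,.o,.e,.o,.o,.o⟩,⟨.e,.o,.o,.o,.n,.o,.o⟩,⟨.e,.e,.o,.n,.o,.n,.o⟩,⟨.n,.n,.e,.o,.e,.o,.e⟩⟩,
   ⟨⟨.e,.o,.o,.o,.o,.o,.o⟩,⟨.o,.n,.o,.o,.o,.o,.o⟩,⟨.e,.n,.n,.o,.o,.o,.o⟩,⟨.o,.e,.o,.e,.o,.o,.o⟩,⟨.e,.o,.o,.o,.n,.o,.o⟩,⟨.e,.e,.o,.n,.n,.n,.o⟩,⟨.n,.o,.e,.o,.e,.o,.e⟩⟩,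
   ⟨⟨.e,.o,.o,.o,.o,.o,.o⟩,⟨.o,.e,.o,.o,.o,.o,.o⟩,⟨.e,.n,.e,.o,.o,.o,.o⟩,⟨.o,.n,.o,.e,.o,.o,.o⟩,⟨.e,.o,.o,.o,.e,.o,.o⟩,⟨.e,.n,.o,.n,.n,.e,.o⟩,⟨.n,.n,.n,.o,.n,.o,.e⟩⟩,
   ⟨⟨.e,.o,.o,.o,.o,.o,.o⟩,⟨.o,.o,.e,.o,.o,.o,.o⟩,⟨.e,.n,.n,.o,.o,.o,.o⟩,⟨.o,.o,.n,.e,.o,.o,.o⟩,⟨.e,.o,.o,.o,.o,.e,.o⟩,⟨.n,.o,.n,.n,.n,.n,.o⟩,⟨.n,.e,.o,.o,.o,.n,.e⟩⟩,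
   ⟨⟨.e,.o,.o,.o,.o,.o,.o⟩,⟨.o,.e,.o,.o,.o,.o,.o⟩,⟨.e,.o,.e,.o,.o,.o,.o⟩,⟨.o,.n,.o,.e,.o,.o,.o⟩,⟨.e,.o,.o,.o,.e,.o,.o⟩,⟨.n,.n,.o,.n,.o,.e,.o⟩,⟨.n,.n,.n,.o,.n,.o,.e⟩⟩,
   ⟨⟨.e,.o,.o,.o,.o,.o,.o⟩,⟨.o,.e,.o,.o,.o,.o,.o⟩,⟨.e,.e,.e,.o,.o,.o,.o⟩,⟨.o,.n,.o,.e,.o,.o,.o⟩,⟨.e,.o,.o,.o,.e,.o,.o⟩,⟨.n,.n,.o,.n,.e,.e,.o⟩,⟨.n,.e,.n,.o,.n,.o,.e⟩⟩,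
   ⟨⟨.e,.o,.o,.o,.o,.o,.o⟩,⟨.o,.n,.e,.o,.o,.o,.o⟩,⟨.e,.e,.e,.o,.o,.o,.o⟩,⟨.o,.e,.n,.e,.o,.o,.o⟩,⟨.e,.o,.o,.o,.n,.e,.o⟩,⟨.n,.e,.n,.n,.e,.e,.o⟩,⟨.n,.o,.e,.o,.e,.n,.e⟩⟩,
   ⟨⟨.n,.o,.e,.o,.o,.o,.o⟩,⟨.o,.o,.n,.o,.o,.o,.o⟩,⟨.n,.n,.o,.e,.o,.e,.o⟩,⟨.o,.o,.e,.e,.o,.n,.o⟩,⟨.e,.o,.n,.o,.o,.e,.o⟩,⟨.o,.o,.e,.n,.e,.n,.e⟩,⟨.n,.n,.o,.e,.o,.o,.n⟩⟩,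
   ⟨⟨.e,.e,.n,.o,.o,.o,.o⟩,⟨.o,.e,.n,.o,.o,.o,.o⟩,⟨.e,.e,.o,.n,.e,.n,.o⟩,⟨.o,.n,.e,.e,.e,.n,.o⟩,⟨.n,.n,.e,.o,.e,.n,.o⟩,⟨.o,.n,.e,.n,.n,.n,.e⟩,⟨.e,.e,.o,.n,.o,.o,.e⟩⟩,
   ⟨⟨.e,.o,.o,.o,.o,.o,.o⟩,⟨.o,.e,.e,.o,.o,.o,.o⟩,⟨.e,.e,.n,.o,.o,.o,.o⟩,⟨.o,.n,.n,.e,.o,.o,.o⟩,⟨.n,.o,.o,.o,.e,.e,.o⟩,⟨.o,.n,.n,.n,.e,.n,.o⟩,⟨.e,.e,.n,.o,.n,.n,.e⟩⟩,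
   ⟨⟨.e,.o,.o,.o,.o,.o,.o⟩,⟨.o,.n,.n,.o,.o,.o,.o⟩,⟨.e,.e,.o,.o,.o,.o,.o⟩,⟨.o,.e,.e,.e,.o,.o,.o⟩,⟨.n,.o,.o,.o,.n,.n,.o⟩,⟨.o,.e,.e,.n,.e,.o,.o⟩,⟨.e,.e,.o,.o,.e,.e,.e⟩⟩,
   ⟨⟨.n,.e,.o,.o,.o,.o,.o⟩,⟨.o,.o,.e,.e,.e,.o,.o⟩,⟨.n,.n,.e,.e,.e,.o,.o⟩,⟨.o,.o,.n,.o,.e,.o,.o⟩,⟨.e,.n,.o,.o,.o,.n,.e⟩,⟨.n,.e,.n,.e,.n,.n,.e⟩,⟨.n,.n,.n,.n,.n,.e,.e⟩⟩,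
   ⟨⟨.e,.n,.n,.o,.o,.o,.o⟩,⟨.o,.n,.n,.o,.o,.o,.o⟩,⟨.e,.n,.e,.n,.n,.n,.o⟩,⟨.o,.e,.e,.e,.n,.n,.o⟩,⟨.n,.e,.e,.o,.n,.n,.o⟩,⟨.e,.o,.o,.n,.e,.o,.e⟩,⟨.e,.e,.o,.n,.o,.o,.e⟩⟩,
   ⟨⟨.e,.o,.o,.o,.o,.o,.o⟩,⟨.o,.n,.n,.o,.o,.o,.o⟩,⟨.e,.n,.e,.o,.o,.o,.o⟩,⟨.o,.e,.e,.e,.o,.o,.o⟩,⟨.n,.o,.o,.o,.n,.n,.o⟩,⟨.e,.e,.e,.n,.n,.e,.o⟩,⟨.e,.e,.o,.o,.e,.e,.e⟩⟩,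
   ⟨⟨.n,.e,.o,.o,.o,.o,.o⟩,⟨.o,.e,.e,.e,.e,.o,.o⟩,⟨.n,.o,.e,.e,.e,.o,.o⟩,⟨.o,.n,.n,.o,.e,.o,.o⟩,⟨.e,.n,.o,.o,.n,.n,.e⟩,⟨.n,.o,.n,.e,.e,.n,.e⟩,⟨.n,.e,.n,.n,.o,.e,.e⟩⟩,
   ⟨⟨.n,.o,.e,.o,.o,.o,.o⟩,⟨.o,.o,.n,.o,.o,.o,.o⟩,⟨.n,.n,.n,.e,.o,.e,.o⟩,⟨.o,.o,.e,.e,.o,.n,.o⟩,⟨.e,.o,.n,.o,.o,.e,.o⟩,⟨.e,.o,.o,.n,.e,.o,.e⟩,⟨.n,.n,.o,.e,.o,.o,.n⟩⟩,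
   ⟨⟨.e,.o,.o,.o,.o,.o,.o⟩,⟨.o,.e,.e,.o,.o,.o,.o⟩,⟨.e,.o,.e,.o,.o,.o,.o⟩,⟨.o,.n,.n,.e,.o,.o,.o⟩,⟨.n,.o,.o,.o,.e,.e,.o⟩,⟨.n,.n,.n,.n,.o,.e,.o⟩,⟨.e,.n,.o,.o,.n,.n,.e⟩⟩,
   ⟨⟨.e,.e,.n,.o,.o,.o,.o⟩,⟨.o,.e,.n,.o,.o,.o,.o⟩,⟨.e,.n,.n,.n,.e,.n,.o⟩,⟨.o,.n,.e,.e,.e,.n,.o⟩,⟨.n,.n,.e,.o,.e,.n,.o⟩,⟨.n,.e,.n,.n,.o,.e,.e⟩,⟨.e,.e,.o,.n,.o,.o,.e⟩⟩,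
   ⟨⟨.e,.n,.n,.o,.o,.o,.o⟩,⟨.o,.n,.n,.o,.o,.o,.o⟩,⟨.e,.o,.n,.n,.n,.n,.o⟩,⟨.o,.e,.e,.e,.n,.n,.o⟩,⟨.n,.e,.e,.o,.n,.n,.o⟩,⟨.n,.n,.n,.n,.n,.e,.e⟩,⟨.e,.e,.o,.n,.o,.o,.e⟩⟩,
   ⟨⟨.e,.o,.o,.o,.o,.o,.o⟩,⟨.o,.o,.n,.o,.o,.o,.o⟩,⟨.e,.e,.n,.o,.o,.o,.o⟩,⟨.e,.o,.e,.e,.o,.o,.o⟩,⟨.o,.o,.e,.o,.o,.n,.o⟩,⟨.o,.n,.n,.n,.e,.n,.o⟩,⟨.e,.o,.e,.n,.o,.e,.e⟩⟩,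
   ⟨⟨.e,.n,.o,.o,.o,.o,.o⟩,⟨.o,.e,.o,.o,.o,.o,.o⟩,⟨.e,.n,.e,.e,.e,.o,.o⟩,⟨.e,.e,.o,.e,.n,.o,.o⟩,⟨.o,.n,.o,.o,.e,.o,.o⟩,⟨.o,.n,.n,.e,.o,.e,.n⟩,⟨.e,.e,.o,.n,.o,.o,.e⟩⟩,
   ⟨⟨.e,.n,.o,.o,.o,.o,.o⟩,⟨.o,.e,.o,.o,.o,.o,.o⟩,⟨.e,.o,.e,.e,.e,.o,.o⟩,⟨.e,.e,.o,.e,.n,.o,.o⟩,⟨.o,.n,.o,.o,.e,.o,.o⟩,⟨.o,.e,.n,.e,.e,.e,.n⟩,⟨.e,.e,.o,.n,.o,.o,.e⟩⟩,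
   ⟨⟨.e,.n,.o,.o,.o,.o,.o⟩,⟨.o,.e,.o,.o,.o,.o,.o⟩,⟨.e,.e,.e,.e,.e,.o,.o⟩,⟨.e,.e,.o,.e,.n,.o,.o⟩,⟨.o,.n,.o,.o,.e,.o,.o⟩,⟨.o,.o,.n,.e,.n,.e,.n⟩,⟨.e,.e,.o,.n,.o,.o,.e⟩⟩,
   ⟨⟨.n,.o,.e,.o,.o,.o,.o⟩,⟨.o,.o,.n,.o,.o,.o,.o⟩,⟨.n,.n,.e,.e,.o,.e,.o⟩,⟨.n,.o,.n,.e,.o,.n,.o⟩,⟨.o,.o,.e,.o,.o,.e,.o⟩,⟨.n,.e,.n,.e,.e,.o,.e⟩,⟨.n,.o,.e,.n,.o,.o,.n⟩⟩,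
   ⟨⟨.n,.n,.e,.o,.o,.o,.o⟩,⟨.o,.e,.n,.o,.o,.o,.o⟩,⟨.n,.n,.o,.e,.n,.e,.o⟩,⟨.n,.e,.n,.e,.e,.n,.o⟩,⟨.o,.n,.e,.o,.n,.e,.o⟩,⟨.n,.e,.o,.e,.o,.e,.e⟩,⟨.n,.n,.e,.n,.o,.o,.n⟩⟩,
   ⟨⟨.e,.e,.o,.o,.o,.o,.o⟩,⟨.o,.n,.o,.o,.o,.o,.o⟩,⟨.e,.o,.n,.e,.n,.o,.o⟩,⟨.e,.n,.o,.e,.e,.o,.o⟩,⟨.o,.e,.o,.o,.n,.o,.o⟩,⟨.e,.o,.e,.e,.n,.n,.n⟩,⟨.e,.e,.o,.n,.o,.o,.e⟩⟩,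
   ⟨⟨.n,.n,.e,.o,.o,.o,.o⟩,⟨.o,.e,.n,.o,.o,.o,.o⟩,⟨.n,.e,.e,.e,.n,.e,.o⟩,⟨.n,.e,.n,.e,.e,.n,.o⟩,⟨.o,.n,.e,.o,.n,.e,.o⟩,⟨.n,.n,.n,.e,.e,.o,.e⟩,⟨.n,.n,.e,.n,.o,.o,.n⟩⟩,
   ⟨⟨.e,.o,.o,.o,.o,.o,.o⟩,⟨.o,.o,.n,.o,.o,.o,.o⟩,⟨.e,.e,.e,.o,.o,.o,.o⟩,⟨.e,.o,.e,.e,.o,.o,.o⟩,⟨.o,.o,.e,.o,.o,.n,.o⟩,⟨.n,.n,.o,.n,.e,.e,.o⟩,⟨.e,.o,.n,.n,.o,.e,.e⟩⟩,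
   ⟨⟨.e,.e,.e,.o,.o,.o,.o⟩,⟨.o,.e,.e,.o,.o,.o,.o⟩,⟨.e,.e,.n,.n,.e,.e,.o⟩,⟨.e,.o,.o,.e,.e,.e,.o⟩,⟨.o,.n,.n,.o,.e,.e,.o⟩,⟨.n,.e,.o,.o,.e,.n,.e⟩,⟨.e,.n,.n,.n,.e,.e,.e⟩⟩,
   ⟨⟨.e,.e,.e,.o,.o,.o,.o⟩,⟨.o,.e,.e,.o,.o,.o,.o⟩,⟨.e,.n,.o,.n,.e,.e,.o⟩,⟨.e,.o,.o,.e,.e,.e,.o⟩,⟨.o,.n,.n,.o,.e,.e,.o⟩,⟨.n,.o,.n,.o,.n,.o,.e⟩,⟨.e,.n,.n,.n,.e,.e,.e⟩⟩,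
   ⟨⟨.e,.o,.o,.o,.o,.o,.o⟩,⟨.o,.e,.e,.o,.o,.o,.o⟩,⟨.e,.n,.o,.o,.o,.o,.o⟩,⟨.e,.n,.n,.e,.o,.o,.o⟩,⟨.o,.n,.n,.o,.e,.e,.o⟩,⟨.n,.o,.n,.n,.n,.o,.o⟩,⟨.e,.e,.e,.n,.n,.n,.e⟩⟩]

/-- part 20 -/
def repPart20 : List M7 :=
  [⟨⟨.e,.o,.o,.o,.o,.o,.o⟩,⟨.o,.o,.e,.o,.o,.o,.o⟩,⟨.e,.n,.e,.o,.o,.o,.o⟩,⟨.e,.o,.n,.e,.o,.o,.o⟩,⟨.e,.o,.n,.o,.o,.e,.o⟩,⟨.o,.e,.e,.n,.n,.e,.o⟩,⟨.o,.e,.e,.n,.o,.n,.e⟩⟩,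
   ⟨⟨.e,.o,.o,.o,.o,.o,.o⟩,⟨.o,.e,.o,.o,.o,.o,.o⟩,⟨.e,.o,.e,.o,.o,.o,.o⟩,⟨.e,.n,.o,.e,.o,.o,.o⟩,⟨.e,.n,.o,.o,.e,.o,.o⟩,⟨.o,.n,.n,.n,.o,.e,.o⟩,⟨.o,.n,.n,.n,.n,.o,.e⟩⟩,
   ⟨⟨.n,.e,.o,.o,.o,.o,.o⟩,⟨.o,.n,.o,.o,.o,.o,.o⟩,⟨.n,.o,.e,.e,.e,.o,.o⟩,⟨.n,.n,.o,.e,.n,.o,.o⟩,⟨.n,.n,.o,.o,.e,.o,.o⟩,⟨.o,.n,.n,.e,.e,.n,.e⟩,⟨.o,.n,.n,.e,.n,.o,.n⟩⟩,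
   ⟨⟨.e,.o,.o,.o,.o,.o,.o⟩,⟨.o,.n,.e,.o,.o,.o,.o⟩,⟨.e,.e,.e,.o,.o,.o,.o⟩,⟨.e,.e,.n,.e,.o,.o,.o⟩,⟨.e,.e,.n,.o,.n,.e,.o⟩,⟨.o,.o,.e,.n,.e,.e,.o⟩,⟨.o,.o,.e,.n,.e,.n,.e⟩⟩,
   ⟨⟨.e,.o,.o,.o,.o,.o,.o⟩,⟨.o,.o,.e,.o,.o,.o,.o⟩,⟨.e,.n,.n,.o,.o,.o,.o⟩,⟨.e,.o,.n,.e,.o,.o,.o⟩,⟨.e,.o,.n,.o,.o,.e,.o⟩,⟨.e,.e,.o,.n,.n,.n,.o⟩,⟨.o,.e,.e,.n,.o,.n,.e⟩⟩,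
   ⟨⟨.e,.o,.o,.o,.o,.o,.o⟩,⟨.o,.n,.e,.o,.o,.o,.o⟩,⟨.e,.o,.n,.o,.o,.o,.o⟩,⟨.e,.e,.n,.e,.o,.o,.o⟩,⟨.e,.e,.n,.o,.n,.e,.o⟩,⟨.e,.e,.o,.n,.o,.n,.o⟩,⟨.o,.o,.e,.n,.e,.n,.e⟩⟩,
   ⟨⟨.e,.o,.o,.o,.o,.o,.o⟩,⟨.o,.e,.o,.o,.o,.o,.o⟩,⟨.e,.e,.e,.o,.o,.o,.o⟩,⟨.e,.n,.o,.e,.o,.o,.o⟩,⟨.e,.n,.o,.o,.e,.o,.o⟩,⟨.e,.e,.n,.n,.e,.e,.o⟩,⟨.o,.n,.n,.n,.n,.o,.e⟩⟩,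
   ⟨⟨.n,.e,.o,.o,.o,.o,.o⟩,⟨.o,.n,.o,.o,.o,.o,.o⟩,⟨.n,.n,.e,.e,.e,.o,.o⟩,⟨.n,.n,.o,.e,.n,.o,.o⟩,⟨.n,.n,.o,.o,.e,.o,.o⟩,⟨.n,.e,.n,.e,.n,.n,.e⟩,⟨.o,.n,.n,.e,.n,.o,.n⟩⟩,
   ⟨⟨.e,.o,.o,.o,.o,.o,.o⟩,⟨.o,.o,.e,.o,.o,.o,.o⟩,⟨.e,.n,.o,.o,.o,.o,.o⟩,⟨.e,.o,.n,.e,.o,.o,.o⟩,⟨.e,.o,.n,.o,.o,.e,.o⟩,⟨.n,.e,.n,.n,.n,.o,.o⟩,⟨.o,.e,.e,.n,.o,.n,.e⟩⟩,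
   ⟨⟨.n,.e,.o,.o,.o,.o,.o⟩,⟨.o,.n,.o,.o,.o,.o,.o⟩,⟨.n,.e,.e,.e,.e,.o,.o⟩,⟨.n,.n,.o,.e,.n,.o,.o⟩,⟨.n,.n,.o,.o,.e,.o,.o⟩,⟨.e,.o,.n,.e,.o,.n,.e⟩,⟨.o,.n,.n,.e,.n,.o,.n⟩⟩,
   ⟨⟨.e,.o,.o,.o,.o,.o,.o⟩,⟨.o,.n,.e,.o,.o,.o,.o⟩,⟨.e,.n,.o,.o,.o,.o,.o⟩,⟨.e,.e,.n,.e,.o,.o,.o⟩,⟨.e,.e,.n,.o,.n,.e,.o⟩,⟨.n,.n,.n,.n,.n,.o,.o⟩,⟨.o,.o,.e,.n,.e,.n,.e⟩⟩,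
   ⟨⟨.e,.o,.o,.o,.o,.o,.o⟩,⟨.o,.e,.o,.o,.o,.o,.o⟩,⟨.e,.n,.e,.o,.o,.o,.o⟩,⟨.e,.n,.o,.e,.o,.o,.o⟩,⟨.e,.n,.o,.o,.e,.o,.o⟩,⟨.n,.o,.n,.n,.n,.e,.o⟩,⟨.o,.n,.n,.n,.n,.o,.e⟩⟩,
   ⟨⟨.e,.o,.o,.o,.o,.o,.o⟩,⟨.o,.o,.e,.o,.o,.o,.o⟩,⟨.e,.n,.n,.o,.o,.o,.o⟩,⟨.e,.o,.n,.e,.o,.o,.o⟩,⟨.n,.o,.n,.o,.o,.e,.o⟩,⟨.o,.e,.o,.n,.n,.n,.o⟩,⟨.n,.n,.e,.n,.o,.n,.e⟩⟩,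
   ⟨⟨.e,.o,.o,.o,.o,.o,.o⟩,⟨.o,.e,.n,.o,.o,.o,.o⟩,⟨.e,.o,.e,.o,.o,.o,.o⟩,⟨.e,.n,.e,.e,.o,.o,.o⟩,⟨.n,.n,.e,.o,.e,.n,.o⟩,⟨.o,.n,.o,.n,.o,.e,.o⟩,⟨.n,.n,.n,.n,.n,.e,.e⟩⟩,
   ⟨⟨.e,.o,.o,.o,.o,.o,.o⟩,⟨.o,.e,.e,.o,.o,.o,.o⟩,⟨.e,.e,.n,.o,.o,.o,.o⟩,⟨.e,.n,.n,.e,.o,.o,.o⟩,⟨.n,.n,.n,.o,.e,.e,.o⟩,⟨.o,.e,.o,.n,.e,.n,.o⟩,⟨.n,.o,.e,.n,.n,.n,.e⟩⟩,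
   ⟨⟨.e,.n,.o,.o,.o,.o,.o⟩,⟨.o,.e,.o,.o,.o,.o,.o⟩,⟨.e,.e,.e,.e,.e,.o,.o⟩,⟨.e,.e,.o,.e,.n,.o,.o⟩,⟨.n,.o,.o,.o,.e,.o,.o⟩,⟨.o,.o,.n,.e,.n,.e,.n⟩,⟨.n,.n,.e,.o,.e,.o,.e⟩⟩,
   ⟨⟨.e,.o,.o,.o,.o,.o,.o⟩,⟨.o,.o,.e,.o,.o,.o,.o⟩,⟨.e,.n,.e,.o,.o,.o,.o⟩,⟨.e,.o,.n,.e,.o,.o,.o⟩,⟨.n,.o,.n,.o,.o,.e,.o⟩,⟨.e,.e,.e,.n,.n,.e,.o⟩,⟨.n,.n,.e,.n,.o,.n,.e⟩⟩,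
   ⟨⟨.n,.n,.o,.o,.o,.o,.o⟩,⟨.o,.e,.e,.n,.e,.o,.o⟩,⟨.n,.n,.n,.e,.n,.o,.o⟩,⟨.n,.e,.n,.n,.o,.o,.o⟩,⟨.e,.o,.n,.e,.e,.n,.n⟩,⟨.n,.e,.o,.n,.n,.e,.e⟩,⟨.e,.e,.n,.o,.n,.e,.o⟩⟩,
   ⟨⟨.n,.e,.o,.o,.o,.o,.o⟩,⟨.o,.n,.o,.o,.o,.o,.o⟩,⟨.n,.o,.e,.e,.e,.o,.o⟩,⟨.n,.n,.o,.e,.n,.o,.o⟩,⟨.e,.o,.o,.o,.e,.o,.o⟩,⟨.n,.o,.n,.e,.e,.n,.e⟩,⟨.e,.e,.e,.o,.e,.o,.n⟩⟩,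
   ⟨⟨.n,.e,.o,.o,.o,.o,.o⟩,⟨.o,.n,.o,.o,.o,.o,.o⟩,⟨.n,.n,.e,.e,.e,.o,.o⟩,⟨.n,.n,.o,.e,.n,.o,.o⟩,⟨.e,.o,.o,.o,.e,.o,.o⟩,⟨.n,.e,.n,.e,.n,.n,.e⟩,⟨.e,.o,.e,.o,.e,.o,.n⟩⟩,
   ⟨⟨.e,.o,.o,.o,.o,.o,.o⟩,⟨.o,.o,.n,.o,.o,.o,.o⟩,⟨.e,.e,.o,.o,.o,.o,.o⟩,⟨.e,.o,.e,.e,.o,.o,.o⟩,⟨.n,.o,.e,.o,.o,.n,.o⟩,⟨.n,.n,.e,.n,.e,.o,.o⟩,⟨.n,.e,.n,.n,.o,.e,.e⟩⟩,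
   ⟨⟨.e,.n,.o,.o,.o,.o,.o⟩,⟨.o,.e,.o,.o,.o,.o,.o⟩,⟨.e,.n,.e,.e,.e,.o,.o⟩,⟨.e,.e,.o,.e,.n,.o,.o⟩,⟨.n,.o,.o,.o,.e,.o,.o⟩,⟨.n,.o,.n,.e,.o,.e,.n⟩,⟨.n,.n,.e,.o,.e,.o,.e⟩⟩,
   ⟨⟨.n,.n,.o,.o,.o,.o,.o⟩,⟨.o,.e,.o,.o,.o,.o,.o⟩,⟨.n,.o,.n,.e,.n,.o,.o⟩,⟨.n,.e,.o,.e,.e,.o,.o⟩,⟨.e,.o,.o,.o,.n,.o,.o⟩,⟨.e,.n,.e,.e,.n,.e,.e⟩,⟨.e,.o,.n,.o,.n,.o,.n⟩⟩,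
   ⟨⟨.n,.n,.o,.o,.o,.o,.o⟩,⟨.o,.e,.e,.n,.e,.o,.o⟩,⟨.n,.e,.e,.n,.e,.o,.o⟩,⟨.n,.e,.n,.n,.o,.o,.o⟩,⟨.e,.o,.n,.e,.e,.n,.n⟩,⟨.e,.e,.e,.e,.e,.n,.n⟩,⟨.e,.e,.n,.o,.n,.e,.o⟩⟩,
   ⟨⟨.n,.e,.e,.o,.o,.o,.o⟩,⟨.o,.o,.e,.e,.e,.e,.o⟩,⟨.n,.n,.o,.e,.e,.e,.o⟩,⟨.e,.n,.e,.o,.e,.e,.o⟩,⟨.o,.o,.e,.e,.e,.o,.e⟩,⟨.o,.e,.e,.n,.o,.n,.e⟩,⟨.n,.e,.n,.n,.o,.e,.e⟩⟩,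
   ⟨⟨.e,.e,.o,.o,.o,.o,.o⟩,⟨.o,.n,.e,.n,.e,.o,.o⟩,⟨.e,.e,.n,.e,.n,.o,.o⟩,⟨.n,.o,.n,.n,.o,.o,.o⟩,⟨.o,.n,.e,.n,.o,.e,.e⟩,⟨.o,.e,.e,.e,.o,.n,.n⟩,⟨.e,.o,.e,.o,.o,.n,.o⟩⟩,
   ⟨⟨.n,.o,.e,.o,.o,.o,.o⟩,⟨.o,.n,.e,.e,.o,.e,.o⟩,⟨.n,.n,.o,.e,.o,.e,.o⟩,⟨.e,.e,.e,.o,.o,.e,.o⟩,⟨.o,.n,.e,.e,.e,.o,.e⟩,⟨.o,.o,.e,.n,.e,.n,.e⟩,⟨.n,.n,.n,.n,.n,.e,.e⟩⟩,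
   ⟨⟨.n,.o,.e,.o,.o,.o,.o⟩,⟨.o,.n,.e,.e,.o,.e,.o⟩,⟨.n,.e,.e,.n,.o,.n,.o⟩,⟨.e,.e,.e,.o,.o,.e,.o⟩,⟨.o,.n,.e,.e,.e,.o,.e⟩,⟨.o,.n,.n,.o,.n,.n,.n⟩,⟨.n,.n,.n,.n,.n,.e,.e⟩⟩,
   ⟨⟨.n,.n,.e,.o,.o,.o,.o⟩,⟨.o,.o,.n,.e,.n,.e,.o⟩,⟨.n,.e,.e,.e,.n,.e,.o⟩,⟨.e,.e,.o,.o,.n,.e,.o⟩,⟨.o,.o,.n,.e,.n,.n,.e⟩,⟨.n,.e,.n,.n,.o,.e,.e⟩,⟨.n,.n,.n,.o,.n,.o,.e⟩⟩,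
   ⟨⟨.e,.o,.o,.o,.o,.o,.o⟩,⟨.o,.n,.n,.o,.o,.o,.o⟩,⟨.e,.o,.n,.o,.o,.o,.o⟩,⟨.n,.e,.e,.e,.o,.o,.o⟩,⟨.o,.n,.n,.o,.n,.n,.o⟩,⟨.e,.e,.o,.n,.o,.n,.o⟩,⟨.e,.e,.e,.e,.e,.e,.e⟩⟩,
   ⟨⟨.e,.o,.o,.o,.o,.o,.o⟩,⟨.o,.n,.n,.o,.o,.o,.o⟩,⟨.e,.n,.e,.o,.o,.o,.o⟩,⟨.n,.e,.e,.e,.o,.o,.o⟩,⟨.o,.n,.n,.o,.n,.n,.o⟩,⟨.e,.o,.n,.n,.n,.e,.o⟩,⟨.e,.e,.e,.e,.e,.e,.e⟩⟩,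
   ⟨⟨.e,.o,.o,.o,.o,.o,.o⟩,⟨.o,.e,.n,.o,.o,.o,.o⟩,⟨.e,.n,.n,.o,.o,.o,.o⟩,⟨.n,.n,.e,.e,.o,.o,.o⟩,⟨.o,.e,.n,.o,.e,.n,.o⟩,⟨.e,.e,.o,.n,.n,.n,.o⟩,⟨.e,.n,.e,.e,.n,.e,.e⟩⟩]

/-- part 21 -/
def repPart21 : List M7 :=
  [⟨⟨.e,.o,.e,.o,.o,.o,.o⟩,⟨.o,.o,.e,.o,.o,.o,.o⟩,⟨.e,.n,.e,.n,.o,.e,.o⟩,⟨.n,.o,.e,.e,.o,.e,.o⟩,⟨.o,.o,.e,.o,.o,.e,.o⟩,⟨.n,.n,.e,.e,.n,.o,.e⟩,⟨.e,.o,.e,.e,.o,.o,.e⟩⟩,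
   ⟨⟨.n,.n,.o,.o,.o,.o,.o⟩,⟨.o,.n,.o,.o,.o,.o,.o⟩,⟨.n,.n,.e,.n,.e,.o,.o⟩,⟨.e,.n,.o,.e,.e,.o,.o⟩,⟨.o,.n,.o,.o,.e,.o,.o⟩,⟨.e,.n,.e,.e,.o,.n,.n⟩,⟨.n,.n,.o,.e,.o,.o,.n⟩⟩,
   ⟨⟨.n,.n,.o,.o,.o,.o,.o⟩,⟨.o,.n,.o,.o,.o,.o,.o⟩,⟨.n,.e,.e,.n,.e,.o,.o⟩,⟨.e,.n,.o,.e,.e,.o,.o⟩,⟨.o,.n,.o,.o,.e,.o,.o⟩,⟨.e,.e,.e,.e,.e,.n,.n⟩,⟨.n,.n,.o,.e,.o,.o,.n⟩⟩,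
   ⟨⟨.n,.n,.o,.o,.o,.o,.o⟩,⟨.o,.n,.o,.o,.o,.o,.o⟩,⟨.n,.o,.e,.n,.e,.o,.o⟩,⟨.e,.n,.o,.e,.e,.o,.o⟩,⟨.o,.n,.o,.o,.e,.o,.o⟩,⟨.e,.o,.e,.e,.n,.n,.n⟩,⟨.n,.n,.o,.e,.o,.o,.n⟩⟩,
   ⟨⟨.e,.o,.e,.o,.o,.o,.o⟩,⟨.o,.o,.e,.o,.o,.o,.o⟩,⟨.e,.n,.e,.n,.o,.e,.o⟩,⟨.n,.o,.e,.e,.o,.e,.o⟩,⟨.e,.o,.n,.o,.o,.e,.o⟩,⟨.o,.n,.n,.e,.n,.o,.e⟩,⟨.o,.e,.e,.n,.o,.n,.e⟩⟩,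
   ⟨⟨.e,.o,.o,.o,.o,.o,.o⟩,⟨.o,.n,.e,.o,.o,.o,.o⟩,⟨.e,.o,.n,.o,.o,.o,.o⟩,⟨.n,.e,.n,.e,.o,.o,.o⟩,⟨.e,.n,.e,.o,.n,.e,.o⟩,⟨.o,.e,.e,.n,.o,.n,.o⟩,⟨.o,.n,.n,.e,.e,.n,.e⟩⟩,
   ⟨⟨.e,.o,.o,.o,.o,.o,.o⟩,⟨.o,.e,.o,.o,.o,.o,.o⟩,⟨.e,.e,.e,.o,.o,.o,.o⟩,⟨.n,.n,.o,.e,.o,.o,.o⟩,⟨.e,.e,.o,.o,.e,.o,.o⟩,⟨.o,.o,.e,.n,.e,.e,.o⟩,⟨.o,.o,.n,.e,.n,.o,.e⟩⟩,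
   ⟨⟨.e,.o,.o,.o,.o,.o,.o⟩,⟨.o,.e,.o,.o,.o,.o,.o⟩,⟨.e,.n,.e,.o,.o,.o,.o⟩,⟨.n,.n,.o,.e,.o,.o,.o⟩,⟨.e,.e,.o,.o,.e,.o,.o⟩,⟨.o,.e,.e,.n,.n,.e,.o⟩,⟨.o,.n,.n,.e,.n,.o,.e⟩⟩,
   ⟨⟨.e,.o,.e,.o,.o,.o,.o⟩,⟨.o,.o,.e,.o,.o,.o,.o⟩,⟨.e,.n,.n,.n,.o,.e,.o⟩,⟨.n,.o,.e,.e,.o,.e,.o⟩,⟨.e,.o,.n,.o,.o,.e,.o⟩,⟨.e,.n,.e,.e,.n,.e,.e⟩,⟨.o,.e,.e,.n,.o,.n,.e⟩⟩,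
   ⟨⟨.e,.o,.o,.o,.o,.o,.o⟩,⟨.o,.e,.o,.o,.o,.o,.o⟩,⟨.e,.o,.e,.o,.o,.o,.o⟩,⟨.n,.n,.o,.e,.o,.o,.o⟩,⟨.e,.e,.o,.o,.e,.o,.o⟩,⟨.e,.n,.e,.n,.o,.e,.o⟩,⟨.o,.n,.n,.e,.n,.o,.e⟩⟩,
   ⟨⟨.e,.o,.o,.o,.o,.o,.o⟩,⟨.o,.n,.e,.o,.o,.o,.o⟩,⟨.e,.n,.o,.o,.o,.o,.o⟩,⟨.n,.e,.n,.e,.o,.o,.o⟩,⟨.e,.n,.e,.o,.n,.e,.o⟩,⟨.e,.o,.n,.n,.n,.o,.o⟩,⟨.o,.n,.n,.e,.e,.n,.e⟩⟩,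
   ⟨⟨.e,.o,.o,.o,.o,.o,.o⟩,⟨.o,.e,.o,.o,.o,.o,.o⟩,⟨.e,.n,.e,.o,.o,.o,.o⟩,⟨.n,.n,.o,.e,.o,.o,.o⟩,⟨.e,.e,.o,.o,.e,.o,.o⟩,⟨.e,.e,.e,.n,.n,.e,.o⟩,⟨.o,.o,.n,.e,.n,.o,.e⟩⟩,
   ⟨⟨.e,.o,.e,.o,.o,.o,.o⟩,⟨.o,.o,.e,.o,.o,.o,.o⟩,⟨.e,.n,.o,.n,.o,.e,.o⟩,⟨.n,.o,.e,.e,.o,.e,.o⟩,⟨.e,.o,.n,.o,.o,.e,.o⟩,⟨.n,.n,.o,.e,.n,.n,.e⟩,⟨.o,.e,.e,.n,.o,.n,.e⟩⟩,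
   ⟨⟨.e,.o,.o,.o,.o,.o,.o⟩,⟨.o,.e,.o,.o,.o,.o,.o⟩,⟨.e,.o,.e,.o,.o,.o,.o⟩,⟨.n,.n,.o,.e,.o,.o,.o⟩,⟨.e,.e,.o,.o,.e,.o,.o⟩,⟨.n,.n,.e,.n,.o,.e,.o⟩,⟨.o,.o,.n,.e,.n,.o,.e⟩⟩,
   ⟨⟨.e,.o,.o,.o,.o,.o,.o⟩,⟨.o,.e,.o,.o,.o,.o,.o⟩,⟨.e,.e,.e,.o,.o,.o,.o⟩,⟨.n,.n,.o,.e,.o,.o,.o⟩,⟨.e,.e,.o,.o,.e,.o,.o⟩,⟨.n,.o,.e,.n,.e,.e,.o⟩,⟨.o,.n,.n,.e,.n,.o,.e⟩⟩,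
   ⟨⟨.e,.o,.o,.o,.o,.o,.o⟩,⟨.o,.n,.e,.o,.o,.o,.o⟩,⟨.e,.e,.e,.o,.o,.o,.o⟩,⟨.n,.e,.n,.e,.o,.o,.o⟩,⟨.e,.n,.e,.o,.n,.e,.o⟩,⟨.n,.n,.o,.n,.e,.e,.o⟩,⟨.o,.n,.n,.e,.e,.n,.e⟩⟩,
   ⟨⟨.e,.e,.o,.o,.o,.o,.o⟩,⟨.o,.o,.e,.n,.e,.o,.o⟩,⟨.e,.o,.e,.n,.e,.o,.o⟩,⟨.n,.n,.n,.n,.o,.o,.o⟩,⟨.n,.n,.e,.n,.e,.e,.e⟩,⟨.o,.n,.o,.n,.e,.e,.e⟩,⟨.n,.e,.n,.n,.o,.n,.o⟩⟩,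
   ⟨⟨.e,.o,.o,.o,.o,.o,.o⟩,⟨.o,.e,.e,.o,.o,.o,.o⟩,⟨.e,.o,.e,.o,.o,.o,.o⟩,⟨.n,.n,.n,.e,.o,.o,.o⟩,⟨.n,.e,.e,.o,.e,.e,.o⟩,⟨.o,.n,.o,.n,.o,.e,.o⟩,⟨.n,.e,.n,.e,.n,.n,.e⟩⟩,
   ⟨⟨.e,.n,.e,.o,.o,.o,.o⟩,⟨.o,.n,.e,.o,.o,.o,.o⟩,⟨.e,.e,.e,.n,.n,.e,.o⟩,⟨.n,.n,.e,.e,.n,.e,.o⟩,⟨.n,.o,.o,.o,.n,.e,.o⟩,⟨.o,.o,.n,.e,.n,.o,.e⟩,⟨.n,.n,.o,.o,.n,.e,.e⟩⟩,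
   ⟨⟨.e,.e,.o,.o,.o,.o,.o⟩,⟨.o,.e,.o,.o,.o,.o,.o⟩,⟨.e,.o,.e,.n,.e,.o,.o⟩,⟨.n,.e,.o,.e,.e,.o,.o⟩,⟨.n,.o,.o,.o,.e,.o,.o⟩,⟨.o,.e,.e,.e,.n,.e,.e⟩,⟨.n,.n,.e,.o,.e,.o,.e⟩⟩,
   ⟨⟨.e,.e,.o,.o,.o,.o,.o⟩,⟨.o,.o,.e,.n,.e,.o,.o⟩,⟨.e,.o,.o,.o,.o,.o,.o⟩,⟨.n,.n,.n,.n,.o,.o,.o⟩,⟨.n,.n,.e,.n,.e,.e,.e⟩,⟨.e,.o,.n,.o,.o,.o,.o⟩,⟨.n,.e,.n,.n,.o,.n,.o⟩⟩,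
   ⟨⟨.e,.n,.e,.o,.o,.o,.o⟩,⟨.o,.n,.e,.o,.o,.o,.o⟩,⟨.e,.n,.o,.n,.n,.e,.o⟩,⟨.n,.n,.e,.e,.n,.e,.o⟩,⟨.n,.o,.o,.o,.n,.e,.o⟩,⟨.e,.o,.n,.e,.o,.n,.e⟩,⟨.n,.n,.o,.o,.n,.e,.e⟩⟩,
   ⟨⟨.e,.e,.o,.o,.o,.o,.o⟩,⟨.o,.e,.o,.o,.o,.o,.o⟩,⟨.e,.n,.e,.n,.e,.o,.o⟩,⟨.n,.e,.o,.e,.e,.o,.o⟩,⟨.n,.o,.o,.o,.e,.o,.o⟩,⟨.e,.e,.e,.e,.e,.e,.e⟩,⟨.n,.n,.e,.o,.e,.o,.e⟩⟩,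
   ⟨⟨.e,.e,.o,.o,.o,.o,.o⟩,⟨.o,.e,.o,.o,.o,.o,.o⟩,⟨.e,.o,.e,.n,.e,.o,.o⟩,⟨.n,.e,.o,.e,.e,.o,.o⟩,⟨.n,.o,.o,.o,.e,.o,.o⟩,⟨.e,.n,.e,.e,.n,.e,.e⟩,⟨.n,.o,.e,.o,.e,.o,.e⟩⟩,
   ⟨⟨.e,.e,.o,.o,.o,.o,.o⟩,⟨.o,.o,.e,.n,.e,.o,.o⟩,⟨.e,.o,.n,.e,.n,.o,.o⟩,⟨.n,.n,.n,.n,.o,.o,.o⟩,⟨.n,.n,.e,.n,.e,.e,.e⟩,⟨.n,.e,.e,.e,.n,.n,.n⟩,⟨.n,.e,.n,.n,.o,.n,.o⟩⟩,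
   ⟨⟨.e,.e,.o,.o,.o,.o,.o⟩,⟨.o,.e,.o,.o,.o,.o,.o⟩,⟨.e,.e,.e,.n,.e,.o,.o⟩,⟨.n,.e,.o,.e,.e,.o,.o⟩,⟨.n,.o,.o,.o,.e,.o,.o⟩,⟨.n,.e,.e,.e,.o,.e,.e⟩,⟨.n,.n,.e,.o,.e,.o,.e⟩⟩,
   ⟨⟨.e,.e,.o,.o,.o,.o,.o⟩,⟨.o,.e,.e,.n,.e,.o,.o⟩,⟨.e,.n,.n,.e,.n,.o,.o⟩,⟨.n,.e,.n,.n,.o,.o,.o⟩,⟨.n,.o,.e,.n,.n,.e,.e⟩,⟨.n,.n,.e,.e,.e,.n,.n⟩,⟨.n,.o,.n,.n,.n,.n,.o⟩⟩,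
   ⟨⟨.e,.o,.o,.o,.o,.o,.o⟩,⟨.o,.e,.e,.o,.o,.o,.o⟩,⟨.e,.n,.o,.o,.o,.o,.o⟩,⟨.n,.n,.n,.e,.o,.o,.o⟩,⟨.n,.e,.e,.o,.e,.e,.o⟩,⟨.n,.e,.n,.n,.n,.o,.o⟩,⟨.n,.n,.o,.e,.n,.n,.e⟩⟩,
   ⟨⟨.e,.o,.o,.o,.o,.o,.o⟩,⟨.o,.o,.e,.o,.o,.o,.o⟩,⟨.n,.n,.e,.o,.o,.o,.o⟩,⟨.o,.o,.e,.e,.o,.o,.o⟩,⟨.o,.o,.o,.o,.o,.e,.o⟩,⟨.o,.o,.n,.e,.n,.e,.o⟩,⟨.o,.o,.o,.o,.o,.e,.e⟩⟩,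
   ⟨⟨.e,.o,.o,.o,.o,.o,.o⟩,⟨.o,.e,.e,.o,.o,.o,.o⟩,⟨.n,.o,.e,.o,.o,.o,.o⟩,⟨.o,.e,.e,.e,.o,.o,.o⟩,⟨.o,.o,.o,.o,.e,.e,.o⟩,⟨.o,.n,.n,.e,.o,.e,.o⟩,⟨.o,.o,.o,.o,.e,.e,.e⟩⟩,
   ⟨⟨.e,.o,.o,.o,.o,.o,.o⟩,⟨.o,.n,.n,.o,.o,.o,.o⟩,⟨.n,.n,.e,.o,.o,.o,.o⟩,⟨.o,.n,.n,.e,.o,.o,.o⟩,⟨.o,.o,.o,.o,.n,.n,.o⟩,⟨.o,.e,.e,.e,.n,.e,.o⟩,⟨.o,.o,.o,.o,.n,.n,.e⟩⟩,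
   ⟨⟨.e,.o,.o,.o,.o,.o,.o⟩,⟨.o,.e,.e,.o,.o,.o,.o⟩,⟨.n,.n,.o,.o,.o,.o,.o⟩,⟨.o,.e,.e,.e,.o,.o,.o⟩,⟨.o,.o,.o,.o,.e,.e,.o⟩,⟨.o,.n,.n,.e,.n,.o,.o⟩,⟨.o,.o,.o,.o,.e,.e,.e⟩⟩]

/-- part 22 -/
def repPart22 : List M7 :=
  [⟨⟨.n,.n,.o,.o,.o,.o,.o⟩,⟨.o,.o,.e,.n,.e,.o,.o⟩,⟨.e,.n,.e,.n,.e,.o,.o⟩,⟨.o,.o,.e,.o,.n,.o,.o⟩,⟨.o,.o,.o,.o,.o,.n,.n⟩,⟨.n,.n,.n,.n,.n,.n,.n⟩,⟨.o,.o,.e,.n,.e,.n,.e⟩⟩,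
   ⟨⟨.n,.e,.o,.o,.o,.o,.o⟩,⟨.o,.n,.n,.n,.n,.o,.o⟩,⟨.e,.n,.e,.e,.e,.o,.o⟩,⟨.o,.n,.n,.o,.e,.o,.o⟩,⟨.o,.o,.o,.o,.e,.e,.n⟩,⟨.n,.n,.e,.n,.o,.n,.e⟩,⟨.o,.n,.n,.n,.o,.e,.e⟩⟩,
   ⟨⟨.n,.n,.o,.o,.o,.o,.o⟩,⟨.o,.e,.e,.n,.e,.o,.o⟩,⟨.e,.n,.o,.o,.o,.o,.o⟩,⟨.o,.e,.e,.o,.n,.o,.o⟩,⟨.o,.o,.o,.o,.n,.n,.n⟩,⟨.n,.e,.n,.n,.n,.o,.o⟩,⟨.o,.e,.e,.n,.o,.n,.e⟩⟩,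
   ⟨⟨.n,.n,.o,.o,.o,.o,.o⟩,⟨.o,.e,.e,.n,.e,.o,.o⟩,⟨.e,.o,.e,.n,.e,.o,.o⟩,⟨.o,.e,.e,.o,.n,.o,.o⟩,⟨.o,.o,.o,.o,.n,.n,.n⟩,⟨.n,.e,.n,.n,.e,.n,.n⟩,⟨.o,.e,.e,.n,.o,.n,.e⟩⟩,
   ⟨⟨.e,.e,.o,.o,.o,.o,.o⟩,⟨.o,.o,.e,.n,.e,.o,.o⟩,⟨.n,.e,.e,.n,.e,.o,.o⟩,⟨.o,.o,.e,.o,.n,.o,.o⟩,⟨.o,.o,.o,.o,.o,.e,.e⟩,⟨.n,.n,.n,.n,.n,.e,.e⟩,⟨.o,.o,.n,.e,.n,.e,.n⟩⟩,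
   ⟨⟨.e,.e,.o,.o,.o,.o,.o⟩,⟨.o,.e,.e,.n,.e,.o,.o⟩,⟨.n,.n,.e,.n,.e,.o,.o⟩,⟨.o,.e,.e,.o,.n,.o,.o⟩,⟨.o,.o,.o,.o,.e,.e,.e⟩,⟨.n,.e,.n,.n,.o,.e,.e⟩,⟨.o,.n,.n,.e,.o,.e,.n⟩⟩,
   ⟨⟨.e,.e,.o,.o,.o,.o,.o⟩,⟨.o,.e,.e,.n,.e,.o,.o⟩,⟨.n,.o,.n,.e,.n,.o,.o⟩,⟨.o,.e,.e,.o,.n,.o,.o⟩,⟨.o,.o,.o,.o,.e,.e,.e⟩,⟨.n,.e,.n,.n,.e,.n,.n⟩,⟨.o,.n,.n,.e,.o,.e,.n⟩⟩,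
   ⟨⟨.e,.e,.o,.o,.o,.o,.o⟩,⟨.o,.n,.e,.n,.e,.o,.o⟩,⟨.n,.o,.e,.n,.e,.o,.o⟩,⟨.o,.n,.e,.o,.n,.o,.o⟩,⟨.o,.o,.o,.o,.n,.e,.e⟩,⟨.n,.o,.n,.n,.e,.e,.e⟩,⟨.o,.e,.n,.e,.e,.e,.n⟩⟩,
   ⟨⟨.e,.o,.n,.o,.o,.o,.o⟩,⟨.o,.o,.e,.o,.o,.o,.o⟩,⟨.n,.n,.o,.e,.o,.e,.o⟩,⟨.o,.o,.e,.e,.o,.n,.o⟩,⟨.e,.o,.n,.o,.o,.e,.o⟩,⟨.o,.o,.n,.e,.n,.e,.n⟩,⟨.e,.e,.o,.n,.o,.o,.e⟩⟩,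
   ⟨⟨.n,.e,.o,.o,.o,.o,.o⟩,⟨.o,.n,.n,.n,.n,.o,.o⟩,⟨.e,.n,.e,.e,.e,.o,.o⟩,⟨.o,.n,.n,.o,.e,.o,.o⟩,⟨.n,.e,.o,.o,.e,.e,.n⟩,⟨.o,.e,.e,.n,.o,.n,.e⟩,⟨.n,.e,.n,.n,.o,.e,.e⟩⟩,
   ⟨⟨.e,.n,.n,.o,.o,.o,.o⟩,⟨.o,.e,.e,.o,.o,.o,.o⟩,⟨.n,.n,.o,.e,.e,.e,.o⟩,⟨.o,.e,.e,.e,.n,.n,.o⟩,⟨.e,.n,.n,.o,.e,.e,.o⟩,⟨.o,.n,.n,.e,.o,.e,.n⟩,⟨.e,.e,.o,.n,.o,.o,.e⟩⟩,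
   ⟨⟨.e,.o,.o,.o,.o,.o,.o⟩,⟨.o,.n,.n,.o,.o,.o,.o⟩,⟨.n,.e,.o,.o,.o,.o,.o⟩,⟨.o,.n,.n,.e,.o,.o,.o⟩,⟨.e,.o,.o,.o,.n,.n,.o⟩,⟨.o,.e,.e,.e,.e,.o,.o⟩,⟨.e,.n,.o,.o,.n,.n,.e⟩⟩,
   ⟨⟨.e,.o,.n,.o,.o,.o,.o⟩,⟨.o,.o,.e,.o,.o,.o,.o⟩,⟨.n,.n,.e,.e,.o,.e,.o⟩,⟨.o,.o,.e,.e,.o,.n,.o⟩,⟨.e,.o,.n,.o,.o,.e,.o⟩,⟨.e,.o,.e,.e,.n,.n,.n⟩,⟨.e,.e,.o,.n,.o,.o,.e⟩⟩,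
   ⟨⟨.e,.o,.o,.o,.o,.o,.o⟩,⟨.o,.e,.e,.o,.o,.o,.o⟩,⟨.n,.o,.e,.o,.o,.o,.o⟩,⟨.o,.e,.e,.e,.o,.o,.o⟩,⟨.e,.o,.o,.o,.e,.e,.o⟩,⟨.e,.n,.n,.e,.o,.e,.o⟩,⟨.e,.e,.o,.o,.e,.e,.e⟩⟩,
   ⟨⟨.e,.o,.o,.o,.o,.o,.o⟩,⟨.o,.e,.n,.o,.o,.o,.o⟩,⟨.n,.e,.o,.o,.o,.o,.o⟩,⟨.o,.e,.n,.e,.o,.o,.o⟩,⟨.e,.o,.o,.o,.e,.n,.o⟩,⟨.e,.n,.e,.e,.e,.o,.o⟩,⟨.e,.o,.n,.o,.e,.n,.e⟩⟩,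
   ⟨⟨.e,.o,.o,.o,.o,.o,.o⟩,⟨.o,.n,.n,.o,.o,.o,.o⟩,⟨.n,.e,.o,.o,.o,.o,.o⟩,⟨.o,.n,.n,.e,.o,.o,.o⟩,⟨.e,.o,.o,.o,.n,.n,.o⟩,⟨.e,.e,.e,.e,.e,.o,.o⟩,⟨.e,.e,.n,.o,.n,.n,.e⟩⟩,
   ⟨⟨.e,.o,.o,.o,.o,.o,.o⟩,⟨.o,.o,.e,.o,.o,.o,.o⟩,⟨.n,.n,.n,.o,.o,.o,.o⟩,⟨.o,.o,.e,.e,.o,.o,.o⟩,⟨.e,.o,.o,.o,.o,.e,.o⟩,⟨.n,.o,.n,.e,.n,.n,.o⟩,⟨.e,.e,.o,.o,.o,.e,.e⟩⟩,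
   ⟨⟨.e,.o,.o,.o,.o,.o,.o⟩,⟨.o,.n,.n,.o,.o,.o,.o⟩,⟨.n,.o,.n,.o,.o,.o,.o⟩,⟨.o,.n,.n,.e,.o,.o,.o⟩,⟨.e,.o,.o,.o,.n,.n,.o⟩,⟨.n,.e,.e,.e,.o,.n,.o⟩,⟨.e,.e,.n,.o,.n,.n,.e⟩⟩,
   ⟨⟨.e,.o,.o,.o,.o,.o,.o⟩,⟨.o,.n,.n,.o,.o,.o,.o⟩,⟨.n,.n,.e,.o,.o,.o,.o⟩,⟨.o,.n,.n,.e,.o,.o,.o⟩,⟨.e,.o,.o,.o,.n,.n,.o⟩,⟨.n,.e,.e,.e,.n,.e,.o⟩,⟨.e,.n,.o,.o,.n,.n,.e⟩⟩,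
   ⟨⟨.e,.o,.o,.o,.o,.o,.o⟩,⟨.o,.e,.n,.o,.o,.o,.o⟩,⟨.n,.n,.n,.o,.o,.o,.o⟩,⟨.o,.e,.n,.e,.o,.o,.o⟩,⟨.e,.o,.o,.o,.e,.n,.o⟩,⟨.n,.n,.e,.e,.n,.n,.o⟩,⟨.e,.o,.n,.o,.e,.n,.e⟩⟩,
   ⟨⟨.e,.o,.e,.o,.o,.o,.o⟩,⟨.o,.o,.e,.o,.o,.o,.o⟩,⟨.n,.n,.e,.n,.o,.e,.o⟩,⟨.o,.o,.e,.e,.o,.e,.o⟩,⟨.n,.o,.n,.o,.o,.e,.o⟩,⟨.o,.o,.n,.e,.n,.o,.e⟩,⟨.n,.n,.e,.n,.o,.n,.e⟩⟩,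
   ⟨⟨.e,.o,.o,.o,.o,.o,.o⟩,⟨.o,.e,.o,.o,.o,.o,.o⟩,⟨.n,.o,.e,.o,.o,.o,.o⟩,⟨.o,.e,.o,.e,.o,.o,.o⟩,⟨.n,.o,.o,.o,.e,.o,.o⟩,⟨.o,.n,.o,.e,.o,.e,.o⟩,⟨.n,.o,.e,.o,.e,.o,.e⟩⟩,
   ⟨⟨.e,.o,.o,.o,.o,.o,.o⟩,⟨.o,.n,.e,.o,.o,.o,.o⟩,⟨.n,.n,.o,.o,.o,.o,.o⟩,⟨.o,.n,.e,.e,.o,.o,.o⟩,⟨.n,.o,.o,.o,.n,.e,.o⟩,⟨.o,.e,.n,.e,.n,.o,.o⟩,⟨.n,.n,.o,.o,.n,.e,.e⟩⟩,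
   ⟨⟨.e,.o,.o,.o,.o,.o,.o⟩,⟨.o,.e,.o,.o,.o,.o,.o⟩,⟨.n,.n,.e,.o,.o,.o,.o⟩,⟨.o,.e,.o,.e,.o,.o,.o⟩,⟨.n,.o,.o,.o,.e,.o,.o⟩,⟨.o,.n,.o,.e,.n,.e,.o⟩,⟨.n,.n,.e,.o,.e,.o,.e⟩⟩,
   ⟨⟨.e,.o,.o,.o,.o,.o,.o⟩,⟨.o,.o,.e,.o,.o,.o,.o⟩,⟨.n,.n,.n,.o,.o,.o,.o⟩,⟨.o,.o,.e,.e,.o,.o,.o⟩,⟨.n,.o,.o,.o,.o,.e,.o⟩,⟨.e,.o,.n,.e,.n,.n,.o⟩,⟨.n,.n,.o,.o,.o,.e,.e⟩⟩,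
   ⟨⟨.e,.o,.o,.o,.o,.o,.o⟩,⟨.o,.n,.e,.o,.o,.o,.o⟩,⟨.n,.o,.n,.o,.o,.o,.o⟩,⟨.o,.n,.e,.e,.o,.o,.o⟩,⟨.n,.o,.o,.o,.n,.e,.o⟩,⟨.e,.e,.n,.e,.o,.n,.o⟩,⟨.n,.n,.o,.o,.n,.e,.e⟩⟩,
   ⟨⟨.e,.o,.o,.o,.o,.o,.o⟩,⟨.o,.e,.o,.o,.o,.o,.o⟩,⟨.n,.e,.e,.o,.o,.o,.o⟩,⟨.o,.e,.o,.e,.o,.o,.o⟩,⟨.n,.o,.o,.o,.e,.o,.o⟩,⟨.e,.n,.o,.e,.e,.e,.o⟩,⟨.n,.n,.e,.o,.e,.o,.e⟩⟩,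
   ⟨⟨.e,.o,.o,.o,.o,.o,.o⟩,⟨.o,.e,.o,.o,.o,.o,.o⟩,⟨.n,.n,.e,.o,.o,.o,.o⟩,⟨.o,.e,.o,.e,.o,.o,.o⟩,⟨.n,.o,.o,.o,.e,.o,.o⟩,⟨.e,.n,.o,.e,.n,.e,.o⟩,⟨.n,.o,.e,.o,.e,.o,.e⟩⟩,
   ⟨⟨.n,.o,.o,.o,.o,.o,.o⟩,⟨.o,.o,.e,.o,.o,.o,.o⟩,⟨.e,.e,.e,.o,.o,.o,.o⟩,⟨.o,.o,.e,.e,.o,.o,.o⟩,⟨.e,.o,.o,.o,.o,.n,.o⟩,⟨.e,.o,.n,.e,.n,.n,.o⟩,⟨.e,.e,.o,.o,.o,.n,.n⟩⟩,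
   ⟨⟨.e,.o,.o,.o,.o,.o,.o⟩,⟨.o,.e,.o,.o,.o,.o,.o⟩,⟨.n,.o,.e,.o,.o,.o,.o⟩,⟨.o,.e,.o,.e,.o,.o,.o⟩,⟨.n,.o,.o,.o,.e,.o,.o⟩,⟨.n,.n,.o,.e,.o,.e,.o⟩,⟨.n,.n,.e,.o,.e,.o,.e⟩⟩,
   ⟨⟨.e,.o,.o,.o,.o,.o,.o⟩,⟨.o,.e,.o,.o,.o,.o,.o⟩,⟨.n,.e,.e,.o,.o,.o,.o⟩,⟨.o,.e,.o,.e,.o,.o,.o⟩,⟨.n,.o,.o,.o,.e,.o,.o⟩,⟨.n,.n,.o,.e,.e,.e,.o⟩,⟨.n,.o,.e,.o,.e,.o,.e⟩⟩,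
   ⟨⟨.e,.o,.o,.o,.o,.o,.o⟩,⟨.o,.n,.e,.o,.o,.o,.o⟩,⟨.n,.e,.e,.o,.o,.o,.o⟩,⟨.o,.n,.e,.e,.o,.o,.o⟩,⟨.n,.o,.o,.o,.n,.e,.o⟩,⟨.n,.e,.n,.e,.e,.e,.o⟩,⟨.n,.n,.o,.o,.n,.e,.e⟩⟩]

/-- part 23 -/
def repPart23 : List M7 :=
  [⟨⟨.e,.e,.n,.n,.e,.e,.o⟩,⟨.o,.o,.e,.n,.e,.e,.o⟩,⟨.n,.e,.e,.n,.n,.o,.e⟩,⟨.e,.e,.o,.n,.o,.e,.e⟩,⟨.o,.o,.n,.e,.n,.o,.e⟩,⟨.o,.e,.n,.e,.n,.o,.n⟩,⟨.e,.e,.o,.o,.e,.e,.e⟩⟩,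
   ⟨⟨.e,.e,.o,.o,.o,.o,.o⟩,⟨.o,.e,.o,.o,.o,.o,.o⟩,⟨.n,.n,.e,.n,.e,.o,.o⟩,⟨.e,.n,.o,.e,.e,.o,.o⟩,⟨.o,.n,.o,.o,.e,.o,.o⟩,⟨.o,.n,.n,.n,.o,.e,.e⟩,⟨.e,.n,.o,.n,.o,.o,.e⟩⟩,
   ⟨⟨.e,.n,.o,.o,.o,.o,.o⟩,⟨.o,.n,.o,.o,.o,.o,.o⟩,⟨.n,.o,.n,.n,.n,.o,.o⟩,⟨.e,.e,.o,.e,.n,.o,.o⟩,⟨.o,.e,.o,.o,.n,.o,.o⟩,⟨.o,.n,.e,.n,.n,.n,.e⟩,⟨.e,.e,.o,.n,.o,.o,.e⟩⟩,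
   ⟨⟨.e,.e,.o,.o,.o,.o,.o⟩,⟨.o,.e,.o,.o,.o,.o,.o⟩,⟨.n,.e,.e,.n,.e,.o,.o⟩,⟨.e,.n,.o,.e,.e,.o,.o⟩,⟨.o,.n,.o,.o,.e,.o,.o⟩,⟨.o,.o,.n,.n,.n,.e,.e⟩,⟨.e,.n,.o,.n,.o,.o,.e⟩⟩,
   ⟨⟨.n,.e,.o,.o,.o,.o,.o⟩,⟨.o,.o,.e,.e,.e,.o,.o⟩,⟨.e,.o,.e,.e,.e,.o,.o⟩,⟨.n,.e,.e,.n,.o,.o,.o⟩,⟨.o,.o,.n,.n,.n,.n,.e⟩,⟨.n,.o,.e,.n,.n,.n,.e⟩,⟨.n,.e,.n,.e,.o,.n,.o⟩⟩,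
   ⟨⟨.e,.o,.o,.o,.o,.o,.o⟩,⟨.o,.e,.e,.o,.o,.o,.o⟩,⟨.n,.o,.e,.o,.o,.o,.o⟩,⟨.e,.e,.e,.e,.o,.o,.o⟩,⟨.o,.n,.n,.o,.e,.e,.o⟩,⟨.e,.n,.e,.e,.o,.e,.o⟩,⟨.e,.n,.n,.n,.e,.e,.e⟩⟩,
   ⟨⟨.e,.o,.o,.o,.o,.o,.o⟩,⟨.o,.e,.e,.o,.o,.o,.o⟩,⟨.n,.e,.n,.o,.o,.o,.o⟩,⟨.e,.e,.e,.e,.o,.o,.o⟩,⟨.o,.n,.n,.o,.e,.e,.o⟩,⟨.e,.e,.o,.e,.e,.n,.o⟩,⟨.e,.n,.n,.n,.e,.e,.e⟩⟩,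
   ⟨⟨.e,.o,.o,.o,.o,.o,.o⟩,⟨.o,.n,.e,.o,.o,.o,.o⟩,⟨.n,.e,.e,.o,.o,.o,.o⟩,⟨.e,.n,.e,.e,.o,.o,.o⟩,⟨.o,.e,.n,.o,.n,.e,.o⟩,⟨.e,.o,.e,.e,.e,.e,.o⟩,⟨.e,.e,.n,.n,.n,.e,.e⟩⟩,
   ⟨⟨.e,.o,.o,.o,.o,.o,.o⟩,⟨.o,.o,.e,.o,.o,.o,.o⟩,⟨.n,.n,.o,.o,.o,.o,.o⟩,⟨.e,.o,.e,.e,.o,.o,.o⟩,⟨.o,.o,.n,.o,.o,.e,.o⟩,⟨.n,.e,.n,.e,.n,.o,.o⟩,⟨.e,.o,.o,.n,.o,.e,.e⟩⟩,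
   ⟨⟨.e,.e,.o,.o,.o,.o,.o⟩,⟨.o,.e,.o,.o,.o,.o,.o⟩,⟨.n,.n,.e,.n,.e,.o,.o⟩,⟨.e,.n,.o,.e,.e,.o,.o⟩,⟨.o,.n,.o,.o,.e,.o,.o⟩,⟨.n,.e,.n,.n,.o,.e,.e⟩,⟨.e,.e,.o,.n,.o,.o,.e⟩⟩,
   ⟨⟨.e,.e,.o,.o,.o,.o,.o⟩,⟨.o,.e,.o,.o,.o,.o,.o⟩,⟨.n,.o,.e,.n,.e,.o,.o⟩,⟨.e,.n,.o,.e,.e,.o,.o⟩,⟨.o,.n,.o,.o,.e,.o,.o⟩,⟨.n,.o,.n,.n,.e,.e,.e⟩,⟨.e,.e,.o,.n,.o,.o,.e⟩⟩,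
   ⟨⟨.e,.e,.o,.o,.o,.o,.o⟩,⟨.o,.e,.o,.o,.o,.o,.o⟩,⟨.n,.e,.e,.n,.e,.o,.o⟩,⟨.e,.n,.o,.e,.e,.o,.o⟩,⟨.o,.n,.o,.o,.e,.o,.o⟩,⟨.n,.n,.n,.n,.n,.e,.e⟩,⟨.e,.e,.o,.n,.o,.o,.e⟩⟩,
   ⟨⟨.e,.o,.o,.o,.o,.o,.o⟩,⟨.o,.o,.e,.o,.o,.o,.o⟩,⟨.n,.n,.n,.o,.o,.o,.o⟩,⟨.e,.o,.e,.e,.o,.o,.o⟩,⟨.e,.o,.n,.o,.o,.e,.o⟩,⟨.o,.e,.o,.e,.n,.n,.o⟩,⟨.n,.e,.n,.n,.o,.e,.e⟩⟩,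
   ⟨⟨.n,.e,.o,.o,.o,.o,.o⟩,⟨.o,.e,.e,.e,.e,.o,.o⟩,⟨.e,.n,.n,.n,.n,.o,.o⟩,⟨.n,.n,.e,.n,.o,.o,.o⟩,⟨.n,.o,.n,.n,.e,.n,.e⟩,⟨.o,.n,.o,.e,.n,.e,.n⟩,⟨.e,.o,.n,.e,.n,.n,.o⟩⟩,
   ⟨⟨.e,.e,.o,.o,.o,.o,.o⟩,⟨.o,.e,.o,.o,.o,.o,.o⟩,⟨.n,.o,.e,.n,.e,.o,.o⟩,⟨.e,.n,.o,.e,.e,.o,.o⟩,⟨.e,.o,.o,.o,.e,.o,.o⟩,⟨.o,.e,.n,.n,.e,.e,.e⟩,⟨.n,.n,.n,.o,.n,.o,.e⟩⟩,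
   ⟨⟨.e,.n,.o,.o,.o,.o,.o⟩,⟨.o,.n,.o,.o,.o,.o,.o⟩,⟨.n,.n,.n,.n,.n,.o,.o⟩,⟨.e,.e,.o,.e,.n,.o,.o⟩,⟨.e,.o,.o,.o,.n,.o,.o⟩,⟨.o,.o,.e,.n,.e,.n,.e⟩,⟨.n,.n,.e,.o,.e,.o,.e⟩⟩,
   ⟨⟨.e,.o,.o,.o,.o,.o,.o⟩,⟨.o,.o,.e,.o,.o,.o,.o⟩,⟨.n,.n,.o,.o,.o,.o,.o⟩,⟨.e,.o,.e,.e,.o,.o,.o⟩,⟨.e,.o,.n,.o,.o,.e,.o⟩,⟨.e,.e,.n,.e,.n,.o,.o⟩,⟨.n,.e,.n,.n,.o,.e,.e⟩⟩,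
   ⟨⟨.e,.e,.o,.o,.o,.o,.o⟩,⟨.o,.e,.o,.o,.o,.o,.o⟩,⟨.n,.n,.e,.n,.e,.o,.o⟩,⟨.e,.n,.o,.e,.e,.o,.o⟩,⟨.e,.o,.o,.o,.e,.o,.o⟩,⟨.e,.o,.n,.n,.o,.e,.e⟩,⟨.n,.e,.n,.o,.n,.o,.e⟩⟩,
   ⟨⟨.e,.n,.e,.o,.o,.o,.o⟩,⟨.o,.n,.e,.o,.o,.o,.o⟩,⟨.n,.o,.n,.n,.n,.e,.o⟩,⟨.e,.e,.n,.e,.n,.e,.o⟩,⟨.e,.o,.o,.o,.n,.e,.o⟩,⟨.e,.e,.o,.n,.n,.o,.e⟩,⟨.n,.o,.e,.o,.e,.n,.e⟩⟩,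
   ⟨⟨.e,.e,.o,.o,.o,.o,.o⟩,⟨.o,.e,.o,.o,.o,.o,.o⟩,⟨.n,.e,.e,.n,.e,.o,.o⟩,⟨.e,.n,.o,.e,.e,.o,.o⟩,⟨.e,.o,.o,.o,.e,.o,.o⟩,⟨.e,.e,.n,.n,.n,.e,.e⟩,⟨.n,.n,.n,.o,.n,.o,.e⟩⟩,
   ⟨⟨.e,.o,.o,.o,.o,.o,.o⟩,⟨.o,.o,.e,.o,.o,.o,.o⟩,⟨.n,.n,.e,.o,.o,.o,.o⟩,⟨.e,.o,.e,.e,.o,.o,.o⟩,⟨.e,.o,.n,.o,.o,.e,.o⟩,⟨.n,.e,.e,.e,.n,.e,.o⟩,⟨.n,.e,.n,.n,.o,.e,.e⟩⟩,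
   ⟨⟨.e,.e,.o,.o,.o,.o,.o⟩,⟨.o,.e,.o,.o,.o,.o,.o⟩,⟨.n,.n,.e,.n,.e,.o,.o⟩,⟨.e,.n,.o,.e,.e,.o,.o⟩,⟨.e,.o,.o,.o,.e,.o,.o⟩,⟨.n,.e,.n,.n,.o,.e,.e⟩,⟨.n,.n,.n,.o,.n,.o,.e⟩⟩,
   ⟨⟨.n,.e,.e,.o,.o,.o,.o⟩,⟨.o,.n,.n,.o,.o,.o,.o⟩,⟨.e,.e,.n,.e,.e,.e,.o⟩,⟨.n,.o,.o,.e,.n,.n,.o⟩,⟨.n,.n,.n,.o,.e,.e,.o⟩,⟨.e,.e,.o,.o,.n,.e,.e⟩,⟨.e,.o,.n,.e,.e,.e,.n⟩⟩,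
   ⟨⟨.n,.e,.o,.o,.o,.o,.o⟩,⟨.o,.e,.e,.e,.e,.o,.o⟩,⟨.e,.e,.e,.e,.e,.o,.o⟩,⟨.n,.n,.e,.n,.o,.o,.o⟩,⟨.n,.o,.n,.n,.e,.n,.e⟩,⟨.e,.n,.e,.n,.e,.n,.e⟩,⟨.e,.o,.n,.e,.n,.n,.o⟩⟩,
   ⟨⟨.e,.o,.o,.o,.o,.o,.o⟩,⟨.o,.o,.e,.o,.o,.o,.o⟩,⟨.n,.n,.e,.o,.o,.o,.o⟩,⟨.e,.o,.e,.e,.o,.o,.o⟩,⟨.n,.o,.n,.o,.o,.e,.o⟩,⟨.o,.e,.e,.e,.n,.e,.o⟩,⟨.o,.n,.n,.n,.o,.e,.e⟩⟩,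
   ⟨⟨.e,.e,.o,.o,.o,.o,.o⟩,⟨.o,.e,.o,.o,.o,.o,.o⟩,⟨.n,.n,.e,.n,.e,.o,.o⟩,⟨.e,.n,.o,.e,.e,.o,.o⟩,⟨.n,.e,.o,.o,.e,.o,.o⟩,⟨.o,.n,.n,.n,.o,.e,.e⟩,⟨.o,.e,.e,.e,.e,.o,.e⟩⟩,
   ⟨⟨.n,.o,.o,.o,.o,.o,.o⟩,⟨.o,.n,.o,.o,.o,.o,.o⟩,⟨.e,.n,.e,.o,.o,.o,.o⟩,⟨.n,.n,.o,.e,.o,.o,.o⟩,⟨.e,.e,.o,.o,.e,.o,.o⟩,⟨.o,.n,.n,.e,.e,.n,.o⟩,⟨.o,.e,.e,.n,.e,.o,.n⟩⟩,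
   ⟨⟨.e,.e,.o,.o,.o,.o,.o⟩,⟨.o,.e,.o,.o,.o,.o,.o⟩,⟨.n,.e,.e,.n,.e,.o,.o⟩,⟨.e,.n,.o,.e,.e,.o,.o⟩,⟨.n,.e,.o,.o,.e,.o,.o⟩,⟨.o,.o,.n,.n,.n,.e,.e⟩,⟨.o,.o,.e,.e,.e,.o,.e⟩⟩,
   ⟨⟨.e,.o,.o,.o,.o,.o,.o⟩,⟨.o,.o,.n,.o,.o,.o,.o⟩,⟨.n,.e,.o,.o,.o,.o,.o⟩,⟨.e,.o,.n,.e,.o,.o,.o⟩,⟨.n,.o,.e,.o,.o,.n,.o⟩,⟨.e,.n,.e,.e,.e,.o,.o⟩,⟨.o,.e,.e,.n,.o,.n,.e⟩⟩,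
   ⟨⟨.n,.o,.o,.o,.o,.o,.o⟩,⟨.o,.n,.o,.o,.o,.o,.o⟩,⟨.e,.o,.e,.o,.o,.o,.o⟩,⟨.n,.n,.o,.e,.o,.o,.o⟩,⟨.e,.e,.o,.o,.e,.o,.o⟩,⟨.n,.e,.n,.e,.o,.n,.o⟩,⟨.o,.e,.e,.n,.e,.o,.n⟩⟩,
   ⟨⟨.e,.e,.o,.o,.o,.o,.o⟩,⟨.o,.e,.o,.o,.o,.o,.o⟩,⟨.n,.o,.e,.n,.e,.o,.o⟩,⟨.e,.n,.o,.e,.e,.o,.o⟩,⟨.n,.e,.o,.o,.e,.o,.o⟩,⟨.e,.n,.n,.n,.e,.e,.e⟩,⟨.o,.o,.e,.e,.e,.o,.e⟩⟩,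
   ⟨⟨.e,.e,.o,.o,.o,.o,.o⟩,⟨.o,.e,.o,.o,.o,.o,.o⟩,⟨.n,.e,.e,.n,.e,.o,.o⟩,⟨.e,.n,.o,.e,.e,.o,.o⟩,⟨.n,.e,.o,.o,.e,.o,.o⟩,⟨.e,.e,.n,.n,.n,.e,.e⟩,⟨.o,.e,.e,.e,.e,.o,.e⟩⟩]

/-- part 24 -/
def repPart24 : List M7 :=
  [⟨⟨.e,.o,.o,.o,.o,.o,.o⟩,⟨.o,.o,.e,.o,.o,.o,.o⟩,⟨.n,.n,.n,.o,.o,.o,.o⟩,⟨.e,.o,.e,.e,.o,.o,.o⟩,⟨.n,.o,.n,.o,.o,.e,.o⟩,⟨.n,.e,.o,.e,.n,.n,.o⟩,⟨.o,.n,.n,.n,.o,.e,.e⟩⟩,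
   ⟨⟨.e,.e,.o,.o,.o,.o,.o⟩,⟨.o,.e,.o,.o,.o,.o,.o⟩,⟨.n,.n,.e,.n,.e,.o,.o⟩,⟨.e,.n,.o,.e,.e,.o,.o⟩,⟨.n,.e,.o,.o,.e,.o,.o⟩,⟨.n,.e,.n,.n,.o,.e,.e⟩,⟨.o,.o,.e,.e,.e,.o,.e⟩⟩,
   ⟨⟨.e,.e,.o,.o,.o,.o,.o⟩,⟨.o,.e,.o,.o,.o,.o,.o⟩,⟨.n,.o,.e,.n,.e,.o,.o⟩,⟨.e,.n,.o,.e,.e,.o,.o⟩,⟨.n,.e,.o,.o,.e,.o,.o⟩,⟨.n,.o,.n,.n,.e,.e,.e⟩,⟨.o,.e,.e,.e,.e,.o,.e⟩⟩,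
   ⟨⟨.n,.o,.o,.o,.o,.o,.o⟩,⟨.o,.n,.o,.o,.o,.o,.o⟩,⟨.e,.e,.e,.o,.o,.o,.o⟩,⟨.n,.n,.o,.e,.o,.o,.o⟩,⟨.e,.e,.o,.o,.e,.o,.o⟩,⟨.e,.o,.n,.e,.n,.n,.o⟩,⟨.o,.e,.e,.n,.e,.o,.n⟩⟩,
   ⟨⟨.e,.o,.o,.o,.o,.o,.o⟩,⟨.o,.o,.e,.o,.o,.o,.o⟩,⟨.n,.n,.o,.o,.o,.o,.o⟩,⟨.n,.o,.e,.e,.o,.o,.o⟩,⟨.o,.o,.e,.o,.o,.e,.o⟩,⟨.o,.n,.n,.e,.n,.o,.o⟩,⟨.e,.o,.n,.e,.o,.e,.e⟩⟩,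
   ⟨⟨.n,.e,.o,.o,.o,.o,.o⟩,⟨.o,.n,.o,.o,.o,.o,.o⟩,⟨.e,.n,.e,.e,.e,.o,.o⟩,⟨.e,.e,.o,.e,.n,.o,.o⟩,⟨.o,.n,.o,.o,.e,.o,.o⟩,⟨.o,.e,.e,.n,.o,.n,.e⟩,⟨.n,.n,.o,.e,.o,.o,.n⟩⟩,
   ⟨⟨.n,.e,.o,.o,.o,.o,.o⟩,⟨.o,.n,.o,.o,.o,.o,.o⟩,⟨.e,.e,.e,.e,.e,.o,.o⟩,⟨.e,.e,.o,.e,.n,.o,.o⟩,⟨.o,.n,.o,.o,.e,.o,.o⟩,⟨.o,.o,.e,.n,.e,.n,.e⟩,⟨.n,.n,.o,.e,.o,.o,.n⟩⟩,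
   ⟨⟨.n,.e,.o,.o,.o,.o,.o⟩,⟨.o,.n,.o,.o,.o,.o,.o⟩,⟨.e,.o,.e,.e,.e,.o,.o⟩,⟨.e,.e,.o,.e,.n,.o,.o⟩,⟨.o,.n,.o,.o,.e,.o,.o⟩,⟨.o,.n,.e,.n,.n,.n,.e⟩,⟨.n,.n,.o,.e,.o,.o,.n⟩⟩,
   ⟨⟨.n,.e,.o,.o,.o,.o,.o⟩,⟨.o,.o,.e,.e,.e,.o,.o⟩,⟨.e,.o,.n,.n,.n,.o,.o⟩,⟨.e,.n,.e,.n,.o,.o,.o⟩,⟨.o,.o,.e,.e,.e,.n,.e⟩,⟨.n,.n,.e,.n,.n,.e,.n⟩,⟨.n,.e,.o,.e,.n,.n,.o⟩⟩,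
   ⟨⟨.n,.e,.o,.o,.o,.o,.o⟩,⟨.o,.n,.o,.o,.o,.o,.o⟩,⟨.e,.n,.e,.e,.e,.o,.o⟩,⟨.e,.e,.o,.e,.n,.o,.o⟩,⟨.o,.n,.o,.o,.e,.o,.o⟩,⟨.n,.n,.e,.n,.o,.n,.e⟩,⟨.n,.e,.o,.e,.o,.o,.n⟩⟩,
   ⟨⟨.n,.e,.o,.o,.o,.o,.o⟩,⟨.o,.n,.o,.o,.o,.o,.o⟩,⟨.e,.e,.e,.e,.e,.o,.o⟩,⟨.e,.e,.o,.e,.n,.o,.o⟩,⟨.o,.n,.o,.o,.e,.o,.o⟩,⟨.n,.e,.e,.n,.e,.n,.e⟩,⟨.n,.e,.o,.e,.o,.o,.n⟩⟩,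
   ⟨⟨.n,.e,.o,.o,.o,.o,.o⟩,⟨.o,.n,.o,.o,.o,.o,.o⟩,⟨.e,.o,.e,.e,.e,.o,.o⟩,⟨.e,.e,.o,.e,.n,.o,.o⟩,⟨.o,.n,.o,.o,.e,.o,.o⟩,⟨.n,.o,.e,.n,.n,.n,.e⟩,⟨.n,.e,.o,.e,.o,.o,.n⟩⟩,
   ⟨⟨.e,.o,.o,.o,.o,.o,.o⟩,⟨.o,.o,.e,.o,.o,.o,.o⟩,⟨.n,.n,.e,.o,.o,.o,.o⟩,⟨.n,.o,.e,.e,.o,.o,.o⟩,⟨.o,.o,.e,.o,.o,.e,.o⟩,⟨.n,.n,.o,.e,.n,.e,.o⟩,⟨.e,.o,.e,.e,.o,.e,.e⟩⟩,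
   ⟨⟨.e,.o,.o,.o,.o,.o,.o⟩,⟨.o,.e,.e,.o,.o,.o,.o⟩,⟨.n,.o,.e,.o,.o,.o,.o⟩,⟨.n,.e,.e,.e,.o,.o,.o⟩,⟨.o,.e,.e,.o,.e,.e,.o⟩,⟨.n,.n,.o,.e,.o,.e,.o⟩,⟨.e,.e,.e,.e,.e,.e,.e⟩⟩,
   ⟨⟨.e,.o,.o,.o,.o,.o,.o⟩,⟨.o,.e,.e,.o,.o,.o,.o⟩,⟨.n,.e,.n,.o,.o,.o,.o⟩,⟨.n,.e,.e,.e,.o,.o,.o⟩,⟨.o,.e,.e,.o,.e,.e,.o⟩,⟨.n,.o,.e,.e,.e,.n,.o⟩,⟨.e,.e,.e,.e,.e,.e,.e⟩⟩,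
   ⟨⟨.e,.o,.o,.o,.o,.o,.o⟩,⟨.o,.e,.e,.o,.o,.o,.o⟩,⟨.n,.n,.o,.o,.o,.o,.o⟩,⟨.n,.e,.e,.e,.o,.o,.o⟩,⟨.o,.e,.e,.o,.e,.e,.o⟩,⟨.n,.e,.n,.e,.n,.o,.o⟩,⟨.e,.e,.e,.e,.e,.e,.e⟩⟩,
   ⟨⟨.e,.o,.o,.o,.o,.o,.o⟩,⟨.o,.o,.n,.o,.o,.o,.o⟩,⟨.n,.e,.e,.o,.o,.o,.o⟩,⟨.n,.o,.n,.e,.o,.o,.o⟩,⟨.e,.o,.n,.o,.o,.n,.o⟩,⟨.o,.e,.n,.e,.e,.e,.o⟩,⟨.n,.n,.o,.e,.o,.n,.e⟩⟩,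
   ⟨⟨.n,.n,.e,.o,.o,.o,.o⟩,⟨.o,.e,.n,.o,.o,.o,.o⟩,⟨.e,.e,.e,.e,.n,.e,.o⟩,⟨.e,.n,.e,.e,.e,.n,.o⟩,⟨.n,.o,.o,.o,.n,.e,.o⟩,⟨.o,.n,.o,.n,.o,.e,.e⟩,⟨.e,.o,.e,.o,.e,.n,.n⟩⟩,
   ⟨⟨.e,.n,.o,.o,.o,.o,.o⟩,⟨.o,.e,.o,.o,.o,.o,.o⟩,⟨.n,.n,.e,.e,.e,.o,.o⟩,⟨.n,.n,.o,.e,.n,.o,.o⟩,⟨.e,.o,.o,.o,.e,.o,.o⟩,⟨.o,.o,.e,.n,.e,.e,.n⟩,⟨.n,.n,.n,.o,.n,.o,.e⟩⟩,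
   ⟨⟨.n,.n,.e,.o,.o,.o,.o⟩,⟨.o,.e,.n,.o,.o,.o,.o⟩,⟨.e,.o,.n,.e,.n,.e,.o⟩,⟨.e,.n,.e,.e,.e,.n,.o⟩,⟨.n,.o,.o,.o,.n,.e,.o⟩,⟨.o,.e,.e,.n,.e,.o,.e⟩,⟨.e,.e,.o,.o,.e,.n,.n⟩⟩,
   ⟨⟨.e,.o,.e,.o,.o,.o,.o⟩,⟨.o,.o,.e,.o,.o,.o,.o⟩,⟨.n,.n,.n,.n,.o,.e,.o⟩,⟨.n,.o,.o,.e,.o,.e,.o⟩,⟨.e,.o,.n,.o,.o,.e,.o⟩,⟨.e,.n,.o,.o,.n,.n,.e⟩,⟨.n,.e,.n,.n,.o,.e,.e⟩⟩,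
   ⟨⟨.e,.o,.o,.o,.o,.o,.o⟩,⟨.o,.e,.n,.o,.o,.o,.o⟩,⟨.n,.o,.e,.o,.o,.o,.o⟩,⟨.n,.e,.n,.e,.o,.o,.o⟩,⟨.e,.e,.n,.o,.e,.n,.o⟩,⟨.e,.n,.n,.e,.o,.e,.o⟩,⟨.n,.o,.n,.e,.e,.n,.e⟩⟩,
   ⟨⟨.n,.n,.e,.e,.e,.o,.o⟩,⟨.o,.e,.e,.e,.e,.o,.o⟩,⟨.e,.n,.n,.e,.n,.n,.e⟩,⟨.e,.n,.o,.e,.e,.n,.e⟩,⟨.n,.o,.n,.n,.e,.n,.e⟩,⟨.n,.n,.o,.o,.o,.e,.e⟩,⟨.e,.o,.n,.e,.n,.n,.o⟩⟩,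
   ⟨⟨.e,.n,.o,.o,.o,.o,.o⟩,⟨.o,.e,.o,.o,.o,.o,.o⟩,⟨.n,.o,.e,.e,.e,.o,.o⟩,⟨.n,.n,.o,.e,.n,.o,.o⟩,⟨.e,.o,.o,.o,.e,.o,.o⟩,⟨.e,.o,.e,.n,.n,.e,.n⟩,⟨.n,.n,.n,.o,.n,.o,.e⟩⟩,
   ⟨⟨.e,.o,.e,.o,.o,.o,.o⟩,⟨.o,.o,.e,.o,.o,.o,.o⟩,⟨.n,.n,.o,.n,.o,.e,.o⟩,⟨.n,.o,.o,.e,.o,.e,.o⟩,⟨.e,.o,.n,.o,.o,.e,.o⟩,⟨.n,.n,.n,.o,.n,.o,.e⟩,⟨.n,.e,.n,.n,.o,.e,.e⟩⟩,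
   ⟨⟨.n,.n,.o,.o,.o,.o,.o⟩,⟨.o,.n,.o,.o,.o,.o,.o⟩,⟨.e,.e,.e,.n,.e,.o,.o⟩,⟨.e,.o,.o,.e,.e,.o,.o⟩,⟨.n,.e,.o,.o,.e,.o,.o⟩,⟨.e,.n,.e,.o,.n,.n,.n⟩,⟨.e,.o,.n,.n,.e,.o,.n⟩⟩,
   ⟨⟨.n,.n,.e,.o,.o,.o,.o⟩,⟨.o,.e,.n,.o,.o,.o,.o⟩,⟨.e,.n,.o,.e,.n,.e,.o⟩,⟨.e,.n,.e,.e,.e,.n,.o⟩,⟨.n,.o,.o,.o,.n,.e,.o⟩,⟨.e,.e,.e,.n,.n,.n,.e⟩,⟨.e,.e,.o,.o,.e,.n,.n⟩⟩,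
   ⟨⟨.e,.o,.o,.o,.o,.o,.o⟩,⟨.o,.e,.e,.o,.o,.o,.o⟩,⟨.n,.n,.o,.o,.o,.o,.o⟩,⟨.n,.e,.e,.e,.o,.o,.o⟩,⟨.e,.e,.e,.o,.e,.e,.o⟩,⟨.n,.e,.n,.e,.n,.o,.o⟩,⟨.n,.n,.e,.e,.e,.e,.e⟩⟩,
   ⟨⟨.n,.e,.o,.o,.o,.o,.o⟩,⟨.o,.o,.e,.e,.e,.o,.o⟩,⟨.e,.o,.n,.n,.n,.o,.o⟩,⟨.e,.n,.e,.n,.o,.o,.o⟩,⟨.e,.n,.e,.e,.e,.n,.e⟩,⟨.o,.e,.e,.n,.n,.e,.n⟩,⟨.o,.e,.e,.n,.o,.n,.o⟩⟩,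
   ⟨⟨.n,.e,.o,.o,.o,.o,.o⟩,⟨.o,.n,.o,.o,.o,.o,.o⟩,⟨.e,.n,.e,.e,.e,.o,.o⟩,⟨.e,.e,.o,.e,.n,.o,.o⟩,⟨.e,.e,.o,.o,.e,.o,.o⟩,⟨.o,.e,.e,.n,.o,.n,.e⟩,⟨.o,.e,.e,.n,.e,.o,.n⟩⟩,
   ⟨⟨.e,.o,.o,.o,.o,.o,.o⟩,⟨.o,.e,.o,.o,.o,.o,.o⟩,⟨.n,.e,.e,.o,.o,.o,.o⟩,⟨.n,.e,.o,.e,.o,.o,.o⟩,⟨.n,.e,.o,.o,.e,.o,.o⟩,⟨.o,.o,.e,.e,.e,.e,.o⟩,⟨.o,.o,.e,.e,.e,.o,.e⟩⟩,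
   ⟨⟨.e,.o,.o,.o,.o,.o,.o⟩,⟨.o,.e,.o,.o,.o,.o,.o⟩,⟨.n,.n,.e,.o,.o,.o,.o⟩,⟨.n,.e,.o,.e,.o,.o,.o⟩,⟨.n,.e,.o,.o,.e,.o,.o⟩,⟨.o,.e,.e,.e,.n,.e,.o⟩,⟨.o,.e,.e,.e,.e,.o,.e⟩⟩]

/-- part 25 -/
def repPart25 : List M7 :=
  [⟨⟨.n,.e,.o,.o,.o,.o,.o⟩,⟨.o,.o,.e,.e,.e,.o,.o⟩,⟨.e,.o,.e,.e,.e,.o,.o⟩,⟨.e,.n,.e,.n,.o,.o,.o⟩,⟨.e,.n,.e,.e,.e,.n,.e⟩,⟨.n,.n,.o,.e,.e,.n,.e⟩,⟨.o,.e,.e,.n,.o,.n,.o⟩⟩,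
   ⟨⟨.e,.o,.o,.o,.o,.o,.o⟩,⟨.o,.e,.o,.o,.o,.o,.o⟩,⟨.n,.o,.e,.o,.o,.o,.o⟩,⟨.n,.e,.o,.e,.o,.o,.o⟩,⟨.n,.e,.o,.o,.e,.o,.o⟩,⟨.e,.n,.e,.e,.o,.e,.o⟩,⟨.o,.o,.e,.e,.e,.o,.e⟩⟩,
   ⟨⟨.e,.o,.o,.o,.o,.o,.o⟩,⟨.o,.e,.o,.o,.o,.o,.o⟩,⟨.n,.e,.e,.o,.o,.o,.o⟩,⟨.n,.e,.o,.e,.o,.o,.o⟩,⟨.n,.e,.o,.o,.e,.o,.o⟩,⟨.e,.o,.e,.e,.e,.e,.o⟩,⟨.o,.e,.e,.e,.e,.o,.e⟩⟩,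
   ⟨⟨.n,.e,.o,.o,.o,.o,.o⟩,⟨.o,.n,.o,.o,.o,.o,.o⟩,⟨.e,.o,.e,.e,.e,.o,.o⟩,⟨.e,.e,.o,.e,.n,.o,.o⟩,⟨.e,.e,.o,.o,.e,.o,.o⟩,⟨.n,.o,.e,.n,.n,.n,.e⟩,⟨.o,.e,.e,.n,.e,.o,.n⟩⟩,
   ⟨⟨.n,.e,.o,.o,.o,.o,.o⟩,⟨.o,.o,.e,.e,.e,.o,.o⟩,⟨.e,.o,.o,.o,.o,.o,.o⟩,⟨.e,.n,.e,.n,.o,.o,.o⟩,⟨.e,.n,.e,.e,.e,.n,.e⟩,⟨.e,.o,.n,.o,.o,.o,.o⟩,⟨.o,.e,.e,.n,.o,.n,.o⟩⟩,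
   ⟨⟨.e,.o,.o,.o,.o,.o,.o⟩,⟨.o,.e,.o,.o,.o,.o,.o⟩,⟨.n,.o,.e,.o,.o,.o,.o⟩,⟨.n,.e,.o,.e,.o,.o,.o⟩,⟨.n,.e,.o,.o,.e,.o,.o⟩,⟨.n,.n,.e,.e,.o,.e,.o⟩,⟨.o,.e,.e,.e,.e,.o,.e⟩⟩,
   ⟨⟨.n,.e,.o,.o,.o,.o,.o⟩,⟨.o,.n,.o,.o,.o,.o,.o⟩,⟨.e,.e,.e,.e,.e,.o,.o⟩,⟨.e,.e,.o,.e,.n,.o,.o⟩,⟨.e,.e,.o,.o,.e,.o,.o⟩,⟨.e,.n,.e,.n,.e,.n,.e⟩,⟨.o,.e,.e,.n,.e,.o,.n⟩⟩,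
   ⟨⟨.e,.o,.o,.o,.o,.o,.o⟩,⟨.o,.e,.o,.o,.o,.o,.o⟩,⟨.n,.n,.e,.o,.o,.o,.o⟩,⟨.n,.e,.o,.e,.o,.o,.o⟩,⟨.n,.e,.o,.o,.e,.o,.o⟩,⟨.n,.e,.e,.e,.n,.e,.o⟩,⟨.o,.o,.e,.e,.e,.o,.e⟩⟩,
   ⟨⟨.e,.o,.o,.o,.o,.o,.o⟩,⟨.e,.o,.n,.o,.o,.o,.o⟩,⟨.o,.e,.e,.o,.o,.o,.o⟩,⟨.o,.e,.e,.e,.o,.o,.o⟩,⟨.o,.e,.e,.n,.o,.n,.o⟩,⟨.o,.o,.o,.o,.e,.e,.o⟩,⟨.o,.o,.o,.o,.e,.e,.e⟩⟩,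
   ⟨⟨.e,.o,.o,.o,.o,.o,.o⟩,⟨.e,.e,.o,.o,.o,.o,.o⟩,⟨.o,.o,.e,.o,.o,.o,.o⟩,⟨.o,.o,.e,.e,.o,.o,.o⟩,⟨.o,.o,.e,.n,.e,.o,.o⟩,⟨.o,.o,.o,.o,.o,.e,.o⟩,⟨.o,.o,.o,.o,.o,.e,.e⟩⟩,
   ⟨⟨.e,.o,.o,.o,.o,.o,.o⟩,⟨.e,.e,.o,.o,.o,.o,.o⟩,⟨.o,.e,.e,.o,.o,.o,.o⟩,⟨.o,.e,.e,.e,.o,.o,.o⟩,⟨.o,.e,.e,.n,.e,.o,.o⟩,⟨.o,.o,.o,.o,.e,.e,.o⟩,⟨.o,.o,.o,.o,.e,.e,.e⟩⟩,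
   ⟨⟨.e,.o,.o,.o,.o,.o,.o⟩,⟨.e,.n,.e,.o,.o,.o,.o⟩,⟨.o,.e,.e,.o,.o,.o,.o⟩,⟨.o,.e,.e,.e,.o,.o,.o⟩,⟨.o,.e,.e,.n,.n,.e,.o⟩,⟨.o,.o,.o,.o,.e,.e,.o⟩,⟨.o,.o,.o,.o,.e,.e,.e⟩⟩,
   ⟨⟨.e,.e,.o,.o,.o,.o,.o⟩,⟨.e,.e,.n,.e,.n,.o,.o⟩,⟨.o,.e,.e,.n,.e,.o,.o⟩,⟨.o,.e,.e,.o,.n,.o,.o⟩,⟨.o,.e,.e,.e,.o,.n,.n⟩,⟨.e,.e,.o,.o,.e,.e,.e⟩,⟨.e,.e,.n,.e,.o,.e,.n⟩⟩,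
   ⟨⟨.e,.e,.o,.o,.o,.o,.o⟩,⟨.e,.n,.o,.o,.o,.o,.o⟩,⟨.o,.o,.e,.n,.e,.o,.o⟩,⟨.o,.o,.e,.o,.n,.o,.o⟩,⟨.o,.o,.e,.e,.e,.o,.o⟩,⟨.e,.e,.o,.o,.o,.e,.e⟩,⟨.e,.n,.o,.o,.o,.e,.n⟩⟩,
   ⟨⟨.e,.o,.o,.o,.o,.o,.o⟩,⟨.e,.e,.o,.o,.o,.o,.o⟩,⟨.o,.e,.e,.o,.o,.o,.o⟩,⟨.o,.e,.e,.e,.o,.o,.o⟩,⟨.o,.e,.e,.n,.e,.o,.o⟩,⟨.e,.o,.o,.o,.e,.e,.o⟩,⟨.e,.e,.o,.o,.e,.e,.e⟩⟩,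
   ⟨⟨.e,.e,.o,.o,.o,.o,.o⟩,⟨.e,.n,.o,.o,.o,.o,.o⟩,⟨.o,.n,.e,.n,.e,.o,.o⟩,⟨.o,.n,.e,.o,.n,.o,.o⟩,⟨.o,.n,.e,.e,.e,.o,.o⟩,⟨.e,.e,.o,.o,.n,.e,.e⟩,⟨.e,.n,.o,.o,.n,.e,.n⟩⟩,
   ⟨⟨.e,.e,.o,.o,.o,.o,.o⟩,⟨.e,.e,.e,.n,.e,.o,.o⟩,⟨.o,.n,.e,.n,.e,.o,.o⟩,⟨.o,.n,.e,.o,.n,.o,.o⟩,⟨.o,.n,.e,.e,.o,.e,.e⟩,⟨.n,.n,.o,.o,.n,.e,.e⟩,⟨.n,.n,.n,.e,.e,.e,.n⟩⟩,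
   ⟨⟨.n,.o,.o,.o,.o,.o,.o⟩,⟨.n,.n,.o,.o,.o,.o,.o⟩,⟨.o,.o,.e,.o,.o,.o,.o⟩,⟨.o,.o,.e,.e,.o,.o,.o⟩,⟨.o,.o,.e,.n,.e,.o,.o⟩,⟨.e,.o,.o,.o,.o,.n,.o⟩,⟨.e,.e,.o,.o,.o,.n,.n⟩⟩,
   ⟨⟨.e,.e,.o,.o,.o,.o,.o⟩,⟨.e,.n,.o,.o,.o,.o,.o⟩,⟨.o,.e,.e,.n,.e,.o,.o⟩,⟨.o,.e,.e,.o,.n,.o,.o⟩,⟨.o,.e,.e,.e,.e,.o,.o⟩,⟨.n,.n,.o,.o,.e,.e,.e⟩,⟨.n,.e,.o,.o,.e,.e,.n⟩⟩,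
   ⟨⟨.e,.o,.o,.o,.o,.o,.o⟩,⟨.e,.e,.o,.o,.o,.o,.o⟩,⟨.o,.n,.e,.o,.o,.o,.o⟩,⟨.o,.n,.e,.e,.o,.o,.o⟩,⟨.o,.n,.e,.n,.e,.o,.o⟩,⟨.n,.o,.o,.o,.n,.e,.o⟩,⟨.n,.n,.o,.o,.n,.e,.e⟩⟩,
   ⟨⟨.n,.o,.n,.o,.o,.o,.o⟩,⟨.n,.o,.e,.o,.o,.o,.o⟩,⟨.o,.n,.n,.n,.o,.e,.o⟩,⟨.o,.n,.n,.o,.o,.n,.o⟩,⟨.n,.n,.e,.e,.o,.e,.o⟩,⟨.o,.o,.o,.o,.e,.e,.n⟩,⟨.o,.e,.e,.e,.e,.o,.e⟩⟩,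
   ⟨⟨.e,.e,.o,.o,.o,.o,.o⟩,⟨.e,.n,.o,.o,.o,.o,.o⟩,⟨.o,.o,.e,.n,.e,.o,.o⟩,⟨.o,.o,.e,.o,.n,.o,.o⟩,⟨.e,.e,.e,.e,.e,.o,.o⟩,⟨.o,.o,.o,.o,.o,.e,.e⟩,⟨.o,.o,.n,.e,.n,.e,.n⟩⟩,
   ⟨⟨.e,.e,.o,.o,.o,.o,.o⟩,⟨.e,.n,.o,.o,.o,.o,.o⟩,⟨.o,.e,.e,.n,.e,.o,.o⟩,⟨.o,.e,.e,.o,.n,.o,.o⟩,⟨.e,.n,.e,.e,.e,.o,.o⟩,⟨.o,.o,.o,.o,.e,.e,.e⟩,⟨.o,.n,.n,.e,.o,.e,.n⟩⟩,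
   ⟨⟨.n,.n,.o,.o,.o,.o,.o⟩,⟨.n,.e,.o,.o,.o,.o,.o⟩,⟨.o,.e,.e,.n,.e,.o,.o⟩,⟨.o,.e,.e,.o,.n,.o,.o⟩,⟨.n,.o,.e,.e,.e,.o,.o⟩,⟨.o,.o,.o,.o,.n,.n,.n⟩,⟨.o,.n,.n,.e,.e,.n,.e⟩⟩,
   ⟨⟨.e,.o,.n,.o,.o,.o,.o⟩,⟨.e,.o,.o,.o,.o,.o,.o⟩,⟨.o,.n,.o,.e,.o,.e,.o⟩,⟨.o,.n,.o,.n,.o,.o,.o⟩,⟨.e,.n,.n,.o,.o,.o,.o⟩,⟨.e,.o,.n,.o,.n,.o,.n⟩,⟨.e,.e,.o,.n,.n,.n,.o⟩⟩,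
   ⟨⟨.n,.e,.o,.o,.o,.o,.o⟩,⟨.n,.n,.e,.e,.e,.o,.o⟩,⟨.o,.o,.n,.n,.n,.o,.o⟩,⟨.o,.o,.n,.o,.e,.o,.o⟩,⟨.n,.e,.n,.e,.n,.n,.e⟩,⟨.n,.e,.o,.o,.o,.e,.n⟩,⟨.n,.n,.n,.n,.n,.e,.e⟩⟩,
   ⟨⟨.e,.e,.o,.o,.o,.o,.o⟩,⟨.e,.n,.o,.o,.o,.o,.o⟩,⟨.o,.e,.e,.n,.e,.o,.o⟩,⟨.o,.e,.e,.o,.n,.o,.o⟩,⟨.e,.n,.e,.e,.e,.o,.o⟩,⟨.e,.e,.o,.o,.e,.e,.e⟩,⟨.e,.e,.n,.e,.o,.e,.n⟩⟩,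
   ⟨⟨.e,.e,.o,.o,.o,.o,.o⟩,⟨.e,.n,.o,.o,.o,.o,.o⟩,⟨.o,.n,.e,.n,.e,.o,.o⟩,⟨.o,.n,.e,.o,.n,.o,.o⟩,⟨.e,.o,.e,.e,.e,.o,.o⟩,⟨.e,.e,.o,.o,.n,.e,.e⟩,⟨.e,.o,.n,.e,.e,.e,.n⟩⟩,
   ⟨⟨.e,.e,.o,.o,.o,.o,.o⟩,⟨.e,.e,.n,.e,.n,.o,.o⟩,⟨.o,.e,.e,.n,.e,.o,.o⟩,⟨.o,.e,.e,.o,.n,.o,.o⟩,⟨.e,.n,.e,.e,.o,.n,.n⟩,⟨.n,.n,.o,.o,.e,.e,.e⟩,⟨.n,.e,.o,.o,.e,.e,.n⟩⟩,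
   ⟨⟨.n,.e,.o,.o,.o,.o,.o⟩,⟨.n,.o,.o,.o,.o,.o,.o⟩,⟨.o,.o,.e,.e,.e,.o,.o⟩,⟨.o,.o,.e,.n,.o,.o,.o⟩,⟨.n,.e,.e,.o,.o,.o,.o⟩,⟨.e,.n,.o,.o,.o,.n,.e⟩,⟨.e,.o,.n,.n,.n,.n,.o⟩⟩,
   ⟨⟨.n,.e,.o,.o,.o,.o,.o⟩,⟨.n,.o,.e,.e,.e,.o,.o⟩,⟨.o,.n,.n,.n,.n,.o,.o⟩,⟨.o,.n,.n,.o,.e,.o,.o⟩,⟨.n,.o,.n,.e,.e,.n,.e⟩,⟨.e,.n,.o,.o,.e,.e,.n⟩,⟨.e,.e,.o,.o,.e,.e,.e⟩⟩,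
   ⟨⟨.e,.e,.o,.o,.o,.o,.o⟩,⟨.e,.n,.o,.o,.o,.o,.o⟩,⟨.o,.n,.e,.n,.e,.o,.o⟩,⟨.o,.n,.e,.o,.n,.o,.o⟩,⟨.e,.o,.e,.e,.e,.o,.o⟩,⟨.n,.n,.o,.o,.n,.e,.e⟩,⟨.n,.n,.n,.e,.e,.e,.n⟩⟩]

/-- part 26 -/
def repPart26 : List M7 :=
  [⟨⟨.n,.n,.o,.o,.o,.o,.o⟩,⟨.n,.n,.e,.n,.e,.o,.o⟩,⟨.o,.e,.e,.n,.e,.o,.o⟩,⟨.o,.e,.e,.o,.n,.o,.o⟩,⟨.e,.n,.e,.e,.o,.n,.n⟩,⟨.o,.o,.o,.o,.n,.n,.n⟩,⟨.o,.e,.e,.n,.o,.n,.e⟩⟩,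
   ⟨⟨.n,.n,.o,.o,.o,.o,.o⟩,⟨.n,.e,.o,.o,.o,.o,.o⟩,⟨.o,.o,.e,.n,.e,.o,.o⟩,⟨.o,.o,.e,.o,.n,.o,.o⟩,⟨.e,.e,.e,.e,.e,.o,.o⟩,⟨.o,.o,.o,.o,.o,.n,.n⟩,⟨.o,.o,.e,.n,.e,.n,.e⟩⟩,
   ⟨⟨.n,.e,.n,.o,.o,.o,.o⟩,⟨.n,.n,.e,.o,.o,.o,.o⟩,⟨.o,.e,.e,.n,.n,.e,.o⟩,⟨.o,.e,.e,.o,.e,.n,.o⟩,⟨.e,.o,.n,.e,.n,.e,.o⟩,⟨.o,.o,.o,.o,.n,.n,.n⟩,⟨.o,.e,.e,.n,.e,.o,.e⟩⟩,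
   ⟨⟨.n,.n,.o,.o,.o,.o,.o⟩,⟨.n,.e,.o,.o,.o,.o,.o⟩,⟨.o,.e,.e,.n,.e,.o,.o⟩,⟨.o,.e,.e,.o,.n,.o,.o⟩,⟨.e,.n,.e,.e,.e,.o,.o⟩,⟨.o,.o,.o,.o,.n,.n,.n⟩,⟨.o,.e,.e,.n,.o,.n,.e⟩⟩,
   ⟨⟨.e,.o,.o,.o,.o,.o,.o⟩,⟨.e,.o,.e,.o,.o,.o,.o⟩,⟨.o,.n,.n,.o,.o,.o,.o⟩,⟨.o,.n,.n,.e,.o,.o,.o⟩,⟨.n,.n,.n,.n,.o,.e,.o⟩,⟨.e,.o,.o,.o,.n,.n,.o⟩,⟨.e,.n,.o,.o,.n,.n,.e⟩⟩,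
   ⟨⟨.n,.e,.o,.o,.o,.o,.o⟩,⟨.n,.n,.o,.o,.o,.o,.o⟩,⟨.o,.o,.n,.n,.n,.o,.o⟩,⟨.o,.o,.n,.o,.e,.o,.o⟩,⟨.e,.n,.n,.e,.n,.o,.o⟩,⟨.n,.e,.o,.o,.o,.e,.n⟩,⟨.n,.n,.n,.n,.n,.e,.e⟩⟩,
   ⟨⟨.e,.n,.o,.o,.e,.o,.o⟩,⟨.e,.e,.o,.o,.e,.o,.o⟩,⟨.o,.n,.n,.n,.n,.o,.e⟩,⟨.o,.n,.n,.o,.e,.o,.e⟩,⟨.n,.o,.n,.e,.e,.o,.e⟩,⟨.e,.n,.o,.o,.o,.n,.e⟩,⟨.e,.o,.n,.n,.n,.n,.o⟩⟩,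
   ⟨⟨.e,.e,.o,.o,.o,.o,.o⟩,⟨.e,.o,.e,.n,.e,.o,.o⟩,⟨.o,.e,.e,.n,.e,.o,.o⟩,⟨.o,.e,.e,.o,.n,.o,.o⟩,⟨.n,.o,.e,.e,.n,.e,.e⟩,⟨.e,.e,.o,.o,.e,.e,.e⟩,⟨.e,.e,.n,.e,.o,.e,.n⟩⟩,
   ⟨⟨.e,.o,.o,.o,.o,.o,.o⟩,⟨.e,.o,.e,.o,.o,.o,.o⟩,⟨.o,.n,.o,.o,.o,.o,.o⟩,⟨.o,.n,.o,.e,.o,.o,.o⟩,⟨.n,.n,.o,.n,.o,.e,.o⟩,⟨.n,.o,.o,.o,.n,.o,.o⟩,⟨.n,.n,.n,.o,.n,.o,.e⟩⟩,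
   ⟨⟨.n,.n,.o,.o,.o,.o,.o⟩,⟨.n,.e,.o,.o,.o,.o,.o⟩,⟨.o,.o,.e,.n,.e,.o,.o⟩,⟨.o,.o,.e,.o,.n,.o,.o⟩,⟨.e,.e,.e,.e,.e,.o,.o⟩,⟨.e,.e,.o,.o,.o,.n,.n⟩,⟨.e,.n,.e,.n,.e,.n,.e⟩⟩,
   ⟨⟨.e,.n,.o,.o,.o,.o,.o⟩,⟨.e,.o,.o,.o,.o,.o,.o⟩,⟨.o,.e,.e,.e,.e,.o,.o⟩,⟨.o,.e,.e,.n,.o,.o,.o⟩,⟨.n,.n,.e,.o,.o,.o,.o⟩,⟨.n,.e,.o,.o,.e,.e,.n⟩,⟨.n,.e,.e,.e,.n,.e,.o⟩⟩,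
   ⟨⟨.e,.e,.o,.o,.o,.o,.o⟩,⟨.e,.o,.e,.n,.e,.o,.o⟩,⟨.o,.e,.e,.n,.e,.o,.o⟩,⟨.o,.e,.e,.o,.n,.o,.o⟩,⟨.n,.o,.e,.e,.n,.e,.e⟩,⟨.n,.n,.o,.o,.e,.e,.e⟩,⟨.n,.e,.o,.o,.e,.e,.n⟩⟩,
   ⟨⟨.e,.o,.o,.o,.o,.o,.o⟩,⟨.e,.o,.e,.o,.o,.o,.o⟩,⟨.o,.n,.o,.o,.o,.o,.o⟩,⟨.e,.n,.o,.e,.o,.o,.o⟩,⟨.o,.n,.n,.n,.o,.e,.o⟩,⟨.o,.e,.o,.o,.n,.o,.o⟩,⟨.e,.n,.o,.n,.n,.o,.e⟩⟩,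
   ⟨⟨.n,.n,.n,.o,.o,.o,.o⟩,⟨.n,.o,.o,.o,.o,.o,.o⟩,⟨.o,.o,.n,.e,.n,.n,.o⟩,⟨.n,.n,.e,.n,.o,.o,.o⟩,⟨.o,.n,.e,.o,.o,.o,.o⟩,⟨.o,.o,.e,.n,.e,.n,.e⟩,⟨.n,.n,.e,.o,.e,.n,.o⟩⟩,
   ⟨⟨.e,.o,.o,.o,.o,.o,.o⟩,⟨.e,.n,.e,.o,.o,.o,.o⟩,⟨.o,.n,.o,.o,.o,.o,.o⟩,⟨.e,.n,.o,.e,.o,.o,.o⟩,⟨.o,.o,.n,.n,.n,.e,.o⟩,⟨.o,.e,.o,.o,.n,.o,.o⟩,⟨.e,.n,.o,.n,.n,.o,.e⟩⟩,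
   ⟨⟨.n,.e,.o,.o,.o,.o,.o⟩,⟨.n,.o,.o,.o,.o,.o,.o⟩,⟨.o,.e,.e,.e,.e,.o,.o⟩,⟨.n,.n,.e,.n,.o,.o,.o⟩,⟨.o,.n,.e,.o,.o,.o,.o⟩,⟨.o,.n,.n,.n,.e,.n,.e⟩,⟨.n,.n,.e,.o,.e,.n,.o⟩⟩,
   ⟨⟨.e,.o,.o,.o,.o,.o,.o⟩,⟨.e,.o,.e,.o,.o,.o,.o⟩,⟨.o,.n,.e,.o,.o,.o,.o⟩,⟨.e,.n,.e,.e,.o,.o,.o⟩,⟨.o,.n,.o,.n,.o,.e,.o⟩,⟨.e,.e,.n,.o,.n,.e,.o⟩,⟨.n,.n,.n,.n,.n,.e,.e⟩⟩,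
   ⟨⟨.e,.o,.o,.o,.o,.o,.o⟩,⟨.e,.e,.e,.o,.o,.o,.o⟩,⟨.o,.o,.e,.o,.o,.o,.o⟩,⟨.e,.o,.e,.e,.o,.o,.o⟩,⟨.o,.n,.o,.n,.e,.e,.o⟩,⟨.e,.o,.n,.o,.o,.e,.o⟩,⟨.n,.e,.n,.n,.o,.e,.e⟩⟩,
   ⟨⟨.n,.n,.o,.o,.e,.o,.o⟩,⟨.n,.e,.o,.o,.e,.o,.o⟩,⟨.o,.n,.e,.n,.e,.o,.e⟩,⟨.n,.e,.e,.o,.o,.o,.e⟩,⟨.o,.o,.e,.e,.e,.o,.e⟩,⟨.n,.o,.n,.e,.e,.n,.e⟩,⟨.e,.n,.e,.e,.o,.n,.n⟩⟩,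
   ⟨⟨.e,.o,.o,.o,.o,.o,.o⟩,⟨.e,.n,.e,.o,.o,.o,.o⟩,⟨.o,.e,.e,.o,.o,.o,.o⟩,⟨.e,.e,.e,.e,.o,.o,.o⟩,⟨.o,.n,.o,.n,.n,.e,.o⟩,⟨.e,.n,.n,.o,.e,.e,.o⟩,⟨.n,.o,.n,.n,.e,.e,.e⟩⟩,
   ⟨⟨.e,.o,.o,.o,.o,.o,.o⟩,⟨.e,.o,.e,.o,.o,.o,.o⟩,⟨.o,.n,.n,.o,.o,.o,.o⟩,⟨.e,.n,.n,.e,.o,.o,.o⟩,⟨.o,.n,.e,.n,.o,.e,.o⟩,⟨.n,.e,.e,.o,.n,.n,.o⟩,⟨.o,.n,.e,.n,.n,.n,.e⟩⟩,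
   ⟨⟨.e,.o,.o,.o,.o,.o,.o⟩,⟨.e,.n,.e,.o,.o,.o,.o⟩,⟨.o,.o,.n,.o,.o,.o,.o⟩,⟨.e,.o,.n,.e,.o,.o,.o⟩,⟨.o,.e,.e,.n,.n,.e,.o⟩,⟨.n,.o,.e,.o,.o,.n,.o⟩,⟨.o,.e,.e,.n,.o,.n,.e⟩⟩,
   ⟨⟨.e,.o,.o,.o,.o,.o,.o⟩,⟨.e,.e,.e,.o,.o,.o,.o⟩,⟨.o,.e,.n,.o,.o,.o,.o⟩,⟨.e,.e,.n,.e,.o,.o,.o⟩,⟨.o,.o,.e,.n,.e,.e,.o⟩,⟨.n,.n,.e,.o,.e,.n,.o⟩,⟨.o,.o,.e,.n,.e,.n,.e⟩⟩,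
   ⟨⟨.n,.n,.n,.o,.o,.o,.o⟩,⟨.n,.o,.e,.n,.e,.e,.o⟩,⟨.o,.n,.o,.n,.e,.e,.o⟩,⟨.n,.e,.n,.o,.n,.n,.o⟩,⟨.o,.e,.e,.n,.e,.o,.n⟩,⟨.e,.n,.e,.e,.o,.n,.n⟩,⟨.o,.e,.e,.n,.o,.n,.e⟩⟩,
   ⟨⟨.e,.o,.o,.o,.o,.o,.o⟩,⟨.e,.o,.n,.o,.o,.o,.o⟩,⟨.o,.e,.o,.o,.o,.o,.o⟩,⟨.e,.e,.o,.e,.o,.o,.o⟩,⟨.e,.e,.e,.n,.o,.n,.o⟩,⟨.o,.n,.o,.o,.e,.o,.o⟩,⟨.e,.o,.o,.n,.e,.o,.e⟩⟩,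
   ⟨⟨.n,.n,.n,.o,.o,.o,.o⟩,⟨.n,.e,.e,.o,.o,.o,.o⟩,⟨.o,.o,.e,.n,.e,.e,.o⟩,⟨.n,.n,.o,.o,.n,.n,.o⟩,⟨.n,.o,.e,.e,.e,.e,.o⟩,⟨.o,.o,.n,.e,.n,.e,.n⟩,⟨.n,.n,.n,.n,.n,.e,.e⟩⟩,
   ⟨⟨.e,.o,.o,.o,.o,.o,.o⟩,⟨.e,.e,.n,.o,.o,.o,.o⟩,⟨.o,.e,.o,.o,.o,.o,.o⟩,⟨.e,.e,.o,.e,.o,.o,.o⟩,⟨.e,.o,.e,.n,.e,.n,.o⟩,⟨.o,.n,.o,.o,.e,.o,.o⟩,⟨.e,.o,.o,.n,.e,.o,.e⟩⟩,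
   ⟨⟨.e,.o,.o,.o,.o,.o,.o⟩,⟨.e,.n,.n,.o,.o,.o,.o⟩,⟨.o,.e,.o,.o,.o,.o,.o⟩,⟨.e,.e,.o,.e,.o,.o,.o⟩,⟨.e,.n,.e,.n,.n,.n,.o⟩,⟨.o,.n,.o,.o,.e,.o,.o⟩,⟨.e,.o,.o,.n,.e,.o,.e⟩⟩,
   ⟨⟨.e,.o,.o,.o,.o,.o,.o⟩,⟨.e,.o,.n,.o,.o,.o,.o⟩,⟨.o,.e,.e,.o,.o,.o,.o⟩,⟨.e,.e,.e,.e,.o,.o,.o⟩,⟨.e,.e,.n,.n,.o,.n,.o⟩,⟨.e,.n,.n,.o,.e,.e,.o⟩,⟨.n,.o,.n,.n,.e,.e,.e⟩⟩,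
   ⟨⟨.e,.o,.o,.o,.o,.o,.o⟩,⟨.e,.e,.n,.o,.o,.o,.o⟩,⟨.o,.o,.e,.o,.o,.o,.o⟩,⟨.e,.o,.e,.e,.o,.o,.o⟩,⟨.e,.n,.n,.n,.e,.n,.o⟩,⟨.e,.o,.n,.o,.o,.e,.o⟩,⟨.n,.e,.n,.n,.o,.e,.e⟩⟩,
   ⟨⟨.e,.o,.o,.o,.o,.o,.o⟩,⟨.e,.n,.n,.o,.o,.o,.o⟩,⟨.o,.n,.e,.o,.o,.o,.o⟩,⟨.e,.n,.e,.e,.o,.o,.o⟩,⟨.e,.o,.n,.n,.n,.n,.o⟩,⟨.e,.e,.n,.o,.n,.e,.o⟩,⟨.n,.n,.n,.n,.n,.e,.e⟩⟩,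
   ⟨⟨.n,.e,.o,.o,.o,.o,.o⟩,⟨.n,.o,.o,.o,.o,.o,.o⟩,⟨.o,.e,.e,.e,.e,.o,.o⟩,⟨.n,.n,.e,.n,.o,.o,.o⟩,⟨.n,.o,.e,.o,.o,.o,.o⟩,⟨.n,.o,.n,.n,.e,.n,.e⟩,⟨.e,.e,.o,.n,.o,.n,.o⟩⟩]

/-- part 27 -/
def repPart27 : List M7 :=
  [⟨⟨.e,.o,.o,.o,.o,.o,.o⟩,⟨.e,.o,.e,.o,.o,.o,.o⟩,⟨.o,.n,.e,.o,.o,.o,.o⟩,⟨.e,.n,.e,.e,.o,.o,.o⟩,⟨.e,.n,.o,.n,.o,.e,.o⟩,⟨.n,.e,.n,.o,.n,.e,.o⟩,⟨.o,.o,.n,.n,.n,.e,.e⟩⟩,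
   ⟨⟨.e,.o,.o,.o,.o,.o,.o⟩,⟨.e,.e,.e,.o,.o,.o,.o⟩,⟨.o,.o,.e,.o,.o,.o,.o⟩,⟨.e,.o,.e,.e,.o,.o,.o⟩,⟨.e,.n,.o,.n,.e,.e,.o⟩,⟨.n,.o,.n,.o,.o,.e,.o⟩,⟨.o,.n,.n,.n,.o,.e,.e⟩⟩,
   ⟨⟨.n,.n,.n,.o,.o,.o,.o⟩,⟨.n,.e,.e,.o,.o,.o,.o⟩,⟨.o,.n,.o,.n,.e,.e,.o⟩,⟨.n,.e,.n,.o,.n,.n,.o⟩,⟨.n,.n,.o,.e,.e,.e,.o⟩,⟨.e,.n,.e,.e,.o,.n,.n⟩,⟨.o,.e,.e,.n,.o,.n,.e⟩⟩,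
   ⟨⟨.n,.e,.o,.o,.o,.o,.o⟩,⟨.n,.n,.e,.e,.e,.o,.o⟩,⟨.o,.n,.e,.e,.e,.o,.o⟩,⟨.n,.o,.e,.n,.o,.o,.o⟩,⟨.n,.n,.o,.n,.o,.n,.e⟩,⟨.e,.o,.n,.n,.o,.n,.e⟩,⟨.o,.n,.n,.e,.e,.n,.o⟩⟩,
   ⟨⟨.e,.o,.o,.o,.o,.o,.o⟩,⟨.e,.o,.n,.o,.o,.o,.o⟩,⟨.o,.e,.e,.o,.o,.o,.o⟩,⟨.e,.e,.e,.e,.o,.o,.o⟩,⟨.n,.e,.n,.n,.o,.n,.o⟩,⟨.o,.n,.n,.o,.e,.e,.o⟩,⟨.e,.n,.n,.n,.e,.e,.e⟩⟩,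
   ⟨⟨.n,.n,.n,.o,.o,.o,.o⟩,⟨.n,.e,.e,.o,.o,.o,.o⟩,⟨.o,.o,.e,.n,.e,.e,.o⟩,⟨.n,.n,.o,.o,.n,.n,.o⟩,⟨.e,.n,.o,.e,.e,.e,.o⟩,⟨.o,.o,.n,.e,.n,.e,.n⟩,⟨.n,.n,.e,.o,.e,.o,.e⟩⟩,
   ⟨⟨.e,.o,.o,.o,.o,.o,.o⟩,⟨.e,.e,.o,.o,.o,.o,.o⟩,⟨.o,.e,.e,.o,.o,.o,.o⟩,⟨.e,.e,.e,.e,.o,.o,.o⟩,⟨.n,.o,.e,.n,.e,.o,.o⟩,⟨.o,.n,.n,.o,.e,.e,.o⟩,⟨.e,.n,.n,.n,.e,.e,.e⟩⟩,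
   ⟨⟨.e,.o,.o,.o,.o,.o,.o⟩,⟨.e,.n,.e,.o,.o,.o,.o⟩,⟨.o,.e,.e,.o,.o,.o,.o⟩,⟨.e,.e,.e,.e,.o,.o,.o⟩,⟨.n,.n,.o,.n,.n,.e,.o⟩,⟨.o,.n,.n,.o,.e,.e,.o⟩,⟨.e,.n,.n,.n,.e,.e,.e⟩⟩,
   ⟨⟨.e,.o,.o,.o,.o,.o,.o⟩,⟨.e,.o,.n,.o,.o,.o,.o⟩,⟨.o,.e,.n,.o,.o,.o,.o⟩,⟨.e,.e,.n,.e,.o,.o,.o⟩,⟨.n,.e,.o,.n,.o,.n,.o⟩,⟨.e,.n,.e,.o,.e,.n,.o⟩,⟨.n,.n,.o,.n,.e,.n,.e⟩⟩,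
   ⟨⟨.e,.o,.o,.o,.o,.o,.o⟩,⟨.e,.e,.o,.o,.o,.o,.o⟩,⟨.o,.o,.e,.o,.o,.o,.o⟩,⟨.e,.o,.e,.e,.o,.o,.o⟩,⟨.n,.n,.e,.n,.e,.o,.o⟩,⟨.e,.o,.n,.o,.o,.e,.o⟩,⟨.n,.e,.n,.n,.o,.e,.e⟩⟩,
   ⟨⟨.e,.o,.o,.o,.o,.o,.o⟩,⟨.e,.e,.o,.o,.o,.o,.o⟩,⟨.o,.e,.e,.o,.o,.o,.o⟩,⟨.e,.e,.e,.e,.o,.o,.o⟩,⟨.n,.o,.e,.n,.e,.o,.o⟩,⟨.e,.n,.n,.o,.e,.e,.o⟩,⟨.n,.o,.n,.n,.e,.e,.e⟩⟩,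
   ⟨⟨.e,.o,.o,.o,.o,.o,.o⟩,⟨.e,.e,.o,.o,.o,.o,.o⟩,⟨.o,.n,.e,.o,.o,.o,.o⟩,⟨.e,.n,.e,.e,.o,.o,.o⟩,⟨.n,.e,.e,.n,.e,.o,.o⟩,⟨.e,.e,.n,.o,.n,.e,.o⟩,⟨.n,.n,.n,.n,.n,.e,.e⟩⟩,
   ⟨⟨.n,.o,.o,.o,.o,.o,.o⟩,⟨.n,.o,.n,.o,.o,.o,.o⟩,⟨.o,.n,.o,.o,.o,.o,.o⟩,⟨.n,.n,.o,.e,.o,.o,.o⟩,⟨.e,.n,.e,.n,.o,.e,.o⟩,⟨.e,.e,.o,.o,.e,.o,.o⟩,⟨.o,.e,.e,.n,.e,.o,.n⟩⟩,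
   ⟨⟨.e,.o,.o,.o,.o,.o,.o⟩,⟨.e,.e,.o,.o,.o,.o,.o⟩,⟨.o,.o,.e,.o,.o,.o,.o⟩,⟨.e,.o,.e,.e,.o,.o,.o⟩,⟨.n,.n,.e,.n,.e,.o,.o⟩,⟨.n,.o,.n,.o,.o,.e,.o⟩,⟨.o,.n,.n,.n,.o,.e,.e⟩⟩,
   ⟨⟨.n,.e,.o,.o,.o,.o,.o⟩,⟨.n,.o,.o,.o,.o,.o,.o⟩,⟨.o,.n,.e,.e,.e,.o,.o⟩,⟨.n,.o,.e,.n,.o,.o,.o⟩,⟨.e,.n,.e,.o,.o,.o,.o⟩,⟨.e,.o,.n,.n,.o,.n,.e⟩,⟨.o,.n,.n,.e,.e,.n,.o⟩⟩,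
   ⟨⟨.e,.o,.o,.o,.o,.o,.o⟩,⟨.e,.e,.o,.o,.o,.o,.o⟩,⟨.o,.n,.e,.o,.o,.o,.o⟩,⟨.e,.n,.e,.e,.o,.o,.o⟩,⟨.n,.e,.e,.n,.e,.o,.o⟩,⟨.n,.e,.n,.o,.n,.e,.o⟩,⟨.o,.o,.n,.n,.n,.e,.e⟩⟩,
   ⟨⟨.e,.o,.o,.o,.o,.o,.o⟩,⟨.e,.o,.n,.o,.o,.o,.o⟩,⟨.o,.e,.n,.o,.o,.o,.o⟩,⟨.n,.e,.n,.e,.o,.o,.o⟩,⟨.o,.e,.e,.n,.o,.n,.o⟩,⟨.o,.e,.n,.o,.e,.n,.o⟩,⟨.e,.n,.e,.e,.e,.n,.e⟩⟩,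
   ⟨⟨.n,.e,.e,.o,.o,.o,.o⟩,⟨.n,.n,.n,.o,.o,.o,.o⟩,⟨.o,.o,.n,.n,.n,.n,.o⟩,⟨.e,.n,.e,.o,.e,.e,.o⟩,⟨.o,.e,.o,.e,.n,.n,.o⟩,⟨.o,.o,.n,.n,.n,.o,.n⟩,⟨.n,.e,.n,.n,.o,.e,.e⟩⟩,
   ⟨⟨.e,.n,.o,.o,.o,.o,.o⟩,⟨.e,.o,.o,.o,.o,.o,.o⟩,⟨.o,.e,.e,.e,.e,.o,.o⟩,⟨.n,.n,.e,.n,.o,.o,.o⟩,⟨.o,.n,.e,.o,.o,.o,.o⟩,⟨.o,.e,.e,.e,.n,.e,.n⟩,⟨.e,.e,.n,.o,.n,.e,.o⟩⟩,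
   ⟨⟨.e,.n,.e,.o,.o,.o,.o⟩,⟨.e,.o,.o,.o,.o,.o,.o⟩,⟨.o,.n,.n,.e,.e,.n,.o⟩,⟨.n,.o,.e,.n,.o,.o,.o⟩,⟨.o,.o,.e,.o,.o,.o,.o⟩,⟨.o,.n,.n,.e,.o,.e,.n⟩,⟨.e,.o,.n,.o,.o,.e,.o⟩⟩,
   ⟨⟨.n,.o,.o,.o,.o,.o,.o⟩,⟨.n,.o,.n,.o,.o,.o,.o⟩,⟨.o,.n,.e,.o,.o,.o,.o⟩,⟨.e,.n,.e,.e,.o,.o,.o⟩,⟨.o,.n,.o,.n,.o,.e,.o⟩,⟨.n,.n,.e,.o,.e,.n,.o⟩,⟨.e,.e,.e,.e,.e,.n,.n⟩⟩,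
   ⟨⟨.n,.o,.o,.o,.o,.o,.o⟩,⟨.n,.n,.n,.o,.o,.o,.o⟩,⟨.o,.o,.e,.o,.o,.o,.o⟩,⟨.e,.o,.e,.e,.o,.o,.o⟩,⟨.o,.n,.o,.n,.e,.e,.o⟩,⟨.n,.o,.e,.o,.o,.n,.o⟩,⟨.e,.n,.e,.e,.o,.n,.n⟩⟩,
   ⟨⟨.e,.o,.o,.o,.o,.o,.o⟩,⟨.e,.e,.e,.o,.o,.o,.o⟩,⟨.o,.e,.n,.o,.o,.o,.o⟩,⟨.n,.e,.n,.e,.o,.o,.o⟩,⟨.o,.n,.o,.n,.e,.e,.o⟩,⟨.e,.e,.n,.o,.e,.n,.o⟩,⟨.n,.o,.n,.e,.e,.n,.e⟩⟩,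
   ⟨⟨.e,.o,.o,.o,.o,.o,.o⟩,⟨.e,.n,.n,.o,.o,.o,.o⟩,⟨.o,.e,.o,.o,.o,.o,.o⟩,⟨.n,.e,.o,.e,.o,.o,.o⟩,⟨.o,.o,.n,.n,.n,.n,.o⟩,⟨.e,.e,.o,.o,.e,.o,.o⟩,⟨.n,.e,.n,.e,.e,.o,.e⟩⟩,
   ⟨⟨.e,.o,.o,.o,.o,.o,.o⟩,⟨.e,.o,.n,.o,.o,.o,.o⟩,⟨.o,.e,.n,.o,.o,.o,.o⟩,⟨.n,.e,.n,.e,.o,.o,.o⟩,⟨.o,.e,.e,.n,.o,.n,.o⟩,⟨.n,.e,.n,.o,.e,.n,.o⟩,⟨.o,.n,.n,.e,.e,.n,.e⟩⟩,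
   ⟨⟨.e,.n,.o,.o,.e,.o,.o⟩,⟨.e,.e,.o,.o,.e,.o,.o⟩,⟨.o,.o,.n,.n,.n,.o,.e⟩,⟨.n,.e,.n,.o,.o,.o,.e⟩,⟨.o,.n,.n,.e,.n,.o,.e⟩,⟨.n,.e,.n,.n,.e,.n,.n⟩,⟨.o,.e,.e,.n,.o,.n,.e⟩⟩,
   ⟨⟨.e,.o,.o,.o,.o,.o,.o⟩,⟨.e,.e,.n,.o,.o,.o,.o⟩,⟨.o,.e,.o,.o,.o,.o,.o⟩,⟨.n,.e,.o,.e,.o,.o,.o⟩,⟨.o,.n,.n,.n,.e,.n,.o⟩,⟨.n,.e,.o,.o,.e,.o,.o⟩,⟨.o,.e,.e,.e,.e,.o,.e⟩⟩,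
   ⟨⟨.e,.o,.o,.o,.o,.o,.o⟩,⟨.e,.n,.n,.o,.o,.o,.o⟩,⟨.o,.e,.o,.o,.o,.o,.o⟩,⟨.n,.e,.o,.e,.o,.o,.o⟩,⟨.o,.o,.n,.n,.n,.n,.o⟩,⟨.n,.e,.o,.o,.e,.o,.o⟩,⟨.o,.o,.e,.e,.e,.o,.e⟩⟩,
   ⟨⟨.e,.o,.o,.o,.o,.o,.o⟩,⟨.e,.o,.n,.o,.o,.o,.o⟩,⟨.o,.e,.e,.o,.o,.o,.o⟩,⟨.n,.e,.e,.e,.o,.o,.o⟩,⟨.e,.e,.o,.n,.o,.n,.o⟩,⟨.o,.e,.e,.o,.e,.e,.o⟩,⟨.e,.e,.e,.e,.e,.e,.e⟩⟩,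
   ⟨⟨.n,.e,.o,.o,.e,.o,.o⟩,⟨.n,.o,.o,.o,.e,.o,.o⟩,⟨.o,.o,.e,.e,.e,.o,.e⟩,⟨.e,.n,.e,.n,.n,.o,.e⟩,⟨.n,.o,.e,.o,.e,.o,.e⟩,⟨.o,.o,.e,.e,.e,.n,.n⟩,⟨.n,.e,.e,.n,.e,.n,.e⟩⟩,
   ⟨⟨.e,.o,.o,.o,.o,.o,.o⟩,⟨.e,.e,.o,.o,.o,.o,.o⟩,⟨.o,.e,.e,.o,.o,.o,.o⟩,⟨.n,.e,.e,.e,.o,.o,.o⟩,⟨.e,.n,.e,.n,.e,.o,.o⟩,⟨.o,.e,.e,.o,.e,.e,.o⟩,⟨.e,.e,.e,.e,.e,.e,.e⟩⟩,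
   ⟨⟨.e,.o,.o,.o,.o,.o,.o⟩,⟨.e,.n,.e,.o,.o,.o,.o⟩,⟨.o,.e,.e,.o,.o,.o,.o⟩,⟨.n,.e,.e,.e,.o,.o,.o⟩,⟨.e,.o,.n,.n,.n,.e,.o⟩,⟨.o,.e,.e,.o,.e,.e,.o⟩,⟨.e,.e,.e,.e,.e,.e,.e⟩⟩]

/-- part 28 -/
def repPart28 : List M7 :=
  [⟨⟨.n,.o,.e,.o,.o,.o,.o⟩,⟨.n,.o,.n,.o,.o,.o,.o⟩,⟨.o,.e,.n,.n,.o,.n,.o⟩,⟨.e,.e,.e,.o,.o,.e,.o⟩,⟨.n,.e,.e,.e,.o,.n,.o⟩,⟨.n,.e,.o,.n,.n,.o,.n⟩,⟨.e,.e,.n,.o,.n,.n,.e⟩⟩,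
   ⟨⟨.n,.o,.o,.o,.o,.o,.o⟩,⟨.n,.n,.o,.o,.o,.o,.o⟩,⟨.o,.o,.e,.o,.o,.o,.o⟩,⟨.e,.o,.e,.e,.o,.o,.o⟩,⟨.n,.n,.e,.n,.e,.o,.o⟩,⟨.n,.o,.e,.o,.o,.n,.o⟩,⟨.e,.n,.e,.e,.o,.n,.n⟩⟩,
   ⟨⟨.n,.o,.o,.o,.o,.o,.o⟩,⟨.n,.n,.o,.o,.o,.o,.o⟩,⟨.o,.n,.e,.o,.o,.o,.o⟩,⟨.e,.n,.e,.e,.o,.o,.o⟩,⟨.n,.e,.e,.n,.e,.o,.o⟩,⟨.n,.n,.e,.o,.e,.n,.o⟩,⟨.e,.e,.e,.e,.e,.n,.n⟩⟩,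
   ⟨⟨.e,.o,.o,.o,.o,.o,.o⟩,⟨.e,.e,.o,.o,.o,.o,.o⟩,⟨.o,.n,.e,.o,.o,.o,.o⟩,⟨.n,.n,.e,.e,.o,.o,.o⟩,⟨.e,.o,.e,.n,.e,.o,.o⟩,⟨.e,.n,.e,.o,.n,.e,.o⟩,⟨.n,.o,.e,.e,.n,.e,.e⟩⟩,
   ⟨⟨.e,.o,.o,.o,.o,.o,.o⟩,⟨.e,.o,.e,.o,.o,.o,.o⟩,⟨.o,.n,.o,.o,.o,.o,.o⟩,⟨.n,.n,.o,.e,.o,.o,.o⟩,⟨.e,.n,.e,.n,.o,.e,.o⟩,⟨.n,.n,.o,.o,.n,.o,.o⟩,⟨.o,.n,.n,.e,.n,.o,.e⟩⟩,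
   ⟨⟨.n,.e,.o,.o,.e,.o,.o⟩,⟨.n,.o,.o,.o,.e,.o,.o⟩,⟨.o,.o,.e,.e,.e,.o,.e⟩,⟨.e,.n,.e,.n,.n,.o,.e⟩,⟨.n,.o,.e,.o,.e,.o,.e⟩,⟨.e,.n,.e,.e,.o,.n,.n⟩,⟨.o,.e,.e,.n,.o,.n,.e⟩⟩,
   ⟨⟨.e,.o,.o,.o,.o,.o,.o⟩,⟨.e,.n,.e,.o,.o,.o,.o⟩,⟨.o,.n,.o,.o,.o,.o,.o⟩,⟨.n,.n,.o,.e,.o,.o,.o⟩,⟨.e,.e,.e,.n,.n,.e,.o⟩,⟨.n,.n,.o,.o,.n,.o,.o⟩,⟨.o,.o,.n,.e,.n,.o,.e⟩⟩,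
   ⟨⟨.e,.o,.o,.o,.o,.o,.o⟩,⟨.e,.n,.o,.o,.o,.o,.o⟩,⟨.o,.e,.n,.o,.o,.o,.o⟩,⟨.n,.e,.n,.e,.o,.o,.o⟩,⟨.e,.o,.n,.n,.n,.o,.o⟩,⟨.n,.e,.n,.o,.e,.n,.o⟩,⟨.o,.n,.n,.e,.e,.n,.e⟩⟩,
   ⟨⟨.e,.o,.e,.o,.o,.o,.o⟩,⟨.e,.o,.n,.o,.o,.o,.o⟩,⟨.o,.n,.e,.n,.o,.e,.o⟩,⟨.n,.n,.o,.o,.o,.n,.o⟩,⟨.n,.n,.e,.e,.o,.e,.o⟩,⟨.o,.n,.e,.n,.n,.n,.e⟩,⟨.e,.o,.e,.e,.n,.n,.n⟩⟩,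
   ⟨⟨.e,.e,.e,.o,.o,.o,.o⟩,⟨.e,.n,.n,.o,.o,.o,.o⟩,⟨.o,.o,.e,.n,.e,.e,.o⟩,⟨.n,.n,.o,.o,.n,.n,.o⟩,⟨.n,.o,.e,.e,.e,.e,.o⟩,⟨.o,.o,.e,.n,.e,.n,.e⟩,⟨.e,.e,.e,.e,.e,.n,.n⟩⟩,
   ⟨⟨.n,.e,.o,.o,.o,.o,.o⟩,⟨.n,.o,.o,.o,.o,.o,.o⟩,⟨.o,.n,.e,.e,.e,.o,.o⟩,⟨.e,.e,.e,.n,.o,.o,.o⟩,⟨.e,.o,.e,.o,.o,.o,.o⟩,⟨.o,.n,.e,.e,.n,.n,.e⟩,⟨.n,.e,.o,.e,.o,.n,.o⟩⟩,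
   ⟨⟨.n,.e,.o,.o,.o,.o,.o⟩,⟨.n,.n,.e,.e,.e,.o,.o⟩,⟨.o,.n,.e,.e,.e,.o,.o⟩,⟨.e,.e,.e,.n,.o,.o,.o⟩,⟨.e,.n,.n,.e,.n,.n,.e⟩,⟨.o,.n,.e,.e,.n,.n,.e⟩,⟨.n,.e,.o,.e,.o,.n,.o⟩⟩,
   ⟨⟨.e,.o,.e,.o,.o,.o,.o⟩,⟨.e,.o,.n,.o,.o,.o,.o⟩,⟨.o,.n,.n,.n,.o,.e,.o⟩,⟨.n,.n,.e,.o,.o,.n,.o⟩,⟨.n,.n,.n,.e,.o,.e,.o⟩,⟨.e,.n,.o,.n,.n,.o,.e⟩,⟨.n,.o,.o,.e,.n,.o,.n⟩⟩,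
   ⟨⟨.n,.o,.o,.o,.o,.o,.o⟩,⟨.n,.n,.e,.o,.o,.o,.o⟩,⟨.o,.o,.e,.o,.o,.o,.o⟩,⟨.e,.o,.e,.e,.o,.o,.o⟩,⟨.e,.n,.n,.n,.e,.n,.o⟩,⟨.n,.o,.e,.o,.o,.n,.o⟩,⟨.e,.n,.e,.e,.o,.n,.n⟩⟩,
   ⟨⟨.e,.e,.o,.o,.o,.o,.o⟩,⟨.e,.o,.o,.o,.o,.o,.o⟩,⟨.o,.n,.n,.e,.n,.o,.o⟩,⟨.n,.e,.n,.n,.o,.o,.o⟩,⟨.n,.o,.n,.o,.o,.o,.o⟩,⟨.e,.o,.n,.e,.e,.n,.n⟩,⟨.n,.e,.o,.e,.o,.n,.o⟩⟩,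
   ⟨⟨.n,.o,.o,.o,.o,.o,.o⟩,⟨.n,.e,.e,.o,.o,.o,.o⟩,⟨.o,.n,.e,.o,.o,.o,.o⟩,⟨.e,.n,.e,.e,.o,.o,.o⟩,⟨.e,.o,.n,.n,.n,.n,.o⟩,⟨.n,.n,.e,.o,.e,.n,.o⟩,⟨.e,.e,.e,.e,.e,.n,.n⟩⟩,
   ⟨⟨.e,.o,.o,.o,.o,.o,.o⟩,⟨.e,.o,.e,.o,.o,.o,.o⟩,⟨.o,.n,.n,.o,.o,.o,.o⟩,⟨.n,.n,.n,.e,.o,.o,.o⟩,⟨.n,.n,.o,.n,.o,.e,.o⟩,⟨.n,.n,.n,.o,.n,.n,.o⟩,⟨.o,.o,.n,.e,.n,.n,.e⟩⟩,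
   ⟨⟨.e,.o,.o,.o,.o,.o,.o⟩,⟨.e,.e,.e,.o,.o,.o,.o⟩,⟨.o,.o,.e,.o,.o,.o,.o⟩,⟨.n,.o,.e,.e,.o,.o,.o⟩,⟨.n,.e,.n,.n,.e,.e,.o⟩,⟨.n,.o,.e,.o,.o,.e,.o⟩,⟨.o,.n,.n,.e,.o,.e,.e⟩⟩,
   ⟨⟨.e,.o,.o,.o,.o,.o,.o⟩,⟨.e,.e,.e,.o,.o,.o,.o⟩,⟨.o,.e,.n,.o,.o,.o,.o⟩,⟨.n,.e,.n,.e,.o,.o,.o⟩,⟨.n,.n,.o,.n,.e,.e,.o⟩,⟨.n,.e,.n,.o,.e,.n,.o⟩,⟨.o,.n,.n,.e,.e,.n,.e⟩⟩,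
   ⟨⟨.e,.o,.o,.o,.o,.o,.o⟩,⟨.e,.n,.n,.o,.o,.o,.o⟩,⟨.o,.e,.o,.o,.o,.o,.o⟩,⟨.n,.e,.o,.e,.o,.o,.o⟩,⟨.n,.o,.n,.n,.n,.n,.o⟩,⟨.n,.e,.o,.o,.e,.o,.o⟩,⟨.o,.e,.e,.e,.e,.o,.e⟩⟩,
   ⟨⟨.e,.o,.o,.o,.o,.o,.o⟩,⟨.e,.o,.n,.o,.o,.o,.o⟩,⟨.e,.e,.o,.o,.o,.o,.o⟩,⟨.o,.e,.e,.e,.o,.o,.o⟩,⟨.o,.e,.e,.n,.o,.n,.o⟩,⟨.o,.e,.e,.n,.e,.o,.o⟩,⟨.o,.o,.o,.o,.e,.e,.e⟩⟩,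
   ⟨⟨.e,.o,.o,.o,.o,.o,.o⟩,⟨.e,.n,.e,.o,.o,.o,.o⟩,⟨.e,.o,.n,.o,.o,.o,.o⟩,⟨.o,.e,.e,.e,.o,.o,.o⟩,⟨.o,.e,.e,.n,.n,.e,.o⟩,⟨.o,.e,.e,.n,.o,.n,.o⟩,⟨.o,.o,.o,.o,.e,.e,.e⟩⟩,
   ⟨⟨.e,.o,.o,.o,.o,.o,.o⟩,⟨.e,.e,.o,.o,.o,.o,.o⟩,⟨.e,.e,.e,.o,.o,.o,.o⟩,⟨.o,.o,.e,.e,.o,.o,.o⟩,⟨.o,.o,.e,.n,.e,.o,.o⟩,⟨.o,.o,.e,.n,.e,.e,.o⟩,⟨.o,.o,.o,.o,.o,.e,.e⟩⟩,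
   ⟨⟨.e,.o,.o,.o,.o,.o,.o⟩,⟨.e,.e,.o,.o,.o,.o,.o⟩,⟨.e,.n,.e,.o,.o,.o,.o⟩,⟨.o,.e,.e,.e,.o,.o,.o⟩,⟨.o,.e,.e,.n,.e,.o,.o⟩,⟨.o,.e,.e,.n,.n,.e,.o⟩,⟨.o,.o,.o,.o,.e,.e,.e⟩⟩,
   ⟨⟨.e,.o,.e,.o,.o,.o,.o⟩,⟨.e,.o,.n,.o,.o,.o,.o⟩,⟨.e,.n,.n,.n,.o,.e,.o⟩,⟨.o,.n,.o,.o,.o,.n,.o⟩,⟨.o,.n,.o,.e,.o,.e,.o⟩,⟨.e,.n,.e,.e,.n,.e,.e⟩,⟨.e,.o,.n,.o,.n,.o,.n⟩⟩,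
   ⟨⟨.e,.o,.o,.o,.o,.o,.o⟩,⟨.e,.e,.o,.o,.o,.o,.o⟩,⟨.e,.o,.e,.o,.o,.o,.o⟩,⟨.o,.n,.e,.e,.o,.o,.o⟩,⟨.o,.n,.e,.n,.e,.o,.o⟩,⟨.e,.n,.e,.n,.o,.e,.o⟩,⟨.e,.e,.o,.o,.n,.e,.e⟩⟩,
   ⟨⟨.e,.o,.o,.o,.o,.o,.o⟩,⟨.e,.n,.e,.o,.o,.o,.o⟩,⟨.e,.n,.o,.o,.o,.o,.o⟩,⟨.o,.o,.n,.e,.o,.o,.o⟩,⟨.o,.o,.n,.n,.n,.e,.o⟩,⟨.e,.o,.n,.n,.n,.o,.o⟩,⟨.e,.n,.e,.o,.o,.n,.e⟩⟩,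
   ⟨⟨.e,.o,.o,.o,.o,.o,.o⟩,⟨.e,.e,.o,.o,.o,.o,.o⟩,⟨.e,.n,.e,.o,.o,.o,.o⟩,⟨.o,.e,.e,.e,.o,.o,.o⟩,⟨.o,.e,.e,.n,.e,.o,.o⟩,⟨.e,.e,.e,.n,.n,.e,.o⟩,⟨.e,.e,.o,.o,.e,.e,.e⟩⟩,
   ⟨⟨.e,.o,.e,.o,.o,.o,.o⟩,⟨.e,.o,.n,.o,.o,.o,.o⟩,⟨.e,.n,.o,.n,.o,.e,.o⟩,⟨.o,.n,.e,.o,.o,.n,.o⟩,⟨.o,.n,.e,.e,.o,.e,.o⟩,⟨.n,.n,.o,.e,.n,.n,.e⟩,⟨.n,.o,.e,.o,.n,.e,.n⟩⟩,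
   ⟨⟨.e,.o,.o,.o,.o,.o,.o⟩,⟨.e,.e,.o,.o,.o,.o,.o⟩,⟨.e,.o,.e,.o,.o,.o,.o⟩,⟨.o,.n,.e,.e,.o,.o,.o⟩,⟨.o,.n,.e,.n,.e,.o,.o⟩,⟨.n,.n,.e,.n,.o,.e,.o⟩,⟨.n,.n,.o,.o,.n,.e,.e⟩⟩,
   ⟨⟨.e,.o,.o,.o,.o,.o,.o⟩,⟨.e,.e,.o,.o,.o,.o,.o⟩,⟨.e,.e,.e,.o,.o,.o,.o⟩,⟨.o,.o,.e,.e,.o,.o,.o⟩,⟨.o,.o,.e,.n,.e,.o,.o⟩,⟨.n,.o,.e,.n,.e,.e,.o⟩,⟨.n,.n,.o,.o,.o,.e,.e⟩⟩,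
   ⟨⟨.e,.o,.o,.o,.o,.o,.o⟩,⟨.e,.n,.e,.o,.o,.o,.o⟩,⟨.e,.e,.e,.o,.o,.o,.o⟩,⟨.o,.n,.o,.e,.o,.o,.o⟩,⟨.o,.n,.o,.n,.n,.e,.o⟩,⟨.n,.n,.o,.n,.e,.e,.o⟩,⟨.n,.e,.n,.o,.n,.o,.e⟩⟩]

/-- part 29 -/
def repPart29 : List M7 :=
  [⟨⟨.e,.o,.o,.o,.o,.o,.o⟩,⟨.e,.o,.e,.o,.o,.o,.o⟩,⟨.e,.n,.e,.o,.o,.o,.o⟩,⟨.o,.n,.o,.e,.o,.o,.o⟩,⟨.e,.n,.o,.n,.o,.e,.o⟩,⟨.o,.n,.o,.n,.n,.e,.o⟩,⟨.n,.e,.n,.o,.n,.o,.e⟩⟩,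
   ⟨⟨.e,.e,.o,.o,.o,.o,.o⟩,⟨.e,.n,.o,.o,.o,.o,.o⟩,⟨.e,.e,.e,.n,.e,.o,.o⟩,⟨.o,.n,.e,.o,.n,.o,.o⟩,⟨.e,.o,.e,.e,.e,.o,.o⟩,⟨.o,.n,.e,.e,.o,.e,.e⟩,⟨.n,.n,.n,.e,.e,.e,.n⟩⟩,
   ⟨⟨.n,.n,.o,.o,.o,.o,.o⟩,⟨.n,.e,.o,.o,.o,.o,.o⟩,⟨.n,.e,.e,.n,.e,.o,.o⟩,⟨.o,.o,.e,.o,.n,.o,.o⟩,⟨.n,.n,.e,.e,.e,.o,.o⟩,⟨.o,.o,.e,.e,.e,.n,.n⟩,⟨.e,.n,.n,.e,.n,.n,.e⟩⟩,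
   ⟨⟨.e,.o,.o,.o,.o,.o,.o⟩,⟨.e,.n,.e,.o,.o,.o,.o⟩,⟨.e,.e,.e,.o,.o,.o,.o⟩,⟨.o,.n,.o,.e,.o,.o,.o⟩,⟨.e,.n,.o,.n,.n,.e,.o⟩,⟨.o,.n,.o,.n,.e,.e,.o⟩,⟨.n,.n,.n,.o,.n,.o,.e⟩⟩,
   ⟨⟨.n,.o,.n,.o,.o,.o,.o⟩,⟨.n,.o,.e,.o,.o,.o,.o⟩,⟨.n,.n,.o,.n,.o,.e,.o⟩,⟨.o,.n,.n,.o,.o,.n,.o⟩,⟨.n,.n,.e,.e,.o,.e,.o⟩,⟨.n,.n,.e,.e,.e,.n,.n⟩,⟨.o,.e,.e,.e,.e,.o,.e⟩⟩,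
   ⟨⟨.n,.n,.o,.o,.o,.o,.o⟩,⟨.n,.e,.o,.o,.o,.o,.o⟩,⟨.n,.n,.e,.n,.e,.o,.o⟩,⟨.o,.e,.e,.o,.n,.o,.o⟩,⟨.n,.o,.e,.e,.e,.o,.o⟩,⟨.n,.o,.e,.e,.o,.n,.n⟩,⟨.o,.n,.n,.e,.e,.n,.e⟩⟩,
   ⟨⟨.e,.e,.o,.o,.o,.o,.o⟩,⟨.e,.n,.o,.o,.o,.o,.o⟩,⟨.e,.n,.e,.n,.e,.o,.o⟩,⟨.o,.o,.e,.o,.n,.o,.o⟩,⟨.e,.e,.e,.e,.e,.o,.o⟩,⟨.e,.e,.e,.e,.e,.e,.e⟩,⟨.o,.o,.n,.e,.n,.e,.n⟩⟩,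
   ⟨⟨.e,.e,.o,.o,.o,.o,.o⟩,⟨.e,.n,.o,.o,.o,.o,.o⟩,⟨.e,.o,.e,.n,.e,.o,.o⟩,⟨.o,.e,.e,.o,.n,.o,.o⟩,⟨.e,.n,.e,.e,.e,.o,.o⟩,⟨.e,.n,.e,.e,.n,.e,.e⟩,⟨.o,.n,.n,.e,.o,.e,.n⟩⟩,
   ⟨⟨.n,.o,.o,.o,.o,.o,.o⟩,⟨.n,.o,.n,.o,.o,.o,.o⟩,⟨.n,.n,.e,.o,.o,.o,.o⟩,⟨.o,.n,.n,.e,.o,.o,.o⟩,⟨.n,.n,.n,.n,.o,.e,.o⟩,⟨.e,.n,.n,.n,.e,.n,.o⟩,⟨.n,.e,.o,.o,.e,.e,.n⟩⟩,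
   ⟨⟨.e,.e,.o,.o,.o,.o,.o⟩,⟨.e,.n,.o,.o,.o,.o,.o⟩,⟨.e,.e,.e,.n,.e,.o,.o⟩,⟨.o,.n,.e,.o,.n,.o,.o⟩,⟨.e,.o,.e,.e,.e,.o,.o⟩,⟨.n,.e,.e,.e,.o,.e,.e⟩,⟨.e,.o,.n,.e,.e,.e,.n⟩⟩,
   ⟨⟨.n,.n,.o,.o,.o,.o,.o⟩,⟨.n,.e,.o,.o,.o,.o,.o⟩,⟨.n,.e,.e,.n,.e,.o,.o⟩,⟨.o,.o,.e,.o,.n,.o,.o⟩,⟨.n,.n,.e,.e,.e,.o,.o⟩,⟨.e,.e,.e,.e,.e,.n,.n⟩,⟨.n,.e,.n,.e,.n,.n,.e⟩⟩,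
   ⟨⟨.e,.e,.o,.o,.o,.o,.o⟩,⟨.e,.n,.o,.o,.o,.o,.o⟩,⟨.e,.o,.e,.n,.e,.o,.o⟩,⟨.o,.e,.e,.o,.n,.o,.o⟩,⟨.e,.n,.e,.e,.e,.o,.o⟩,⟨.n,.o,.e,.e,.n,.e,.e⟩,⟨.e,.e,.n,.e,.o,.e,.n⟩⟩,
   ⟨⟨.e,.o,.o,.o,.o,.o,.o⟩,⟨.e,.o,.e,.o,.o,.o,.o⟩,⟨.e,.n,.o,.o,.o,.o,.o⟩,⟨.o,.n,.n,.e,.o,.o,.o⟩,⟨.n,.n,.n,.n,.o,.e,.o⟩,⟨.o,.n,.n,.n,.n,.o,.o⟩,⟨.e,.n,.o,.o,.n,.n,.e⟩⟩,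
   ⟨⟨.e,.e,.o,.o,.o,.o,.o⟩,⟨.e,.o,.e,.n,.e,.o,.o⟩,⟨.e,.e,.n,.e,.n,.o,.o⟩,⟨.o,.e,.e,.o,.n,.o,.o⟩,⟨.n,.o,.e,.e,.n,.e,.e⟩,⟨.o,.e,.e,.e,.o,.n,.n⟩,⟨.e,.e,.n,.e,.o,.e,.n⟩⟩,
   ⟨⟨.n,.n,.o,.o,.o,.o,.o⟩,⟨.n,.e,.o,.o,.o,.o,.o⟩,⟨.n,.e,.e,.n,.e,.o,.o⟩,⟨.o,.o,.e,.o,.n,.o,.o⟩,⟨.e,.e,.e,.e,.e,.o,.o⟩,⟨.o,.o,.e,.e,.e,.n,.n⟩,⟨.n,.e,.e,.n,.e,.n,.e⟩⟩,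
   ⟨⟨.e,.o,.o,.o,.o,.o,.o⟩,⟨.e,.n,.o,.o,.o,.o,.o⟩,⟨.e,.e,.n,.o,.o,.o,.o⟩,⟨.o,.n,.n,.e,.o,.o,.o⟩,⟨.n,.n,.n,.n,.n,.o,.o⟩,⟨.o,.n,.n,.n,.e,.n,.o⟩,⟨.e,.e,.n,.o,.n,.n,.e⟩⟩,
   ⟨⟨.e,.o,.o,.o,.o,.o,.o⟩,⟨.e,.o,.e,.o,.o,.o,.o⟩,⟨.e,.n,.e,.o,.o,.o,.o⟩,⟨.o,.n,.o,.e,.o,.o,.o⟩,⟨.n,.n,.o,.n,.o,.e,.o⟩,⟨.e,.n,.o,.n,.n,.e,.o⟩,⟨.n,.n,.n,.o,.n,.o,.e⟩⟩,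
   ⟨⟨.n,.e,.o,.o,.n,.o,.o⟩,⟨.n,.o,.o,.o,.n,.o,.o⟩,⟨.n,.e,.e,.e,.o,.o,.n⟩,⟨.o,.e,.e,.n,.o,.o,.n⟩,⟨.e,.o,.e,.o,.e,.o,.n⟩,⟨.n,.n,.e,.o,.e,.n,.o⟩,⟨.e,.e,.e,.e,.e,.n,.n⟩⟩,
   ⟨⟨.e,.o,.o,.o,.o,.o,.o⟩,⟨.e,.n,.n,.o,.o,.o,.o⟩,⟨.e,.n,.e,.o,.o,.o,.o⟩,⟨.o,.o,.n,.e,.o,.o,.o⟩,⟨.n,.o,.n,.n,.n,.n,.o⟩,⟨.e,.o,.n,.n,.n,.e,.o⟩,⟨.n,.e,.o,.o,.o,.n,.e⟩⟩,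
   ⟨⟨.e,.n,.o,.o,.o,.o,.o⟩,⟨.e,.o,.o,.o,.o,.o,.o⟩,⟨.e,.e,.e,.e,.e,.o,.o⟩,⟨.o,.e,.e,.n,.o,.o,.o⟩,⟨.n,.n,.e,.o,.o,.o,.o⟩,⟨.e,.o,.e,.o,.e,.e,.n⟩,⟨.n,.e,.e,.e,.n,.e,.o⟩⟩,
   ⟨⟨.n,.n,.o,.o,.o,.o,.o⟩,⟨.n,.n,.e,.n,.e,.o,.o⟩,⟨.n,.o,.n,.e,.n,.o,.o⟩,⟨.o,.e,.e,.o,.n,.o,.o⟩,⟨.e,.n,.e,.e,.o,.n,.n⟩,⟨.e,.n,.e,.e,.n,.e,.e⟩,⟨.o,.e,.e,.n,.o,.n,.e⟩⟩,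
   ⟨⟨.n,.n,.o,.o,.o,.o,.o⟩,⟨.n,.e,.o,.o,.o,.o,.o⟩,⟨.n,.n,.e,.n,.e,.o,.o⟩,⟨.o,.e,.e,.o,.n,.o,.o⟩,⟨.e,.n,.e,.e,.e,.o,.o⟩,⟨.e,.n,.e,.e,.o,.n,.n⟩,⟨.o,.e,.e,.n,.o,.n,.e⟩⟩,
   ⟨⟨.n,.n,.o,.o,.o,.o,.o⟩,⟨.n,.e,.o,.o,.o,.o,.o⟩,⟨.n,.e,.e,.n,.e,.o,.o⟩,⟨.o,.o,.e,.o,.n,.o,.o⟩,⟨.e,.e,.e,.e,.e,.o,.o⟩,⟨.e,.e,.e,.e,.e,.n,.n⟩,⟨.o,.o,.e,.n,.e,.n,.e⟩⟩,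
   ⟨⟨.n,.e,.n,.o,.o,.o,.o⟩,⟨.n,.n,.e,.o,.o,.o,.o⟩,⟨.n,.o,.n,.n,.n,.e,.o⟩,⟨.o,.e,.e,.o,.e,.n,.o⟩,⟨.e,.o,.n,.e,.n,.e,.o⟩,⟨.e,.o,.n,.e,.e,.o,.n⟩,⟨.o,.e,.e,.n,.e,.o,.e⟩⟩,
   ⟨⟨.e,.n,.o,.o,.o,.o,.o⟩,⟨.e,.n,.e,.e,.e,.o,.o⟩,⟨.e,.e,.e,.e,.e,.o,.o⟩,⟨.e,.e,.o,.e,.n,.o,.o⟩,⟨.o,.n,.n,.e,.o,.e,.n⟩,⟨.o,.o,.n,.e,.n,.e,.n⟩,⟨.e,.e,.o,.n,.o,.o,.e⟩⟩,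
   ⟨⟨.e,.n,.o,.o,.o,.o,.o⟩,⟨.e,.o,.e,.e,.e,.o,.o⟩,⟨.e,.n,.e,.e,.e,.o,.o⟩,⟨.e,.e,.o,.e,.n,.o,.o⟩,⟨.o,.e,.n,.e,.e,.e,.n⟩,⟨.o,.n,.n,.e,.o,.e,.n⟩,⟨.e,.e,.o,.n,.o,.o,.e⟩⟩,
   ⟨⟨.e,.o,.o,.o,.o,.o,.o⟩,⟨.e,.e,.e,.o,.o,.o,.o⟩,⟨.e,.e,.n,.o,.o,.o,.o⟩,⟨.e,.o,.e,.e,.o,.o,.o⟩,⟨.o,.n,.o,.n,.e,.e,.o⟩,⟨.o,.n,.n,.n,.e,.n,.o⟩,⟨.e,.o,.e,.n,.o,.e,.e⟩⟩,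
   ⟨⟨.e,.o,.o,.o,.o,.o,.o⟩,⟨.e,.n,.n,.o,.o,.o,.o⟩,⟨.e,.e,.o,.o,.o,.o,.o⟩,⟨.e,.n,.e,.e,.o,.o,.o⟩,⟨.o,.o,.n,.n,.n,.n,.o⟩,⟨.o,.e,.e,.n,.e,.o,.o⟩,⟨.e,.n,.e,.n,.n,.e,.e⟩⟩,
   ⟨⟨.e,.o,.o,.o,.o,.o,.o⟩,⟨.e,.o,.e,.o,.o,.o,.o⟩,⟨.e,.n,.n,.o,.o,.o,.o⟩,⟨.e,.n,.e,.e,.o,.o,.o⟩,⟨.o,.n,.o,.n,.o,.e,.o⟩,⟨.e,.o,.n,.n,.n,.n,.o⟩,⟨.n,.n,.n,.n,.n,.e,.e⟩⟩,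
   ⟨⟨.e,.o,.o,.o,.o,.o,.o⟩,⟨.e,.n,.e,.o,.o,.o,.o⟩,⟨.e,.o,.n,.o,.o,.o,.o⟩,⟨.e,.e,.e,.e,.o,.o,.o⟩,⟨.o,.n,.o,.n,.n,.e,.o⟩,⟨.e,.e,.n,.n,.o,.n,.o⟩,⟨.n,.o,.n,.n,.e,.e,.e⟩⟩,
   ⟨⟨.e,.o,.o,.o,.o,.o,.o⟩,⟨.e,.e,.e,.o,.o,.o,.o⟩,⟨.e,.e,.n,.o,.o,.o,.o⟩,⟨.e,.o,.e,.e,.o,.o,.o⟩,⟨.o,.n,.o,.n,.e,.e,.o⟩,⟨.e,.n,.n,.n,.e,.n,.o⟩,⟨.n,.e,.n,.n,.o,.e,.e⟩⟩,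
   ⟨⟨.e,.o,.o,.o,.e,.o,.o⟩,⟨.e,.n,.o,.o,.e,.o,.o⟩,⟨.e,.e,.n,.o,.e,.o,.e⟩,⟨.e,.n,.n,.e,.e,.o,.e⟩,⟨.o,.o,.n,.n,.n,.o,.e⟩,⟨.e,.e,.o,.n,.n,.n,.o⟩,⟨.n,.e,.n,.n,.e,.n,.n⟩⟩]

/-- part 30 -/
def repPart30 : List M7 :=
  [⟨⟨.e,.o,.o,.o,.o,.o,.o⟩,⟨.e,.o,.e,.o,.o,.o,.o⟩,⟨.e,.n,.o,.o,.o,.o,.o⟩,⟨.e,.n,.n,.e,.o,.o,.o⟩,⟨.o,.n,.e,.n,.o,.e,.o⟩,⟨.n,.o,.n,.n,.n,.o,.o⟩,⟨.o,.n,.e,.n,.n,.n,.e⟩⟩,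
   ⟨⟨.n,.e,.o,.o,.o,.o,.o⟩,⟨.n,.o,.e,.e,.e,.o,.o⟩,⟨.n,.e,.e,.e,.e,.o,.o⟩,⟨.n,.n,.o,.e,.n,.o,.o⟩,⟨.o,.n,.n,.e,.e,.n,.e⟩,⟨.e,.o,.n,.e,.o,.n,.e⟩,⟨.o,.n,.n,.e,.n,.o,.n⟩⟩,
   ⟨⟨.e,.o,.o,.o,.o,.o,.o⟩,⟨.e,.n,.e,.o,.o,.o,.o⟩,⟨.e,.n,.o,.o,.o,.o,.o⟩,⟨.e,.o,.n,.e,.o,.o,.o⟩,⟨.o,.e,.e,.n,.n,.e,.o⟩,⟨.n,.e,.n,.n,.n,.o,.o⟩,⟨.o,.e,.e,.n,.o,.n,.e⟩⟩,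
   ⟨⟨.e,.o,.o,.o,.o,.o,.o⟩,⟨.e,.e,.e,.o,.o,.o,.o⟩,⟨.e,.n,.o,.o,.o,.o,.o⟩,⟨.e,.e,.n,.e,.o,.o,.o⟩,⟨.o,.o,.e,.n,.e,.e,.o⟩,⟨.n,.n,.n,.n,.n,.o,.o⟩,⟨.o,.o,.e,.n,.e,.n,.e⟩⟩,
   ⟨⟨.e,.o,.o,.o,.o,.o,.o⟩,⟨.e,.o,.n,.o,.o,.o,.o⟩,⟨.e,.e,.e,.o,.o,.o,.o⟩,⟨.e,.e,.n,.e,.o,.o,.o⟩,⟨.e,.e,.o,.n,.o,.n,.o⟩,⟨.o,.o,.e,.n,.e,.e,.o⟩,⟨.o,.o,.e,.n,.e,.n,.e⟩⟩,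
   ⟨⟨.e,.o,.o,.o,.o,.o,.o⟩,⟨.e,.e,.e,.o,.o,.o,.o⟩,⟨.e,.o,.e,.o,.o,.o,.o⟩,⟨.e,.n,.o,.e,.o,.o,.o⟩,⟨.e,.e,.n,.n,.e,.e,.o⟩,⟨.o,.n,.n,.n,.o,.e,.o⟩,⟨.o,.n,.n,.n,.n,.o,.e⟩⟩,
   ⟨⟨.e,.o,.o,.o,.o,.o,.o⟩,⟨.e,.n,.n,.o,.o,.o,.o⟩,⟨.e,.n,.e,.o,.o,.o,.o⟩,⟨.e,.o,.n,.e,.o,.o,.o⟩,⟨.e,.e,.o,.n,.n,.n,.o⟩,⟨.o,.e,.e,.n,.n,.e,.o⟩,⟨.o,.e,.e,.n,.o,.n,.e⟩⟩,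
   ⟨⟨.n,.e,.o,.o,.o,.o,.o⟩,⟨.n,.n,.e,.e,.e,.o,.o⟩,⟨.n,.o,.e,.e,.e,.o,.o⟩,⟨.n,.n,.o,.e,.n,.o,.o⟩,⟨.n,.e,.n,.e,.n,.n,.e⟩,⟨.o,.n,.n,.e,.e,.n,.e⟩,⟨.o,.n,.n,.e,.n,.o,.n⟩⟩,
   ⟨⟨.n,.n,.e,.o,.o,.o,.o⟩,⟨.n,.n,.o,.e,.n,.e,.o⟩,⟨.n,.e,.e,.e,.n,.e,.o⟩,⟨.n,.e,.n,.e,.e,.n,.o⟩,⟨.n,.e,.o,.e,.o,.e,.e⟩,⟨.n,.n,.n,.e,.e,.o,.e⟩,⟨.n,.n,.e,.n,.o,.o,.n⟩⟩,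
   ⟨⟨.e,.o,.o,.o,.o,.o,.o⟩,⟨.e,.n,.n,.o,.o,.o,.o⟩,⟨.e,.o,.n,.o,.o,.o,.o⟩,⟨.e,.e,.o,.e,.o,.o,.o⟩,⟨.e,.n,.e,.n,.n,.n,.o⟩,⟨.e,.e,.e,.n,.o,.n,.o⟩,⟨.e,.o,.o,.n,.e,.o,.e⟩⟩,
   ⟨⟨.n,.n,.n,.o,.o,.o,.o⟩,⟨.n,.e,.e,.o,.o,.o,.o⟩,⟨.n,.e,.n,.n,.e,.e,.o⟩,⟨.n,.n,.o,.o,.n,.n,.o⟩,⟨.n,.o,.e,.e,.e,.e,.o⟩,⟨.n,.o,.o,.n,.o,.n,.n⟩,⟨.n,.n,.n,.n,.n,.e,.e⟩⟩,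
   ⟨⟨.e,.e,.o,.o,.o,.o,.o⟩,⟨.e,.n,.n,.e,.n,.o,.o⟩,⟨.e,.o,.n,.e,.n,.o,.o⟩,⟨.e,.n,.o,.e,.e,.o,.o⟩,⟨.e,.e,.e,.e,.e,.n,.n⟩,⟨.e,.o,.e,.e,.n,.n,.n⟩,⟨.e,.e,.o,.n,.o,.o,.e⟩⟩,
   ⟨⟨.n,.n,.n,.e,.n,.o,.o⟩,⟨.n,.n,.e,.n,.e,.o,.o⟩,⟨.n,.e,.o,.n,.n,.e,.e⟩,⟨.n,.e,.e,.n,.e,.n,.n⟩,⟨.n,.e,.n,.n,.o,.e,.e⟩,⟨.e,.e,.n,.o,.n,.e,.o⟩,⟨.e,.e,.o,.n,.o,.o,.e⟩⟩,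
   ⟨⟨.n,.e,.n,.e,.n,.o,.o⟩,⟨.n,.o,.e,.n,.e,.o,.o⟩,⟨.n,.e,.o,.n,.o,.e,.e⟩,⟨.n,.n,.e,.n,.o,.n,.n⟩,⟨.n,.o,.n,.n,.e,.e,.e⟩,⟨.e,.o,.n,.o,.o,.e,.o⟩,⟨.e,.e,.o,.n,.o,.o,.e⟩⟩,
   ⟨⟨.e,.o,.o,.o,.o,.o,.o⟩,⟨.e,.e,.n,.o,.o,.o,.o⟩,⟨.e,.e,.o,.o,.o,.o,.o⟩,⟨.e,.o,.e,.e,.o,.o,.o⟩,⟨.e,.n,.n,.n,.e,.n,.o⟩,⟨.n,.n,.e,.n,.e,.o,.o⟩,⟨.n,.e,.n,.n,.o,.e,.e⟩⟩,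
   ⟨⟨.e,.o,.o,.o,.o,.o,.o⟩,⟨.e,.n,.n,.o,.o,.o,.o⟩,⟨.e,.e,.o,.o,.o,.o,.o⟩,⟨.e,.n,.e,.e,.o,.o,.o⟩,⟨.e,.o,.n,.n,.n,.n,.o⟩,⟨.n,.e,.e,.n,.e,.o,.o⟩,⟨.n,.n,.n,.n,.n,.e,.e⟩⟩,
   ⟨⟨.n,.o,.n,.o,.o,.o,.o⟩,⟨.n,.o,.e,.o,.o,.o,.o⟩,⟨.n,.n,.e,.n,.o,.e,.o⟩,⟨.n,.n,.n,.o,.o,.n,.o⟩,⟨.e,.n,.n,.e,.o,.e,.o⟩,⟨.o,.o,.e,.n,.e,.o,.n⟩,⟨.e,.e,.o,.o,.e,.e,.e⟩⟩,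
   ⟨⟨.e,.o,.o,.o,.o,.o,.o⟩,⟨.e,.e,.o,.o,.o,.o,.o⟩,⟨.e,.o,.e,.o,.o,.o,.o⟩,⟨.e,.n,.e,.e,.o,.o,.o⟩,⟨.n,.e,.e,.n,.e,.o,.o⟩,⟨.o,.n,.o,.n,.o,.e,.o⟩,⟨.n,.n,.n,.n,.n,.e,.e⟩⟩,
   ⟨⟨.e,.o,.o,.o,.o,.o,.o⟩,⟨.e,.e,.o,.o,.o,.o,.o⟩,⟨.e,.e,.e,.o,.o,.o,.o⟩,⟨.e,.o,.e,.e,.o,.o,.o⟩,⟨.n,.n,.e,.n,.e,.o,.o⟩,⟨.o,.n,.o,.n,.e,.e,.o⟩,⟨.n,.e,.n,.n,.o,.e,.e⟩⟩,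
   ⟨⟨.e,.o,.o,.o,.o,.o,.o⟩,⟨.e,.e,.o,.o,.o,.o,.o⟩,⟨.e,.n,.e,.o,.o,.o,.o⟩,⟨.e,.e,.e,.e,.o,.o,.o⟩,⟨.n,.o,.e,.n,.e,.o,.o⟩,⟨.o,.n,.o,.n,.n,.e,.o⟩,⟨.n,.o,.n,.n,.e,.e,.e⟩⟩,
   ⟨⟨.n,.e,.o,.o,.o,.o,.o⟩,⟨.n,.e,.e,.e,.e,.o,.o⟩,⟨.n,.n,.e,.e,.e,.o,.o⟩,⟨.n,.n,.o,.e,.n,.o,.o⟩,⟨.e,.o,.n,.e,.o,.n,.e⟩,⟨.n,.e,.n,.e,.n,.n,.e⟩,⟨.o,.n,.n,.e,.n,.o,.n⟩⟩,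
   ⟨⟨.e,.o,.o,.o,.o,.o,.o⟩,⟨.e,.n,.o,.o,.o,.o,.o⟩,⟨.e,.o,.n,.o,.o,.o,.o⟩,⟨.e,.e,.n,.e,.o,.o,.o⟩,⟨.n,.n,.n,.n,.n,.o,.o⟩,⟨.e,.e,.o,.n,.o,.n,.o⟩,⟨.o,.o,.e,.n,.e,.n,.e⟩⟩,
   ⟨⟨.e,.o,.o,.o,.o,.o,.o⟩,⟨.e,.n,.o,.o,.o,.o,.o⟩,⟨.e,.n,.n,.o,.o,.o,.o⟩,⟨.e,.o,.n,.e,.o,.o,.o⟩,⟨.n,.e,.n,.n,.n,.o,.o⟩,⟨.e,.e,.o,.n,.n,.n,.o⟩,⟨.o,.e,.e,.n,.o,.n,.e⟩⟩,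
   ⟨⟨.e,.o,.o,.o,.o,.o,.o⟩,⟨.e,.n,.e,.o,.o,.o,.o⟩,⟨.e,.e,.e,.o,.o,.o,.o⟩,⟨.e,.n,.o,.e,.o,.o,.o⟩,⟨.n,.o,.n,.n,.n,.e,.o⟩,⟨.e,.e,.n,.n,.e,.e,.o⟩,⟨.o,.n,.n,.n,.n,.o,.e⟩⟩,
   ⟨⟨.e,.o,.o,.o,.o,.o,.o⟩,⟨.e,.o,.e,.o,.o,.o,.o⟩,⟨.e,.n,.n,.o,.o,.o,.o⟩,⟨.e,.n,.e,.e,.o,.o,.o⟩,⟨.n,.n,.o,.n,.o,.e,.o⟩,⟨.n,.o,.n,.n,.n,.n,.o⟩,⟨.e,.e,.n,.n,.n,.e,.e⟩⟩,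
   ⟨⟨.e,.o,.o,.o,.o,.o,.o⟩,⟨.e,.e,.o,.o,.o,.o,.o⟩,⟨.e,.o,.e,.o,.o,.o,.o⟩,⟨.e,.n,.e,.e,.o,.o,.o⟩,⟨.n,.e,.e,.n,.e,.o,.o⟩,⟨.n,.n,.o,.n,.o,.e,.o⟩,⟨.e,.e,.n,.n,.n,.e,.e⟩⟩,
   ⟨⟨.e,.o,.o,.o,.o,.o,.o⟩,⟨.e,.e,.o,.o,.o,.o,.o⟩,⟨.e,.e,.e,.o,.o,.o,.o⟩,⟨.e,.o,.e,.e,.o,.o,.o⟩,⟨.n,.n,.e,.n,.e,.o,.o⟩,⟨.n,.n,.o,.n,.e,.e,.o⟩,⟨.e,.o,.n,.n,.o,.e,.e⟩⟩,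
   ⟨⟨.e,.o,.o,.o,.o,.o,.o⟩,⟨.e,.e,.o,.o,.o,.o,.o⟩,⟨.e,.n,.e,.o,.o,.o,.o⟩,⟨.e,.e,.e,.e,.o,.o,.o⟩,⟨.n,.o,.e,.n,.e,.o,.o⟩,⟨.n,.n,.o,.n,.n,.e,.o⟩,⟨.e,.n,.n,.n,.e,.e,.e⟩⟩,
   ⟨⟨.e,.o,.o,.o,.o,.o,.o⟩,⟨.e,.o,.n,.o,.o,.o,.o⟩,⟨.e,.e,.n,.o,.o,.o,.o⟩,⟨.n,.e,.o,.e,.o,.o,.o⟩,⟨.o,.e,.n,.n,.o,.n,.o⟩,⟨.o,.n,.n,.n,.e,.n,.o⟩,⟨.e,.n,.o,.e,.e,.o,.e⟩⟩,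
   ⟨⟨.e,.n,.o,.o,.o,.o,.o⟩,⟨.e,.o,.o,.o,.o,.o,.o⟩,⟨.e,.n,.e,.e,.e,.o,.o⟩,⟨.n,.o,.e,.n,.o,.o,.o⟩,⟨.o,.o,.e,.o,.o,.o,.o⟩,⟨.o,.n,.n,.e,.o,.e,.n⟩,⟨.e,.o,.n,.o,.o,.e,.o⟩⟩,
   ⟨⟨.e,.n,.o,.o,.o,.o,.o⟩,⟨.e,.o,.o,.o,.o,.o,.o⟩,⟨.e,.o,.e,.e,.e,.o,.o⟩,⟨.n,.e,.e,.n,.o,.o,.o⟩,⟨.o,.e,.e,.o,.o,.o,.o⟩,⟨.o,.e,.n,.e,.e,.e,.n⟩,⟨.e,.n,.n,.o,.e,.e,.o⟩⟩,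
   ⟨⟨.e,.n,.o,.o,.o,.o,.o⟩,⟨.e,.o,.o,.o,.o,.o,.o⟩,⟨.e,.e,.e,.e,.e,.o,.o⟩,⟨.n,.n,.e,.n,.o,.o,.o⟩,⟨.o,.n,.e,.o,.o,.o,.o⟩,⟨.o,.o,.n,.e,.n,.e,.n⟩,⟨.e,.e,.n,.o,.n,.e,.o⟩⟩]

/-- part 31 -/
def repPart31 : List M7 :=
  [⟨⟨.n,.o,.o,.o,.o,.o,.o⟩,⟨.n,.o,.n,.o,.o,.o,.o⟩,⟨.n,.n,.o,.o,.o,.o,.o⟩,⟨.e,.n,.e,.e,.o,.o,.o⟩,⟨.o,.n,.o,.n,.o,.e,.o⟩,⟨.n,.e,.e,.n,.e,.o,.o⟩,⟨.e,.e,.e,.e,.e,.n,.n⟩⟩,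
   ⟨⟨.e,.n,.o,.o,.e,.o,.o⟩,⟨.e,.e,.o,.o,.e,.o,.o⟩,⟨.e,.n,.n,.n,.o,.o,.e⟩,⟨.n,.n,.n,.o,.o,.o,.e⟩,⟨.o,.o,.n,.e,.n,.o,.e⟩,⟨.e,.o,.e,.o,.o,.n,.o⟩,⟨.n,.n,.e,.n,.o,.n,.e⟩⟩,
   ⟨⟨.e,.e,.o,.o,.o,.o,.o⟩,⟨.e,.o,.e,.n,.e,.o,.o⟩,⟨.e,.o,.o,.o,.o,.o,.o⟩,⟨.n,.n,.n,.n,.o,.o,.o⟩,⟨.o,.n,.o,.n,.e,.e,.e⟩,⟨.e,.o,.n,.o,.o,.o,.o⟩,⟨.n,.e,.n,.n,.o,.n,.o⟩⟩,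
   ⟨⟨.e,.e,.o,.o,.o,.o,.o⟩,⟨.e,.o,.e,.n,.e,.o,.o⟩,⟨.e,.n,.e,.n,.e,.o,.o⟩,⟨.n,.e,.o,.e,.e,.o,.o⟩,⟨.o,.e,.e,.e,.n,.e,.e⟩,⟨.e,.e,.e,.e,.e,.e,.e⟩,⟨.n,.n,.e,.o,.e,.o,.e⟩⟩,
   ⟨⟨.e,.o,.o,.o,.o,.o,.o⟩,⟨.e,.o,.n,.o,.o,.o,.o⟩,⟨.e,.e,.e,.o,.o,.o,.o⟩,⟨.n,.e,.n,.e,.o,.o,.o⟩,⟨.o,.e,.e,.n,.o,.n,.o⟩,⟨.n,.n,.o,.n,.e,.e,.o⟩,⟨.o,.n,.n,.e,.e,.n,.e⟩⟩,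
   ⟨⟨.e,.o,.o,.o,.o,.o,.o⟩,⟨.e,.e,.e,.o,.o,.o,.o⟩,⟨.e,.o,.e,.o,.o,.o,.o⟩,⟨.n,.n,.o,.e,.o,.o,.o⟩,⟨.o,.o,.e,.n,.e,.e,.o⟩,⟨.n,.n,.e,.n,.o,.e,.o⟩,⟨.o,.o,.n,.e,.n,.o,.e⟩⟩,
   ⟨⟨.e,.o,.e,.o,.o,.o,.o⟩,⟨.e,.n,.e,.n,.o,.e,.o⟩,⟨.e,.n,.o,.n,.o,.e,.o⟩,⟨.n,.o,.e,.e,.o,.e,.o⟩,⟨.o,.n,.n,.e,.n,.o,.e⟩,⟨.n,.n,.o,.e,.n,.n,.e⟩,⟨.o,.e,.e,.n,.o,.n,.e⟩⟩,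
   ⟨⟨.e,.o,.o,.o,.o,.o,.o⟩,⟨.e,.n,.e,.o,.o,.o,.o⟩,⟨.e,.e,.e,.o,.o,.o,.o⟩,⟨.n,.n,.o,.e,.o,.o,.o⟩,⟨.o,.e,.e,.n,.n,.e,.o⟩,⟨.n,.o,.e,.n,.e,.e,.o⟩,⟨.o,.n,.n,.e,.n,.o,.e⟩⟩,
   ⟨⟨.e,.o,.o,.o,.o,.o,.o⟩,⟨.e,.o,.e,.o,.o,.o,.o⟩,⟨.e,.n,.e,.o,.o,.o,.o⟩,⟨.n,.n,.o,.e,.o,.o,.o⟩,⟨.e,.n,.e,.n,.o,.e,.o⟩,⟨.o,.e,.e,.n,.n,.e,.o⟩,⟨.o,.n,.n,.e,.n,.o,.e⟩⟩,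
   ⟨⟨.e,.o,.o,.o,.o,.o,.o⟩,⟨.e,.e,.o,.o,.o,.o,.o⟩,⟨.e,.o,.e,.o,.o,.o,.o⟩,⟨.n,.n,.e,.e,.o,.o,.o⟩,⟨.e,.o,.e,.n,.e,.o,.o⟩,⟨.o,.n,.n,.n,.o,.e,.o⟩,⟨.o,.e,.e,.e,.n,.e,.e⟩⟩,
   ⟨⟨.n,.o,.o,.o,.o,.o,.o⟩,⟨.n,.n,.o,.o,.o,.o,.o⟩,⟨.n,.n,.e,.o,.o,.o,.o⟩,⟨.e,.o,.e,.e,.o,.o,.o⟩,⟨.n,.n,.e,.n,.e,.o,.o⟩,⟨.o,.n,.n,.n,.e,.n,.o⟩,⟨.o,.e,.e,.e,.o,.n,.n⟩⟩,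
   ⟨⟨.e,.o,.o,.o,.o,.o,.o⟩,⟨.e,.n,.e,.o,.o,.o,.o⟩,⟨.e,.e,.e,.o,.o,.o,.o⟩,⟨.n,.n,.o,.e,.o,.o,.o⟩,⟨.e,.e,.e,.n,.n,.e,.o⟩,⟨.o,.o,.e,.n,.e,.e,.o⟩,⟨.o,.o,.n,.e,.n,.o,.e⟩⟩,
   ⟨⟨.e,.o,.o,.o,.o,.o,.o⟩,⟨.e,.o,.e,.o,.o,.o,.o⟩,⟨.e,.n,.n,.o,.o,.o,.o⟩,⟨.n,.n,.e,.e,.o,.o,.o⟩,⟨.e,.n,.n,.n,.o,.e,.o⟩,⟨.e,.e,.o,.n,.n,.n,.o⟩,⟨.e,.n,.e,.e,.n,.e,.e⟩⟩,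
   ⟨⟨.e,.o,.o,.o,.o,.o,.o⟩,⟨.e,.n,.e,.o,.o,.o,.o⟩,⟨.e,.o,.n,.o,.o,.o,.o⟩,⟨.n,.e,.e,.e,.o,.o,.o⟩,⟨.e,.o,.n,.n,.n,.e,.o⟩,⟨.e,.e,.o,.n,.o,.n,.o⟩,⟨.e,.e,.e,.e,.e,.e,.e⟩⟩,
   ⟨⟨.e,.o,.o,.o,.o,.o,.o⟩,⟨.e,.e,.o,.o,.o,.o,.o⟩,⟨.e,.e,.e,.o,.o,.o,.o⟩,⟨.n,.o,.e,.e,.o,.o,.o⟩,⟨.e,.e,.e,.n,.e,.o,.o⟩,⟨.e,.e,.n,.n,.e,.e,.o⟩,⟨.e,.o,.e,.e,.o,.e,.e⟩⟩,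
   ⟨⟨.n,.e,.o,.o,.o,.o,.o⟩,⟨.n,.o,.o,.o,.o,.o,.o⟩,⟨.n,.n,.e,.e,.e,.o,.o⟩,⟨.e,.e,.e,.n,.o,.o,.o⟩,⟨.n,.n,.e,.o,.o,.o,.o⟩,⟨.n,.e,.n,.e,.n,.n,.e⟩,⟨.n,.o,.e,.n,.e,.n,.o⟩⟩,
   ⟨⟨.e,.o,.o,.o,.o,.o,.o⟩,⟨.e,.o,.e,.o,.o,.o,.o⟩,⟨.e,.n,.o,.o,.o,.o,.o⟩,⟨.n,.n,.n,.e,.o,.o,.o⟩,⟨.e,.n,.o,.n,.o,.e,.o⟩,⟨.n,.e,.n,.n,.n,.o,.o⟩,⟨.n,.n,.o,.e,.n,.n,.e⟩⟩,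
   ⟨⟨.n,.e,.o,.o,.o,.o,.o⟩,⟨.n,.o,.o,.o,.o,.o,.o⟩,⟨.n,.e,.e,.e,.e,.o,.o⟩,⟨.e,.o,.e,.n,.o,.o,.o⟩,⟨.n,.e,.e,.o,.o,.o,.o⟩,⟨.e,.o,.n,.e,.o,.n,.e⟩,⟨.e,.n,.e,.n,.n,.n,.o⟩⟩,
   ⟨⟨.e,.o,.o,.o,.o,.o,.o⟩,⟨.e,.n,.e,.o,.o,.o,.o⟩,⟨.e,.n,.o,.o,.o,.o,.o⟩,⟨.n,.o,.n,.e,.o,.o,.o⟩,⟨.e,.n,.o,.n,.n,.e,.o⟩,⟨.n,.n,.n,.n,.n,.o,.o⟩,⟨.n,.n,.o,.e,.o,.n,.e⟩⟩,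
   ⟨⟨.n,.o,.o,.o,.o,.o,.o⟩,⟨.n,.n,.o,.o,.o,.o,.o⟩,⟨.n,.e,.e,.o,.o,.o,.o⟩,⟨.e,.n,.e,.e,.o,.o,.o⟩,⟨.n,.e,.e,.n,.e,.o,.o⟩,⟨.e,.o,.n,.n,.n,.n,.o⟩,⟨.e,.e,.e,.e,.e,.n,.n⟩⟩,
   ⟨⟨.e,.e,.o,.o,.o,.o,.o⟩,⟨.e,.e,.e,.n,.e,.o,.o⟩,⟨.e,.o,.e,.n,.e,.o,.o⟩,⟨.n,.e,.o,.e,.e,.o,.o⟩,⟨.n,.e,.e,.e,.o,.e,.e⟩,⟨.o,.e,.e,.e,.n,.e,.e⟩,⟨.n,.n,.e,.o,.e,.o,.e⟩⟩,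
   ⟨⟨.n,.o,.o,.o,.o,.o,.o⟩,⟨.n,.e,.e,.o,.o,.o,.o⟩,⟨.n,.o,.n,.o,.o,.o,.o⟩,⟨.e,.n,.e,.e,.o,.o,.o⟩,⟨.e,.o,.n,.n,.n,.n,.o⟩,⟨.o,.n,.o,.n,.o,.e,.o⟩,⟨.e,.e,.e,.e,.e,.n,.n⟩⟩,
   ⟨⟨.e,.o,.o,.o,.o,.o,.o⟩,⟨.e,.e,.e,.o,.o,.o,.o⟩,⟨.e,.e,.n,.o,.o,.o,.o⟩,⟨.n,.o,.e,.e,.o,.o,.o⟩,⟨.n,.e,.n,.n,.e,.e,.o⟩,⟨.o,.e,.o,.n,.e,.n,.o⟩,⟨.n,.e,.e,.e,.o,.e,.e⟩⟩,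
   ⟨⟨.e,.n,.o,.o,.o,.o,.o⟩,⟨.e,.o,.o,.o,.o,.o,.o⟩,⟨.e,.e,.e,.e,.e,.o,.o⟩,⟨.n,.n,.e,.n,.o,.o,.o⟩,⟨.n,.o,.e,.o,.o,.o,.o⟩,⟨.o,.o,.n,.e,.n,.e,.n⟩,⟨.n,.n,.o,.e,.o,.e,.o⟩⟩,
   ⟨⟨.e,.o,.o,.o,.o,.o,.o⟩,⟨.e,.o,.e,.o,.o,.o,.o⟩,⟨.e,.n,.e,.o,.o,.o,.o⟩,⟨.n,.n,.o,.e,.o,.o,.o⟩,⟨.n,.n,.e,.n,.o,.e,.o⟩,⟨.e,.e,.e,.n,.n,.e,.o⟩,⟨.o,.o,.n,.e,.n,.o,.e⟩⟩,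
   ⟨⟨.e,.o,.o,.o,.o,.o,.o⟩,⟨.e,.e,.e,.o,.o,.o,.o⟩,⟨.e,.o,.e,.o,.o,.o,.o⟩,⟨.n,.n,.o,.e,.o,.o,.o⟩,⟨.n,.o,.e,.n,.e,.e,.o⟩,⟨.e,.n,.e,.n,.o,.e,.o⟩,⟨.o,.n,.n,.e,.n,.o,.e⟩⟩,
   ⟨⟨.e,.o,.e,.o,.o,.o,.o⟩,⟨.e,.n,.o,.n,.o,.e,.o⟩,⟨.e,.n,.n,.n,.o,.e,.o⟩,⟨.n,.o,.e,.e,.o,.e,.o⟩,⟨.n,.n,.o,.e,.n,.n,.e⟩,⟨.e,.n,.e,.e,.n,.e,.e⟩,⟨.o,.e,.e,.n,.o,.n,.e⟩⟩,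
   ⟨⟨.e,.o,.o,.o,.o,.o,.o⟩,⟨.e,.e,.e,.o,.o,.o,.o⟩,⟨.e,.n,.o,.o,.o,.o,.o⟩,⟨.n,.e,.n,.e,.o,.o,.o⟩,⟨.n,.n,.o,.n,.e,.e,.o⟩,⟨.e,.o,.n,.n,.n,.o,.o⟩,⟨.o,.n,.n,.e,.e,.n,.e⟩⟩,
   ⟨⟨.e,.o,.e,.o,.o,.o,.o⟩,⟨.e,.o,.n,.o,.o,.o,.o⟩,⟨.e,.n,.o,.n,.o,.e,.o⟩,⟨.n,.n,.o,.o,.o,.n,.o⟩,⟨.n,.n,.e,.e,.o,.e,.o⟩,⟨.n,.e,.n,.o,.n,.o,.e⟩,⟨.e,.o,.e,.e,.n,.n,.n⟩⟩,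
   ⟨⟨.e,.e,.o,.o,.o,.o,.o⟩,⟨.e,.n,.o,.o,.o,.o,.o⟩,⟨.e,.e,.e,.n,.e,.o,.o⟩,⟨.n,.e,.e,.o,.n,.o,.o⟩,⟨.n,.n,.e,.e,.e,.o,.o⟩,⟨.n,.e,.n,.o,.e,.e,.e⟩,⟨.e,.e,.o,.e,.o,.e,.n⟩⟩,
   ⟨⟨.n,.e,.o,.o,.o,.o,.o⟩,⟨.n,.o,.o,.o,.o,.o,.o⟩,⟨.n,.o,.e,.e,.e,.o,.o⟩,⟨.e,.n,.e,.n,.o,.o,.o⟩,⟨.e,.e,.e,.o,.o,.o,.o⟩,⟨.e,.e,.n,.e,.e,.n,.e⟩,⟨.n,.e,.o,.e,.n,.n,.o⟩⟩,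
   ⟨⟨.n,.e,.o,.o,.o,.o,.o⟩,⟨.n,.o,.o,.o,.o,.o,.o⟩,⟨.n,.n,.e,.e,.e,.o,.o⟩,⟨.e,.e,.e,.n,.o,.o,.o⟩,⟨.e,.o,.e,.o,.o,.o,.o⟩,⟨.e,.n,.n,.e,.n,.n,.e⟩,⟨.n,.e,.o,.e,.o,.n,.o⟩⟩]

/-- part 32 -/
def repPart32 : List M7 :=
  [⟨⟨.e,.o,.o,.o,.o,.o,.o⟩,⟨.e,.o,.e,.o,.o,.o,.o⟩,⟨.n,.n,.e,.o,.o,.o,.o⟩,⟨.o,.n,.n,.e,.o,.o,.o⟩,⟨.o,.n,.n,.n,.o,.e,.o⟩,⟨.o,.e,.e,.e,.n,.e,.o⟩,⟨.o,.o,.o,.o,.n,.n,.e⟩⟩,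
   ⟨⟨.e,.o,.o,.o,.o,.o,.o⟩,⟨.e,.e,.o,.o,.o,.o,.o⟩,⟨.n,.o,.e,.o,.o,.o,.o⟩,⟨.o,.e,.e,.e,.o,.o,.o⟩,⟨.o,.e,.e,.n,.e,.o,.o⟩,⟨.o,.n,.n,.e,.o,.e,.o⟩,⟨.o,.o,.o,.o,.e,.e,.e⟩⟩,
   ⟨⟨.e,.o,.o,.o,.o,.o,.o⟩,⟨.e,.n,.e,.o,.o,.o,.o⟩,⟨.n,.n,.o,.o,.o,.o,.o⟩,⟨.o,.e,.e,.e,.o,.o,.o⟩,⟨.o,.e,.e,.n,.n,.e,.o⟩,⟨.o,.n,.n,.e,.n,.o,.o⟩,⟨.o,.o,.o,.o,.e,.e,.e⟩⟩,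
   ⟨⟨.e,.o,.o,.o,.o,.o,.o⟩,⟨.e,.e,.o,.o,.o,.o,.o⟩,⟨.n,.n,.e,.o,.o,.o,.o⟩,⟨.o,.o,.e,.e,.o,.o,.o⟩,⟨.o,.o,.e,.n,.e,.o,.o⟩,⟨.o,.o,.n,.e,.n,.e,.o⟩,⟨.o,.o,.o,.o,.o,.e,.e⟩⟩,
   ⟨⟨.e,.o,.e,.o,.o,.o,.o⟩,⟨.e,.o,.n,.o,.o,.o,.o⟩,⟨.n,.n,.e,.n,.o,.e,.o⟩,⟨.o,.n,.o,.o,.o,.n,.o⟩,⟨.o,.n,.o,.e,.o,.e,.o⟩,⟨.e,.e,.e,.n,.n,.n,.e⟩,⟨.e,.o,.n,.o,.n,.o,.n⟩⟩,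
   ⟨⟨.e,.o,.o,.o,.o,.o,.o⟩,⟨.e,.e,.o,.o,.o,.o,.o⟩,⟨.n,.o,.e,.o,.o,.o,.o⟩,⟨.o,.e,.e,.e,.o,.o,.o⟩,⟨.o,.e,.e,.n,.e,.o,.o⟩,⟨.e,.n,.n,.e,.o,.e,.o⟩,⟨.e,.e,.o,.o,.e,.e,.e⟩⟩,
   ⟨⟨.e,.e,.o,.o,.o,.o,.o⟩,⟨.e,.n,.o,.o,.o,.o,.o⟩,⟨.n,.o,.e,.n,.e,.o,.o⟩,⟨.o,.n,.e,.o,.n,.o,.o⟩,⟨.o,.n,.e,.e,.e,.o,.o⟩,⟨.e,.n,.n,.n,.e,.e,.e⟩,⟨.e,.n,.o,.o,.n,.e,.n⟩⟩,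
   ⟨⟨.e,.e,.o,.o,.o,.o,.o⟩,⟨.e,.n,.o,.o,.o,.o,.o⟩,⟨.n,.e,.e,.n,.e,.o,.o⟩,⟨.o,.o,.e,.o,.n,.o,.o⟩,⟨.o,.o,.e,.e,.e,.o,.o⟩,⟨.e,.e,.n,.n,.n,.e,.e⟩,⟨.e,.n,.o,.o,.o,.e,.n⟩⟩,
   ⟨⟨.e,.o,.o,.o,.o,.o,.o⟩,⟨.e,.o,.e,.o,.o,.o,.o⟩,⟨.n,.n,.n,.o,.o,.o,.o⟩,⟨.o,.n,.o,.e,.o,.o,.o⟩,⟨.o,.n,.o,.n,.o,.e,.o⟩,⟨.n,.e,.o,.e,.n,.n,.o⟩,⟨.n,.o,.n,.o,.n,.o,.e⟩⟩,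
   ⟨⟨.e,.e,.o,.o,.o,.o,.o⟩,⟨.e,.n,.o,.o,.o,.o,.o⟩,⟨.n,.n,.e,.n,.e,.o,.o⟩,⟨.o,.e,.e,.o,.n,.o,.o⟩,⟨.o,.e,.e,.e,.e,.o,.o⟩,⟨.n,.e,.n,.n,.o,.e,.e⟩,⟨.n,.e,.o,.o,.e,.e,.n⟩⟩,
   ⟨⟨.e,.o,.o,.o,.o,.o,.o⟩,⟨.e,.e,.o,.o,.o,.o,.o⟩,⟨.n,.e,.e,.o,.o,.o,.o⟩,⟨.o,.n,.e,.e,.o,.o,.o⟩,⟨.o,.n,.e,.n,.e,.o,.o⟩,⟨.n,.e,.n,.e,.e,.e,.o⟩,⟨.n,.n,.o,.o,.n,.e,.e⟩⟩,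
   ⟨⟨.n,.o,.o,.o,.o,.o,.o⟩,⟨.n,.n,.o,.o,.o,.o,.o⟩,⟨.e,.e,.e,.o,.o,.o,.o⟩,⟨.o,.o,.e,.e,.o,.o,.o⟩,⟨.o,.o,.e,.n,.e,.o,.o⟩,⟨.e,.o,.n,.e,.n,.n,.o⟩,⟨.e,.e,.o,.o,.o,.n,.n⟩⟩,
   ⟨⟨.n,.o,.o,.o,.o,.o,.o⟩,⟨.n,.o,.n,.o,.o,.o,.o⟩,⟨.e,.n,.o,.o,.o,.o,.o⟩,⟨.o,.n,.n,.e,.o,.o,.o⟩,⟨.n,.n,.n,.n,.o,.e,.o⟩,⟨.o,.e,.e,.e,.e,.o,.o⟩,⟨.n,.e,.o,.o,.e,.e,.n⟩⟩,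
   ⟨⟨.n,.e,.o,.o,.o,.o,.o⟩,⟨.n,.o,.e,.e,.e,.o,.o⟩,⟨.e,.n,.e,.e,.e,.o,.o⟩,⟨.o,.n,.n,.o,.e,.o,.o⟩,⟨.n,.o,.n,.e,.e,.n,.e⟩,⟨.o,.e,.e,.n,.o,.n,.e⟩,⟨.n,.e,.n,.n,.o,.e,.e⟩⟩,
   ⟨⟨.e,.o,.o,.o,.o,.o,.o⟩,⟨.e,.n,.e,.o,.o,.o,.o⟩,⟨.n,.n,.o,.o,.o,.o,.o⟩,⟨.o,.e,.e,.e,.o,.o,.o⟩,⟨.e,.e,.e,.n,.n,.e,.o⟩,⟨.o,.n,.n,.e,.n,.o,.o⟩,⟨.e,.e,.o,.o,.e,.e,.e⟩⟩,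
   ⟨⟨.n,.e,.o,.o,.o,.o,.o⟩,⟨.n,.n,.e,.e,.e,.o,.o⟩,⟨.e,.e,.e,.e,.e,.o,.o⟩,⟨.o,.o,.n,.o,.e,.o,.o⟩,⟨.n,.e,.n,.e,.n,.n,.e⟩,⟨.o,.o,.e,.n,.e,.n,.e⟩,⟨.n,.n,.n,.n,.n,.e,.e⟩⟩,
   ⟨⟨.e,.o,.o,.o,.o,.o,.o⟩,⟨.e,.o,.n,.o,.o,.o,.o⟩,⟨.n,.e,.e,.o,.o,.o,.o⟩,⟨.o,.e,.o,.e,.o,.o,.o⟩,⟨.e,.e,.o,.n,.o,.n,.o⟩,⟨.e,.n,.o,.e,.e,.e,.o⟩,⟨.n,.n,.e,.o,.e,.o,.e⟩⟩,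
   ⟨⟨.n,.e,.o,.o,.o,.o,.o⟩,⟨.n,.o,.e,.e,.e,.o,.o⟩,⟨.e,.n,.e,.e,.e,.o,.o⟩,⟨.o,.n,.n,.o,.e,.o,.o⟩,⟨.n,.o,.n,.e,.e,.n,.e⟩,⟨.n,.n,.e,.n,.o,.n,.e⟩,⟨.e,.e,.o,.o,.e,.e,.e⟩⟩,
   ⟨⟨.e,.o,.o,.o,.o,.o,.o⟩,⟨.e,.e,.e,.o,.o,.o,.o⟩,⟨.n,.e,.n,.o,.o,.o,.o⟩,⟨.o,.n,.o,.e,.o,.o,.o⟩,⟨.e,.n,.o,.n,.e,.e,.o⟩,⟨.e,.e,.o,.e,.e,.n,.o⟩,⟨.n,.o,.n,.o,.n,.o,.e⟩⟩,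
   ⟨⟨.n,.n,.o,.o,.o,.o,.o⟩,⟨.n,.e,.o,.o,.o,.o,.o⟩,⟨.e,.n,.e,.n,.e,.o,.o⟩,⟨.o,.o,.e,.o,.n,.o,.o⟩,⟨.n,.n,.e,.e,.e,.o,.o⟩,⟨.n,.n,.n,.n,.n,.n,.n⟩,⟨.e,.n,.n,.e,.n,.n,.e⟩⟩,
   ⟨⟨.n,.o,.e,.o,.o,.e,.o⟩,⟨.n,.o,.o,.o,.o,.e,.o⟩,⟨.e,.n,.n,.e,.o,.o,.e⟩,⟨.o,.n,.n,.n,.o,.o,.e⟩,⟨.n,.n,.o,.o,.o,.e,.e⟩,⟨.e,.e,.o,.o,.e,.o,.o⟩,⟨.o,.e,.e,.n,.e,.o,.n⟩⟩,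
   ⟨⟨.e,.e,.o,.o,.o,.o,.o⟩,⟨.e,.n,.o,.o,.o,.o,.o⟩,⟨.n,.n,.e,.n,.e,.o,.o⟩,⟨.o,.e,.e,.o,.n,.o,.o⟩,⟨.e,.n,.e,.e,.e,.o,.o⟩,⟨.n,.e,.n,.n,.o,.e,.e⟩,⟨.o,.n,.n,.e,.o,.e,.n⟩⟩,
   ⟨⟨.e,.e,.o,.o,.o,.o,.o⟩,⟨.e,.n,.o,.o,.o,.o,.o⟩,⟨.n,.o,.e,.n,.e,.o,.o⟩,⟨.o,.n,.e,.o,.n,.o,.o⟩,⟨.e,.o,.e,.e,.e,.o,.o⟩,⟨.n,.o,.n,.n,.e,.e,.e⟩,⟨.o,.e,.n,.e,.e,.e,.n⟩⟩,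
   ⟨⟨.e,.e,.o,.o,.o,.o,.o⟩,⟨.e,.n,.o,.o,.o,.o,.o⟩,⟨.n,.e,.e,.n,.e,.o,.o⟩,⟨.o,.o,.e,.o,.n,.o,.o⟩,⟨.e,.e,.e,.e,.e,.o,.o⟩,⟨.n,.n,.n,.n,.n,.e,.e⟩,⟨.o,.o,.n,.e,.n,.e,.n⟩⟩,
   ⟨⟨.e,.o,.o,.o,.o,.o,.o⟩,⟨.e,.o,.e,.o,.o,.o,.o⟩,⟨.n,.n,.n,.o,.o,.o,.o⟩,⟨.o,.n,.o,.e,.o,.o,.o⟩,⟨.n,.n,.o,.n,.o,.e,.o⟩,⟨.o,.e,.o,.e,.n,.n,.o⟩,⟨.n,.n,.n,.o,.n,.o,.e⟩⟩,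
   ⟨⟨.n,.n,.e,.o,.o,.o,.o⟩,⟨.n,.o,.n,.e,.n,.e,.o⟩,⟨.e,.e,.e,.e,.n,.e,.o⟩,⟨.o,.e,.o,.o,.n,.e,.o⟩,⟨.e,.n,.n,.e,.n,.n,.e⟩,⟨.o,.n,.o,.n,.o,.e,.e⟩,⟨.e,.e,.e,.e,.e,.e,.e⟩⟩,
   ⟨⟨.e,.o,.o,.o,.o,.o,.o⟩,⟨.e,.n,.n,.o,.o,.o,.o⟩,⟨.n,.n,.e,.o,.o,.o,.o⟩,⟨.o,.e,.o,.e,.o,.o,.o⟩,⟨.n,.e,.o,.n,.n,.n,.o⟩,⟨.o,.n,.o,.e,.n,.e,.o⟩,⟨.n,.n,.e,.o,.e,.o,.e⟩⟩,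
   ⟨⟨.n,.e,.n,.o,.o,.o,.o⟩,⟨.n,.n,.e,.o,.o,.o,.o⟩,⟨.e,.e,.e,.n,.n,.e,.o⟩,⟨.o,.o,.n,.o,.e,.n,.o⟩,⟨.e,.n,.o,.e,.n,.e,.o⟩,⟨.o,.o,.e,.n,.e,.o,.n⟩,⟨.e,.e,.e,.n,.n,.n,.e⟩⟩,
   ⟨⟨.n,.n,.o,.o,.o,.o,.o⟩,⟨.n,.n,.e,.n,.e,.o,.o⟩,⟨.e,.n,.o,.o,.o,.o,.o⟩,⟨.o,.e,.e,.o,.n,.o,.o⟩,⟨.e,.n,.e,.e,.o,.n,.n⟩,⟨.n,.e,.n,.n,.n,.o,.o⟩,⟨.o,.e,.e,.n,.o,.n,.e⟩⟩,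
   ⟨⟨.n,.e,.o,.o,.o,.o,.o⟩,⟨.n,.o,.e,.e,.e,.o,.o⟩,⟨.e,.n,.e,.e,.e,.o,.o⟩,⟨.o,.n,.n,.o,.e,.o,.o⟩,⟨.e,.e,.n,.e,.e,.n,.e⟩,⟨.n,.n,.e,.n,.o,.n,.e⟩,⟨.o,.n,.n,.n,.o,.e,.e⟩⟩,
   ⟨⟨.n,.n,.o,.o,.o,.o,.o⟩,⟨.n,.e,.o,.o,.o,.o,.o⟩,⟨.e,.o,.e,.n,.e,.o,.o⟩,⟨.o,.e,.e,.o,.n,.o,.o⟩,⟨.e,.n,.e,.e,.e,.o,.o⟩,⟨.n,.e,.n,.n,.e,.n,.n⟩,⟨.o,.e,.e,.n,.o,.n,.e⟩⟩,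
   ⟨⟨.n,.n,.o,.o,.o,.o,.o⟩,⟨.n,.e,.o,.o,.o,.o,.o⟩,⟨.e,.n,.e,.n,.e,.o,.o⟩,⟨.o,.o,.e,.o,.n,.o,.o⟩,⟨.e,.e,.e,.e,.e,.o,.o⟩,⟨.n,.n,.n,.n,.n,.n,.n⟩,⟨.o,.o,.e,.n,.e,.n,.e⟩⟩]

/-- part 33 -/
def repPart33 : List M7 :=
  [⟨⟨.e,.o,.o,.o,.o,.o,.o⟩,⟨.e,.o,.e,.o,.o,.o,.o⟩,⟨.n,.n,.e,.o,.o,.o,.o⟩,⟨.o,.n,.n,.e,.o,.o,.o⟩,⟨.n,.n,.n,.n,.o,.e,.o⟩,⟨.n,.e,.e,.e,.n,.e,.o⟩,⟨.e,.n,.o,.o,.n,.n,.e⟩⟩,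
   ⟨⟨.e,.e,.o,.o,.o,.o,.o⟩,⟨.e,.n,.o,.o,.o,.o,.o⟩,⟨.n,.n,.e,.n,.e,.o,.o⟩,⟨.o,.e,.e,.o,.n,.o,.o⟩,⟨.n,.o,.e,.e,.e,.o,.o⟩,⟨.n,.e,.n,.n,.o,.e,.e⟩,⟨.e,.o,.e,.n,.n,.e,.n⟩⟩,
   ⟨⟨.n,.e,.o,.o,.o,.o,.o⟩,⟨.n,.n,.o,.o,.o,.o,.o⟩,⟨.e,.o,.n,.n,.n,.o,.o⟩,⟨.o,.n,.n,.o,.e,.o,.o⟩,⟨.e,.e,.n,.e,.n,.o,.o⟩,⟨.e,.o,.e,.n,.n,.e,.n⟩,⟨.n,.e,.n,.n,.o,.e,.e⟩⟩,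
   ⟨⟨.n,.e,.o,.o,.o,.o,.o⟩,⟨.n,.n,.e,.e,.e,.o,.o⟩,⟨.e,.e,.e,.e,.e,.o,.o⟩,⟨.o,.o,.n,.o,.e,.o,.o⟩,⟨.e,.n,.n,.e,.n,.n,.e⟩,⟨.e,.n,.e,.n,.e,.n,.e⟩,⟨.n,.n,.o,.o,.o,.e,.e⟩⟩,
   ⟨⟨.e,.n,.o,.o,.o,.o,.o⟩,⟨.e,.n,.e,.e,.e,.o,.o⟩,⟨.n,.o,.n,.n,.n,.o,.o⟩,⟨.e,.e,.o,.e,.n,.o,.o⟩,⟨.o,.n,.n,.e,.o,.e,.n⟩,⟨.o,.n,.e,.n,.n,.n,.e⟩,⟨.e,.e,.o,.n,.o,.o,.e⟩⟩,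
   ⟨⟨.n,.e,.o,.o,.o,.o,.o⟩,⟨.n,.o,.o,.o,.o,.o,.o⟩,⟨.e,.n,.e,.e,.e,.o,.o⟩,⟨.n,.o,.e,.n,.o,.o,.o⟩,⟨.o,.o,.e,.o,.o,.o,.o⟩,⟨.o,.e,.e,.n,.o,.n,.e⟩,⟨.n,.o,.e,.o,.o,.n,.o⟩⟩,
   ⟨⟨.n,.e,.o,.o,.o,.o,.o⟩,⟨.n,.o,.o,.o,.o,.o,.o⟩,⟨.e,.e,.e,.e,.e,.o,.o⟩,⟨.n,.n,.e,.n,.o,.o,.o⟩,⟨.o,.n,.e,.o,.o,.o,.o⟩,⟨.o,.o,.e,.n,.e,.n,.e⟩,⟨.n,.n,.e,.o,.e,.n,.o⟩⟩,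
   ⟨⟨.n,.e,.o,.o,.o,.o,.o⟩,⟨.n,.o,.o,.o,.o,.o,.o⟩,⟨.e,.o,.e,.e,.e,.o,.o⟩,⟨.n,.e,.e,.n,.o,.o,.o⟩,⟨.o,.e,.e,.o,.o,.o,.o⟩,⟨.o,.n,.e,.n,.n,.n,.e⟩,⟨.n,.e,.e,.o,.n,.n,.o⟩⟩,
   ⟨⟨.e,.o,.o,.o,.o,.o,.o⟩,⟨.e,.o,.e,.o,.o,.o,.o⟩,⟨.n,.n,.o,.o,.o,.o,.o⟩,⟨.e,.n,.e,.e,.o,.o,.o⟩,⟨.o,.n,.o,.n,.o,.e,.o⟩,⟨.e,.n,.n,.e,.n,.o,.o⟩,⟨.n,.n,.n,.n,.n,.e,.e⟩⟩,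
   ⟨⟨.n,.n,.o,.o,.e,.o,.o⟩,⟨.n,.e,.o,.o,.e,.o,.o⟩,⟨.e,.e,.e,.n,.o,.o,.e⟩,⟨.n,.e,.e,.o,.o,.o,.e⟩,⟨.o,.o,.e,.e,.e,.o,.e⟩,⟨.n,.o,.e,.o,.o,.n,.o⟩,⟨.e,.n,.e,.e,.o,.n,.n⟩⟩,
   ⟨⟨.n,.n,.o,.o,.e,.o,.o⟩,⟨.n,.e,.o,.o,.e,.o,.o⟩,⟨.e,.o,.e,.n,.o,.o,.e⟩,⟨.n,.o,.e,.o,.o,.o,.e⟩,⟨.o,.n,.e,.e,.e,.o,.e⟩,⟨.n,.n,.e,.o,.e,.n,.o⟩,⟨.e,.e,.e,.e,.e,.n,.n⟩⟩,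
   ⟨⟨.n,.e,.o,.o,.o,.o,.o⟩,⟨.n,.o,.o,.o,.o,.o,.o⟩,⟨.e,.o,.e,.e,.e,.o,.o⟩,⟨.n,.e,.e,.n,.o,.o,.o⟩,⟨.o,.e,.e,.o,.o,.o,.o⟩,⟨.n,.o,.e,.n,.n,.n,.e⟩,⟨.e,.e,.e,.o,.n,.n,.o⟩⟩,
   ⟨⟨.e,.o,.o,.o,.o,.o,.o⟩,⟨.e,.o,.n,.o,.o,.o,.o⟩,⟨.n,.e,.e,.o,.o,.o,.o⟩,⟨.e,.e,.o,.e,.o,.o,.o⟩,⟨.o,.e,.e,.n,.o,.n,.o⟩,⟨.n,.e,.n,.e,.e,.e,.o⟩,⟨.o,.e,.e,.n,.e,.o,.e⟩⟩,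
   ⟨⟨.e,.o,.o,.o,.o,.o,.o⟩,⟨.e,.e,.e,.o,.o,.o,.o⟩,⟨.n,.o,.e,.o,.o,.o,.o⟩,⟨.e,.e,.n,.e,.o,.o,.o⟩,⟨.o,.o,.e,.n,.e,.e,.o⟩,⟨.n,.n,.o,.e,.o,.e,.o⟩,⟨.o,.o,.e,.n,.e,.n,.e⟩⟩,
   ⟨⟨.n,.o,.o,.o,.o,.o,.o⟩,⟨.n,.e,.n,.o,.o,.o,.o⟩,⟨.e,.e,.e,.o,.o,.o,.o⟩,⟨.n,.n,.o,.e,.o,.o,.o⟩,⟨.o,.e,.e,.n,.n,.e,.o⟩,⟨.e,.o,.n,.e,.n,.n,.o⟩,⟨.o,.e,.e,.n,.e,.o,.n⟩⟩,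
   ⟨⟨.e,.o,.o,.o,.o,.o,.o⟩,⟨.e,.n,.e,.o,.o,.o,.o⟩,⟨.n,.e,.e,.o,.o,.o,.o⟩,⟨.e,.o,.n,.e,.o,.o,.o⟩,⟨.o,.e,.e,.n,.n,.e,.o⟩,⟨.n,.n,.o,.e,.e,.e,.o⟩,⟨.o,.e,.e,.n,.o,.n,.e⟩⟩,
   ⟨⟨.n,.n,.n,.e,.n,.o,.o⟩,⟨.n,.n,.e,.n,.e,.o,.o⟩,⟨.e,.o,.e,.e,.o,.e,.e⟩,⟨.n,.e,.e,.n,.e,.n,.n⟩,⟨.n,.e,.n,.n,.o,.e,.e⟩,⟨.o,.n,.e,.n,.n,.n,.e⟩,⟨.e,.e,.o,.n,.o,.o,.e⟩⟩,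
   ⟨⟨.e,.o,.o,.o,.o,.o,.o⟩,⟨.e,.e,.e,.o,.o,.o,.o⟩,⟨.n,.o,.e,.o,.o,.o,.o⟩,⟨.e,.e,.n,.e,.o,.o,.o⟩,⟨.e,.o,.e,.n,.e,.e,.o⟩,⟨.o,.n,.o,.e,.o,.e,.o⟩,⟨.n,.e,.e,.n,.e,.n,.e⟩⟩,
   ⟨⟨.n,.e,.o,.o,.o,.o,.o⟩,⟨.n,.o,.o,.o,.o,.o,.o⟩,⟨.e,.e,.e,.e,.e,.o,.o⟩,⟨.n,.n,.e,.n,.o,.o,.o⟩,⟨.n,.o,.e,.o,.o,.o,.o⟩,⟨.o,.o,.e,.n,.e,.n,.e⟩,⟨.e,.e,.o,.n,.o,.n,.o⟩⟩,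
   ⟨⟨.e,.o,.o,.o,.o,.o,.o⟩,⟨.e,.e,.n,.o,.o,.o,.o⟩,⟨.n,.n,.n,.o,.o,.o,.o⟩,⟨.e,.o,.e,.e,.o,.o,.o⟩,⟨.e,.n,.n,.n,.e,.n,.o⟩,⟨.o,.e,.o,.e,.n,.n,.o⟩,⟨.n,.e,.n,.n,.o,.e,.e⟩⟩,
   ⟨⟨.e,.o,.o,.o,.o,.o,.o⟩,⟨.e,.o,.n,.o,.o,.o,.o⟩,⟨.n,.e,.o,.o,.o,.o,.o⟩,⟨.e,.e,.n,.e,.o,.o,.o⟩,⟨.e,.e,.o,.n,.o,.n,.o⟩,⟨.e,.e,.e,.e,.e,.o,.o⟩,⟨.o,.o,.e,.n,.e,.n,.e⟩⟩,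
   ⟨⟨.n,.e,.o,.o,.o,.o,.o⟩,⟨.n,.n,.e,.e,.e,.o,.o⟩,⟨.e,.n,.n,.n,.n,.o,.o⟩,⟨.n,.n,.o,.e,.n,.o,.o⟩,⟨.n,.e,.n,.e,.n,.n,.e⟩,⟨.n,.o,.e,.n,.o,.e,.n⟩,⟨.o,.n,.n,.e,.n,.o,.n⟩⟩,
   ⟨⟨.e,.o,.o,.o,.o,.o,.o⟩,⟨.e,.e,.e,.o,.o,.o,.o⟩,⟨.n,.e,.n,.o,.o,.o,.o⟩,⟨.e,.n,.o,.e,.o,.o,.o⟩,⟨.e,.e,.n,.n,.e,.e,.o⟩,⟨.e,.o,.e,.e,.e,.n,.o⟩,⟨.o,.n,.n,.n,.n,.o,.e⟩⟩,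
   ⟨⟨.e,.o,.o,.o,.o,.o,.o⟩,⟨.e,.n,.n,.o,.o,.o,.o⟩,⟨.n,.e,.o,.o,.o,.o,.o⟩,⟨.e,.o,.n,.e,.o,.o,.o⟩,⟨.e,.e,.o,.n,.n,.n,.o⟩,⟨.e,.n,.e,.e,.e,.o,.o⟩,⟨.o,.e,.e,.n,.o,.n,.e⟩⟩,
   ⟨⟨.e,.o,.e,.o,.o,.o,.o⟩,⟨.e,.o,.n,.o,.o,.o,.o⟩,⟨.n,.n,.o,.n,.o,.e,.o⟩,⟨.e,.n,.o,.o,.o,.n,.o⟩,⟨.e,.n,.n,.e,.o,.e,.o⟩,⟨.n,.n,.n,.o,.n,.o,.e⟩,⟨.e,.o,.e,.n,.n,.e,.n⟩⟩,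
   ⟨⟨.e,.e,.o,.o,.o,.o,.o⟩,⟨.e,.n,.n,.e,.n,.o,.o⟩,⟨.n,.n,.e,.n,.e,.o,.o⟩,⟨.e,.n,.o,.e,.e,.o,.o⟩,⟨.e,.e,.e,.e,.e,.n,.n⟩,⟨.n,.e,.n,.n,.o,.e,.e⟩,⟨.e,.e,.o,.n,.o,.o,.e⟩⟩,
   ⟨⟨.e,.e,.o,.o,.o,.o,.o⟩,⟨.e,.o,.n,.e,.n,.o,.o⟩,⟨.n,.e,.e,.n,.e,.o,.o⟩,⟨.e,.n,.o,.e,.e,.o,.o⟩,⟨.e,.o,.e,.e,.n,.n,.n⟩,⟨.n,.n,.n,.n,.n,.e,.e⟩,⟨.e,.e,.o,.n,.o,.o,.e⟩⟩,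
   ⟨⟨.n,.n,.n,.o,.o,.o,.o⟩,⟨.n,.e,.e,.o,.o,.o,.o⟩,⟨.e,.n,.o,.n,.e,.e,.o⟩,⟨.n,.n,.o,.o,.n,.n,.o⟩,⟨.n,.o,.e,.e,.e,.e,.o⟩,⟨.e,.o,.e,.o,.e,.o,.n⟩,⟨.n,.n,.n,.n,.n,.e,.e⟩⟩,
   ⟨⟨.n,.o,.o,.o,.o,.o,.o⟩,⟨.n,.o,.n,.o,.o,.o,.o⟩,⟨.e,.n,.e,.o,.o,.o,.o⟩,⟨.n,.n,.o,.e,.o,.o,.o⟩,⟨.e,.n,.e,.n,.o,.e,.o⟩,⟨.o,.n,.n,.e,.e,.n,.o⟩,⟨.o,.e,.e,.n,.e,.o,.n⟩⟩,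
   ⟨⟨.n,.e,.o,.o,.o,.o,.o⟩,⟨.n,.o,.o,.o,.o,.o,.o⟩,⟨.e,.n,.e,.e,.e,.o,.o⟩,⟨.n,.o,.e,.n,.o,.o,.o⟩,⟨.e,.n,.e,.o,.o,.o,.o⟩,⟨.o,.e,.e,.n,.o,.n,.e⟩,⟨.o,.n,.n,.e,.e,.n,.o⟩⟩,
   ⟨⟨.e,.o,.o,.o,.o,.o,.o⟩,⟨.e,.e,.o,.o,.o,.o,.o⟩,⟨.n,.e,.e,.o,.o,.o,.o⟩,⟨.e,.n,.e,.e,.o,.o,.o⟩,⟨.n,.e,.e,.n,.e,.o,.o⟩,⟨.o,.o,.e,.e,.e,.e,.o⟩,⟨.o,.o,.n,.n,.n,.e,.e⟩⟩,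
   ⟨⟨.e,.o,.o,.o,.o,.o,.o⟩,⟨.e,.e,.o,.o,.o,.o,.o⟩,⟨.n,.n,.e,.o,.o,.o,.o⟩,⟨.e,.o,.e,.e,.o,.o,.o⟩,⟨.n,.n,.e,.n,.e,.o,.o⟩,⟨.o,.e,.e,.e,.n,.e,.o⟩,⟨.o,.n,.n,.n,.o,.e,.e⟩⟩]

/-- part 34 -/
def repPart34 : List M7 :=
  [⟨⟨.n,.e,.o,.o,.o,.o,.o⟩,⟨.n,.e,.e,.e,.e,.o,.o⟩,⟨.e,.o,.e,.e,.e,.o,.o⟩,⟨.n,.n,.n,.o,.e,.o,.o⟩,⟨.e,.o,.e,.o,.n,.n,.e⟩,⟨.n,.n,.o,.e,.e,.n,.e⟩,⟨.n,.o,.e,.o,.e,.e,.e⟩⟩,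
   ⟨⟨.e,.o,.o,.o,.o,.o,.o⟩,⟨.e,.e,.o,.o,.o,.o,.o⟩,⟨.n,.o,.e,.o,.o,.o,.o⟩,⟨.e,.e,.e,.e,.o,.o,.o⟩,⟨.n,.o,.e,.n,.e,.o,.o⟩,⟨.e,.n,.e,.e,.o,.e,.o⟩,⟨.e,.n,.n,.n,.e,.e,.e⟩⟩,
   ⟨⟨.e,.o,.o,.o,.o,.o,.o⟩,⟨.e,.e,.o,.o,.o,.o,.o⟩,⟨.n,.e,.e,.o,.o,.o,.o⟩,⟨.e,.n,.e,.e,.o,.o,.o⟩,⟨.n,.e,.e,.n,.e,.o,.o⟩,⟨.e,.o,.e,.e,.e,.e,.o⟩,⟨.e,.e,.n,.n,.n,.e,.e⟩⟩,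
   ⟨⟨.n,.e,.o,.o,.o,.o,.o⟩,⟨.n,.o,.o,.o,.o,.o,.o⟩,⟨.e,.o,.e,.e,.e,.o,.o⟩,⟨.n,.e,.e,.n,.o,.o,.o⟩,⟨.e,.o,.e,.o,.o,.o,.o⟩,⟨.n,.o,.e,.n,.n,.n,.e⟩,⟨.n,.e,.n,.e,.o,.n,.o⟩⟩,
   ⟨⟨.n,.e,.o,.o,.o,.o,.o⟩,⟨.n,.e,.e,.e,.e,.o,.o⟩,⟨.e,.o,.o,.o,.o,.o,.o⟩,⟨.n,.n,.e,.n,.o,.o,.o⟩,⟨.e,.o,.o,.n,.e,.n,.e⟩,⟨.e,.o,.n,.o,.o,.o,.o⟩,⟨.e,.e,.o,.n,.o,.n,.o⟩⟩,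
   ⟨⟨.e,.o,.o,.o,.o,.o,.o⟩,⟨.e,.e,.o,.o,.o,.o,.o⟩,⟨.n,.o,.e,.o,.o,.o,.o⟩,⟨.e,.e,.e,.e,.o,.o,.o⟩,⟨.n,.o,.e,.n,.e,.o,.o⟩,⟨.n,.n,.e,.e,.o,.e,.o⟩,⟨.n,.o,.n,.n,.e,.e,.e⟩⟩,
   ⟨⟨.n,.e,.o,.o,.o,.o,.o⟩,⟨.n,.o,.o,.o,.o,.o,.o⟩,⟨.e,.e,.e,.e,.e,.o,.o⟩,⟨.n,.n,.e,.n,.o,.o,.o⟩,⟨.e,.e,.e,.o,.o,.o,.o⟩,⟨.e,.n,.e,.n,.e,.n,.e⟩,⟨.e,.o,.n,.e,.n,.n,.o⟩⟩,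
   ⟨⟨.e,.o,.o,.o,.o,.o,.o⟩,⟨.e,.e,.o,.o,.o,.o,.o⟩,⟨.n,.n,.e,.o,.o,.o,.o⟩,⟨.e,.o,.e,.e,.o,.o,.o⟩,⟨.n,.n,.e,.n,.e,.o,.o⟩,⟨.n,.e,.e,.e,.n,.e,.o⟩,⟨.n,.e,.n,.n,.o,.e,.e⟩⟩,
   ⟨⟨.e,.o,.n,.o,.o,.o,.o⟩,⟨.e,.o,.o,.o,.o,.o,.o⟩,⟨.n,.n,.o,.e,.o,.e,.o⟩,⟨.n,.n,.e,.n,.o,.o,.o⟩,⟨.o,.n,.e,.o,.o,.o,.o⟩,⟨.o,.o,.n,.e,.n,.e,.n⟩,⟨.e,.e,.n,.o,.n,.e,.o⟩⟩,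
   ⟨⟨.e,.n,.o,.o,.o,.o,.o⟩,⟨.e,.o,.o,.o,.o,.o,.o⟩,⟨.n,.e,.e,.e,.e,.o,.o⟩,⟨.n,.n,.e,.n,.o,.o,.o⟩,⟨.o,.n,.e,.o,.o,.o,.o⟩,⟨.o,.n,.o,.e,.n,.e,.n⟩,⟨.e,.e,.n,.o,.n,.e,.o⟩⟩,
   ⟨⟨.e,.n,.n,.o,.o,.o,.o⟩,⟨.e,.o,.o,.o,.o,.o,.o⟩,⟨.n,.n,.o,.e,.e,.e,.o⟩,⟨.n,.o,.e,.n,.o,.o,.o⟩,⟨.o,.o,.e,.o,.o,.o,.o⟩,⟨.o,.n,.n,.e,.o,.e,.n⟩,⟨.e,.o,.n,.o,.o,.e,.o⟩⟩,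
   ⟨⟨.e,.o,.o,.o,.o,.o,.o⟩,⟨.e,.n,.n,.o,.o,.o,.o⟩,⟨.n,.e,.o,.o,.o,.o,.o⟩,⟨.n,.o,.n,.e,.o,.o,.o⟩,⟨.o,.n,.e,.n,.n,.n,.o⟩,⟨.o,.e,.e,.e,.e,.o,.o⟩,⟨.e,.o,.e,.e,.o,.n,.e⟩⟩,
   ⟨⟨.e,.o,.o,.o,.o,.o,.o⟩,⟨.e,.o,.n,.o,.o,.o,.o⟩,⟨.n,.e,.e,.o,.o,.o,.o⟩,⟨.n,.e,.o,.e,.o,.o,.o⟩,⟨.o,.e,.n,.n,.o,.n,.o⟩,⟨.e,.o,.e,.e,.e,.e,.o⟩,⟨.n,.n,.n,.e,.e,.o,.e⟩⟩,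
   ⟨⟨.e,.o,.o,.o,.o,.o,.o⟩,⟨.e,.e,.e,.o,.o,.o,.o⟩,⟨.n,.o,.e,.o,.o,.o,.o⟩,⟨.n,.e,.n,.e,.o,.o,.o⟩,⟨.o,.n,.o,.n,.e,.e,.o⟩,⟨.e,.n,.n,.e,.o,.e,.o⟩,⟨.n,.o,.n,.e,.e,.n,.e⟩⟩,
   ⟨⟨.e,.o,.o,.o,.o,.o,.o⟩,⟨.e,.e,.n,.o,.o,.o,.o⟩,⟨.n,.e,.o,.o,.o,.o,.o⟩,⟨.n,.n,.n,.e,.o,.o,.o⟩,⟨.o,.o,.e,.n,.e,.n,.o⟩,⟨.e,.n,.e,.e,.e,.o,.o⟩,⟨.n,.n,.o,.e,.n,.n,.e⟩⟩,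
   ⟨⟨.n,.o,.o,.o,.o,.o,.o⟩,⟨.n,.e,.e,.o,.o,.o,.o⟩,⟨.e,.n,.e,.o,.o,.o,.o⟩,⟨.e,.o,.n,.e,.o,.o,.o⟩,⟨.o,.e,.o,.n,.n,.n,.o⟩,⟨.n,.n,.n,.e,.e,.n,.o⟩,⟨.e,.e,.n,.e,.o,.e,.n⟩⟩,
   ⟨⟨.n,.e,.o,.o,.o,.o,.o⟩,⟨.n,.e,.n,.n,.n,.o,.o⟩,⟨.e,.e,.e,.e,.e,.o,.o⟩,⟨.e,.e,.o,.e,.n,.o,.o⟩,⟨.o,.n,.n,.e,.o,.e,.n⟩,⟨.e,.n,.e,.n,.e,.n,.e⟩,⟨.o,.e,.e,.n,.e,.o,.n⟩⟩,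
   ⟨⟨.e,.o,.o,.o,.o,.o,.o⟩,⟨.e,.e,.n,.o,.o,.o,.o⟩,⟨.n,.o,.e,.o,.o,.o,.o⟩,⟨.n,.e,.o,.e,.o,.o,.o⟩,⟨.o,.n,.n,.n,.e,.n,.o⟩,⟨.n,.n,.e,.e,.o,.e,.o⟩,⟨.o,.e,.e,.e,.e,.o,.e⟩⟩,
   ⟨⟨.e,.o,.o,.o,.o,.o,.o⟩,⟨.e,.n,.n,.o,.o,.o,.o⟩,⟨.n,.n,.e,.o,.o,.o,.o⟩,⟨.n,.e,.o,.e,.o,.o,.o⟩,⟨.o,.o,.n,.n,.n,.n,.o⟩,⟨.n,.e,.e,.e,.n,.e,.o⟩,⟨.o,.o,.e,.e,.e,.o,.e⟩⟩,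
   ⟨⟨.n,.e,.e,.o,.o,.o,.o⟩,⟨.n,.n,.o,.e,.e,.e,.o⟩,⟨.e,.e,.n,.e,.e,.e,.o⟩,⟨.e,.n,.e,.o,.e,.e,.o⟩,⟨.o,.e,.e,.n,.o,.n,.e⟩,⟨.e,.e,.o,.o,.n,.e,.e⟩,⟨.o,.n,.n,.e,.n,.o,.e⟩⟩,
   ⟨⟨.n,.o,.e,.o,.o,.o,.o⟩,⟨.n,.o,.n,.o,.o,.o,.o⟩,⟨.e,.e,.o,.n,.o,.n,.o⟩,⟨.e,.e,.e,.o,.o,.e,.o⟩,⟨.n,.e,.e,.e,.o,.n,.o⟩,⟨.o,.o,.n,.e,.n,.e,.n⟩,⟨.e,.e,.n,.o,.n,.n,.e⟩⟩,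
   ⟨⟨.n,.o,.o,.o,.o,.o,.o⟩,⟨.n,.n,.o,.o,.o,.o,.o⟩,⟨.e,.o,.e,.o,.o,.o,.o⟩,⟨.e,.n,.e,.e,.o,.o,.o⟩,⟨.n,.e,.e,.n,.e,.o,.o⟩,⟨.o,.e,.o,.e,.o,.n,.o⟩,⟨.e,.e,.e,.e,.e,.n,.n⟩⟩,
   ⟨⟨.e,.o,.o,.o,.o,.o,.o⟩,⟨.e,.n,.e,.o,.o,.o,.o⟩,⟨.n,.n,.o,.o,.o,.o,.o⟩,⟨.n,.e,.e,.e,.o,.o,.o⟩,⟨.e,.o,.n,.n,.n,.e,.o⟩,⟨.o,.e,.n,.e,.n,.o,.o⟩,⟨.n,.o,.n,.e,.e,.e,.e⟩⟩,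
   ⟨⟨.e,.o,.o,.o,.o,.o,.o⟩,⟨.e,.n,.e,.o,.o,.o,.o⟩,⟨.n,.e,.e,.o,.o,.o,.o⟩,⟨.n,.o,.n,.e,.o,.o,.o⟩,⟨.e,.n,.o,.n,.n,.e,.o⟩,⟨.o,.e,.n,.e,.e,.e,.o⟩,⟨.n,.n,.o,.e,.o,.n,.e⟩⟩,
   ⟨⟨.e,.o,.o,.o,.o,.o,.o⟩,⟨.e,.o,.e,.o,.o,.o,.o⟩,⟨.n,.n,.n,.o,.o,.o,.o⟩,⟨.n,.n,.o,.e,.o,.o,.o⟩,⟨.e,.n,.e,.n,.o,.e,.o⟩,⟨.e,.o,.n,.e,.n,.n,.o⟩,⟨.o,.n,.n,.e,.n,.o,.e⟩⟩,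
   ⟨⟨.e,.o,.o,.o,.o,.o,.o⟩,⟨.e,.n,.e,.o,.o,.o,.o⟩,⟨.n,.o,.n,.o,.o,.o,.o⟩,⟨.n,.n,.o,.e,.o,.o,.o⟩,⟨.e,.e,.e,.n,.n,.e,.o⟩,⟨.e,.e,.n,.e,.o,.n,.o⟩,⟨.o,.o,.n,.e,.n,.o,.e⟩⟩,
   ⟨⟨.e,.o,.o,.o,.o,.o,.o⟩,⟨.e,.e,.o,.o,.o,.o,.o⟩,⟨.n,.e,.e,.o,.o,.o,.o⟩,⟨.n,.n,.e,.e,.o,.o,.o⟩,⟨.e,.o,.e,.n,.e,.o,.o⟩,⟨.e,.n,.o,.e,.e,.e,.o⟩,⟨.o,.e,.e,.e,.n,.e,.e⟩⟩,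
   ⟨⟨.n,.o,.o,.o,.o,.o,.o⟩,⟨.n,.n,.o,.o,.o,.o,.o⟩,⟨.e,.e,.e,.o,.o,.o,.o⟩,⟨.e,.o,.e,.e,.o,.o,.o⟩,⟨.n,.n,.e,.n,.e,.o,.o⟩,⟨.n,.e,.o,.e,.n,.n,.o⟩,⟨.o,.e,.e,.e,.o,.n,.n⟩⟩,
   ⟨⟨.e,.o,.o,.o,.o,.o,.o⟩,⟨.e,.o,.e,.o,.o,.o,.o⟩,⟨.n,.n,.o,.o,.o,.o,.o⟩,⟨.n,.n,.e,.e,.o,.o,.o⟩,⟨.e,.n,.n,.n,.o,.e,.o⟩,⟨.n,.o,.n,.e,.n,.o,.o⟩,⟨.e,.n,.e,.e,.n,.e,.e⟩⟩,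
   ⟨⟨.e,.o,.o,.o,.o,.o,.o⟩,⟨.e,.e,.o,.o,.o,.o,.o⟩,⟨.n,.o,.e,.o,.o,.o,.o⟩,⟨.n,.e,.e,.e,.o,.o,.o⟩,⟨.e,.n,.e,.n,.e,.o,.o⟩,⟨.n,.n,.o,.e,.o,.e,.o⟩,⟨.e,.e,.e,.e,.e,.e,.e⟩⟩,
   ⟨⟨.e,.o,.o,.o,.o,.o,.o⟩,⟨.e,.n,.e,.o,.o,.o,.o⟩,⟨.n,.n,.o,.o,.o,.o,.o⟩,⟨.n,.e,.e,.e,.o,.o,.o⟩,⟨.e,.o,.n,.n,.n,.e,.o⟩,⟨.n,.e,.n,.e,.n,.o,.o⟩,⟨.e,.e,.e,.e,.e,.e,.e⟩⟩,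
   ⟨⟨.e,.o,.o,.o,.o,.o,.o⟩,⟨.e,.e,.o,.o,.o,.o,.o⟩,⟨.n,.n,.e,.o,.o,.o,.o⟩,⟨.n,.o,.e,.e,.o,.o,.o⟩,⟨.e,.e,.e,.n,.e,.o,.o⟩,⟨.n,.n,.o,.e,.n,.e,.o⟩,⟨.e,.o,.e,.e,.o,.e,.e⟩⟩]

/-- part 35 -/
def repPart35 : List M7 :=
  [⟨⟨.e,.o,.o,.o,.o,.o,.o⟩,⟨.e,.o,.e,.o,.o,.o,.o⟩,⟨.n,.n,.e,.o,.o,.o,.o⟩,⟨.n,.n,.n,.e,.o,.o,.o⟩,⟨.n,.n,.o,.n,.o,.e,.o⟩,⟨.o,.o,.n,.e,.n,.e,.o⟩,⟨.o,.o,.n,.e,.n,.n,.e⟩⟩,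
   ⟨⟨.e,.o,.o,.o,.o,.o,.o⟩,⟨.e,.e,.e,.o,.o,.o,.o⟩,⟨.n,.o,.e,.o,.o,.o,.o⟩,⟨.n,.e,.n,.e,.o,.o,.o⟩,⟨.n,.n,.o,.n,.e,.e,.o⟩,⟨.o,.n,.n,.e,.o,.e,.o⟩,⟨.o,.n,.n,.e,.e,.n,.e⟩⟩,
   ⟨⟨.e,.o,.o,.o,.o,.o,.o⟩,⟨.e,.n,.n,.o,.o,.o,.o⟩,⟨.n,.n,.e,.o,.o,.o,.o⟩,⟨.n,.e,.o,.e,.o,.o,.o⟩,⟨.n,.o,.n,.n,.n,.n,.o⟩,⟨.o,.e,.e,.e,.n,.e,.o⟩,⟨.o,.e,.e,.e,.e,.o,.e⟩⟩,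
   ⟨⟨.e,.o,.o,.o,.o,.o,.o⟩,⟨.e,.e,.e,.o,.o,.o,.o⟩,⟨.n,.n,.o,.o,.o,.o,.o⟩,⟨.n,.o,.e,.e,.o,.o,.o⟩,⟨.n,.e,.n,.n,.e,.e,.o⟩,⟨.o,.n,.n,.e,.n,.o,.o⟩,⟨.o,.n,.n,.e,.o,.e,.e⟩⟩,
   ⟨⟨.n,.n,.o,.o,.o,.o,.o⟩,⟨.n,.n,.e,.n,.e,.o,.o⟩,⟨.e,.n,.e,.n,.e,.o,.o⟩,⟨.e,.n,.n,.n,.o,.o,.o⟩,⟨.e,.n,.o,.n,.n,.n,.n⟩,⟨.n,.n,.n,.n,.n,.n,.n⟩,⟨.n,.n,.o,.e,.o,.e,.o⟩⟩,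
   ⟨⟨.n,.e,.o,.o,.o,.o,.o⟩,⟨.n,.o,.o,.o,.o,.o,.o⟩,⟨.e,.n,.e,.e,.e,.o,.o⟩,⟨.e,.e,.e,.n,.o,.o,.o⟩,⟨.e,.o,.e,.o,.o,.o,.o⟩,⟨.n,.n,.o,.e,.n,.n,.e⟩,⟨.n,.e,.o,.e,.o,.n,.o⟩⟩,
   ⟨⟨.e,.e,.o,.o,.o,.o,.o⟩,⟨.e,.n,.o,.o,.o,.o,.o⟩,⟨.n,.o,.e,.n,.e,.o,.o⟩,⟨.n,.e,.e,.o,.n,.o,.o⟩,⟨.n,.n,.e,.e,.e,.o,.o⟩,⟨.e,.o,.o,.e,.n,.e,.e⟩,⟨.e,.e,.o,.e,.o,.e,.n⟩⟩,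
   ⟨⟨.n,.e,.o,.o,.e,.o,.o⟩,⟨.n,.o,.o,.o,.e,.o,.o⟩,⟨.e,.o,.e,.e,.o,.o,.e⟩,⟨.e,.n,.e,.n,.n,.o,.e⟩,⟨.e,.e,.e,.o,.n,.o,.e⟩,⟨.n,.n,.o,.e,.n,.n,.e⟩,⟨.n,.e,.o,.e,.o,.n,.o⟩⟩,
   ⟨⟨.e,.e,.o,.o,.o,.o,.o⟩,⟨.e,.e,.e,.n,.e,.o,.o⟩,⟨.n,.e,.e,.n,.e,.o,.o⟩,⟨.n,.e,.n,.n,.o,.o,.o⟩,⟨.n,.e,.o,.n,.n,.e,.e⟩,⟨.n,.n,.n,.n,.n,.e,.e⟩,⟨.n,.n,.e,.o,.e,.n,.o⟩⟩,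
   ⟨⟨.e,.e,.o,.o,.o,.o,.o⟩,⟨.e,.n,.e,.n,.e,.o,.o⟩,⟨.n,.n,.e,.n,.e,.o,.o⟩,⟨.n,.o,.n,.n,.o,.o,.o⟩,⟨.n,.e,.o,.n,.o,.e,.e⟩,⟨.n,.e,.n,.n,.o,.e,.e⟩,⟨.n,.o,.e,.o,.o,.n,.o⟩⟩,
   ⟨⟨.e,.o,.o,.o,.o,.o,.o⟩,⟨.e,.n,.e,.o,.o,.o,.o⟩,⟨.n,.n,.o,.o,.o,.o,.o⟩,⟨.n,.e,.e,.e,.o,.o,.o⟩,⟨.n,.o,.n,.n,.n,.e,.o⟩,⟨.n,.e,.n,.e,.n,.o,.o⟩,⟨.n,.n,.e,.e,.e,.e,.e⟩⟩,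
   ⟨⟨.e,.o,.e,.o,.o,.o,.o⟩,⟨.e,.e,.e,.e,.o,.n,.o⟩,⟨.n,.n,.o,.n,.o,.e,.o⟩,⟨.n,.o,.o,.e,.o,.e,.o⟩,⟨.n,.e,.o,.o,.e,.e,.n⟩,⟨.n,.n,.n,.o,.n,.o,.e⟩,⟨.n,.e,.n,.n,.o,.e,.e⟩⟩,
   ⟨⟨.n,.e,.o,.o,.o,.o,.o⟩,⟨.e,.n,.e,.e,.e,.o,.o⟩,⟨.o,.e,.e,.e,.e,.o,.o⟩,⟨.o,.n,.n,.o,.e,.o,.o⟩,⟨.o,.e,.e,.n,.o,.n,.e⟩,⟨.o,.o,.o,.o,.n,.n,.e⟩,⟨.o,.o,.o,.o,.e,.e,.e⟩⟩,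
   ⟨⟨.e,.o,.o,.o,.o,.o,.o⟩,⟨.n,.e,.o,.o,.o,.o,.o⟩,⟨.o,.o,.e,.o,.o,.o,.o⟩,⟨.o,.o,.n,.e,.o,.o,.o⟩,⟨.o,.o,.e,.e,.e,.o,.o⟩,⟨.o,.o,.o,.o,.o,.e,.o⟩,⟨.o,.o,.o,.o,.o,.n,.e⟩⟩,
   ⟨⟨.e,.o,.o,.o,.o,.o,.o⟩,⟨.n,.e,.o,.o,.o,.o,.o⟩,⟨.o,.e,.e,.o,.o,.o,.o⟩,⟨.o,.n,.n,.e,.o,.o,.o⟩,⟨.o,.e,.e,.e,.e,.o,.o⟩,⟨.o,.o,.o,.o,.e,.e,.o⟩,⟨.o,.o,.o,.o,.n,.n,.e⟩⟩,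
   ⟨⟨.n,.e,.o,.o,.o,.o,.o⟩,⟨.e,.e,.o,.o,.o,.o,.o⟩,⟨.o,.e,.e,.e,.e,.o,.o⟩,⟨.o,.n,.n,.o,.e,.o,.o⟩,⟨.o,.e,.e,.n,.e,.o,.o⟩,⟨.o,.o,.o,.o,.n,.n,.e⟩,⟨.o,.o,.o,.o,.e,.e,.e⟩⟩,
   ⟨⟨.n,.n,.e,.o,.o,.o,.o⟩,⟨.e,.e,.e,.e,.n,.e,.o⟩,⟨.o,.n,.o,.e,.n,.e,.o⟩,⟨.o,.e,.o,.o,.n,.e,.o⟩,⟨.o,.n,.o,.n,.o,.e,.e⟩,⟨.n,.n,.e,.o,.e,.o,.e⟩,⟨.e,.e,.e,.e,.e,.e,.e⟩⟩,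
   ⟨⟨.n,.e,.o,.o,.o,.o,.o⟩,⟨.e,.e,.o,.o,.o,.o,.o⟩,⟨.o,.o,.e,.e,.e,.o,.o⟩,⟨.o,.o,.n,.o,.e,.o,.o⟩,⟨.o,.o,.e,.n,.e,.o,.o⟩,⟨.n,.e,.o,.o,.o,.n,.e⟩,⟨.e,.e,.o,.o,.o,.e,.e⟩⟩,
   ⟨⟨.e,.o,.o,.o,.o,.o,.o⟩,⟨.n,.n,.e,.o,.o,.o,.o⟩,⟨.o,.n,.o,.o,.o,.o,.o⟩,⟨.o,.e,.o,.e,.o,.o,.o⟩,⟨.o,.n,.o,.e,.n,.e,.o⟩,⟨.e,.o,.o,.o,.n,.o,.o⟩,⟨.n,.n,.e,.o,.e,.o,.e⟩⟩,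
   ⟨⟨.n,.e,.o,.o,.o,.o,.o⟩,⟨.e,.e,.o,.o,.o,.o,.o⟩,⟨.o,.e,.e,.e,.e,.o,.o⟩,⟨.o,.n,.n,.o,.e,.o,.o⟩,⟨.o,.e,.e,.n,.e,.o,.o⟩,⟨.n,.e,.o,.o,.n,.n,.e⟩,⟨.e,.e,.o,.o,.e,.e,.e⟩⟩,
   ⟨⟨.n,.e,.o,.o,.o,.o,.o⟩,⟨.e,.n,.e,.e,.e,.o,.o⟩,⟨.o,.e,.e,.e,.e,.o,.o⟩,⟨.o,.n,.n,.o,.e,.o,.o⟩,⟨.o,.e,.e,.n,.o,.n,.e⟩,⟨.e,.n,.o,.o,.n,.n,.e⟩,⟨.n,.e,.n,.n,.o,.e,.e⟩⟩,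
   ⟨⟨.e,.e,.o,.o,.o,.o,.o⟩,⟨.n,.o,.e,.n,.e,.o,.o⟩,⟨.o,.o,.e,.n,.e,.o,.o⟩,⟨.o,.o,.n,.n,.o,.o,.o⟩,⟨.o,.o,.e,.o,.o,.e,.e⟩,⟨.n,.n,.o,.o,.o,.e,.e⟩,⟨.e,.o,.n,.e,.n,.n,.o⟩⟩,
   ⟨⟨.e,.o,.o,.o,.o,.o,.o⟩,⟨.n,.e,.o,.o,.o,.o,.o⟩,⟨.o,.e,.e,.o,.o,.o,.o⟩,⟨.o,.n,.n,.e,.o,.o,.o⟩,⟨.o,.e,.e,.e,.e,.o,.o⟩,⟨.n,.o,.o,.o,.e,.e,.o⟩,⟨.e,.n,.o,.o,.n,.n,.e⟩⟩,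
   ⟨⟨.n,.o,.o,.o,.o,.o,.o⟩,⟨.e,.n,.o,.o,.o,.o,.o⟩,⟨.o,.e,.e,.o,.o,.o,.o⟩,⟨.o,.n,.n,.e,.o,.o,.o⟩,⟨.o,.e,.e,.e,.e,.o,.o⟩,⟨.e,.o,.o,.o,.n,.n,.o⟩,⟨.n,.e,.o,.o,.e,.e,.n⟩⟩,
   ⟨⟨.n,.e,.o,.o,.o,.o,.o⟩,⟨.e,.n,.e,.e,.e,.o,.o⟩,⟨.o,.e,.e,.e,.e,.o,.o⟩,⟨.o,.n,.n,.o,.e,.o,.o⟩,⟨.n,.n,.e,.n,.o,.n,.e⟩,⟨.o,.o,.o,.o,.n,.n,.e⟩,⟨.o,.n,.n,.n,.o,.e,.e⟩⟩,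
   ⟨⟨.n,.e,.o,.o,.o,.o,.o⟩,⟨.e,.e,.o,.o,.o,.o,.o⟩,⟨.o,.o,.e,.e,.e,.o,.o⟩,⟨.o,.o,.n,.o,.e,.o,.o⟩,⟨.n,.e,.e,.n,.e,.o,.o⟩,⟨.o,.o,.o,.o,.o,.n,.e⟩,⟨.o,.o,.n,.n,.n,.e,.e⟩⟩,
   ⟨⟨.e,.e,.o,.o,.o,.o,.o⟩,⟨.n,.o,.o,.o,.o,.o,.o⟩,⟨.o,.e,.e,.n,.e,.o,.o⟩,⟨.o,.n,.n,.n,.o,.o,.o⟩,⟨.e,.n,.e,.o,.o,.o,.o⟩,⟨.o,.o,.o,.o,.e,.e,.e⟩,⟨.o,.n,.n,.e,.e,.n,.o⟩⟩,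
   ⟨⟨.n,.e,.o,.o,.o,.o,.o⟩,⟨.e,.e,.o,.o,.o,.o,.o⟩,⟨.o,.e,.e,.e,.e,.o,.o⟩,⟨.o,.n,.n,.o,.e,.o,.o⟩,⟨.n,.n,.e,.n,.e,.o,.o⟩,⟨.o,.o,.o,.o,.n,.n,.e⟩,⟨.o,.n,.n,.n,.o,.e,.e⟩⟩,
   ⟨⟨.n,.e,.o,.o,.o,.o,.o⟩,⟨.e,.n,.e,.e,.e,.o,.o⟩,⟨.o,.e,.e,.e,.e,.o,.o⟩,⟨.o,.n,.n,.o,.e,.o,.o⟩,⟨.n,.n,.e,.n,.o,.n,.e⟩,⟨.n,.e,.o,.o,.n,.n,.e⟩,⟨.e,.e,.o,.o,.e,.e,.e⟩⟩,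
   ⟨⟨.n,.e,.o,.o,.o,.o,.o⟩,⟨.e,.e,.o,.o,.o,.o,.o⟩,⟨.o,.o,.e,.e,.e,.o,.o⟩,⟨.o,.o,.n,.o,.e,.o,.o⟩,⟨.n,.e,.e,.n,.e,.o,.o⟩,⟨.n,.e,.o,.o,.o,.n,.e⟩,⟨.e,.e,.n,.n,.n,.e,.e⟩⟩,
   ⟨⟨.n,.e,.o,.o,.o,.o,.o⟩,⟨.e,.e,.o,.o,.o,.o,.o⟩,⟨.o,.n,.e,.e,.e,.o,.o⟩,⟨.o,.e,.n,.o,.e,.o,.o⟩,⟨.n,.o,.e,.n,.e,.o,.o⟩,⟨.n,.e,.o,.o,.e,.n,.e⟩,⟨.e,.n,.n,.n,.e,.e,.e⟩⟩,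
   ⟨⟨.e,.o,.o,.o,.o,.o,.o⟩,⟨.n,.e,.e,.o,.o,.o,.o⟩,⟨.o,.n,.o,.o,.o,.o,.o⟩,⟨.o,.e,.o,.e,.o,.o,.o⟩,⟨.e,.n,.o,.e,.e,.e,.o⟩,⟨.e,.o,.o,.o,.n,.o,.o⟩,⟨.n,.n,.e,.o,.e,.o,.e⟩⟩]

/-- part 36 -/
def repPart36 : List M7 :=
  [⟨⟨.e,.o,.o,.o,.o,.o,.o⟩,⟨.n,.o,.e,.o,.o,.o,.o⟩,⟨.o,.n,.n,.o,.o,.o,.o⟩,⟨.o,.e,.e,.e,.o,.o,.o⟩,⟨.e,.n,.n,.e,.o,.e,.o⟩,⟨.n,.o,.o,.o,.n,.n,.o⟩,⟨.e,.e,.o,.o,.e,.e,.e⟩⟩,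
   ⟨⟨.e,.e,.o,.o,.o,.o,.o⟩,⟨.n,.o,.o,.o,.o,.o,.o⟩,⟨.o,.o,.e,.n,.e,.o,.o⟩,⟨.o,.o,.n,.n,.o,.o,.o⟩,⟨.e,.e,.e,.o,.o,.o,.o⟩,⟨.n,.n,.o,.o,.o,.e,.e⟩,⟨.e,.o,.n,.e,.n,.n,.o⟩⟩,
   ⟨⟨.n,.e,.o,.o,.o,.o,.o⟩,⟨.e,.e,.o,.o,.o,.o,.o⟩,⟨.o,.n,.e,.e,.e,.o,.o⟩,⟨.o,.e,.n,.o,.e,.o,.o⟩,⟨.n,.o,.e,.n,.e,.o,.o⟩,⟨.e,.n,.o,.o,.e,.n,.e⟩,⟨.n,.o,.n,.n,.e,.e,.e⟩⟩,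
   ⟨⟨.n,.e,.o,.o,.o,.o,.o⟩,⟨.e,.e,.o,.o,.o,.o,.o⟩,⟨.o,.e,.e,.e,.e,.o,.o⟩,⟨.o,.n,.n,.o,.e,.o,.o⟩,⟨.n,.n,.e,.n,.e,.o,.o⟩,⟨.e,.n,.o,.o,.n,.n,.e⟩,⟨.n,.e,.n,.n,.o,.e,.e⟩⟩,
   ⟨⟨.n,.o,.e,.o,.o,.o,.o⟩,⟨.e,.o,.e,.o,.o,.o,.o⟩,⟨.o,.n,.n,.e,.o,.e,.o⟩,⟨.o,.e,.e,.o,.o,.e,.o⟩,⟨.e,.n,.e,.n,.o,.e,.o⟩,⟨.o,.o,.o,.o,.e,.e,.e⟩,⟨.o,.n,.n,.e,.n,.o,.e⟩⟩,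
   ⟨⟨.n,.n,.e,.o,.o,.o,.o⟩,⟨.e,.n,.e,.o,.o,.o,.o⟩,⟨.o,.o,.n,.e,.n,.e,.o⟩,⟨.o,.o,.e,.o,.n,.e,.o⟩,⟨.e,.e,.e,.n,.n,.e,.o⟩,⟨.o,.o,.o,.o,.o,.e,.e⟩,⟨.o,.o,.n,.e,.n,.o,.e⟩⟩,
   ⟨⟨.e,.n,.o,.o,.o,.o,.o⟩,⟨.n,.n,.o,.o,.o,.o,.o⟩,⟨.o,.e,.e,.e,.e,.o,.o⟩,⟨.o,.n,.n,.o,.e,.o,.o⟩,⟨.n,.n,.e,.n,.e,.o,.o⟩,⟨.o,.o,.o,.o,.e,.e,.n⟩,⟨.o,.e,.e,.e,.o,.n,.n⟩⟩,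
   ⟨⟨.n,.n,.o,.o,.o,.o,.o⟩,⟨.e,.o,.o,.o,.o,.o,.o⟩,⟨.o,.e,.e,.n,.e,.o,.o⟩,⟨.o,.n,.n,.n,.o,.o,.o⟩,⟨.e,.n,.e,.o,.o,.o,.o⟩,⟨.o,.o,.o,.o,.n,.n,.n⟩,⟨.o,.e,.e,.n,.n,.e,.o⟩⟩,
   ⟨⟨.n,.o,.e,.o,.o,.o,.o⟩,⟨.e,.o,.e,.o,.o,.o,.o⟩,⟨.o,.n,.o,.e,.o,.e,.o⟩,⟨.o,.e,.o,.o,.o,.e,.o⟩,⟨.e,.n,.n,.n,.o,.e,.o⟩,⟨.n,.o,.e,.o,.e,.o,.e⟩,⟨.e,.n,.e,.e,.n,.e,.e⟩⟩,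
   ⟨⟨.e,.e,.o,.o,.o,.o,.o⟩,⟨.n,.o,.o,.o,.o,.o,.o⟩,⟨.o,.o,.e,.n,.e,.o,.o⟩,⟨.o,.o,.n,.n,.o,.o,.o⟩,⟨.n,.n,.e,.o,.o,.o,.o⟩,⟨.e,.e,.o,.o,.o,.e,.e⟩,⟨.n,.o,.e,.n,.e,.n,.o⟩⟩,
   ⟨⟨.e,.o,.o,.o,.o,.o,.o⟩,⟨.n,.e,.e,.o,.o,.o,.o⟩,⟨.o,.e,.n,.o,.o,.o,.o⟩,⟨.o,.n,.e,.e,.o,.o,.o⟩,⟨.n,.e,.n,.e,.e,.e,.o⟩,⟨.e,.o,.o,.o,.e,.n,.o⟩,⟨.n,.n,.o,.o,.n,.e,.e⟩⟩,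
   ⟨⟨.n,.n,.e,.o,.o,.o,.o⟩,⟨.e,.n,.e,.o,.o,.o,.o⟩,⟨.o,.n,.o,.e,.n,.e,.o⟩,⟨.o,.e,.o,.o,.n,.e,.o⟩,⟨.e,.o,.n,.n,.n,.e,.o⟩,⟨.n,.n,.e,.o,.e,.o,.e⟩,⟨.e,.e,.e,.e,.e,.e,.e⟩⟩,
   ⟨⟨.e,.o,.o,.o,.o,.o,.o⟩,⟨.n,.o,.n,.o,.o,.o,.o⟩,⟨.o,.e,.e,.o,.o,.o,.o⟩,⟨.o,.n,.n,.e,.o,.o,.o⟩,⟨.n,.e,.e,.e,.o,.n,.o⟩,⟨.n,.o,.o,.o,.e,.e,.o⟩,⟨.e,.e,.n,.o,.n,.n,.e⟩⟩,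
   ⟨⟨.e,.n,.o,.o,.o,.o,.o⟩,⟨.n,.n,.o,.o,.o,.o,.o⟩,⟨.o,.o,.e,.e,.e,.o,.o⟩,⟨.o,.o,.n,.o,.e,.o,.o⟩,⟨.n,.e,.e,.n,.e,.o,.o⟩,⟨.n,.e,.o,.o,.o,.e,.n⟩,⟨.e,.e,.e,.e,.e,.n,.n⟩⟩,
   ⟨⟨.n,.n,.e,.o,.o,.o,.o⟩,⟨.e,.n,.e,.o,.o,.o,.o⟩,⟨.o,.e,.e,.e,.n,.e,.o⟩,⟨.o,.n,.n,.o,.n,.e,.o⟩,⟨.e,.n,.o,.n,.n,.e,.o⟩,⟨.e,.e,.n,.o,.n,.n,.e⟩,⟨.n,.n,.o,.e,.o,.n,.e⟩⟩,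
   ⟨⟨.e,.o,.o,.o,.o,.o,.o⟩,⟨.n,.n,.e,.o,.o,.o,.o⟩,⟨.o,.e,.e,.o,.o,.o,.o⟩,⟨.o,.n,.n,.e,.o,.o,.o⟩,⟨.n,.e,.e,.e,.n,.e,.o⟩,⟨.n,.o,.o,.o,.e,.e,.o⟩,⟨.e,.n,.o,.o,.n,.n,.e⟩⟩,
   ⟨⟨.n,.e,.e,.o,.o,.o,.o⟩,⟨.e,.n,.o,.e,.e,.e,.o⟩,⟨.o,.e,.n,.e,.e,.e,.o⟩,⟨.n,.o,.n,.o,.e,.e,.o⟩,⟨.o,.e,.e,.e,.n,.e,.e⟩,⟨.o,.n,.e,.n,.e,.o,.e⟩,⟨.n,.o,.n,.e,.e,.n,.e⟩⟩,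
   ⟨⟨.e,.e,.e,.o,.o,.o,.o⟩,⟨.n,.e,.e,.o,.o,.o,.o⟩,⟨.o,.o,.n,.e,.n,.n,.o⟩,⟨.e,.e,.n,.o,.n,.n,.o⟩,⟨.o,.e,.o,.n,.n,.n,.o⟩,⟨.o,.o,.e,.n,.e,.o,.n⟩,⟨.e,.e,.n,.e,.o,.e,.n⟩⟩,
   ⟨⟨.e,.e,.o,.o,.o,.o,.o⟩,⟨.n,.e,.e,.n,.e,.o,.o⟩,⟨.o,.n,.o,.o,.o,.o,.o⟩,⟨.e,.n,.o,.e,.e,.o,.o⟩,⟨.o,.o,.n,.n,.n,.e,.e⟩,⟨.o,.e,.o,.o,.n,.o,.o⟩,⟨.e,.n,.o,.n,.o,.o,.e⟩⟩,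
   ⟨⟨.n,.e,.e,.o,.o,.o,.o⟩,⟨.e,.e,.e,.o,.o,.o,.o⟩,⟨.o,.e,.n,.e,.e,.e,.o⟩,⟨.n,.o,.n,.o,.e,.e,.o⟩,⟨.o,.n,.o,.n,.e,.e,.o⟩,⟨.o,.n,.e,.n,.e,.o,.e⟩,⟨.n,.o,.n,.e,.e,.n,.e⟩⟩,
   ⟨⟨.e,.o,.o,.o,.o,.o,.o⟩,⟨.n,.o,.e,.o,.o,.o,.o⟩,⟨.o,.n,.o,.o,.o,.o,.o⟩,⟨.e,.e,.o,.e,.o,.o,.o⟩,⟨.o,.n,.n,.e,.o,.e,.o⟩,⟨.e,.e,.o,.o,.n,.o,.o⟩,⟨.o,.e,.e,.n,.e,.o,.e⟩⟩,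
   ⟨⟨.e,.o,.o,.o,.o,.o,.o⟩,⟨.n,.e,.n,.o,.o,.o,.o⟩,⟨.o,.o,.e,.o,.o,.o,.o⟩,⟨.e,.o,.n,.e,.o,.o,.o⟩,⟨.o,.n,.n,.e,.e,.n,.o⟩,⟨.e,.o,.n,.o,.o,.e,.o⟩,⟨.o,.e,.e,.n,.o,.n,.e⟩⟩,
   ⟨⟨.e,.o,.o,.o,.o,.o,.o⟩,⟨.n,.n,.n,.o,.o,.o,.o⟩,⟨.o,.n,.e,.o,.o,.o,.o⟩,⟨.e,.e,.n,.e,.o,.o,.o⟩,⟨.o,.o,.n,.e,.n,.n,.o⟩,⟨.e,.e,.n,.o,.n,.e,.o⟩,⟨.o,.o,.e,.n,.e,.n,.e⟩⟩,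
   ⟨⟨.n,.e,.n,.o,.o,.o,.o⟩,⟨.e,.e,.n,.o,.o,.o,.o⟩,⟨.o,.e,.o,.e,.e,.n,.o⟩,⟨.n,.o,.n,.o,.e,.n,.o⟩,⟨.o,.n,.n,.n,.e,.n,.o⟩,⟨.n,.o,.n,.n,.e,.e,.e⟩,⟨.o,.e,.e,.e,.e,.o,.e⟩⟩,
   ⟨⟨.e,.o,.o,.o,.o,.o,.o⟩,⟨.n,.o,.e,.o,.o,.o,.o⟩,⟨.o,.n,.e,.o,.o,.o,.o⟩,⟨.e,.e,.n,.e,.o,.o,.o⟩,⟨.o,.n,.o,.e,.o,.e,.o⟩,⟨.n,.e,.n,.o,.n,.e,.o⟩,⟨.n,.e,.e,.n,.e,.n,.e⟩⟩,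
   ⟨⟨.e,.o,.o,.o,.o,.o,.o⟩,⟨.n,.e,.e,.o,.o,.o,.o⟩,⟨.o,.o,.e,.o,.o,.o,.o⟩,⟨.e,.o,.n,.e,.o,.o,.o⟩,⟨.o,.n,.o,.e,.e,.e,.o⟩,⟨.n,.o,.n,.o,.o,.e,.o⟩,⟨.n,.n,.e,.n,.o,.n,.e⟩⟩,
   ⟨⟨.n,.n,.n,.o,.o,.o,.o⟩,⟨.e,.o,.o,.o,.o,.o,.o⟩,⟨.o,.n,.o,.n,.e,.e,.o⟩,⟨.n,.o,.n,.n,.o,.o,.o⟩,⟨.o,.o,.e,.o,.o,.o,.o⟩,⟨.e,.n,.e,.e,.o,.n,.n⟩,⟨.e,.o,.n,.o,.o,.e,.o⟩⟩,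
   ⟨⟨.n,.n,.o,.o,.o,.o,.o⟩,⟨.e,.o,.o,.o,.o,.o,.o⟩,⟨.o,.e,.e,.n,.e,.o,.o⟩,⟨.n,.e,.n,.n,.o,.o,.o⟩,⟨.o,.n,.e,.o,.o,.o,.o⟩,⟨.e,.o,.n,.e,.e,.n,.n⟩,⟨.e,.e,.n,.o,.n,.e,.o⟩⟩,
   ⟨⟨.e,.o,.o,.o,.o,.o,.o⟩,⟨.n,.o,.n,.o,.o,.o,.o⟩,⟨.o,.e,.e,.o,.o,.o,.o⟩,⟨.e,.n,.n,.e,.o,.o,.o⟩,⟨.e,.e,.n,.e,.o,.n,.o⟩,⟨.o,.n,.n,.o,.e,.e,.o⟩,⟨.e,.e,.e,.n,.n,.n,.e⟩⟩,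
   ⟨⟨.n,.n,.n,.o,.o,.o,.o⟩,⟨.e,.o,.o,.o,.o,.o,.o⟩,⟨.o,.o,.e,.n,.e,.e,.o⟩,⟨.n,.n,.e,.n,.o,.o,.o⟩,⟨.n,.o,.e,.o,.o,.o,.o⟩,⟨.o,.o,.n,.e,.n,.e,.n⟩,⟨.n,.n,.o,.e,.o,.e,.o⟩⟩,
   ⟨⟨.e,.o,.o,.o,.o,.o,.o⟩,⟨.n,.e,.o,.o,.o,.o,.o⟩,⟨.o,.e,.e,.o,.o,.o,.o⟩,⟨.e,.n,.n,.e,.o,.o,.o⟩,⟨.e,.o,.e,.e,.e,.o,.o⟩,⟨.o,.n,.n,.o,.e,.e,.o⟩,⟨.e,.e,.e,.n,.n,.n,.e⟩⟩,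
   ⟨⟨.e,.o,.o,.o,.o,.o,.o⟩,⟨.n,.n,.e,.o,.o,.o,.o⟩,⟨.o,.e,.e,.o,.o,.o,.o⟩,⟨.e,.n,.n,.e,.o,.o,.o⟩,⟨.e,.n,.o,.e,.n,.e,.o⟩,⟨.o,.n,.n,.o,.e,.e,.o⟩,⟨.e,.e,.e,.n,.n,.n,.e⟩⟩]

/-- part 37 -/
def repPart37 : List M7 :=
  [⟨⟨.e,.o,.o,.o,.o,.o,.o⟩,⟨.n,.o,.n,.o,.o,.o,.o⟩,⟨.o,.e,.n,.o,.o,.o,.o⟩,⟨.e,.n,.e,.e,.o,.o,.o⟩,⟨.e,.e,.o,.e,.o,.n,.o⟩,⟨.e,.n,.e,.o,.e,.n,.o⟩,⟨.o,.e,.e,.n,.n,.e,.e⟩⟩,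
   ⟨⟨.e,.o,.o,.o,.o,.o,.o⟩,⟨.n,.e,.o,.o,.o,.o,.o⟩,⟨.o,.o,.e,.o,.o,.o,.o⟩,⟨.e,.o,.n,.e,.o,.o,.o⟩,⟨.e,.n,.e,.e,.e,.o,.o⟩,⟨.e,.o,.n,.o,.o,.e,.o⟩,⟨.o,.e,.e,.n,.o,.n,.e⟩⟩,
   ⟨⟨.e,.o,.o,.o,.o,.o,.o⟩,⟨.n,.n,.e,.o,.o,.o,.o⟩,⟨.o,.n,.o,.o,.o,.o,.o⟩,⟨.e,.e,.o,.e,.o,.o,.o⟩,⟨.e,.o,.n,.e,.n,.e,.o⟩,⟨.e,.e,.o,.o,.n,.o,.o⟩,⟨.o,.e,.e,.n,.e,.o,.e⟩⟩,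
   ⟨⟨.e,.o,.o,.o,.o,.o,.o⟩,⟨.n,.e,.o,.o,.o,.o,.o⟩,⟨.o,.n,.e,.o,.o,.o,.o⟩,⟨.e,.e,.n,.e,.o,.o,.o⟩,⟨.e,.e,.e,.e,.e,.o,.o⟩,⟨.e,.e,.n,.o,.n,.e,.o⟩,⟨.o,.o,.e,.n,.e,.n,.e⟩⟩,
   ⟨⟨.n,.o,.o,.o,.o,.o,.o⟩,⟨.e,.o,.n,.o,.o,.o,.o⟩,⟨.o,.n,.o,.o,.o,.o,.o⟩,⟨.n,.e,.o,.e,.o,.o,.o⟩,⟨.n,.n,.e,.e,.o,.e,.o⟩,⟨.e,.e,.o,.o,.e,.o,.o⟩,⟨.e,.n,.e,.n,.n,.o,.n⟩⟩,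
   ⟨⟨.e,.o,.o,.o,.o,.o,.o⟩,⟨.n,.e,.o,.o,.o,.o,.o⟩,⟨.o,.o,.e,.o,.o,.o,.o⟩,⟨.e,.o,.n,.e,.o,.o,.o⟩,⟨.e,.n,.e,.e,.e,.o,.o⟩,⟨.n,.o,.n,.o,.o,.e,.o⟩,⟨.n,.n,.e,.n,.o,.n,.e⟩⟩,
   ⟨⟨.n,.e,.o,.o,.o,.o,.o⟩,⟨.e,.e,.o,.o,.o,.o,.o⟩,⟨.o,.n,.e,.e,.e,.o,.o⟩,⟨.n,.n,.n,.o,.e,.o,.o⟩,⟨.n,.e,.e,.n,.e,.o,.o⟩,⟨.e,.o,.n,.n,.o,.n,.e⟩,⟨.e,.n,.e,.o,.e,.e,.e⟩⟩,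
   ⟨⟨.e,.o,.o,.o,.o,.o,.o⟩,⟨.n,.e,.o,.o,.o,.o,.o⟩,⟨.o,.n,.e,.o,.o,.o,.o⟩,⟨.e,.e,.n,.e,.o,.o,.o⟩,⟨.e,.e,.e,.e,.e,.o,.o⟩,⟨.n,.e,.n,.o,.n,.e,.o⟩,⟨.n,.e,.e,.n,.e,.n,.e⟩⟩,
   ⟨⟨.e,.e,.o,.o,.o,.o,.o⟩,⟨.n,.n,.e,.n,.e,.o,.o⟩,⟨.o,.n,.o,.o,.o,.o,.o⟩,⟨.e,.n,.o,.e,.e,.o,.o⟩,⟨.n,.e,.n,.n,.o,.e,.e⟩,⟨.o,.e,.o,.o,.n,.o,.o⟩,⟨.e,.e,.o,.n,.o,.o,.e⟩⟩,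
   ⟨⟨.n,.n,.n,.o,.o,.o,.o⟩,⟨.e,.n,.n,.o,.o,.o,.o⟩,⟨.o,.o,.n,.e,.n,.n,.o⟩,⟨.n,.n,.o,.o,.n,.n,.o⟩,⟨.e,.o,.n,.n,.n,.n,.o⟩,⟨.o,.o,.e,.n,.e,.n,.e⟩,⟨.n,.n,.n,.n,.n,.e,.e⟩⟩,
   ⟨⟨.n,.e,.n,.o,.o,.o,.o⟩,⟨.e,.e,.n,.o,.o,.o,.o⟩,⟨.o,.n,.n,.e,.e,.n,.o⟩,⟨.n,.n,.o,.o,.e,.n,.o⟩,⟨.e,.n,.n,.n,.e,.n,.o⟩,⟨.o,.e,.e,.n,.o,.n,.e⟩,⟨.n,.e,.n,.n,.o,.e,.e⟩⟩,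
   ⟨⟨.e,.e,.o,.o,.o,.o,.o⟩,⟨.n,.o,.o,.o,.o,.o,.o⟩,⟨.o,.n,.e,.n,.e,.o,.o⟩,⟨.e,.n,.n,.n,.o,.o,.o⟩,⟨.n,.o,.e,.o,.o,.o,.o⟩,⟨.o,.e,.n,.e,.e,.e,.e⟩,⟨.e,.e,.o,.n,.o,.n,.o⟩⟩,
   ⟨⟨.e,.o,.o,.o,.o,.o,.o⟩,⟨.n,.o,.e,.o,.o,.o,.o⟩,⟨.o,.n,.e,.o,.o,.o,.o⟩,⟨.e,.e,.n,.e,.o,.o,.o⟩,⟨.n,.n,.o,.e,.o,.e,.o⟩,⟨.e,.e,.n,.o,.n,.e,.o⟩,⟨.o,.o,.e,.n,.e,.n,.e⟩⟩,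
   ⟨⟨.e,.o,.o,.o,.o,.o,.o⟩,⟨.n,.e,.e,.o,.o,.o,.o⟩,⟨.o,.o,.e,.o,.o,.o,.o⟩,⟨.e,.o,.n,.e,.o,.o,.o⟩,⟨.n,.n,.o,.e,.e,.e,.o⟩,⟨.e,.o,.n,.o,.o,.e,.o⟩,⟨.o,.e,.e,.n,.o,.n,.e⟩⟩,
   ⟨⟨.e,.o,.o,.o,.o,.o,.o⟩,⟨.n,.e,.e,.o,.o,.o,.o⟩,⟨.o,.e,.n,.o,.o,.o,.o⟩,⟨.e,.n,.e,.e,.o,.o,.o⟩,⟨.n,.o,.e,.e,.e,.e,.o⟩,⟨.e,.n,.e,.o,.e,.n,.o⟩,⟨.o,.e,.e,.n,.n,.e,.e⟩⟩,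
   ⟨⟨.e,.o,.o,.o,.o,.o,.o⟩,⟨.n,.e,.e,.o,.o,.o,.o⟩,⟨.o,.n,.o,.o,.o,.o,.o⟩,⟨.e,.e,.o,.e,.o,.o,.o⟩,⟨.n,.e,.n,.e,.e,.e,.o⟩,⟨.e,.e,.o,.o,.n,.o,.o⟩,⟨.o,.e,.e,.n,.e,.o,.e⟩⟩,
   ⟨⟨.e,.o,.o,.o,.o,.o,.o⟩,⟨.n,.o,.e,.o,.o,.o,.o⟩,⟨.o,.n,.n,.o,.o,.o,.o⟩,⟨.e,.e,.e,.e,.o,.o,.o⟩,⟨.n,.n,.e,.e,.o,.e,.o⟩,⟨.n,.e,.e,.o,.n,.n,.o⟩,⟨.n,.o,.n,.n,.e,.e,.e⟩⟩,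
   ⟨⟨.e,.o,.o,.o,.o,.o,.o⟩,⟨.n,.n,.e,.o,.o,.o,.o⟩,⟨.o,.o,.n,.o,.o,.o,.o⟩,⟨.e,.o,.e,.e,.o,.o,.o⟩,⟨.n,.e,.e,.e,.n,.e,.o⟩,⟨.n,.o,.e,.o,.o,.n,.o⟩,⟨.n,.e,.n,.n,.o,.e,.e⟩⟩,
   ⟨⟨.e,.o,.o,.o,.o,.o,.o⟩,⟨.n,.e,.e,.o,.o,.o,.o⟩,⟨.o,.e,.n,.o,.o,.o,.o⟩,⟨.e,.n,.e,.e,.o,.o,.o⟩,⟨.n,.o,.e,.e,.e,.e,.o⟩,⟨.n,.n,.e,.o,.e,.n,.o⟩,⟨.n,.n,.n,.n,.n,.e,.e⟩⟩,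
   ⟨⟨.n,.n,.n,.o,.o,.o,.o⟩,⟨.e,.n,.n,.o,.o,.o,.o⟩,⟨.o,.n,.e,.e,.n,.n,.o⟩,⟨.n,.o,.e,.o,.n,.n,.o⟩,⟨.e,.n,.e,.n,.n,.n,.o⟩,⟨.e,.n,.o,.n,.n,.o,.e⟩,⟨.e,.o,.o,.n,.e,.o,.e⟩⟩,
   ⟨⟨.n,.o,.e,.o,.o,.o,.o⟩,⟨.e,.o,.e,.o,.o,.o,.o⟩,⟨.o,.n,.e,.e,.o,.e,.o⟩,⟨.e,.e,.e,.o,.o,.e,.o⟩,⟨.o,.n,.o,.n,.o,.e,.o⟩,⟨.o,.n,.e,.e,.e,.o,.e⟩,⟨.n,.n,.n,.n,.n,.e,.e⟩⟩,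
   ⟨⟨.n,.e,.e,.o,.o,.o,.o⟩,⟨.e,.e,.e,.o,.o,.o,.o⟩,⟨.o,.o,.e,.e,.e,.e,.o⟩,⟨.e,.n,.e,.o,.e,.e,.o⟩,⟨.o,.n,.o,.n,.e,.e,.o⟩,⟨.o,.o,.e,.e,.e,.o,.e⟩,⟨.n,.e,.n,.n,.o,.e,.e⟩⟩,
   ⟨⟨.n,.o,.e,.o,.o,.o,.o⟩,⟨.e,.n,.n,.e,.o,.e,.o⟩,⟨.o,.n,.e,.e,.o,.e,.o⟩,⟨.e,.e,.e,.o,.o,.e,.o⟩,⟨.o,.e,.e,.o,.e,.e,.e⟩,⟨.o,.n,.e,.e,.e,.o,.e⟩,⟨.n,.n,.n,.n,.n,.e,.e⟩⟩,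
   ⟨⟨.n,.o,.e,.o,.o,.o,.o⟩,⟨.e,.e,.o,.n,.o,.n,.o⟩,⟨.o,.n,.e,.e,.o,.e,.o⟩,⟨.e,.e,.e,.o,.o,.e,.o⟩,⟨.o,.o,.n,.e,.n,.e,.n⟩,⟨.o,.n,.e,.e,.e,.o,.e⟩,⟨.n,.n,.n,.n,.n,.e,.e⟩⟩,
   ⟨⟨.e,.o,.o,.o,.o,.o,.o⟩,⟨.n,.o,.e,.o,.o,.o,.o⟩,⟨.o,.n,.e,.o,.o,.o,.o⟩,⟨.n,.e,.n,.e,.o,.o,.o⟩,⟨.o,.n,.n,.e,.o,.e,.o⟩,⟨.e,.n,.e,.o,.n,.e,.o⟩,⟨.o,.n,.n,.e,.e,.n,.e⟩⟩,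
   ⟨⟨.n,.n,.e,.o,.o,.o,.o⟩,⟨.e,.n,.e,.o,.o,.o,.o⟩,⟨.o,.o,.n,.e,.n,.e,.o⟩,⟨.e,.e,.o,.o,.n,.e,.o⟩,⟨.o,.e,.e,.n,.n,.e,.o⟩,⟨.n,.n,.o,.e,.n,.n,.e⟩,⟨.o,.e,.e,.n,.o,.n,.e⟩⟩,
   ⟨⟨.e,.o,.o,.o,.o,.o,.o⟩,⟨.n,.n,.e,.o,.o,.o,.o⟩,⟨.o,.n,.o,.o,.o,.o,.o⟩,⟨.n,.e,.o,.e,.o,.o,.o⟩,⟨.o,.e,.e,.e,.n,.e,.o⟩,⟨.e,.n,.o,.o,.n,.o,.o⟩,⟨.o,.e,.e,.e,.e,.o,.e⟩⟩,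
   ⟨⟨.e,.o,.o,.o,.o,.o,.o⟩,⟨.n,.n,.e,.o,.o,.o,.o⟩,⟨.o,.e,.e,.o,.o,.o,.o⟩,⟨.n,.n,.n,.e,.o,.o,.o⟩,⟨.o,.o,.n,.e,.n,.e,.o⟩,⟨.e,.e,.e,.o,.e,.e,.o⟩,⟨.o,.o,.n,.e,.n,.n,.e⟩⟩,
   ⟨⟨.e,.o,.o,.o,.o,.o,.o⟩,⟨.n,.o,.e,.o,.o,.o,.o⟩,⟨.o,.n,.n,.o,.o,.o,.o⟩,⟨.n,.e,.e,.e,.o,.o,.o⟩,⟨.o,.n,.o,.e,.o,.e,.o⟩,⟨.n,.n,.n,.o,.n,.n,.o⟩,⟨.n,.n,.e,.e,.e,.e,.e⟩⟩,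
   ⟨⟨.e,.o,.o,.o,.o,.o,.o⟩,⟨.n,.e,.e,.o,.o,.o,.o⟩,⟨.o,.o,.e,.o,.o,.o,.o⟩,⟨.n,.o,.n,.e,.o,.o,.o⟩,⟨.o,.e,.n,.e,.e,.e,.o⟩,⟨.n,.o,.e,.o,.o,.e,.o⟩,⟨.n,.n,.o,.e,.o,.n,.e⟩⟩,
   ⟨⟨.e,.o,.o,.o,.o,.o,.o⟩,⟨.n,.e,.e,.o,.o,.o,.o⟩,⟨.o,.e,.n,.o,.o,.o,.o⟩,⟨.n,.n,.e,.e,.o,.o,.o⟩,⟨.o,.n,.o,.e,.e,.e,.o⟩,⟨.n,.e,.n,.o,.e,.n,.o⟩,⟨.n,.o,.e,.e,.n,.e,.e⟩⟩,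
   ⟨⟨.e,.o,.o,.o,.o,.o,.o⟩,⟨.n,.n,.n,.o,.o,.o,.o⟩,⟨.o,.e,.o,.o,.o,.o,.o⟩,⟨.n,.n,.o,.e,.o,.o,.o⟩,⟨.o,.o,.n,.e,.n,.n,.o⟩,⟨.n,.e,.o,.o,.e,.o,.o⟩,⟨.n,.n,.e,.e,.n,.o,.e⟩⟩]

/-- part 38 -/
def repPart38 : List M7 :=
  [⟨⟨.n,.e,.o,.o,.o,.o,.o⟩,⟨.e,.n,.e,.e,.e,.o,.o⟩,⟨.o,.e,.n,.n,.n,.o,.o⟩,⟨.e,.e,.e,.n,.o,.o,.o⟩,⟨.n,.n,.o,.e,.n,.n,.e⟩,⟨.o,.e,.n,.n,.e,.e,.n⟩,⟨.n,.e,.o,.e,.o,.n,.o⟩⟩,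
   ⟨⟨.e,.e,.e,.o,.o,.o,.o⟩,⟨.n,.e,.e,.o,.o,.o,.o⟩,⟨.o,.o,.n,.e,.n,.n,.o⟩,⟨.n,.n,.o,.o,.n,.n,.o⟩,⟨.e,.o,.n,.n,.n,.n,.o⟩,⟨.o,.o,.n,.e,.n,.e,.n⟩,⟨.e,.e,.e,.e,.e,.n,.n⟩⟩,
   ⟨⟨.n,.n,.o,.o,.o,.o,.o⟩,⟨.e,.o,.o,.o,.o,.o,.o⟩,⟨.o,.n,.e,.n,.e,.o,.o⟩,⟨.e,.n,.n,.n,.o,.o,.o⟩,⟨.n,.o,.e,.o,.o,.o,.o⟩,⟨.o,.n,.e,.n,.n,.n,.n⟩,⟨.n,.n,.o,.e,.o,.e,.o⟩⟩,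
   ⟨⟨.e,.n,.e,.o,.o,.o,.o⟩,⟨.n,.n,.e,.o,.o,.o,.o⟩,⟨.o,.n,.n,.e,.e,.n,.o⟩,⟨.n,.n,.o,.o,.e,.n,.o⟩,⟨.e,.n,.n,.n,.e,.n,.o⟩,⟨.o,.n,.n,.e,.o,.e,.n⟩,⟨.e,.n,.e,.e,.o,.n,.n⟩⟩,
   ⟨⟨.e,.o,.o,.o,.o,.o,.o⟩,⟨.n,.o,.n,.o,.o,.o,.o⟩,⟨.o,.e,.o,.o,.o,.o,.o⟩,⟨.n,.n,.o,.e,.o,.o,.o⟩,⟨.e,.e,.n,.e,.o,.n,.o⟩,⟨.e,.e,.o,.o,.e,.o,.o⟩,⟨.o,.o,.n,.e,.n,.o,.e⟩⟩,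
   ⟨⟨.n,.n,.n,.o,.o,.o,.o⟩,⟨.e,.n,.n,.o,.o,.o,.o⟩,⟨.o,.o,.n,.e,.n,.n,.o⟩,⟨.e,.e,.n,.o,.n,.n,.o⟩,⟨.n,.o,.n,.n,.n,.n,.o⟩,⟨.n,.n,.e,.e,.n,.o,.e⟩,⟨.o,.e,.e,.e,.e,.o,.e⟩⟩,
   ⟨⟨.n,.e,.e,.o,.o,.o,.o⟩,⟨.e,.e,.e,.o,.o,.o,.o⟩,⟨.o,.n,.o,.e,.e,.e,.o⟩,⟨.e,.o,.n,.o,.e,.e,.o⟩,⟨.n,.n,.o,.n,.e,.e,.o⟩,⟨.n,.o,.e,.e,.n,.e,.e⟩,⟨.o,.n,.n,.e,.e,.n,.e⟩⟩,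
   ⟨⟨.e,.o,.o,.o,.o,.o,.o⟩,⟨.n,.n,.n,.o,.o,.o,.o⟩,⟨.o,.e,.o,.o,.o,.o,.o⟩,⟨.n,.n,.o,.e,.o,.o,.o⟩,⟨.e,.o,.n,.e,.n,.n,.o⟩,⟨.e,.e,.o,.o,.e,.o,.o⟩,⟨.o,.n,.n,.e,.n,.o,.e⟩⟩,
   ⟨⟨.n,.o,.o,.o,.o,.o,.o⟩,⟨.e,.o,.n,.o,.o,.o,.o⟩,⟨.o,.n,.n,.o,.o,.o,.o⟩,⟨.e,.e,.e,.e,.o,.o,.o⟩,⟨.n,.n,.e,.e,.o,.e,.o⟩,⟨.e,.n,.n,.o,.e,.e,.o⟩,⟨.e,.o,.e,.e,.n,.n,.n⟩⟩,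
   ⟨⟨.e,.n,.o,.o,.e,.o,.o⟩,⟨.n,.o,.o,.o,.n,.o,.o⟩,⟨.o,.o,.n,.n,.n,.o,.e⟩,⟨.n,.e,.e,.n,.n,.o,.n⟩,⟨.e,.e,.n,.o,.e,.o,.e⟩,⟨.n,.e,.n,.n,.e,.n,.n⟩,⟨.n,.n,.o,.e,.e,.e,.o⟩⟩,
   ⟨⟨.e,.o,.o,.o,.o,.o,.o⟩,⟨.n,.e,.n,.o,.o,.o,.o⟩,⟨.o,.e,.o,.o,.o,.o,.o⟩,⟨.n,.n,.o,.e,.o,.o,.o⟩,⟨.e,.n,.n,.e,.e,.n,.o⟩,⟨.n,.e,.o,.o,.e,.o,.o⟩,⟨.n,.n,.e,.e,.n,.o,.e⟩⟩,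
   ⟨⟨.e,.o,.o,.o,.o,.o,.o⟩,⟨.n,.n,.n,.o,.o,.o,.o⟩,⟨.o,.e,.o,.o,.o,.o,.o⟩,⟨.n,.n,.o,.e,.o,.o,.o⟩,⟨.e,.o,.n,.e,.n,.n,.o⟩,⟨.n,.e,.o,.o,.e,.o,.o⟩,⟨.n,.e,.e,.e,.n,.o,.e⟩⟩,
   ⟨⟨.n,.o,.n,.o,.o,.o,.o⟩,⟨.e,.o,.n,.o,.o,.o,.o⟩,⟨.o,.e,.e,.e,.o,.n,.o⟩,⟨.e,.n,.o,.o,.o,.n,.o⟩,⟨.e,.e,.o,.n,.o,.n,.o⟩,⟨.o,.e,.e,.e,.n,.e,.e⟩,⟨.n,.n,.e,.o,.e,.o,.e⟩⟩,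
   ⟨⟨.e,.e,.e,.e,.e,.o,.o⟩,⟨.n,.o,.e,.e,.e,.o,.o⟩,⟨.o,.o,.e,.n,.e,.n,.e⟩,⟨.n,.n,.e,.e,.n,.n,.e⟩,⟨.n,.o,.n,.e,.e,.n,.e⟩,⟨.o,.o,.e,.n,.e,.o,.n⟩,⟨.e,.e,.o,.o,.e,.e,.e⟩⟩,
   ⟨⟨.e,.o,.o,.o,.o,.o,.o⟩,⟨.n,.n,.o,.o,.o,.o,.o⟩,⟨.o,.n,.n,.o,.o,.o,.o⟩,⟨.n,.e,.e,.e,.o,.o,.o⟩,⟨.n,.e,.n,.e,.n,.o,.o⟩,⟨.o,.n,.n,.o,.n,.n,.o⟩,⟨.e,.e,.e,.e,.e,.e,.e⟩⟩,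
   ⟨⟨.e,.o,.o,.o,.o,.o,.o⟩,⟨.n,.n,.e,.o,.o,.o,.o⟩,⟨.o,.e,.e,.o,.o,.o,.o⟩,⟨.n,.n,.n,.e,.o,.o,.o⟩,⟨.n,.o,.n,.e,.n,.e,.o⟩,⟨.o,.e,.e,.o,.e,.e,.o⟩,⟨.e,.n,.n,.e,.n,.n,.e⟩⟩,
   ⟨⟨.e,.o,.o,.o,.o,.o,.o⟩,⟨.n,.o,.e,.o,.o,.o,.o⟩,⟨.o,.n,.o,.o,.o,.o,.o⟩,⟨.n,.e,.o,.e,.o,.o,.o⟩,⟨.n,.n,.e,.e,.o,.e,.o⟩,⟨.e,.n,.o,.o,.n,.o,.o⟩,⟨.o,.e,.e,.e,.e,.o,.e⟩⟩,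
   ⟨⟨.e,.o,.o,.o,.o,.o,.o⟩,⟨.n,.n,.e,.o,.o,.o,.o⟩,⟨.o,.o,.n,.o,.o,.o,.o⟩,⟨.n,.o,.e,.e,.o,.o,.o⟩,⟨.n,.n,.o,.e,.n,.e,.o⟩,⟨.e,.o,.n,.o,.o,.n,.o⟩,⟨.o,.n,.n,.e,.o,.e,.e⟩⟩,
   ⟨⟨.e,.o,.o,.o,.o,.o,.o⟩,⟨.n,.e,.o,.o,.o,.o,.o⟩,⟨.o,.e,.e,.o,.o,.o,.o⟩,⟨.n,.n,.n,.e,.o,.o,.o⟩,⟨.n,.n,.e,.e,.e,.o,.o⟩,⟨.e,.e,.e,.o,.e,.e,.o⟩,⟨.o,.o,.n,.e,.n,.n,.e⟩⟩,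
   ⟨⟨.e,.o,.o,.o,.o,.o,.o⟩,⟨.n,.e,.o,.o,.o,.o,.o⟩,⟨.o,.n,.e,.o,.o,.o,.o⟩,⟨.n,.e,.n,.e,.o,.o,.o⟩,⟨.n,.o,.e,.e,.e,.o,.o⟩,⟨.e,.n,.e,.o,.n,.e,.o⟩,⟨.o,.n,.n,.e,.e,.n,.e⟩⟩,
   ⟨⟨.e,.o,.o,.o,.o,.o,.o⟩,⟨.n,.o,.e,.o,.o,.o,.o⟩,⟨.o,.n,.o,.o,.o,.o,.o⟩,⟨.n,.e,.o,.e,.o,.o,.o⟩,⟨.n,.n,.e,.e,.o,.e,.o⟩,⟨.n,.n,.o,.o,.n,.o,.o⟩,⟨.n,.e,.n,.e,.e,.o,.e⟩⟩,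
   ⟨⟨.n,.e,.o,.o,.e,.o,.o⟩,⟨.e,.e,.o,.o,.n,.o,.o⟩,⟨.o,.o,.e,.e,.e,.o,.e⟩,⟨.e,.n,.n,.o,.o,.o,.n⟩,⟨.e,.e,.e,.n,.o,.o,.e⟩,⟨.e,.n,.e,.e,.o,.n,.n⟩,⟨.e,.o,.n,.o,.o,.e,.o⟩⟩,
   ⟨⟨.e,.o,.o,.o,.o,.o,.o⟩,⟨.n,.n,.e,.o,.o,.o,.o⟩,⟨.o,.n,.o,.o,.o,.o,.o⟩,⟨.n,.e,.o,.e,.o,.o,.o⟩,⟨.n,.e,.e,.e,.n,.e,.o⟩,⟨.n,.n,.o,.o,.n,.o,.o⟩,⟨.n,.n,.n,.e,.e,.o,.e⟩⟩,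
   ⟨⟨.e,.o,.o,.o,.o,.o,.o⟩,⟨.n,.n,.o,.o,.o,.o,.o⟩,⟨.o,.e,.n,.o,.o,.o,.o⟩,⟨.n,.n,.e,.e,.o,.o,.o⟩,⟨.n,.o,.n,.e,.n,.o,.o⟩,⟨.n,.e,.n,.o,.e,.n,.o⟩,⟨.n,.o,.e,.e,.n,.e,.e⟩⟩,
   ⟨⟨.e,.o,.o,.o,.o,.o,.o⟩,⟨.n,.o,.e,.o,.o,.o,.o⟩,⟨.e,.n,.e,.o,.o,.o,.o⟩,⟨.o,.e,.e,.e,.o,.o,.o⟩,⟨.o,.n,.n,.e,.o,.e,.o⟩,⟨.o,.e,.e,.n,.n,.e,.o⟩,⟨.o,.o,.o,.o,.e,.e,.e⟩⟩,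
   ⟨⟨.e,.o,.o,.o,.o,.o,.o⟩,⟨.n,.e,.o,.o,.o,.o,.o⟩,⟨.e,.o,.e,.o,.o,.o,.o⟩,⟨.o,.n,.n,.e,.o,.o,.o⟩,⟨.o,.e,.e,.e,.e,.o,.o⟩,⟨.o,.n,.n,.n,.o,.e,.o⟩,⟨.o,.o,.o,.o,.n,.n,.e⟩⟩,
   ⟨⟨.n,.e,.o,.o,.o,.o,.o⟩,⟨.e,.e,.o,.o,.o,.o,.o⟩,⟨.n,.o,.e,.e,.e,.o,.o⟩,⟨.o,.n,.n,.o,.e,.o,.o⟩,⟨.o,.e,.e,.n,.e,.o,.o⟩,⟨.o,.n,.n,.e,.e,.n,.e⟩,⟨.o,.o,.o,.o,.e,.e,.e⟩⟩,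
   ⟨⟨.e,.o,.o,.o,.o,.o,.o⟩,⟨.n,.n,.e,.o,.o,.o,.o⟩,⟨.e,.e,.e,.o,.o,.o,.o⟩,⟨.o,.o,.e,.e,.o,.o,.o⟩,⟨.o,.o,.n,.e,.n,.e,.o⟩,⟨.o,.o,.e,.n,.e,.e,.o⟩,⟨.o,.o,.o,.o,.o,.e,.e⟩⟩,
   ⟨⟨.e,.o,.o,.o,.o,.o,.o⟩,⟨.n,.o,.e,.o,.o,.o,.o⟩,⟨.e,.n,.n,.o,.o,.o,.o⟩,⟨.o,.e,.o,.e,.o,.o,.o⟩,⟨.o,.n,.o,.e,.o,.e,.o⟩,⟨.e,.e,.o,.n,.n,.n,.o⟩,⟨.n,.o,.e,.o,.e,.o,.e⟩⟩,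
   ⟨⟨.e,.o,.o,.o,.o,.o,.o⟩,⟨.n,.n,.e,.o,.o,.o,.o⟩,⟨.e,.o,.n,.o,.o,.o,.o⟩,⟨.o,.e,.o,.e,.o,.o,.o⟩,⟨.o,.n,.o,.e,.n,.e,.o⟩,⟨.e,.e,.o,.n,.o,.n,.o⟩,⟨.n,.n,.e,.o,.e,.o,.e⟩⟩,
   ⟨⟨.n,.e,.o,.o,.o,.o,.o⟩,⟨.e,.e,.o,.o,.o,.o,.o⟩,⟨.n,.o,.e,.e,.e,.o,.o⟩,⟨.o,.n,.n,.o,.e,.o,.o⟩,⟨.o,.e,.e,.n,.e,.o,.o⟩,⟨.n,.o,.n,.e,.e,.n,.e⟩,⟨.e,.e,.o,.o,.e,.e,.e⟩⟩,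
   ⟨⟨.n,.e,.o,.o,.o,.o,.o⟩,⟨.e,.e,.o,.o,.o,.o,.o⟩,⟨.n,.n,.e,.e,.e,.o,.o⟩,⟨.o,.o,.n,.o,.e,.o,.o⟩,⟨.o,.o,.e,.n,.e,.o,.o⟩,⟨.n,.e,.n,.e,.n,.n,.e⟩,⟨.e,.e,.o,.o,.o,.e,.e⟩⟩]

/-- part 39 -/
def repPart39 : List M7 :=
  [⟨⟨.e,.e,.o,.o,.o,.o,.o⟩,⟨.n,.n,.e,.n,.e,.o,.o⟩,⟨.e,.o,.e,.n,.e,.o,.o⟩,⟨.o,.e,.e,.o,.n,.o,.o⟩,⟨.o,.n,.n,.n,.o,.e,.e⟩,⟨.n,.o,.e,.e,.n,.e,.e⟩,⟨.e,.e,.n,.e,.o,.e,.n⟩⟩,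
   ⟨⟨.e,.o,.o,.o,.o,.o,.o⟩,⟨.n,.e,.o,.o,.o,.o,.o⟩,⟨.e,.o,.e,.o,.o,.o,.o⟩,⟨.o,.n,.n,.e,.o,.o,.o⟩,⟨.o,.e,.e,.e,.e,.o,.o⟩,⟨.n,.n,.n,.n,.o,.e,.o⟩,⟨.e,.n,.o,.o,.n,.n,.e⟩⟩,
   ⟨⟨.n,.o,.o,.o,.o,.o,.o⟩,⟨.e,.n,.o,.o,.o,.o,.o⟩,⟨.n,.n,.e,.o,.o,.o,.o⟩,⟨.o,.n,.n,.e,.o,.o,.o⟩,⟨.o,.e,.e,.e,.e,.o,.o⟩,⟨.e,.n,.n,.n,.e,.n,.o⟩,⟨.n,.e,.o,.o,.e,.e,.n⟩⟩,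
   ⟨⟨.n,.o,.o,.o,.o,.o,.o⟩,⟨.e,.n,.o,.o,.o,.o,.o⟩,⟨.n,.e,.e,.o,.o,.o,.o⟩,⟨.o,.o,.n,.e,.o,.o,.o⟩,⟨.o,.o,.e,.e,.e,.o,.o⟩,⟨.e,.o,.n,.n,.n,.n,.o⟩,⟨.n,.e,.o,.o,.o,.e,.n⟩⟩,
   ⟨⟨.e,.o,.o,.o,.o,.o,.o⟩,⟨.n,.o,.n,.o,.o,.o,.o⟩,⟨.e,.e,.e,.o,.o,.o,.o⟩,⟨.o,.n,.o,.e,.o,.o,.o⟩,⟨.e,.e,.o,.e,.o,.n,.o⟩,⟨.o,.n,.o,.n,.e,.e,.o⟩,⟨.n,.n,.n,.o,.n,.o,.e⟩⟩,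
   ⟨⟨.e,.o,.o,.o,.o,.o,.o⟩,⟨.n,.n,.e,.o,.o,.o,.o⟩,⟨.e,.o,.n,.o,.o,.o,.o⟩,⟨.o,.e,.o,.e,.o,.o,.o⟩,⟨.e,.n,.o,.e,.n,.e,.o⟩,⟨.o,.e,.o,.n,.o,.n,.o⟩,⟨.n,.o,.e,.o,.e,.o,.e⟩⟩,
   ⟨⟨.e,.o,.o,.o,.o,.o,.o⟩,⟨.n,.e,.e,.o,.o,.o,.o⟩,⟨.e,.e,.n,.o,.o,.o,.o⟩,⟨.o,.e,.o,.e,.o,.o,.o⟩,⟨.e,.n,.o,.e,.e,.e,.o⟩,⟨.o,.e,.o,.n,.e,.n,.o⟩,⟨.n,.n,.e,.o,.e,.o,.e⟩⟩,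
   ⟨⟨.n,.e,.o,.o,.o,.o,.o⟩,⟨.e,.e,.o,.o,.o,.o,.o⟩,⟨.n,.n,.e,.e,.e,.o,.o⟩,⟨.o,.o,.n,.o,.e,.o,.o⟩,⟨.n,.e,.e,.n,.e,.o,.o⟩,⟨.o,.o,.n,.e,.n,.n,.e⟩,⟨.e,.e,.n,.n,.n,.e,.e⟩⟩,
   ⟨⟨.e,.o,.o,.o,.o,.o,.o⟩,⟨.n,.o,.e,.o,.o,.o,.o⟩,⟨.e,.n,.e,.o,.o,.o,.o⟩,⟨.o,.e,.e,.e,.o,.o,.o⟩,⟨.e,.n,.n,.e,.o,.e,.o⟩,⟨.e,.e,.e,.n,.n,.e,.o⟩,⟨.e,.e,.o,.o,.e,.e,.e⟩⟩,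
   ⟨⟨.e,.o,.o,.o,.o,.o,.o⟩,⟨.n,.e,.e,.o,.o,.o,.o⟩,⟨.e,.o,.e,.o,.o,.o,.o⟩,⟨.o,.n,.e,.e,.o,.o,.o⟩,⟨.e,.e,.n,.e,.e,.e,.o⟩,⟨.e,.n,.e,.n,.o,.e,.o⟩,⟨.e,.e,.o,.o,.n,.e,.e⟩⟩,
   ⟨⟨.n,.e,.o,.o,.o,.o,.o⟩,⟨.e,.e,.o,.o,.o,.o,.o⟩,⟨.n,.o,.e,.e,.e,.o,.o⟩,⟨.o,.n,.n,.o,.e,.o,.o⟩,⟨.n,.n,.e,.n,.e,.o,.o⟩,⟨.n,.o,.n,.e,.e,.n,.e⟩,⟨.n,.e,.n,.n,.o,.e,.e⟩⟩,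
   ⟨⟨.n,.e,.o,.o,.o,.o,.o⟩,⟨.e,.e,.o,.o,.o,.o,.o⟩,⟨.n,.n,.e,.e,.e,.o,.o⟩,⟨.o,.o,.n,.o,.e,.o,.o⟩,⟨.n,.e,.e,.n,.e,.o,.o⟩,⟨.n,.e,.n,.e,.n,.n,.e⟩,⟨.n,.n,.n,.n,.n,.e,.e⟩⟩,
   ⟨⟨.e,.n,.e,.e,.e,.o,.o⟩,⟨.n,.e,.e,.e,.e,.o,.o⟩,⟨.e,.o,.o,.e,.n,.n,.e⟩,⟨.o,.n,.n,.n,.n,.n,.e⟩,⟨.e,.o,.n,.e,.o,.n,.e⟩,⟨.n,.o,.e,.n,.e,.n,.o⟩,⟨.o,.n,.n,.e,.n,.o,.n⟩⟩,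
   ⟨⟨.n,.n,.o,.o,.o,.o,.o⟩,⟨.e,.o,.e,.n,.e,.o,.o⟩,⟨.n,.n,.e,.n,.e,.o,.o⟩,⟨.o,.e,.e,.o,.n,.o,.o⟩,⟨.n,.e,.n,.n,.e,.n,.n⟩,⟨.e,.n,.e,.e,.o,.n,.n⟩,⟨.o,.e,.e,.n,.o,.n,.e⟩⟩,
   ⟨⟨.n,.n,.o,.o,.o,.o,.o⟩,⟨.e,.n,.o,.o,.o,.o,.o⟩,⟨.n,.o,.n,.e,.n,.o,.o⟩,⟨.o,.e,.e,.o,.n,.o,.o⟩,⟨.n,.e,.n,.n,.n,.o,.o⟩,⟨.e,.n,.e,.e,.n,.e,.e⟩,⟨.o,.e,.e,.n,.o,.n,.e⟩⟩,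
   ⟨⟨.n,.n,.o,.o,.o,.o,.o⟩,⟨.e,.n,.e,.n,.e,.o,.o⟩,⟨.n,.e,.e,.n,.e,.o,.o⟩,⟨.o,.o,.e,.o,.n,.o,.o⟩,⟨.n,.n,.n,.n,.n,.n,.n⟩,⟨.e,.e,.e,.e,.e,.n,.n⟩,⟨.o,.o,.e,.n,.e,.n,.e⟩⟩,
   ⟨⟨.e,.o,.o,.o,.o,.o,.o⟩,⟨.n,.o,.n,.o,.o,.o,.o⟩,⟨.e,.e,.n,.o,.o,.o,.o⟩,⟨.o,.n,.n,.e,.o,.o,.o⟩,⟨.n,.e,.e,.e,.o,.n,.o⟩,⟨.o,.n,.n,.n,.e,.n,.o⟩,⟨.e,.e,.n,.o,.n,.n,.e⟩⟩,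
   ⟨⟨.e,.n,.o,.o,.o,.o,.o⟩,⟨.n,.n,.o,.o,.o,.o,.o⟩,⟨.e,.n,.e,.e,.e,.o,.o⟩,⟨.o,.n,.n,.o,.e,.o,.o⟩,⟨.n,.n,.e,.n,.e,.o,.o⟩,⟨.o,.n,.n,.e,.o,.e,.n⟩,⟨.e,.n,.e,.e,.o,.n,.n⟩⟩,
   ⟨⟨.e,.o,.o,.o,.o,.o,.o⟩,⟨.n,.e,.n,.o,.o,.o,.o⟩,⟨.e,.e,.o,.o,.o,.o,.o⟩,⟨.o,.e,.e,.e,.o,.o,.o⟩,⟨.n,.n,.n,.e,.e,.n,.o⟩,⟨.o,.e,.e,.n,.e,.o,.o⟩,⟨.e,.e,.o,.o,.e,.e,.e⟩⟩,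
   ⟨⟨.e,.n,.o,.o,.o,.o,.o⟩,⟨.n,.n,.o,.o,.o,.o,.o⟩,⟨.e,.e,.e,.e,.e,.o,.o⟩,⟨.o,.o,.n,.o,.e,.o,.o⟩,⟨.n,.e,.e,.n,.e,.o,.o⟩,⟨.o,.o,.n,.e,.n,.e,.n⟩,⟨.e,.e,.e,.e,.e,.n,.n⟩⟩,
   ⟨⟨.n,.o,.e,.o,.o,.o,.o⟩,⟨.e,.o,.e,.o,.o,.o,.o⟩,⟨.n,.n,.e,.e,.o,.e,.o⟩,⟨.o,.e,.e,.o,.o,.e,.o⟩,⟨.e,.n,.e,.n,.o,.e,.o⟩,⟨.n,.e,.n,.e,.e,.o,.e⟩,⟨.o,.n,.n,.e,.n,.o,.e⟩⟩,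
   ⟨⟨.e,.e,.o,.o,.n,.o,.o⟩,⟨.n,.o,.o,.o,.e,.o,.o⟩,⟨.e,.e,.e,.n,.o,.o,.e⟩,⟨.o,.n,.n,.n,.o,.o,.n⟩,⟨.n,.o,.e,.o,.e,.o,.e⟩,⟨.e,.o,.n,.o,.o,.e,.o⟩,⟨.o,.e,.e,.n,.o,.n,.e⟩⟩,
   ⟨⟨.n,.n,.o,.o,.o,.o,.o⟩,⟨.e,.o,.o,.o,.o,.o,.o⟩,⟨.n,.e,.e,.n,.e,.o,.o⟩,⟨.o,.n,.n,.n,.o,.o,.o⟩,⟨.e,.n,.e,.o,.o,.o,.o⟩,⟨.n,.e,.n,.o,.n,.n,.n⟩,⟨.o,.e,.e,.n,.n,.e,.o⟩⟩,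
   ⟨⟨.n,.n,.e,.o,.o,.o,.o⟩,⟨.e,.n,.e,.o,.o,.o,.o⟩,⟨.n,.e,.e,.e,.n,.e,.o⟩,⟨.o,.o,.e,.o,.n,.e,.o⟩,⟨.e,.e,.e,.n,.n,.e,.o⟩,⟨.n,.n,.n,.e,.e,.o,.e⟩,⟨.o,.o,.n,.e,.n,.o,.e⟩⟩,
   ⟨⟨.e,.o,.o,.o,.o,.o,.o⟩,⟨.n,.o,.n,.o,.o,.o,.o⟩,⟨.e,.e,.e,.o,.o,.o,.o⟩,⟨.o,.n,.o,.e,.o,.o,.o⟩,⟨.n,.e,.o,.e,.o,.n,.o⟩,⟨.n,.n,.o,.n,.e,.e,.o⟩,⟨.n,.e,.n,.o,.n,.o,.e⟩⟩,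
   ⟨⟨.e,.o,.o,.o,.o,.o,.o⟩,⟨.n,.e,.e,.o,.o,.o,.o⟩,⟨.e,.o,.e,.o,.o,.o,.o⟩,⟨.o,.n,.e,.e,.o,.o,.o⟩,⟨.n,.e,.n,.e,.e,.e,.o⟩,⟨.n,.n,.e,.n,.o,.e,.o⟩,⟨.n,.n,.o,.o,.n,.e,.e⟩⟩,
   ⟨⟨.n,.n,.e,.o,.o,.o,.o⟩,⟨.e,.n,.e,.o,.o,.o,.o⟩,⟨.n,.o,.n,.e,.n,.e,.o⟩,⟨.o,.e,.o,.o,.n,.e,.o⟩,⟨.e,.o,.n,.n,.n,.e,.o⟩,⟨.e,.n,.n,.e,.n,.n,.e⟩,⟨.e,.e,.e,.e,.e,.e,.e⟩⟩,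
   ⟨⟨.n,.e,.o,.o,.o,.o,.o⟩,⟨.e,.e,.o,.o,.o,.o,.o⟩,⟨.n,.n,.e,.e,.e,.o,.o⟩,⟨.o,.o,.n,.o,.e,.o,.o⟩,⟨.e,.n,.e,.n,.e,.o,.o⟩,⟨.e,.n,.n,.e,.n,.n,.e⟩,⟨.e,.e,.e,.e,.e,.e,.e⟩⟩,
   ⟨⟨.e,.o,.n,.o,.o,.o,.o⟩,⟨.n,.o,.n,.o,.o,.o,.o⟩,⟨.e,.n,.n,.e,.o,.e,.o⟩,⟨.e,.e,.e,.o,.o,.e,.o⟩,⟨.o,.n,.o,.n,.o,.e,.o⟩,⟨.o,.n,.n,.o,.n,.n,.n⟩,⟨.e,.e,.e,.e,.e,.n,.n⟩⟩,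
   ⟨⟨.e,.e,.o,.o,.o,.o,.o⟩,⟨.n,.e,.e,.n,.e,.o,.o⟩,⟨.e,.e,.n,.e,.n,.o,.o⟩,⟨.e,.n,.o,.e,.e,.o,.o⟩,⟨.o,.o,.n,.n,.n,.e,.e⟩,⟨.o,.e,.e,.e,.o,.n,.n⟩,⟨.e,.n,.o,.n,.o,.o,.e⟩⟩,
   ⟨⟨.e,.n,.o,.o,.o,.o,.o⟩,⟨.n,.o,.n,.n,.n,.o,.o⟩,⟨.e,.e,.e,.e,.e,.o,.o⟩,⟨.e,.e,.o,.e,.n,.o,.o⟩,⟨.o,.n,.e,.n,.n,.n,.e⟩,⟨.o,.o,.n,.e,.n,.e,.n⟩,⟨.e,.e,.o,.n,.o,.o,.e⟩⟩,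
   ⟨⟨.n,.e,.e,.n,.e,.o,.o⟩,⟨.e,.o,.e,.n,.e,.o,.o⟩,⟨.n,.o,.e,.o,.e,.e,.e⟩,⟨.n,.e,.n,.e,.e,.e,.e⟩,⟨.o,.n,.o,.n,.e,.e,.e⟩,⟨.o,.e,.e,.n,.o,.n,.o⟩,⟨.n,.e,.n,.n,.o,.n,.o⟩⟩]

/-- part 40 -/
def repPart40 : List M7 :=
  [⟨⟨.e,.o,.o,.o,.o,.o,.o⟩,⟨.n,.o,.n,.o,.o,.o,.o⟩,⟨.e,.e,.e,.o,.o,.o,.o⟩,⟨.e,.n,.o,.e,.o,.o,.o⟩,⟨.o,.e,.e,.e,.o,.n,.o⟩,⟨.e,.e,.n,.n,.e,.e,.o⟩,⟨.o,.n,.n,.n,.n,.o,.e⟩⟩,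
   ⟨⟨.e,.o,.o,.o,.o,.o,.o⟩,⟨.n,.n,.n,.o,.o,.o,.o⟩,⟨.e,.o,.n,.o,.o,.o,.o⟩,⟨.e,.e,.n,.e,.o,.o,.o⟩,⟨.o,.o,.n,.e,.n,.n,.o⟩,⟨.e,.e,.o,.n,.o,.n,.o⟩,⟨.o,.o,.e,.n,.e,.n,.e⟩⟩,
   ⟨⟨.n,.n,.e,.o,.o,.o,.o⟩,⟨.e,.n,.e,.o,.o,.o,.o⟩,⟨.n,.o,.n,.e,.n,.e,.o⟩,⟨.n,.o,.e,.o,.n,.e,.o⟩,⟨.o,.e,.e,.n,.n,.e,.o⟩,⟨.n,.n,.o,.o,.o,.e,.e⟩,⟨.o,.n,.n,.e,.n,.o,.e⟩⟩,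
   ⟨⟨.e,.o,.o,.o,.o,.o,.o⟩,⟨.n,.e,.n,.o,.o,.o,.o⟩,⟨.e,.n,.n,.o,.o,.o,.o⟩,⟨.e,.o,.n,.e,.o,.o,.o⟩,⟨.o,.n,.n,.e,.e,.n,.o⟩,⟨.e,.e,.o,.n,.n,.n,.o⟩,⟨.o,.e,.e,.n,.o,.n,.e⟩⟩,
   ⟨⟨.n,.n,.o,.o,.o,.o,.o⟩,⟨.e,.e,.e,.n,.e,.o,.o⟩,⟨.n,.o,.n,.e,.n,.o,.o⟩,⟨.n,.e,.o,.e,.e,.o,.o⟩,⟨.o,.e,.n,.n,.o,.n,.n⟩,⟨.e,.n,.e,.e,.n,.e,.e⟩,⟨.e,.o,.n,.o,.n,.o,.n⟩⟩,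
   ⟨⟨.n,.n,.o,.o,.o,.o,.o⟩,⟨.e,.o,.o,.o,.o,.o,.o⟩,⟨.n,.n,.e,.n,.e,.o,.o⟩,⟨.n,.o,.n,.n,.o,.o,.o⟩,⟨.o,.o,.e,.o,.o,.o,.o⟩,⟨.e,.n,.e,.e,.o,.n,.n⟩,⟨.e,.o,.n,.o,.o,.e,.o⟩⟩,
   ⟨⟨.n,.n,.o,.o,.o,.o,.o⟩,⟨.e,.o,.o,.o,.o,.o,.o⟩,⟨.n,.e,.e,.n,.e,.o,.o⟩,⟨.n,.e,.n,.n,.o,.o,.o⟩,⟨.o,.n,.e,.o,.o,.o,.o⟩,⟨.e,.e,.e,.e,.e,.n,.n⟩,⟨.e,.e,.n,.o,.n,.e,.o⟩⟩,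
   ⟨⟨.e,.o,.o,.o,.o,.o,.o⟩,⟨.n,.n,.n,.o,.o,.o,.o⟩,⟨.e,.e,.o,.o,.o,.o,.o⟩,⟨.e,.o,.e,.e,.o,.o,.o⟩,⟨.o,.e,.o,.e,.n,.n,.o⟩,⟨.n,.n,.e,.n,.e,.o,.o⟩,⟨.n,.e,.n,.n,.o,.e,.e⟩⟩,
   ⟨⟨.e,.o,.o,.o,.o,.o,.o⟩,⟨.n,.o,.n,.o,.o,.o,.o⟩,⟨.e,.e,.o,.o,.o,.o,.o⟩,⟨.e,.n,.e,.e,.o,.o,.o⟩,⟨.e,.e,.o,.e,.o,.n,.o⟩,⟨.o,.e,.e,.n,.e,.o,.o⟩,⟨.o,.e,.e,.n,.n,.e,.e⟩⟩,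
   ⟨⟨.e,.o,.o,.o,.o,.o,.o⟩,⟨.n,.n,.e,.o,.o,.o,.o⟩,⟨.e,.o,.n,.o,.o,.o,.o⟩,⟨.e,.e,.o,.e,.o,.o,.o⟩,⟨.e,.o,.n,.e,.n,.e,.o⟩,⟨.o,.e,.e,.n,.o,.n,.o⟩,⟨.o,.e,.e,.n,.e,.o,.e⟩⟩,
   ⟨⟨.e,.o,.o,.o,.o,.o,.o⟩,⟨.n,.e,.o,.o,.o,.o,.o⟩,⟨.e,.e,.e,.o,.o,.o,.o⟩,⟨.e,.e,.n,.e,.o,.o,.o⟩,⟨.e,.e,.e,.e,.e,.o,.o⟩,⟨.o,.o,.e,.n,.e,.e,.o⟩,⟨.o,.o,.e,.n,.e,.n,.e⟩⟩,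
   ⟨⟨.e,.o,.o,.o,.o,.o,.o⟩,⟨.n,.e,.o,.o,.o,.o,.o⟩,⟨.e,.n,.e,.o,.o,.o,.o⟩,⟨.e,.o,.n,.e,.o,.o,.o⟩,⟨.e,.n,.e,.e,.e,.o,.o⟩,⟨.o,.e,.e,.n,.n,.e,.o⟩,⟨.o,.e,.e,.n,.o,.n,.e⟩⟩,
   ⟨⟨.e,.o,.e,.o,.o,.o,.o⟩,⟨.n,.o,.o,.o,.o,.o,.o⟩,⟨.e,.n,.n,.n,.o,.e,.o⟩,⟨.e,.e,.n,.n,.o,.o,.o⟩,⟨.e,.n,.n,.o,.o,.o,.o⟩,⟨.e,.n,.e,.e,.n,.e,.e⟩,⟨.n,.n,.o,.e,.e,.e,.o⟩⟩,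
   ⟨⟨.e,.o,.o,.o,.o,.o,.o⟩,⟨.n,.e,.o,.o,.o,.o,.o⟩,⟨.e,.o,.e,.o,.o,.o,.o⟩,⟨.e,.n,.n,.e,.o,.o,.o⟩,⟨.e,.o,.e,.e,.e,.o,.o⟩,⟨.e,.n,.e,.n,.o,.e,.o⟩,⟨.n,.o,.e,.n,.n,.n,.e⟩⟩,
   ⟨⟨.e,.o,.o,.o,.o,.o,.o⟩,⟨.n,.e,.o,.o,.o,.o,.o⟩,⟨.e,.e,.e,.o,.o,.o,.o⟩,⟨.e,.e,.n,.e,.o,.o,.o⟩,⟨.e,.e,.e,.e,.e,.o,.o⟩,⟨.e,.o,.e,.n,.e,.e,.o⟩,⟨.n,.e,.e,.n,.e,.n,.e⟩⟩,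
   ⟨⟨.e,.o,.o,.o,.o,.o,.o⟩,⟨.n,.e,.o,.o,.o,.o,.o⟩,⟨.e,.n,.e,.o,.o,.o,.o⟩,⟨.e,.o,.n,.e,.o,.o,.o⟩,⟨.e,.n,.e,.e,.e,.o,.o⟩,⟨.e,.e,.e,.n,.n,.e,.o⟩,⟨.n,.n,.e,.n,.o,.n,.e⟩⟩,
   ⟨⟨.e,.o,.o,.o,.o,.o,.o⟩,⟨.n,.o,.e,.o,.o,.o,.o⟩,⟨.e,.n,.o,.o,.o,.o,.o⟩,⟨.e,.e,.n,.e,.o,.o,.o⟩,⟨.e,.n,.o,.e,.o,.e,.o⟩,⟨.n,.n,.n,.n,.n,.o,.o⟩,⟨.e,.n,.e,.n,.e,.n,.e⟩⟩,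
   ⟨⟨.e,.o,.o,.o,.o,.o,.o⟩,⟨.n,.e,.o,.o,.o,.o,.o⟩,⟨.e,.o,.e,.o,.o,.o,.o⟩,⟨.e,.n,.n,.e,.o,.o,.o⟩,⟨.e,.o,.e,.e,.e,.o,.o⟩,⟨.n,.n,.e,.n,.o,.e,.o⟩,⟨.e,.e,.e,.n,.n,.n,.e⟩⟩,
   ⟨⟨.e,.o,.o,.o,.o,.o,.o⟩,⟨.n,.n,.e,.o,.o,.o,.o⟩,⟨.e,.n,.o,.o,.o,.o,.o⟩,⟨.e,.n,.n,.e,.o,.o,.o⟩,⟨.e,.n,.o,.e,.n,.e,.o⟩,⟨.n,.o,.n,.n,.n,.o,.o⟩,⟨.e,.e,.e,.n,.n,.n,.e⟩⟩,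
   ⟨⟨.e,.o,.o,.o,.o,.o,.o⟩,⟨.n,.n,.e,.o,.o,.o,.o⟩,⟨.e,.e,.e,.o,.o,.o,.o⟩,⟨.e,.o,.e,.e,.o,.o,.o⟩,⟨.e,.e,.e,.e,.n,.e,.o⟩,⟨.n,.n,.o,.n,.e,.e,.o⟩,⟨.e,.o,.n,.n,.o,.e,.e⟩⟩,
   ⟨⟨.e,.e,.o,.o,.o,.o,.o⟩,⟨.n,.n,.e,.n,.e,.o,.o⟩,⟨.e,.o,.n,.e,.n,.o,.o⟩,⟨.e,.n,.o,.e,.e,.o,.o⟩,⟨.n,.e,.n,.n,.o,.e,.e⟩,⟨.o,.n,.e,.e,.n,.n,.n⟩,⟨.n,.n,.n,.o,.n,.o,.e⟩⟩,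
   ⟨⟨.e,.o,.o,.o,.o,.o,.o⟩,⟨.n,.e,.e,.o,.o,.o,.o⟩,⟨.e,.o,.e,.o,.o,.o,.o⟩,⟨.e,.n,.e,.e,.o,.o,.o⟩,⟨.n,.o,.e,.e,.e,.e,.o⟩,⟨.o,.n,.o,.n,.o,.e,.o⟩,⟨.n,.n,.n,.n,.n,.e,.e⟩⟩,
   ⟨⟨.n,.e,.n,.e,.n,.o,.o⟩,⟨.e,.o,.n,.e,.n,.o,.o⟩,⟨.n,.n,.n,.n,.n,.n,.n⟩,⟨.n,.n,.e,.n,.o,.n,.n⟩,⟨.e,.o,.e,.e,.n,.n,.n⟩,⟨.o,.o,.n,.e,.n,.e,.n⟩,⟨.e,.e,.o,.n,.o,.o,.e⟩⟩,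
   ⟨⟨.e,.o,.o,.o,.o,.o,.o⟩,⟨.n,.n,.e,.o,.o,.o,.o⟩,⟨.e,.e,.e,.o,.o,.o,.o⟩,⟨.e,.o,.e,.e,.o,.o,.o⟩,⟨.n,.e,.e,.e,.n,.e,.o⟩,⟨.o,.n,.o,.n,.e,.e,.o⟩,⟨.n,.e,.n,.n,.o,.e,.e⟩⟩,
   ⟨⟨.e,.e,.o,.o,.o,.o,.o⟩,⟨.n,.n,.e,.n,.e,.o,.o⟩,⟨.e,.o,.n,.e,.n,.o,.o⟩,⟨.e,.n,.o,.e,.e,.o,.o⟩,⟨.n,.e,.n,.n,.o,.e,.e⟩,⟨.e,.o,.e,.e,.n,.n,.n⟩,⟨.e,.e,.o,.n,.o,.o,.e⟩⟩,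
   ⟨⟨.n,.n,.o,.o,.o,.o,.o⟩,⟨.e,.o,.o,.o,.o,.o,.o⟩,⟨.n,.n,.e,.n,.e,.o,.o⟩,⟨.n,.o,.n,.n,.o,.o,.o⟩,⟨.e,.e,.e,.o,.o,.o,.o⟩,⟨.n,.o,.e,.e,.o,.n,.n⟩,⟨.n,.n,.o,.n,.e,.e,.o⟩⟩,
   ⟨⟨.e,.e,.o,.o,.o,.o,.o⟩,⟨.n,.o,.o,.o,.o,.o,.o⟩,⟨.e,.n,.e,.n,.e,.o,.o⟩,⟨.e,.n,.n,.n,.o,.o,.o⟩,⟨.n,.o,.e,.o,.o,.o,.o⟩,⟨.e,.e,.e,.e,.e,.e,.e⟩,⟨.e,.e,.o,.n,.o,.n,.o⟩⟩,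
   ⟨⟨.e,.e,.o,.o,.o,.o,.o⟩,⟨.n,.o,.o,.o,.o,.o,.o⟩,⟨.e,.o,.e,.n,.e,.o,.o⟩,⟨.e,.e,.n,.n,.o,.o,.o⟩,⟨.n,.e,.e,.o,.o,.o,.o⟩,⟨.e,.n,.e,.e,.n,.e,.e⟩,⟨.e,.e,.o,.n,.n,.n,.o⟩⟩,
   ⟨⟨.e,.e,.o,.o,.o,.o,.o⟩,⟨.n,.n,.e,.n,.e,.o,.o⟩,⟨.e,.o,.n,.e,.n,.o,.o⟩,⟨.e,.n,.o,.e,.e,.o,.o⟩,⟨.n,.e,.n,.n,.o,.e,.e⟩,⟨.n,.e,.e,.e,.n,.n,.n⟩,⟨.o,.o,.e,.e,.e,.o,.e⟩⟩,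
   ⟨⟨.n,.n,.n,.o,.o,.o,.o⟩,⟨.e,.n,.n,.o,.o,.o,.o⟩,⟨.n,.n,.e,.e,.n,.n,.o⟩,⟨.n,.e,.n,.o,.n,.n,.o⟩,⟨.e,.e,.o,.n,.n,.n,.o⟩,⟨.e,.o,.n,.o,.e,.n,.e⟩,⟨.o,.e,.e,.n,.o,.n,.e⟩⟩,
   ⟨⟨.e,.e,.o,.o,.o,.o,.o⟩,⟨.n,.o,.e,.n,.e,.o,.o⟩,⟨.e,.n,.n,.e,.n,.o,.o⟩,⟨.e,.n,.o,.e,.e,.o,.o⟩,⟨.n,.o,.n,.n,.e,.e,.e⟩,⟨.n,.n,.e,.e,.e,.n,.n⟩,⟨.o,.e,.e,.e,.e,.o,.e⟩⟩,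
   ⟨⟨.e,.o,.o,.o,.o,.o,.o⟩,⟨.n,.e,.e,.o,.o,.o,.o⟩,⟨.e,.n,.o,.o,.o,.o,.o⟩,⟨.e,.o,.n,.e,.o,.o,.o⟩,⟨.n,.n,.o,.e,.e,.e,.o⟩,⟨.n,.e,.n,.n,.n,.o,.o⟩,⟨.o,.e,.e,.n,.o,.n,.e⟩⟩]

/-- part 41 -/
def repPart41 : List M7 :=
  [⟨⟨.n,.o,.e,.o,.o,.o,.o⟩,⟨.e,.o,.e,.o,.o,.o,.o⟩,⟨.n,.n,.o,.e,.o,.e,.o⟩,⟨.e,.e,.e,.o,.o,.e,.o⟩,⟨.o,.n,.o,.n,.o,.e,.o⟩,⟨.o,.o,.e,.n,.e,.n,.e⟩,⟨.n,.n,.n,.n,.n,.e,.e⟩⟩,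
   ⟨⟨.n,.e,.o,.o,.o,.o,.o⟩,⟨.e,.o,.e,.e,.e,.o,.o⟩,⟨.n,.e,.n,.n,.n,.o,.o⟩,⟨.e,.e,.o,.e,.n,.o,.o⟩,⟨.o,.n,.e,.n,.n,.n,.e⟩,⟨.o,.n,.n,.e,.o,.e,.n⟩,⟨.n,.n,.o,.e,.o,.o,.n⟩⟩,
   ⟨⟨.n,.e,.o,.o,.o,.o,.o⟩,⟨.e,.e,.e,.e,.e,.o,.o⟩,⟨.n,.o,.n,.n,.n,.o,.o⟩,⟨.e,.e,.o,.e,.n,.o,.o⟩,⟨.o,.o,.e,.n,.e,.n,.e⟩,⟨.o,.e,.n,.e,.e,.e,.n⟩,⟨.n,.n,.o,.e,.o,.o,.n⟩⟩,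
   ⟨⟨.n,.e,.e,.o,.o,.o,.o⟩,⟨.e,.e,.e,.o,.o,.o,.o⟩,⟨.n,.n,.o,.e,.e,.e,.o⟩,⟨.e,.n,.e,.o,.e,.e,.o⟩,⟨.o,.n,.o,.n,.e,.e,.o⟩,⟨.o,.e,.e,.n,.o,.n,.e⟩,⟨.n,.e,.n,.n,.o,.e,.e⟩⟩,
   ⟨⟨.e,.o,.o,.o,.o,.o,.o⟩,⟨.n,.o,.e,.o,.o,.o,.o⟩,⟨.e,.n,.n,.o,.o,.o,.o⟩,⟨.n,.e,.o,.e,.o,.o,.o⟩,⟨.o,.n,.e,.e,.o,.e,.o⟩,⟨.e,.o,.n,.n,.n,.n,.o⟩,⟨.o,.n,.e,.e,.e,.o,.e⟩⟩,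
   ⟨⟨.e,.o,.o,.o,.o,.o,.o⟩,⟨.n,.e,.n,.o,.o,.o,.o⟩,⟨.e,.o,.e,.o,.o,.o,.o⟩,⟨.n,.n,.o,.e,.o,.o,.o⟩,⟨.o,.n,.n,.e,.e,.n,.o⟩,⟨.e,.n,.e,.n,.o,.e,.o⟩,⟨.o,.n,.n,.e,.n,.o,.e⟩⟩,
   ⟨⟨.e,.o,.o,.o,.o,.o,.o⟩,⟨.n,.n,.n,.o,.o,.o,.o⟩,⟨.e,.n,.e,.o,.o,.o,.o⟩,⟨.n,.n,.o,.e,.o,.o,.o⟩,⟨.o,.o,.n,.e,.n,.n,.o⟩,⟨.e,.e,.e,.n,.n,.e,.o⟩,⟨.o,.o,.n,.e,.n,.o,.e⟩⟩,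
   ⟨⟨.n,.n,.e,.o,.o,.o,.o⟩,⟨.e,.n,.e,.o,.o,.o,.o⟩,⟨.n,.e,.e,.e,.n,.e,.o⟩,⟨.e,.e,.o,.o,.n,.e,.o⟩,⟨.o,.e,.e,.n,.n,.e,.o⟩,⟨.n,.e,.n,.n,.o,.e,.e⟩,⟨.o,.e,.e,.n,.o,.n,.e⟩⟩,
   ⟨⟨.n,.o,.o,.o,.o,.o,.o⟩,⟨.e,.o,.e,.o,.o,.o,.o⟩,⟨.n,.e,.e,.o,.o,.o,.o⟩,⟨.e,.n,.e,.e,.o,.o,.o⟩,⟨.o,.e,.o,.e,.o,.n,.o⟩,⟨.e,.o,.n,.n,.n,.n,.o⟩,⟨.e,.e,.e,.e,.e,.n,.n⟩⟩,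
   ⟨⟨.e,.e,.o,.o,.o,.o,.o⟩,⟨.n,.o,.o,.o,.o,.o,.o⟩,⟨.e,.e,.e,.n,.e,.o,.o⟩,⟨.n,.e,.n,.n,.o,.o,.o⟩,⟨.o,.n,.e,.o,.o,.o,.o⟩,⟨.n,.e,.o,.n,.n,.e,.e⟩,⟨.n,.n,.e,.o,.e,.n,.o⟩⟩,
   ⟨⟨.e,.o,.o,.o,.o,.o,.o⟩,⟨.n,.n,.e,.o,.o,.o,.o⟩,⟨.e,.n,.o,.o,.o,.o,.o⟩,⟨.n,.n,.n,.e,.o,.o,.o⟩,⟨.o,.o,.n,.e,.n,.e,.o⟩,⟨.n,.e,.n,.n,.n,.o,.o⟩,⟨.n,.n,.o,.e,.n,.n,.e⟩⟩,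
   ⟨⟨.e,.o,.o,.o,.o,.o,.o⟩,⟨.n,.e,.e,.o,.o,.o,.o⟩,⟨.e,.n,.o,.o,.o,.o,.o⟩,⟨.n,.o,.n,.e,.o,.o,.o⟩,⟨.o,.e,.n,.e,.e,.e,.o⟩,⟨.n,.n,.n,.n,.n,.o,.o⟩,⟨.n,.n,.o,.e,.o,.n,.e⟩⟩,
   ⟨⟨.e,.o,.o,.o,.o,.o,.o⟩,⟨.n,.o,.n,.o,.o,.o,.o⟩,⟨.e,.e,.e,.o,.o,.o,.o⟩,⟨.n,.n,.o,.e,.o,.o,.o⟩,⟨.e,.e,.n,.e,.o,.n,.o⟩,⟨.o,.o,.e,.n,.e,.e,.o⟩,⟨.o,.o,.n,.e,.n,.o,.e⟩⟩,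
   ⟨⟨.n,.e,.e,.o,.o,.o,.o⟩,⟨.e,.e,.e,.o,.o,.o,.o⟩,⟨.n,.e,.n,.e,.e,.e,.o⟩,⟨.e,.o,.n,.o,.e,.e,.o⟩,⟨.n,.n,.o,.n,.e,.e,.o⟩,⟨.o,.e,.e,.n,.e,.o,.e⟩,⟨.o,.n,.n,.e,.e,.n,.e⟩⟩,
   ⟨⟨.e,.o,.o,.o,.o,.o,.o⟩,⟨.n,.n,.n,.o,.o,.o,.o⟩,⟨.e,.n,.e,.o,.o,.o,.o⟩,⟨.n,.n,.o,.e,.o,.o,.o⟩,⟨.e,.o,.n,.e,.n,.n,.o⟩,⟨.o,.e,.e,.n,.n,.e,.o⟩,⟨.o,.n,.n,.e,.n,.o,.e⟩⟩,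
   ⟨⟨.n,.n,.n,.o,.o,.o,.o⟩,⟨.e,.n,.n,.o,.o,.o,.o⟩,⟨.n,.e,.o,.e,.n,.n,.o⟩,⟨.e,.e,.n,.o,.n,.n,.o⟩,⟨.n,.o,.n,.n,.n,.n,.o⟩,⟨.o,.n,.n,.n,.o,.e,.e⟩,⟨.o,.e,.e,.e,.e,.o,.e⟩⟩,
   ⟨⟨.e,.e,.o,.o,.o,.o,.o⟩,⟨.n,.n,.n,.e,.n,.o,.o⟩,⟨.e,.n,.e,.n,.e,.o,.o⟩,⟨.n,.e,.o,.e,.e,.o,.o⟩,⟨.e,.n,.n,.n,.o,.n,.n⟩,⟨.e,.e,.e,.e,.e,.e,.e⟩,⟨.n,.n,.e,.o,.e,.o,.e⟩⟩,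
   ⟨⟨.e,.e,.o,.o,.o,.o,.o⟩,⟨.n,.o,.o,.o,.o,.o,.o⟩,⟨.e,.e,.e,.n,.e,.o,.o⟩,⟨.n,.e,.n,.n,.o,.o,.o⟩,⟨.e,.o,.e,.o,.o,.o,.o⟩,⟨.e,.o,.o,.n,.n,.e,.e⟩,⟨.n,.e,.o,.e,.o,.n,.o⟩⟩,
   ⟨⟨.n,.o,.o,.o,.o,.o,.o⟩,⟨.e,.n,.n,.o,.o,.o,.o⟩,⟨.n,.n,.o,.o,.o,.o,.o⟩,⟨.e,.n,.e,.e,.o,.o,.o⟩,⟨.n,.o,.e,.e,.e,.e,.o⟩,⟨.n,.e,.e,.n,.e,.o,.o⟩,⟨.e,.e,.e,.e,.e,.n,.n⟩⟩,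
   ⟨⟨.e,.e,.o,.o,.o,.o,.o⟩,⟨.n,.o,.e,.n,.e,.o,.o⟩,⟨.e,.o,.o,.o,.o,.o,.o⟩,⟨.n,.n,.n,.n,.o,.o,.o⟩,⟨.e,.n,.n,.n,.e,.e,.e⟩,⟨.e,.o,.n,.o,.o,.o,.o⟩,⟨.n,.e,.n,.n,.o,.n,.o⟩⟩,
   ⟨⟨.n,.e,.o,.o,.o,.o,.o⟩,⟨.e,.n,.e,.e,.e,.o,.o⟩,⟨.n,.n,.e,.e,.e,.o,.o⟩,⟨.e,.e,.e,.n,.o,.o,.o⟩,⟨.n,.n,.o,.e,.n,.n,.e⟩,⟨.e,.n,.n,.e,.n,.n,.e⟩,⟨.n,.e,.o,.e,.o,.n,.o⟩⟩,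
   ⟨⟨.n,.n,.o,.o,.o,.o,.o⟩,⟨.e,.o,.o,.o,.o,.o,.o⟩,⟨.n,.n,.e,.n,.e,.o,.o⟩,⟨.e,.n,.n,.n,.o,.o,.o⟩,⟨.n,.o,.e,.o,.o,.o,.o⟩,⟨.e,.n,.o,.n,.n,.n,.n⟩,⟨.n,.n,.o,.e,.o,.e,.o⟩⟩,
   ⟨⟨.e,.o,.o,.o,.o,.o,.o⟩,⟨.n,.e,.n,.o,.o,.o,.o⟩,⟨.e,.e,.o,.o,.o,.o,.o⟩,⟨.n,.e,.e,.e,.o,.o,.o⟩,⟨.e,.o,.e,.e,.e,.n,.o⟩,⟨.n,.n,.e,.n,.e,.o,.o⟩,⟨.e,.o,.o,.e,.e,.e,.e⟩⟩,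
   ⟨⟨.e,.o,.o,.o,.o,.o,.o⟩,⟨.n,.n,.n,.o,.o,.o,.o⟩,⟨.e,.e,.o,.o,.o,.o,.o⟩,⟨.n,.o,.e,.e,.o,.o,.o⟩,⟨.e,.n,.e,.e,.n,.n,.o⟩,⟨.n,.e,.e,.n,.e,.o,.o⟩,⟨.e,.o,.o,.e,.o,.e,.e⟩⟩,
   ⟨⟨.e,.o,.n,.o,.o,.o,.o⟩,⟨.n,.o,.n,.o,.o,.o,.o⟩,⟨.e,.n,.e,.e,.o,.e,.o⟩,⟨.n,.e,.e,.o,.o,.e,.o⟩,⟨.n,.n,.n,.n,.o,.e,.o⟩,⟨.o,.o,.n,.n,.n,.o,.n⟩,⟨.n,.e,.o,.o,.e,.e,.n⟩⟩,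
   ⟨⟨.e,.o,.o,.o,.o,.o,.o⟩,⟨.n,.e,.o,.o,.o,.o,.o⟩,⟨.e,.o,.e,.o,.o,.o,.o⟩,⟨.n,.n,.n,.e,.o,.o,.o⟩,⟨.n,.n,.e,.e,.e,.o,.o⟩,⟨.o,.n,.o,.n,.o,.e,.o⟩,⟨.n,.e,.n,.e,.n,.n,.e⟩⟩,
   ⟨⟨.e,.o,.o,.o,.o,.o,.o⟩,⟨.n,.e,.o,.o,.o,.o,.o⟩,⟨.e,.e,.e,.o,.o,.o,.o⟩,⟨.n,.e,.n,.e,.o,.o,.o⟩,⟨.n,.o,.e,.e,.e,.o,.o⟩,⟨.o,.n,.o,.n,.e,.e,.o⟩,⟨.n,.o,.n,.e,.e,.n,.e⟩⟩,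
   ⟨⟨.n,.o,.o,.o,.o,.o,.o⟩,⟨.e,.n,.o,.o,.o,.o,.o⟩,⟨.n,.e,.e,.o,.o,.o,.o⟩,⟨.e,.o,.n,.e,.o,.o,.o⟩,⟨.e,.n,.e,.e,.e,.o,.o⟩,⟨.o,.e,.o,.n,.n,.n,.o⟩,⟨.e,.e,.n,.e,.o,.e,.n⟩⟩,
   ⟨⟨.n,.e,.o,.o,.o,.o,.o⟩,⟨.e,.n,.e,.e,.e,.o,.o⟩,⟨.n,.n,.e,.e,.e,.o,.o⟩,⟨.e,.e,.e,.n,.o,.o,.o⟩,⟨.e,.o,.o,.e,.n,.n,.e⟩,⟨.n,.e,.n,.e,.n,.n,.e⟩,⟨.n,.o,.e,.n,.e,.n,.o⟩⟩,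
   ⟨⟨.e,.o,.o,.o,.o,.o,.o⟩,⟨.n,.n,.o,.o,.o,.o,.o⟩,⟨.e,.o,.n,.o,.o,.o,.o⟩,⟨.n,.e,.e,.e,.o,.o,.o⟩,⟨.n,.e,.n,.e,.n,.o,.o⟩,⟨.e,.e,.o,.n,.o,.n,.o⟩,⟨.e,.e,.e,.e,.e,.e,.e⟩⟩,
   ⟨⟨.e,.o,.o,.o,.o,.o,.o⟩,⟨.n,.n,.o,.o,.o,.o,.o⟩,⟨.e,.n,.n,.o,.o,.o,.o⟩,⟨.n,.n,.e,.e,.o,.o,.o⟩,⟨.n,.o,.n,.e,.n,.o,.o⟩,⟨.e,.e,.o,.n,.n,.n,.o⟩,⟨.e,.n,.e,.e,.n,.e,.e⟩⟩,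
   ⟨⟨.n,.n,.e,.o,.o,.o,.o⟩,⟨.e,.n,.e,.o,.o,.o,.o⟩,⟨.n,.e,.e,.e,.n,.e,.o⟩,⟨.e,.e,.o,.o,.n,.e,.o⟩,⟨.e,.n,.o,.n,.n,.e,.o⟩,⟨.n,.e,.n,.n,.o,.e,.e⟩,⟨.n,.n,.n,.o,.n,.o,.e⟩⟩]

/-- part 42 -/
def repPart42 : List M7 :=
  [⟨⟨.e,.o,.o,.o,.o,.o,.o⟩,⟨.n,.o,.e,.o,.o,.o,.o⟩,⟨.e,.n,.n,.o,.o,.o,.o⟩,⟨.n,.e,.o,.e,.o,.o,.o⟩,⟨.n,.n,.e,.e,.o,.e,.o⟩,⟨.n,.o,.n,.n,.n,.n,.o⟩,⟨.o,.e,.e,.e,.e,.o,.e⟩⟩,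
   ⟨⟨.e,.o,.o,.o,.o,.o,.o⟩,⟨.n,.e,.o,.o,.o,.o,.o⟩,⟨.e,.o,.e,.o,.o,.o,.o⟩,⟨.n,.n,.n,.e,.o,.o,.o⟩,⟨.n,.n,.e,.e,.e,.o,.o⟩,⟨.n,.n,.o,.n,.o,.e,.o⟩,⟨.o,.o,.n,.e,.n,.n,.e⟩⟩,
   ⟨⟨.e,.o,.o,.o,.o,.o,.o⟩,⟨.n,.e,.o,.o,.o,.o,.o⟩,⟨.e,.e,.e,.o,.o,.o,.o⟩,⟨.n,.e,.n,.e,.o,.o,.o⟩,⟨.n,.o,.e,.e,.e,.o,.o⟩,⟨.n,.n,.o,.n,.e,.e,.o⟩,⟨.o,.n,.n,.e,.e,.n,.e⟩⟩,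
   ⟨⟨.e,.o,.o,.o,.o,.o,.o⟩,⟨.n,.n,.e,.o,.o,.o,.o⟩,⟨.e,.e,.e,.o,.o,.o,.o⟩,⟨.n,.o,.e,.e,.o,.o,.o⟩,⟨.n,.n,.o,.e,.n,.e,.o⟩,⟨.n,.e,.n,.n,.e,.e,.o⟩,⟨.o,.n,.n,.e,.o,.e,.e⟩⟩,
   ⟨⟨.n,.e,.o,.o,.o,.o,.o⟩,⟨.e,.n,.e,.e,.e,.o,.o⟩,⟨.e,.o,.n,.n,.n,.o,.o⟩,⟨.o,.n,.n,.o,.e,.o,.o⟩,⟨.o,.e,.e,.n,.o,.n,.e⟩,⟨.o,.e,.e,.n,.n,.e,.n⟩,⟨.o,.o,.o,.o,.e,.e,.e⟩⟩,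
   ⟨⟨.n,.e,.o,.o,.o,.o,.o⟩,⟨.e,.e,.o,.o,.o,.o,.o⟩,⟨.e,.n,.e,.e,.e,.o,.o⟩,⟨.o,.n,.n,.o,.e,.o,.o⟩,⟨.o,.e,.e,.n,.e,.o,.o⟩,⟨.o,.e,.e,.n,.o,.n,.e⟩,⟨.o,.o,.o,.o,.e,.e,.e⟩⟩,
   ⟨⟨.e,.o,.o,.o,.o,.o,.o⟩,⟨.n,.e,.o,.o,.o,.o,.o⟩,⟨.n,.e,.e,.o,.o,.o,.o⟩,⟨.o,.o,.n,.e,.o,.o,.o⟩,⟨.o,.o,.e,.e,.e,.o,.o⟩,⟨.o,.o,.e,.e,.e,.e,.o⟩,⟨.o,.o,.o,.o,.o,.n,.e⟩⟩,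
   ⟨⟨.e,.o,.o,.o,.o,.o,.o⟩,⟨.n,.e,.o,.o,.o,.o,.o⟩,⟨.n,.n,.e,.o,.o,.o,.o⟩,⟨.o,.n,.n,.e,.o,.o,.o⟩,⟨.o,.e,.e,.e,.e,.o,.o⟩,⟨.o,.e,.e,.e,.n,.e,.o⟩,⟨.o,.o,.o,.o,.n,.n,.e⟩⟩,
   ⟨⟨.n,.n,.e,.o,.o,.o,.o⟩,⟨.e,.e,.e,.e,.n,.e,.o⟩,⟨.e,.o,.e,.n,.e,.n,.o⟩,⟨.o,.e,.o,.o,.n,.e,.o⟩,⟨.o,.n,.o,.n,.o,.e,.e⟩,⟨.n,.e,.e,.n,.e,.e,.n⟩,⟨.e,.e,.e,.e,.e,.e,.e⟩⟩,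
   ⟨⟨.n,.e,.o,.o,.o,.o,.o⟩,⟨.e,.e,.o,.o,.o,.o,.o⟩,⟨.e,.n,.e,.e,.e,.o,.o⟩,⟨.o,.n,.n,.o,.e,.o,.o⟩,⟨.o,.e,.e,.n,.e,.o,.o⟩,⟨.n,.n,.e,.n,.o,.n,.e⟩,⟨.e,.e,.o,.o,.e,.e,.e⟩⟩,
   ⟨⟨.e,.o,.o,.o,.o,.o,.o⟩,⟨.n,.e,.o,.o,.o,.o,.o⟩,⟨.n,.e,.e,.o,.o,.o,.o⟩,⟨.o,.o,.n,.e,.o,.o,.o⟩,⟨.o,.o,.e,.e,.e,.o,.o⟩,⟨.e,.o,.e,.e,.e,.e,.o⟩,⟨.n,.e,.o,.o,.o,.n,.e⟩⟩,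
   ⟨⟨.e,.o,.o,.o,.o,.o,.o⟩,⟨.n,.n,.e,.o,.o,.o,.o⟩,⟨.n,.e,.e,.o,.o,.o,.o⟩,⟨.o,.e,.o,.e,.o,.o,.o⟩,⟨.o,.n,.o,.e,.n,.e,.o⟩,⟨.e,.n,.o,.e,.e,.e,.o⟩,⟨.n,.n,.e,.o,.e,.o,.e⟩⟩,
   ⟨⟨.n,.e,.o,.o,.o,.o,.o⟩,⟨.e,.n,.e,.e,.e,.o,.o⟩,⟨.e,.o,.n,.n,.n,.o,.o⟩,⟨.o,.n,.n,.o,.e,.o,.o⟩,⟨.o,.e,.e,.n,.o,.n,.e⟩,⟨.e,.o,.e,.n,.n,.e,.n⟩,⟨.n,.e,.n,.n,.o,.e,.e⟩⟩,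
   ⟨⟨.e,.o,.o,.o,.o,.o,.o⟩,⟨.n,.e,.o,.o,.o,.o,.o⟩,⟨.n,.o,.e,.o,.o,.o,.o⟩,⟨.o,.e,.n,.e,.o,.o,.o⟩,⟨.o,.n,.e,.e,.e,.o,.o⟩,⟨.n,.n,.e,.e,.o,.e,.o⟩,⟨.e,.n,.o,.o,.e,.n,.e⟩⟩,
   ⟨⟨.n,.e,.o,.o,.o,.o,.o⟩,⟨.e,.e,.o,.o,.o,.o,.o⟩,⟨.e,.e,.e,.e,.e,.o,.o⟩,⟨.o,.o,.n,.o,.e,.o,.o⟩,⟨.o,.o,.e,.n,.e,.o,.o⟩,⟨.e,.n,.e,.n,.e,.n,.e⟩,⟨.n,.n,.o,.o,.o,.e,.e⟩⟩,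
   ⟨⟨.e,.o,.o,.o,.o,.o,.o⟩,⟨.n,.e,.o,.o,.o,.o,.o⟩,⟨.n,.n,.e,.o,.o,.o,.o⟩,⟨.o,.n,.n,.e,.o,.o,.o⟩,⟨.o,.e,.e,.e,.e,.o,.o⟩,⟨.n,.e,.e,.e,.n,.e,.o⟩,⟨.e,.n,.o,.o,.n,.n,.e⟩⟩,
   ⟨⟨.e,.o,.o,.o,.o,.o,.o⟩,⟨.n,.o,.e,.o,.o,.o,.o⟩,⟨.n,.n,.o,.o,.o,.o,.o⟩,⟨.o,.e,.e,.e,.o,.o,.o⟩,⟨.e,.n,.n,.e,.o,.e,.o⟩,⟨.o,.n,.n,.e,.n,.o,.o⟩,⟨.e,.e,.o,.o,.e,.e,.e⟩⟩,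
   ⟨⟨.n,.e,.o,.o,.o,.o,.o⟩,⟨.e,.e,.o,.o,.o,.o,.o⟩,⟨.e,.n,.e,.e,.e,.o,.o⟩,⟨.o,.n,.n,.o,.e,.o,.o⟩,⟨.n,.n,.e,.n,.e,.o,.o⟩,⟨.o,.e,.e,.n,.o,.n,.e⟩,⟨.n,.e,.n,.n,.o,.e,.e⟩⟩,
   ⟨⟨.n,.e,.o,.o,.o,.o,.o⟩,⟨.e,.e,.o,.o,.o,.o,.o⟩,⟨.e,.e,.e,.e,.e,.o,.o⟩,⟨.o,.o,.n,.o,.e,.o,.o⟩,⟨.n,.e,.e,.n,.e,.o,.o⟩,⟨.o,.o,.e,.n,.e,.n,.e⟩,⟨.n,.n,.n,.n,.n,.e,.e⟩⟩,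
   ⟨⟨.n,.e,.o,.o,.o,.o,.o⟩,⟨.e,.e,.o,.o,.o,.o,.o⟩,⟨.e,.o,.e,.e,.e,.o,.o⟩,⟨.o,.e,.n,.o,.e,.o,.o⟩,⟨.n,.o,.e,.n,.e,.o,.o⟩,⟨.o,.n,.e,.n,.n,.n,.e⟩,⟨.n,.o,.n,.n,.e,.e,.e⟩⟩,
   ⟨⟨.n,.e,.o,.o,.o,.o,.o⟩,⟨.e,.n,.e,.e,.e,.o,.o⟩,⟨.e,.o,.n,.n,.n,.o,.o⟩,⟨.o,.n,.n,.o,.e,.o,.o⟩,⟨.n,.n,.e,.n,.o,.n,.e⟩,⟨.n,.n,.e,.n,.n,.e,.n⟩,⟨.o,.n,.n,.n,.o,.e,.e⟩⟩,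
   ⟨⟨.n,.e,.o,.o,.o,.o,.o⟩,⟨.e,.e,.o,.o,.o,.o,.o⟩,⟨.e,.n,.e,.e,.e,.o,.o⟩,⟨.o,.n,.n,.o,.e,.o,.o⟩,⟨.n,.n,.e,.n,.e,.o,.o⟩,⟨.n,.n,.e,.n,.o,.n,.e⟩,⟨.o,.n,.n,.n,.o,.e,.e⟩⟩,
   ⟨⟨.n,.e,.o,.o,.o,.o,.o⟩,⟨.e,.e,.o,.o,.o,.o,.o⟩,⟨.e,.e,.e,.e,.e,.o,.o⟩,⟨.o,.o,.n,.o,.e,.o,.o⟩,⟨.n,.e,.e,.n,.e,.o,.o⟩,⟨.n,.e,.e,.n,.e,.n,.e⟩,⟨.o,.o,.n,.n,.n,.e,.e⟩⟩,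
   ⟨⟨.e,.e,.o,.o,.o,.o,.o⟩,⟨.n,.o,.o,.o,.o,.o,.o⟩,⟨.n,.e,.e,.n,.e,.o,.o⟩,⟨.o,.n,.n,.n,.o,.o,.o⟩,⟨.e,.n,.e,.o,.o,.o,.o⟩,⟨.e,.n,.e,.o,.e,.e,.e⟩,⟨.o,.n,.n,.e,.e,.n,.o⟩⟩,
   ⟨⟨.e,.o,.o,.o,.o,.o,.o⟩,⟨.n,.o,.n,.o,.o,.o,.o⟩,⟨.n,.e,.e,.o,.o,.o,.o⟩,⟨.o,.n,.e,.e,.o,.o,.o⟩,⟨.e,.e,.n,.e,.o,.n,.o⟩,⟨.n,.e,.n,.e,.e,.e,.o⟩,⟨.n,.n,.o,.o,.n,.e,.e⟩⟩,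
   ⟨⟨.e,.o,.o,.o,.o,.o,.o⟩,⟨.n,.e,.e,.o,.o,.o,.o⟩,⟨.n,.o,.e,.o,.o,.o,.o⟩,⟨.o,.e,.o,.e,.o,.o,.o⟩,⟨.e,.n,.o,.e,.e,.e,.o⟩,⟨.n,.n,.o,.e,.o,.e,.o⟩,⟨.n,.n,.e,.o,.e,.o,.e⟩⟩,
   ⟨⟨.n,.n,.e,.o,.o,.o,.o⟩,⟨.e,.n,.e,.o,.o,.o,.o⟩,⟨.e,.n,.o,.e,.n,.e,.o⟩,⟨.o,.o,.e,.o,.n,.e,.o⟩,⟨.n,.n,.o,.n,.n,.e,.o⟩,⟨.e,.e,.e,.n,.n,.n,.e⟩,⟨.e,.n,.n,.n,.e,.e,.e⟩⟩,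
   ⟨⟨.e,.o,.o,.o,.o,.o,.o⟩,⟨.n,.n,.e,.o,.o,.o,.o⟩,⟨.n,.e,.e,.o,.o,.o,.o⟩,⟨.o,.e,.o,.e,.o,.o,.o⟩,⟨.e,.n,.o,.e,.n,.e,.o⟩,⟨.n,.n,.o,.e,.e,.e,.o⟩,⟨.n,.o,.e,.o,.e,.o,.e⟩⟩,
   ⟨⟨.e,.o,.o,.o,.o,.o,.o⟩,⟨.n,.o,.e,.o,.o,.o,.o⟩,⟨.n,.n,.e,.o,.o,.o,.o⟩,⟨.o,.e,.o,.e,.o,.o,.o⟩,⟨.n,.n,.o,.e,.o,.e,.o⟩,⟨.o,.n,.o,.e,.n,.e,.o⟩,⟨.n,.n,.e,.o,.e,.o,.e⟩⟩,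
   ⟨⟨.n,.n,.e,.o,.o,.o,.o⟩,⟨.e,.n,.e,.o,.o,.o,.o⟩,⟨.e,.e,.e,.e,.n,.e,.o⟩,⟨.o,.e,.o,.o,.n,.e,.o⟩,⟨.e,.o,.n,.n,.n,.e,.o⟩,⟨.o,.n,.o,.n,.o,.e,.e⟩,⟨.e,.e,.e,.e,.e,.e,.e⟩⟩,
   ⟨⟨.n,.e,.o,.o,.o,.o,.o⟩,⟨.e,.e,.o,.o,.o,.o,.o⟩,⟨.e,.e,.e,.e,.e,.o,.o⟩,⟨.o,.o,.n,.o,.e,.o,.o⟩,⟨.e,.n,.e,.n,.e,.o,.o⟩,⟨.o,.o,.e,.n,.e,.n,.e⟩,⟨.e,.e,.e,.e,.e,.e,.e⟩⟩,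
   ⟨⟨.e,.o,.o,.o,.o,.o,.o⟩,⟨.n,.e,.e,.o,.o,.o,.o⟩,⟨.n,.n,.o,.o,.o,.o,.o⟩,⟨.o,.n,.e,.e,.o,.o,.o⟩,⟨.n,.e,.n,.e,.e,.e,.o⟩,⟨.o,.e,.n,.e,.n,.o,.o⟩,⟨.n,.n,.o,.o,.n,.e,.e⟩⟩]

/-- part 43 -/
def repPart43 : List M7 :=
  [⟨⟨.e,.o,.o,.o,.o,.o,.o⟩,⟨.n,.o,.n,.o,.o,.o,.o⟩,⟨.n,.e,.o,.o,.o,.o,.o⟩,⟨.o,.n,.n,.e,.o,.o,.o⟩,⟨.n,.e,.e,.e,.o,.n,.o⟩,⟨.e,.e,.e,.e,.e,.o,.o⟩,⟨.e,.e,.n,.o,.n,.n,.e⟩⟩,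
   ⟨⟨.e,.o,.o,.o,.o,.o,.o⟩,⟨.n,.e,.n,.o,.o,.o,.o⟩,⟨.n,.o,.e,.o,.o,.o,.o⟩,⟨.o,.e,.e,.e,.o,.o,.o⟩,⟨.n,.n,.n,.e,.e,.n,.o⟩,⟨.e,.n,.n,.e,.o,.e,.o⟩,⟨.e,.e,.o,.o,.e,.e,.e⟩⟩,
   ⟨⟨.e,.o,.o,.o,.o,.o,.o⟩,⟨.n,.e,.e,.o,.o,.o,.o⟩,⟨.n,.e,.n,.o,.o,.o,.o⟩,⟨.o,.o,.n,.e,.o,.o,.o⟩,⟨.n,.o,.e,.e,.e,.e,.o⟩,⟨.e,.o,.e,.e,.e,.n,.o⟩,⟨.e,.n,.o,.o,.o,.n,.e⟩⟩,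
   ⟨⟨.e,.o,.o,.o,.o,.o,.o⟩,⟨.n,.n,.n,.o,.o,.o,.o⟩,⟨.n,.e,.o,.o,.o,.o,.o⟩,⟨.o,.e,.n,.e,.o,.o,.o⟩,⟨.n,.n,.e,.e,.n,.n,.o⟩,⟨.e,.n,.e,.e,.e,.o,.o⟩,⟨.e,.o,.n,.o,.e,.n,.e⟩⟩,
   ⟨⟨.n,.o,.e,.o,.o,.o,.o⟩,⟨.e,.o,.e,.o,.o,.o,.o⟩,⟨.e,.n,.o,.e,.o,.e,.o⟩,⟨.o,.e,.e,.o,.o,.e,.o⟩,⟨.e,.n,.e,.n,.o,.e,.o⟩,⟨.e,.n,.e,.n,.e,.n,.e⟩,⟨.o,.n,.n,.e,.n,.o,.e⟩⟩,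
   ⟨⟨.n,.n,.o,.o,.o,.o,.o⟩,⟨.e,.o,.o,.o,.o,.o,.o⟩,⟨.e,.e,.e,.n,.e,.o,.o⟩,⟨.o,.n,.n,.n,.o,.o,.o⟩,⟨.e,.n,.e,.o,.o,.o,.o⟩,⟨.e,.n,.e,.o,.n,.n,.n⟩,⟨.o,.e,.e,.n,.n,.e,.o⟩⟩,
   ⟨⟨.n,.n,.e,.o,.o,.o,.o⟩,⟨.e,.n,.e,.o,.o,.o,.o⟩,⟨.e,.n,.o,.e,.n,.e,.o⟩,⟨.o,.o,.e,.o,.n,.e,.o⟩,⟨.e,.e,.e,.n,.n,.e,.o⟩,⟨.e,.e,.e,.n,.n,.n,.e⟩,⟨.o,.o,.n,.e,.n,.o,.e⟩⟩,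
   ⟨⟨.e,.n,.o,.o,.o,.o,.o⟩,⟨.n,.n,.o,.o,.o,.o,.o⟩,⟨.n,.o,.e,.e,.e,.o,.o⟩,⟨.o,.n,.n,.o,.e,.o,.o⟩,⟨.n,.n,.e,.n,.e,.o,.o⟩,⟨.n,.n,.e,.n,.n,.e,.n⟩,⟨.o,.e,.e,.e,.o,.n,.n⟩⟩,
   ⟨⟨.e,.o,.n,.o,.o,.o,.o⟩,⟨.n,.o,.n,.o,.o,.o,.o⟩,⟨.n,.n,.o,.e,.o,.e,.o⟩,⟨.e,.e,.e,.o,.o,.e,.o⟩,⟨.o,.n,.o,.n,.o,.e,.o⟩,⟨.o,.o,.n,.e,.n,.e,.n⟩,⟨.e,.e,.e,.e,.e,.n,.n⟩⟩,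
   ⟨⟨.e,.n,.o,.o,.o,.o,.o⟩,⟨.n,.n,.o,.o,.o,.o,.o⟩,⟨.n,.e,.e,.e,.e,.o,.o⟩,⟨.e,.o,.n,.o,.e,.o,.o⟩,⟨.o,.e,.e,.n,.e,.o,.o⟩,⟨.o,.n,.o,.e,.n,.e,.n⟩,⟨.e,.o,.n,.e,.e,.n,.n⟩⟩,
   ⟨⟨.e,.n,.n,.o,.o,.o,.o⟩,⟨.n,.n,.n,.o,.o,.o,.o⟩,⟨.n,.n,.o,.e,.e,.e,.o⟩,⟨.e,.n,.e,.o,.e,.e,.o⟩,⟨.o,.n,.o,.n,.e,.e,.o⟩,⟨.o,.n,.n,.e,.o,.e,.n⟩,⟨.e,.n,.e,.e,.o,.n,.n⟩⟩,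
   ⟨⟨.e,.n,.o,.o,.o,.o,.o⟩,⟨.n,.n,.n,.n,.n,.o,.o⟩,⟨.n,.o,.n,.n,.n,.o,.o⟩,⟨.e,.e,.o,.e,.n,.o,.o⟩,⟨.o,.o,.e,.n,.e,.n,.e⟩,⟨.o,.n,.e,.n,.n,.n,.e⟩,⟨.e,.e,.o,.n,.o,.o,.e⟩⟩,
   ⟨⟨.e,.e,.o,.o,.o,.o,.o⟩,⟨.n,.n,.e,.n,.e,.o,.o⟩,⟨.n,.e,.e,.n,.e,.o,.o⟩,⟨.e,.n,.o,.e,.e,.o,.o⟩,⟨.o,.n,.n,.n,.o,.e,.e⟩,⟨.e,.e,.n,.n,.n,.e,.e⟩,⟨.o,.e,.e,.e,.e,.o,.e⟩⟩,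
   ⟨⟨.n,.o,.o,.o,.o,.o,.o⟩,⟨.e,.n,.e,.o,.o,.o,.o⟩,⟨.e,.o,.e,.o,.o,.o,.o⟩,⟨.n,.n,.o,.e,.o,.o,.o⟩,⟨.o,.n,.n,.e,.e,.n,.o⟩,⟨.n,.e,.n,.e,.o,.n,.o⟩,⟨.o,.e,.e,.n,.e,.o,.n⟩⟩,
   ⟨⟨.e,.o,.o,.o,.o,.o,.o⟩,⟨.n,.e,.n,.o,.o,.o,.o⟩,⟨.n,.e,.o,.o,.o,.o,.o⟩,⟨.e,.o,.n,.e,.o,.o,.o⟩,⟨.o,.n,.n,.e,.e,.n,.o⟩,⟨.e,.n,.e,.e,.e,.o,.o⟩,⟨.o,.e,.e,.n,.o,.n,.e⟩⟩,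
   ⟨⟨.e,.o,.o,.o,.o,.o,.o⟩,⟨.n,.n,.n,.o,.o,.o,.o⟩,⟨.n,.e,.o,.o,.o,.o,.o⟩,⟨.e,.e,.n,.e,.o,.o,.o⟩,⟨.o,.o,.n,.e,.n,.n,.o⟩,⟨.e,.e,.e,.e,.e,.o,.o⟩,⟨.o,.o,.e,.n,.e,.n,.e⟩⟩,
   ⟨⟨.e,.o,.o,.o,.o,.o,.o⟩,⟨.n,.o,.e,.o,.o,.o,.o⟩,⟨.n,.n,.n,.o,.o,.o,.o⟩,⟨.e,.e,.n,.e,.o,.o,.o⟩,⟨.o,.n,.o,.e,.o,.e,.o⟩,⟨.n,.o,.n,.e,.n,.n,.o⟩,⟨.n,.e,.e,.n,.e,.n,.e⟩⟩,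
   ⟨⟨.n,.n,.o,.o,.o,.o,.o⟩,⟨.e,.o,.o,.o,.o,.o,.o⟩,⟨.e,.e,.e,.n,.e,.o,.o⟩,⟨.n,.e,.n,.n,.o,.o,.o⟩,⟨.o,.n,.e,.o,.o,.o,.o⟩,⟨.e,.n,.o,.e,.e,.n,.n⟩,⟨.e,.e,.n,.o,.n,.e,.o⟩⟩,
   ⟨⟨.e,.o,.o,.o,.o,.o,.o⟩,⟨.n,.n,.n,.o,.o,.o,.o⟩,⟨.n,.n,.e,.o,.o,.o,.o⟩,⟨.e,.o,.e,.e,.o,.o,.o⟩,⟨.o,.e,.o,.e,.n,.n,.o⟩,⟨.n,.e,.e,.e,.n,.e,.o⟩,⟨.n,.e,.n,.n,.o,.e,.e⟩⟩,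
   ⟨⟨.n,.e,.e,.o,.o,.o,.o⟩,⟨.e,.o,.e,.e,.e,.e,.o⟩,⟨.e,.e,.n,.e,.e,.e,.o⟩,⟨.n,.o,.o,.e,.n,.n,.o⟩,⟨.o,.o,.n,.o,.o,.n,.e⟩,⟨.e,.e,.o,.o,.n,.e,.e⟩,⟨.e,.o,.n,.e,.e,.e,.n⟩⟩,
   ⟨⟨.n,.o,.e,.o,.o,.o,.o⟩,⟨.e,.o,.e,.o,.o,.o,.o⟩,⟨.e,.n,.e,.e,.o,.e,.o⟩,⟨.n,.e,.e,.o,.o,.e,.o⟩,⟨.n,.n,.n,.n,.o,.e,.o⟩,⟨.o,.o,.e,.e,.e,.o,.e⟩,⟨.e,.n,.o,.o,.n,.n,.e⟩⟩,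
   ⟨⟨.e,.o,.o,.o,.o,.o,.o⟩,⟨.n,.e,.o,.o,.o,.o,.o⟩,⟨.n,.o,.e,.o,.o,.o,.o⟩,⟨.e,.e,.n,.e,.o,.o,.o⟩,⟨.e,.e,.e,.e,.e,.o,.o⟩,⟨.o,.n,.o,.e,.o,.e,.o⟩,⟨.n,.e,.e,.n,.e,.n,.e⟩⟩,
   ⟨⟨.e,.o,.o,.o,.o,.o,.o⟩,⟨.n,.n,.o,.o,.o,.o,.o⟩,⟨.n,.n,.n,.o,.o,.o,.o⟩,⟨.e,.o,.e,.e,.o,.o,.o⟩,⟨.e,.e,.n,.e,.n,.o,.o⟩,⟨.o,.e,.o,.e,.n,.n,.o⟩,⟨.n,.e,.n,.n,.o,.e,.e⟩⟩,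
   ⟨⟨.e,.o,.o,.o,.o,.o,.o⟩,⟨.n,.n,.e,.o,.o,.o,.o⟩,⟨.n,.e,.e,.o,.o,.o,.o⟩,⟨.e,.e,.o,.e,.o,.o,.o⟩,⟨.e,.o,.n,.e,.n,.e,.o⟩,⟨.o,.e,.n,.e,.e,.e,.o⟩,⟨.n,.o,.n,.n,.e,.o,.e⟩⟩,
   ⟨⟨.e,.o,.o,.o,.o,.o,.o⟩,⟨.n,.o,.e,.o,.o,.o,.o⟩,⟨.n,.n,.n,.o,.o,.o,.o⟩,⟨.e,.e,.n,.e,.o,.o,.o⟩,⟨.e,.n,.o,.e,.o,.e,.o⟩,⟨.e,.o,.n,.e,.n,.n,.o⟩,⟨.e,.n,.e,.n,.e,.n,.e⟩⟩,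
   ⟨⟨.e,.o,.o,.o,.o,.o,.o⟩,⟨.n,.n,.e,.o,.o,.o,.o⟩,⟨.n,.o,.n,.o,.o,.o,.o⟩,⟨.e,.n,.n,.e,.o,.o,.o⟩,⟨.e,.n,.o,.e,.n,.e,.o⟩,⟨.e,.e,.n,.e,.o,.n,.o⟩,⟨.e,.e,.e,.n,.n,.n,.e⟩⟩,
   ⟨⟨.e,.o,.o,.o,.o,.o,.o⟩,⟨.n,.e,.o,.o,.o,.o,.o⟩,⟨.n,.e,.e,.o,.o,.o,.o⟩,⟨.e,.o,.n,.e,.o,.o,.o⟩,⟨.e,.n,.e,.e,.e,.o,.o⟩,⟨.e,.n,.o,.e,.e,.e,.o⟩,⟨.e,.o,.e,.n,.o,.n,.e⟩⟩,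
   ⟨⟨.n,.o,.o,.o,.o,.o,.o⟩,⟨.e,.n,.o,.o,.o,.o,.o⟩,⟨.e,.e,.e,.o,.o,.o,.o⟩,⟨.n,.e,.n,.e,.o,.o,.o⟩,⟨.n,.o,.e,.e,.e,.o,.o⟩,⟨.n,.e,.o,.e,.n,.n,.o⟩,⟨.n,.n,.e,.n,.n,.e,.n⟩⟩,
   ⟨⟨.n,.o,.o,.o,.o,.o,.o⟩,⟨.e,.o,.e,.o,.o,.o,.o⟩,⟨.e,.e,.e,.o,.o,.o,.o⟩,⟨.n,.n,.o,.e,.o,.o,.o⟩,⟨.n,.e,.n,.e,.o,.n,.o⟩,⟨.e,.o,.n,.e,.n,.n,.o⟩,⟨.o,.e,.e,.n,.e,.o,.n⟩⟩,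
   ⟨⟨.e,.o,.o,.o,.o,.o,.o⟩,⟨.n,.e,.o,.o,.o,.o,.o⟩,⟨.n,.o,.e,.o,.o,.o,.o⟩,⟨.e,.e,.n,.e,.o,.o,.o⟩,⟨.e,.e,.e,.e,.e,.o,.o⟩,⟨.n,.n,.o,.e,.o,.e,.o⟩,⟨.o,.o,.e,.n,.e,.n,.e⟩⟩,
   ⟨⟨.e,.o,.o,.o,.o,.o,.o⟩,⟨.n,.e,.o,.o,.o,.o,.o⟩,⟨.n,.e,.e,.o,.o,.o,.o⟩,⟨.e,.o,.n,.e,.o,.o,.o⟩,⟨.e,.n,.e,.e,.e,.o,.o⟩,⟨.n,.n,.o,.e,.e,.e,.o⟩,⟨.o,.e,.e,.n,.o,.n,.e⟩⟩,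
   ⟨⟨.e,.o,.o,.o,.o,.o,.o⟩,⟨.n,.n,.e,.o,.o,.o,.o⟩,⟨.n,.e,.e,.o,.o,.o,.o⟩,⟨.e,.e,.o,.e,.o,.o,.o⟩,⟨.e,.o,.n,.e,.n,.e,.o⟩,⟨.n,.e,.n,.e,.e,.e,.o⟩,⟨.o,.e,.e,.n,.e,.o,.e⟩⟩]

/-- part 44 -/
def repPart44 : List M7 :=
  [⟨⟨.e,.e,.o,.o,.o,.o,.o⟩,⟨.n,.n,.e,.n,.e,.o,.o⟩,⟨.n,.e,.e,.n,.e,.o,.o⟩,⟨.e,.n,.o,.e,.e,.o,.o⟩,⟨.n,.e,.n,.n,.o,.e,.e⟩,⟨.o,.o,.n,.n,.n,.e,.e⟩,⟨.o,.o,.e,.e,.e,.o,.e⟩⟩,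
   ⟨⟨.e,.e,.o,.o,.o,.o,.o⟩,⟨.n,.o,.e,.n,.e,.o,.o⟩,⟨.n,.n,.e,.n,.e,.o,.o⟩,⟨.e,.n,.o,.e,.e,.o,.o⟩,⟨.n,.o,.n,.n,.e,.e,.e⟩,⟨.o,.n,.n,.n,.o,.e,.e⟩,⟨.o,.e,.e,.e,.e,.o,.e⟩⟩,
   ⟨⟨.e,.o,.o,.o,.o,.o,.o⟩,⟨.n,.e,.e,.o,.o,.o,.o⟩,⟨.n,.e,.n,.o,.o,.o,.o⟩,⟨.e,.o,.n,.e,.o,.o,.o⟩,⟨.n,.n,.o,.e,.e,.e,.o⟩,⟨.o,.n,.n,.e,.e,.n,.o⟩,⟨.o,.e,.e,.n,.o,.n,.e⟩⟩,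
   ⟨⟨.n,.n,.n,.o,.o,.o,.o⟩,⟨.e,.n,.n,.o,.o,.o,.o⟩,⟨.e,.o,.n,.e,.n,.n,.o⟩,⟨.n,.e,.n,.o,.n,.n,.o⟩,⟨.e,.e,.o,.n,.n,.n,.o⟩,⟨.o,.n,.n,.e,.n,.o,.e⟩,⟨.o,.e,.e,.n,.o,.n,.e⟩⟩,
   ⟨⟨.e,.e,.o,.o,.o,.o,.o⟩,⟨.n,.n,.e,.n,.e,.o,.o⟩,⟨.n,.e,.e,.n,.e,.o,.o⟩,⟨.e,.n,.o,.e,.e,.o,.o⟩,⟨.n,.e,.n,.n,.o,.e,.e⟩,⟨.e,.e,.n,.n,.n,.e,.e⟩,⟨.n,.n,.n,.o,.n,.o,.e⟩⟩,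
   ⟨⟨.e,.e,.o,.o,.o,.o,.o⟩,⟨.n,.o,.e,.n,.e,.o,.o⟩,⟨.n,.n,.e,.n,.e,.o,.o⟩,⟨.e,.n,.o,.e,.e,.o,.o⟩,⟨.n,.o,.n,.n,.e,.e,.e⟩,⟨.e,.o,.n,.n,.o,.e,.e⟩,⟨.n,.e,.n,.o,.n,.o,.e⟩⟩,
   ⟨⟨.e,.o,.o,.o,.o,.o,.o⟩,⟨.n,.n,.e,.o,.o,.o,.o⟩,⟨.n,.n,.o,.o,.o,.o,.o⟩,⟨.e,.o,.e,.e,.o,.o,.o⟩,⟨.n,.e,.e,.e,.n,.e,.o⟩,⟨.e,.e,.n,.e,.n,.o,.o⟩,⟨.n,.e,.n,.n,.o,.e,.e⟩⟩,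
   ⟨⟨.e,.o,.o,.o,.o,.o,.o⟩,⟨.n,.e,.e,.o,.o,.o,.o⟩,⟨.n,.n,.o,.o,.o,.o,.o⟩,⟨.e,.n,.e,.e,.o,.o,.o⟩,⟨.n,.o,.e,.e,.e,.e,.o⟩,⟨.e,.n,.n,.e,.n,.o,.o⟩,⟨.n,.n,.n,.n,.n,.e,.e⟩⟩,
   ⟨⟨.e,.e,.o,.o,.o,.o,.o⟩,⟨.n,.n,.e,.n,.e,.o,.o⟩,⟨.n,.e,.e,.n,.e,.o,.o⟩,⟨.e,.n,.o,.e,.e,.o,.o⟩,⟨.n,.e,.n,.n,.o,.e,.e⟩,⟨.n,.n,.n,.n,.n,.e,.e⟩,⟨.e,.e,.o,.n,.o,.o,.e⟩⟩,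
   ⟨⟨.e,.e,.o,.o,.o,.o,.o⟩,⟨.n,.o,.e,.n,.e,.o,.o⟩,⟨.n,.n,.e,.n,.e,.o,.o⟩,⟨.e,.n,.o,.e,.e,.o,.o⟩,⟨.n,.o,.n,.n,.e,.e,.e⟩,⟨.n,.e,.n,.n,.o,.e,.e⟩,⟨.e,.e,.o,.n,.o,.o,.e⟩⟩,
   ⟨⟨.n,.n,.n,.o,.o,.o,.o⟩,⟨.e,.n,.n,.o,.o,.o,.o⟩,⟨.e,.n,.e,.e,.n,.n,.o⟩,⟨.n,.n,.o,.o,.n,.n,.o⟩,⟨.e,.o,.n,.n,.n,.n,.o⟩,⟨.e,.o,.o,.e,.o,.e,.e⟩,⟨.n,.n,.n,.n,.n,.e,.e⟩⟩,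
   ⟨⟨.e,.e,.o,.o,.o,.o,.o⟩,⟨.n,.e,.e,.n,.e,.o,.o⟩,⟨.n,.o,.e,.n,.e,.o,.o⟩,⟨.e,.n,.o,.e,.e,.o,.o⟩,⟨.n,.n,.n,.n,.n,.e,.e⟩,⟨.n,.o,.n,.n,.e,.e,.e⟩,⟨.e,.e,.o,.n,.o,.o,.e⟩⟩,
   ⟨⟨.n,.o,.e,.o,.o,.o,.o⟩,⟨.e,.o,.e,.o,.o,.o,.o⟩,⟨.e,.n,.n,.e,.o,.e,.o⟩,⟨.e,.e,.e,.o,.o,.e,.o⟩,⟨.o,.n,.o,.n,.o,.e,.o⟩,⟨.o,.e,.e,.o,.e,.e,.e⟩,⟨.n,.n,.n,.n,.n,.e,.e⟩⟩,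
   ⟨⟨.n,.e,.o,.o,.o,.o,.o⟩,⟨.e,.e,.e,.e,.e,.o,.o⟩,⟨.e,.n,.e,.e,.e,.o,.o⟩,⟨.e,.e,.o,.e,.n,.o,.o⟩,⟨.o,.o,.e,.n,.e,.n,.e⟩,⟨.o,.e,.e,.n,.o,.n,.e⟩,⟨.n,.n,.o,.e,.o,.o,.n⟩⟩,
   ⟨⟨.e,.e,.o,.o,.o,.o,.o⟩,⟨.n,.o,.o,.o,.o,.o,.o⟩,⟨.n,.o,.e,.n,.e,.o,.o⟩,⟨.n,.n,.n,.n,.o,.o,.o⟩,⟨.o,.e,.e,.o,.o,.o,.o⟩,⟨.o,.e,.n,.n,.e,.e,.e⟩,⟨.e,.e,.e,.o,.n,.n,.o⟩⟩,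
   ⟨⟨.n,.e,.o,.o,.o,.o,.o⟩,⟨.e,.o,.e,.e,.e,.o,.o⟩,⟨.e,.e,.e,.e,.e,.o,.o⟩,⟨.e,.e,.o,.e,.n,.o,.o⟩,⟨.o,.n,.e,.n,.n,.n,.e⟩,⟨.o,.o,.e,.n,.e,.n,.e⟩,⟨.n,.n,.o,.e,.o,.o,.n⟩⟩,
   ⟨⟨.n,.e,.o,.o,.o,.o,.o⟩,⟨.e,.n,.e,.e,.e,.o,.o⟩,⟨.e,.o,.e,.e,.e,.o,.o⟩,⟨.e,.e,.o,.e,.n,.o,.o⟩,⟨.o,.e,.e,.n,.o,.n,.e⟩,⟨.n,.o,.e,.n,.n,.n,.e⟩,⟨.o,.e,.e,.n,.e,.o,.n⟩⟩,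
   ⟨⟨.e,.o,.o,.o,.o,.o,.o⟩,⟨.n,.e,.e,.o,.o,.o,.o⟩,⟨.n,.o,.e,.o,.o,.o,.o⟩,⟨.n,.e,.o,.e,.o,.o,.o⟩,⟨.o,.o,.e,.e,.e,.e,.o⟩,⟨.e,.n,.e,.e,.o,.e,.o⟩,⟨.o,.o,.e,.e,.e,.o,.e⟩⟩,
   ⟨⟨.n,.n,.e,.o,.o,.o,.o⟩,⟨.e,.n,.e,.o,.o,.o,.o⟩,⟨.e,.n,.o,.e,.n,.e,.o⟩,⟨.e,.e,.o,.o,.n,.e,.o⟩,⟨.o,.e,.e,.n,.n,.e,.o⟩,⟨.n,.o,.e,.o,.e,.o,.e⟩,⟨.o,.e,.e,.n,.o,.n,.e⟩⟩,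
   ⟨⟨.e,.o,.o,.o,.o,.o,.o⟩,⟨.n,.n,.e,.o,.o,.o,.o⟩,⟨.n,.e,.e,.o,.o,.o,.o⟩,⟨.n,.e,.o,.e,.o,.o,.o⟩,⟨.o,.e,.e,.e,.n,.e,.o⟩,⟨.e,.o,.e,.e,.e,.e,.o⟩,⟨.o,.e,.e,.e,.e,.o,.e⟩⟩,
   ⟨⟨.e,.o,.o,.o,.o,.o,.o⟩,⟨.n,.o,.e,.o,.o,.o,.o⟩,⟨.n,.n,.o,.o,.o,.o,.o⟩,⟨.n,.e,.e,.e,.o,.o,.o⟩,⟨.o,.n,.o,.e,.o,.e,.o⟩,⟨.n,.e,.n,.e,.n,.o,.o⟩,⟨.n,.n,.e,.e,.e,.e,.e⟩⟩,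
   ⟨⟨.e,.e,.o,.o,.o,.o,.o⟩,⟨.n,.o,.o,.o,.o,.o,.o⟩,⟨.n,.n,.e,.n,.e,.o,.o⟩,⟨.n,.o,.n,.n,.o,.o,.o⟩,⟨.o,.o,.e,.o,.o,.o,.o⟩,⟨.n,.e,.n,.n,.o,.e,.e⟩,⟨.n,.o,.e,.o,.o,.n,.o⟩⟩,
   ⟨⟨.e,.o,.e,.o,.o,.o,.o⟩,⟨.n,.n,.e,.n,.o,.e,.o⟩,⟨.n,.n,.o,.n,.o,.e,.o⟩,⟨.n,.o,.o,.e,.o,.e,.o⟩,⟨.o,.n,.e,.o,.n,.e,.e⟩,⟨.n,.n,.n,.o,.n,.o,.e⟩,⟨.n,.e,.n,.n,.o,.e,.e⟩⟩,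
   ⟨⟨.e,.e,.o,.o,.o,.o,.o⟩,⟨.n,.o,.o,.o,.o,.o,.o⟩,⟨.n,.e,.e,.n,.e,.o,.o⟩,⟨.n,.e,.n,.n,.o,.o,.o⟩,⟨.o,.n,.e,.o,.o,.o,.o⟩,⟨.n,.n,.n,.n,.n,.e,.e⟩,⟨.n,.n,.e,.o,.e,.n,.o⟩⟩,
   ⟨⟨.e,.o,.o,.o,.o,.o,.o⟩,⟨.n,.o,.e,.o,.o,.o,.o⟩,⟨.n,.n,.n,.o,.o,.o,.o⟩,⟨.n,.e,.n,.e,.o,.o,.o⟩,⟨.e,.n,.n,.e,.o,.e,.o⟩,⟨.o,.e,.o,.e,.n,.n,.o⟩,⟨.n,.o,.n,.e,.e,.n,.e⟩⟩,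
   ⟨⟨.e,.o,.o,.o,.o,.o,.o⟩,⟨.n,.n,.n,.o,.o,.o,.o⟩,⟨.n,.o,.n,.o,.o,.o,.o⟩,⟨.n,.n,.o,.e,.o,.o,.o⟩,⟨.e,.o,.n,.e,.n,.n,.o⟩,⟨.o,.e,.n,.e,.o,.n,.o⟩,⟨.n,.e,.e,.e,.n,.o,.e⟩⟩,
   ⟨⟨.e,.o,.o,.o,.o,.o,.o⟩,⟨.n,.e,.o,.o,.o,.o,.o⟩,⟨.n,.e,.e,.o,.o,.o,.o⟩,⟨.n,.o,.n,.e,.o,.o,.o⟩,⟨.e,.e,.e,.e,.e,.o,.o⟩,⟨.o,.e,.n,.e,.e,.e,.o⟩,⟨.n,.n,.o,.e,.o,.n,.e⟩⟩,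
   ⟨⟨.e,.e,.o,.o,.o,.o,.o⟩,⟨.n,.o,.o,.o,.o,.o,.o⟩,⟨.n,.e,.e,.n,.e,.o,.o⟩,⟨.n,.e,.n,.n,.o,.o,.o⟩,⟨.e,.o,.e,.o,.o,.o,.o⟩,⟨.o,.o,.n,.n,.n,.e,.e⟩,⟨.n,.e,.o,.e,.o,.n,.o⟩⟩,
   ⟨⟨.n,.e,.o,.o,.o,.o,.o⟩,⟨.e,.n,.e,.e,.e,.o,.o⟩,⟨.e,.o,.e,.e,.e,.o,.o⟩,⟨.e,.e,.o,.e,.n,.o,.o⟩,⟨.n,.n,.e,.n,.o,.n,.e⟩,⟨.n,.o,.e,.n,.n,.n,.e⟩,⟨.n,.e,.o,.e,.o,.o,.n⟩⟩,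
   ⟨⟨.n,.e,.o,.o,.o,.o,.o⟩,⟨.e,.e,.e,.e,.e,.o,.o⟩,⟨.e,.n,.e,.e,.e,.o,.o⟩,⟨.e,.e,.o,.e,.n,.o,.o⟩,⟨.n,.e,.e,.n,.e,.n,.e⟩,⟨.n,.n,.e,.n,.o,.n,.e⟩,⟨.n,.e,.o,.e,.o,.o,.n⟩⟩,
   ⟨⟨.n,.n,.o,.o,.o,.o,.o⟩,⟨.e,.o,.o,.o,.o,.o,.o⟩,⟨.e,.o,.e,.n,.e,.o,.o⟩,⟨.e,.e,.n,.n,.o,.o,.o⟩,⟨.n,.e,.e,.o,.o,.o,.o⟩,⟨.n,.e,.n,.n,.e,.n,.n⟩,⟨.n,.n,.o,.e,.e,.e,.o⟩⟩,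
   ⟨⟨.n,.n,.o,.o,.o,.o,.o⟩,⟨.e,.o,.o,.o,.o,.o,.o⟩,⟨.e,.n,.e,.n,.e,.o,.o⟩,⟨.e,.n,.n,.n,.o,.o,.o⟩,⟨.n,.o,.e,.o,.o,.o,.o⟩,⟨.n,.n,.n,.n,.n,.n,.n⟩,⟨.n,.n,.o,.e,.o,.e,.o⟩⟩]

/-- part 45 -/
def repPart45 : List M7 :=
  [⟨⟨.e,.o,.o,.o,.o,.o,.o⟩,⟨.n,.o,.e,.o,.o,.o,.o⟩,⟨.n,.n,.e,.o,.o,.o,.o⟩,⟨.n,.e,.o,.e,.o,.o,.o⟩,⟨.e,.n,.e,.e,.o,.e,.o⟩,⟨.n,.e,.e,.e,.n,.e,.o⟩,⟨.o,.o,.e,.e,.e,.o,.e⟩⟩,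
   ⟨⟨.e,.o,.o,.o,.o,.o,.o⟩,⟨.n,.e,.e,.o,.o,.o,.o⟩,⟨.n,.o,.e,.o,.o,.o,.o⟩,⟨.n,.e,.o,.e,.o,.o,.o⟩,⟨.e,.o,.e,.e,.e,.e,.o⟩,⟨.n,.n,.e,.e,.o,.e,.o⟩,⟨.o,.e,.e,.e,.e,.o,.e⟩⟩,
   ⟨⟨.n,.e,.e,.o,.o,.o,.o⟩,⟨.e,.e,.e,.o,.o,.o,.o⟩,⟨.e,.e,.n,.e,.e,.e,.o⟩,⟨.e,.n,.e,.o,.e,.e,.o⟩,⟨.n,.o,.e,.n,.e,.e,.o⟩,⟨.e,.e,.o,.o,.n,.e,.e⟩,⟨.o,.n,.n,.e,.n,.o,.e⟩⟩,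
   ⟨⟨.n,.e,.o,.o,.o,.o,.o⟩,⟨.e,.o,.e,.e,.e,.o,.o⟩,⟨.e,.e,.e,.e,.e,.o,.o⟩,⟨.e,.e,.o,.e,.n,.o,.o⟩,⟨.n,.o,.e,.n,.n,.n,.e⟩,⟨.e,.n,.e,.n,.e,.n,.e⟩,⟨.o,.e,.e,.n,.e,.o,.n⟩⟩,
   ⟨⟨.e,.o,.o,.o,.o,.o,.o⟩,⟨.n,.o,.e,.o,.o,.o,.o⟩,⟨.n,.n,.e,.o,.o,.o,.o⟩,⟨.n,.e,.o,.e,.o,.o,.o⟩,⟨.n,.n,.e,.e,.o,.e,.o⟩,⟨.o,.e,.e,.e,.n,.e,.o⟩,⟨.o,.e,.e,.e,.e,.o,.e⟩⟩,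
   ⟨⟨.e,.o,.o,.o,.o,.o,.o⟩,⟨.n,.e,.o,.o,.o,.o,.o⟩,⟨.n,.o,.e,.o,.o,.o,.o⟩,⟨.n,.e,.n,.e,.o,.o,.o⟩,⟨.n,.o,.e,.e,.e,.o,.o⟩,⟨.o,.n,.n,.e,.o,.e,.o⟩,⟨.o,.n,.n,.e,.e,.n,.e⟩⟩,
   ⟨⟨.e,.o,.o,.o,.o,.o,.o⟩,⟨.n,.n,.e,.o,.o,.o,.o⟩,⟨.n,.n,.o,.o,.o,.o,.o⟩,⟨.n,.o,.e,.e,.o,.o,.o⟩,⟨.n,.n,.o,.e,.n,.e,.o⟩,⟨.o,.n,.n,.e,.n,.o,.o⟩,⟨.o,.n,.n,.e,.o,.e,.e⟩⟩,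
   ⟨⟨.e,.o,.o,.o,.o,.o,.o⟩,⟨.n,.e,.o,.o,.o,.o,.o⟩,⟨.n,.n,.e,.o,.o,.o,.o⟩,⟨.n,.n,.n,.e,.o,.o,.o⟩,⟨.n,.n,.e,.e,.e,.o,.o⟩,⟨.o,.o,.n,.e,.n,.e,.o⟩,⟨.o,.o,.n,.e,.n,.n,.e⟩⟩,
   ⟨⟨.e,.n,.o,.o,.o,.o,.o⟩,⟨.n,.e,.e,.e,.e,.o,.o⟩,⟨.n,.o,.e,.e,.e,.o,.o⟩,⟨.n,.n,.o,.e,.n,.o,.o⟩,⟨.n,.o,.e,.n,.o,.e,.n⟩,⟨.e,.o,.e,.n,.n,.e,.n⟩,⟨.n,.n,.n,.o,.n,.o,.e⟩⟩,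
   ⟨⟨.e,.o,.o,.o,.o,.o,.o⟩,⟨.n,.e,.o,.o,.o,.o,.o⟩,⟨.n,.o,.e,.o,.o,.o,.o⟩,⟨.n,.e,.n,.e,.o,.o,.o⟩,⟨.n,.o,.e,.e,.e,.o,.o⟩,⟨.e,.n,.n,.e,.o,.e,.o⟩,⟨.n,.o,.n,.e,.e,.n,.e⟩⟩,
   ⟨⟨.n,.o,.o,.o,.o,.o,.o⟩,⟨.e,.n,.o,.o,.o,.o,.o⟩,⟨.e,.n,.e,.o,.o,.o,.o⟩,⟨.e,.o,.n,.e,.o,.o,.o⟩,⟨.e,.n,.e,.e,.e,.o,.o⟩,⟨.n,.n,.n,.e,.e,.n,.o⟩,⟨.e,.e,.n,.e,.o,.e,.n⟩⟩,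
   ⟨⟨.e,.o,.o,.o,.o,.o,.o⟩,⟨.n,.n,.e,.o,.o,.o,.o⟩,⟨.n,.e,.e,.o,.o,.o,.o⟩,⟨.n,.e,.o,.e,.o,.o,.o⟩,⟨.n,.e,.e,.e,.n,.e,.o⟩,⟨.e,.o,.e,.e,.e,.e,.o⟩,⟨.n,.n,.n,.e,.e,.o,.e⟩⟩,
   ⟨⟨.e,.o,.o,.o,.o,.o,.o⟩,⟨.n,.o,.e,.o,.o,.o,.o⟩,⟨.n,.n,.o,.o,.o,.o,.o⟩,⟨.n,.e,.e,.e,.o,.o,.o⟩,⟨.n,.n,.o,.e,.o,.e,.o⟩,⟨.n,.e,.n,.e,.n,.o,.o⟩,⟨.e,.e,.e,.e,.e,.e,.e⟩⟩,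
   ⟨⟨.e,.e,.o,.o,.o,.o,.o⟩,⟨.n,.o,.o,.o,.o,.o,.o⟩,⟨.n,.n,.e,.n,.e,.o,.o⟩,⟨.n,.o,.n,.n,.o,.o,.o⟩,⟨.n,.n,.e,.o,.o,.o,.o⟩,⟨.n,.e,.n,.n,.o,.e,.e⟩,⟨.e,.n,.n,.n,.e,.n,.o⟩⟩,
   ⟨⟨.e,.o,.o,.o,.o,.o,.o⟩,⟨.n,.e,.o,.o,.o,.o,.o⟩,⟨.n,.e,.e,.o,.o,.o,.o⟩,⟨.n,.o,.n,.e,.o,.o,.o⟩,⟨.n,.e,.e,.e,.e,.o,.o⟩,⟨.n,.e,.n,.e,.e,.e,.o⟩,⟨.e,.o,.n,.e,.o,.n,.e⟩⟩,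
   ⟨⟨.e,.o,.o,.o,.o,.o,.o⟩,⟨.n,.n,.o,.o,.o,.o,.o⟩,⟨.n,.e,.n,.o,.o,.o,.o⟩,⟨.n,.e,.e,.e,.o,.o,.o⟩,⟨.n,.e,.n,.e,.n,.o,.o⟩,⟨.n,.o,.e,.e,.e,.n,.o⟩,⟨.e,.e,.e,.e,.e,.e,.e⟩⟩]

/-- Coset representatives of the Borel subgroup -/
def repChunk : List (List M7) :=
  [repPart0,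
   repPart1,
   repPart2,
   repPart3,
   repPart4,
   repPart5,
   repPart6,
   repPart7,
   repPart8,
   repPart9,
   repPart10,
   repPart11,
   repPart12,
   repPart13,
   repPart14,
   repPart15,
   repPart16,
   repPart17,
   repPart18,
   repPart19,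
   repPart20,
   repPart21,
   repPart22,
   repPart23,
   repPart24,
   repPart25,
   repPart26,
   repPart27,
   repPart28,
   repPart29,
   repPart30,
   repPart31,
   repPart32,
   repPart33,
   repPart34,
   repPart35,
   repPart36,
   repPart37,
   repPart38,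
   repPart39,
   repPart40,
   repPart41,
   repPart42,
   repPart43,
   repPart44,
   repPart45]

end Cfsg.Agent.H50.GTwoThree
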