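/- The coset representatives are invertible, with increasing invariants. -/
import Cfsg.Agent.H50.GTwoThree.Gens
import Cfsg.Agent.H50.GTwoThree.Reps

set_option autoImplicit false
set_option maxRecDepth 100000
set_option Elab.async false

namespace Cfsg.Agent.H50.GTwoThree

/-- representative with a given index -/
def rep (i : ℕ) : M7 := lkp repChunk i M7.one

/-- test of a representative -/
def repTest (i : ℕ) : Bool := decide ((adj (rep i)).mul (rep i) = M7.one)

theorem repTest_part0 : partIdx (repTest) 0 = true := by decide +kernel

theorem repTest_part7 : partIdx (repTest) 7 = true := by decide +kernel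

theorem repTest_part14 : partIdx (repTest) 14 = true := by decide +kernel

theorem repTest_part21 : partIdx (repTest) 21 = true := by decide +kernel

theorem repTest_part28 : partIdx (repTest) 28 = true := by decide +kernel

theorem repTest_part35 : partIdx (repTest) 35 = true := by decide +kernel

theorem repTest_part42 : partIdx (repTest) 42 = true := by decide +kernel

/-- test of neighbouring invariants -/
def keyTest (i : ℕ) : Bool :=
  !decide (i + 1 < 1456) || decide (M7.key (rep i) < M7.key (rep (i + 1)))

theorem keyTest_part0 : partIdx (keyTest) 0 = true := by decide +kernel

theorem keyTest_part7 : partIdx (keyTest) 7 = true := by decide +kernel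

theorem keyTest_part14 : partIdx (keyTest) 14 = true := by decide +kernel

theorem keyTest_part21 : partIdx (keyTest) 21 = true := by decide +kernel

theorem keyTest_part28 : partIdx (keyTest) 28 = true := by decide +kernel

theorem keyTest_part35 : partIdx (keyTest) 35 = true := by decide +kernel

theorem keyTest_part42 : partIdx (keyTest) 42 = true := by decide +kernel

theorem rep_inv {i : ℕ} (hi : i < 1456) : (adj (rep i)).mul (rep i) = M7.one :=
  of_decide_eq_true (of_parts repTest_part0 repTest_part7 repTest_part14 repTest_part21 repTest_part28 repTest_part35 repTest_part42 hi : repTest i = true)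

theorem key_lt {i j : ℕ} (hij : i < j) (hj : j < 1456) : M7.key (rep i) < M7.key (rep j) := by
  induction j with
  | zero => omega
  | succ j ih =>
    have h0 : keyTest j = true := of_parts keyTest_part0 keyTest_part7 keyTest_part14 keyTest_part21 keyTest_part28 keyTest_part35 keyTest_part42 (by omega)
    simp only [keyTest, Bool.or_eq_true, Bool.not_eq_true', decide_eq_false_iff_not,
      decide_eq_true_eq] at h0
    have h := h0.resolve_left (not_not_intro hj)
    rcases Nat.lt_succ_iff_lt_or_eq.1 hij with hlt | rfl
    · exact (ih hlt (by omega)).trans h
    · exact h

theorem rep_base : rep base = M7.one := by decide +kernel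

end Cfsg.Agent.H50.GTwoThree
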