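/-
A group of matrices permuting the cosets of the Borel subgroup, and the cocycle it inherits.
-/
import Cfsg.Agent.H50.GTwoThree.RepCheck

set_option autoImplicit false
set_option maxRecDepth 100000

namespace Cfsg.Agent.H50.GTwoThree

open Matrix

/-- the ambient group -/
abbrev G7 : Type := GL (Fin 7) F3

theorem mat_rep_inv (i : Fin 1456) : (adj (rep i.1)).mat * (rep i.1).mat = 1 := by
  rw [← M7.mat_mul, rep_inv i.2, M7.mat_one]

/-- representatives in the group -/
def repG (i : Fin 1456) : G7 :=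
  ⟨(rep i.1).mat, (adj (rep i.1)).mat, mul_eq_one_comm.1 (mat_rep_inv i), mat_rep_inv i⟩

/-- the Borel subgroup, as a submonoid -/
def borelMonoid : Submonoid G7 where
  carrier := {g | ∃ p, Valid p ∧ g.val = psi p}
  one_mem' := ⟨pOne, by decide +kernel, psi_one.symm⟩
  mul_mem' := by
    rintro g h ⟨p, hp, eg⟩ ⟨q, hq, eh⟩
    exact ⟨pmul p q, valid_pmul hp hq, by rw [Units.val_mul, eg, eh, psi_mul hp]⟩

/-- the Borel subgroup -/
def borel : Subgroup G7 :=
  { borelMonoid with
    inv_mem' := fun {g} hg => by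
      obtain ⟨n, hn0, hn⟩ := (isOfFinOrder_of_finite g).exists_pow_eq_one
      obtain ⟨k, rfl⟩ : ∃ k, n = k + 1 := ⟨n - 1, by omega⟩
      rw [inv_eq_of_mul_eq_one_right (show g * g ^ k = 1 by rw [← pow_succ', hn])]
      exact pow_mem (show g ∈ borelMonoid from hg) k }

theorem mem_borel {g : G7} : g ∈ borel ↔ ∃ p, Valid p ∧ g.val = psi p := Iff.rfl

theorem rep_injective {i j : Fin 1456} (h : (repG i)⁻¹ * repG j ∈ borel) : i = j := by
  obtain ⟨p, hp, e⟩ := mem_borel.1 h
  have h1 : repG i * ((repG i)⁻¹ * repG j) = repG j := mul_inv_cancel_left _ _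
  have h2 : (rep i.1).mat * psi p = (rep j.1).mat := by
    rw [← e]
    exact (Units.val_mul _ _).symm.trans (congrArg Units.val h1)
  rw [← M7.mat_psiC, ← M7.mat_mul] at h2
  have hk : M7.key (rep j.1) = M7.key (rep i.1) := by
    rw [← M7.eq_of_mat h2, M7.key_mul_psiC _ hp]
  rcases Nat.lt_trichotomy i.1 j.1 with hlt | heq | hgt
  · exact absurd hk.symm (key_lt hlt j.2).ne
  · exact Fin.ext heq
  · exact absurd hk (key_lt hgt i.2).ne

/-- elements carrying each coset to a coset, as a submonoid -/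
def permMonoid : Submonoid G7 where
  carrier := {g | ∀ i, ∃ j, (repG j)⁻¹ * g * repG i ∈ borel}
  one_mem' i := ⟨i, by rw [mul_one, inv_mul_cancel]; exact one_mem _⟩
  mul_mem' := by
    intro g h hg hh i
    obtain ⟨j, hj⟩ := hh i
    obtain ⟨k, hk⟩ := hg j
    refine ⟨k, ?_⟩
    have := mul_mem hk hj
    convert this using 1
    group

/-- elements carrying each coset to a coset -/
def permGroup : Subgroup G7 :=
  { permMonoid with
    inv_mem' := fun {g} hg => by
      obtain ⟨n, hn0, hn⟩ := (isOfFinOrder_of_finite g).exists_pow_eq_one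
      obtain ⟨k, rfl⟩ : ∃ k, n = k + 1 := ⟨n - 1, by omega⟩
      rw [inv_eq_of_mul_eq_one_right (show g * g ^ k = 1 by rw [← pow_succ', hn])]
      exact pow_mem (show g ∈ permMonoid from hg) k }

/-- the image of a coset -/
noncomputable def img' (g : permGroup) (i : Fin 1456) : Fin 1456 := (g.2 i).choose

/-- the label of a coset -/
noncomputable def lab (g : permGroup) (i : Fin 1456) : G7 := (repG (img' g i))⁻¹ * g.1 * repG i

theorem lab_mem (g : permGroup) (i : Fin 1456) : lab g i ∈ borel := (g.2 i).choose_spec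

theorem img_unique (g : permGroup) {i j : Fin 1456} (h : (repG j)⁻¹ * g.1 * repG i ∈ borel) :
    img' g i = j := by
  refine rep_injective ?_
  have := mul_mem (lab_mem g i) (inv_mem h)
  convert this using 1
  simp only [lab]
  group

theorem img_mul (g h : permGroup) (i : Fin 1456) : img' (g * h) i = img' g (img' h i) := by
  refine img_unique _ ?_
  have := mul_mem (lab_mem g (img' h i)) (lab_mem h i)
  convert this using 1
  simp only [lab, Subgroup.coe_mul]
  group

theorem lab_mul (g h : permGroup) (i : Fin 1456) :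
    lab (g * h) i = lab g (img' h i) * lab h i := by
  simp only [lab, img_mul, Subgroup.coe_mul]
  group

theorem img_one (i : Fin 1456) : img' 1 i = i :=
  img_unique 1 (by rw [OneMemClass.coe_one, mul_one, inv_mul_cancel]; exact one_mem _)

theorem lab_one (i : Fin 1456) : lab 1 i = 1 := by
  rw [lab, img_one, OneMemClass.coe_one, mul_one, inv_mul_cancel]

/-- the permutation of the cosets -/
noncomputable def imgEquiv (g : permGroup) : Fin 1456 ≃ Fin 1456 where
  toFun := img' g
  invFun := img' g⁻¹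
  left_inv i := by rw [← img_mul, inv_mul_cancel, img_one]
  right_inv i := by rw [← img_mul, mul_inv_cancel, img_one]

/-- the cocycle on the Borel subgroup -/
def bcoc (g h : G7) : F3 := pcoc (readPar g.val) (readPar h.val)

theorem bcoc_assoc {x y z : G7} (hx : x ∈ borel) (hy : y ∈ borel) (hz : z ∈ borel) :
    bcoc x y + bcoc (x * y) z = bcoc y z + bcoc x (y * z) := by
  obtain ⟨p, hp, ex⟩ := hx
  obtain ⟨q, hq, ey⟩ := hy
  obtain ⟨r, hr, ez⟩ := hz
  simp only [bcoc, Units.val_mul, ex, ey, ez, psi_mul hp, psi_mul hq, readPar_psi hp, readPar_psi hq,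
    readPar_psi hr, readPar_psi (valid_pmul hp hq), readPar_psi (valid_pmul hq hr)]
  exact pcoc_assoc hp

theorem bcoc_one {x : G7} (hx : x ∈ borel) : bcoc 1 x = 0 ∧ bcoc x 1 = 0 := by
  have e : readPar (1 : G7).val = pOne := by
    rw [Units.val_one, ← psi_one, readPar_psi (by decide +kernel)]
  obtain ⟨p, hp, ex⟩ := hx
  simp only [bcoc, e, ex, readPar_psi hp]
  exact pcoc_one p

/-- the cocycle summed over the cosets -/
noncomputable def cocycle : Cocycle permGroup F3 where
  f g h := ∑ i : Fin 1456, bcoc (lab g (img' h i)) (lab h i)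
  one_left g := Finset.sum_eq_zero fun i _ => by
    rw [lab_one]; exact (bcoc_one (lab_mem _ _)).1
  one_right g := Finset.sum_eq_zero fun i _ => by
    rw [lab_one]; exact (bcoc_one (lab_mem _ _)).2
  assoc x y z := by
    have e : ∑ i, bcoc (lab x (img' y i)) (lab y i) =
        ∑ i, bcoc (lab x (img' y (img' z i))) (lab y (img' z i)) :=
      ((imgEquiv z).sum_comp fun i => bcoc (lab x (img' y i)) (lab y i)).symm
    rw [e, ← Finset.sum_add_distrib, ← Finset.sum_add_distrib]
    refine Finset.sum_congr rfl fun i _ => ?_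
    rw [lab_mul x y, lab_mul y z, img_mul y z]
    exact bcoc_assoc (lab_mem _ _) (lab_mem _ _) (lab_mem _ _)

/-- entry of a table -/
def entry (T : List (List (ℕ × Par))) (i : ℕ) : ℕ × Par := lkp T i (0, pOne)

/-- one row of a table is correct -/
def rowOk (g : M7) (i : ℕ) (t : ℕ × Par) : Bool :=
  decide (t.1 < 1456) && (decide (Valid t.2) &&
    decide (g.mul (rep i) = (rep t.1).mul (M7.psiC t.2)))

/-- a table is correct -/
def TableOk (g : M7) (T : List (List (ℕ × Par))) : Prop :=
  ∀ i < 1456, rowOk g i (entry T i) = true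

theorem table_row {g : G7} {M : M7} {T : List (List (ℕ × Par))} (hg : g.val = M.mat)
    (hT : TableOk M T) (i : Fin 1456) : ∃ h : (entry T i.1).1 < 1456,
      Valid (entry T i.1).2 ∧ ((repG ⟨_, h⟩)⁻¹ * g * repG i).val = psi (entry T i.1).2 := by
  have h0 := hT i.1 i.2
  simp only [rowOk, Bool.and_eq_true, decide_eq_true_eq] at h0
  obtain ⟨h, hv, he⟩ := h0
  refine ⟨h, hv, ?_⟩
  rw [Units.val_mul, Units.val_mul, Matrix.mul_assoc, hg]
  show (repG ⟨_, h⟩)⁻¹.val * (M.mat * (rep i.1).mat) = _
  rw [← M7.mat_mul, he, M7.mat_mul, ← Matrix.mul_assoc, M7.mat_psiC]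
  show (adj (rep _)).mat * (rep _).mat * _ = _
  rw [mat_rep_inv ⟨_, h⟩, Matrix.one_mul]

theorem mem_permGroup_of_table {g : G7} {M : M7} {T : List (List (ℕ × Par))} (hg : g.val = M.mat)
    (hT : TableOk M T) : g ∈ permGroup := fun i => by
  obtain ⟨h, hv, e⟩ := table_row hg hT i
  exact ⟨⟨_, h⟩, _, hv, e⟩

/-- the summand computed from the tables -/
def term (Tg Th : List (List (ℕ × Par))) (i : ℕ) : F3 :=
  pcoc (entry Tg (entry Th i).1).2 (entry Th i).2

/-- all summands added up, piecewise -/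
def termSum (Tg Th : List (List (ℕ × Par))) : F3 :=
  ((List.range 45).map fun c => ((List.range 32).map fun k => term Tg Th (32 * c + k)).sum).sum +
    ((List.range 16).map fun k => term Tg Th (1440 + k)).sum

theorem termSum_eq (Tg Th : List (List (ℕ × Par))) :
    termSum Tg Th = ∑ i : Fin 1456, term Tg Th i.1 := by
  have h : ∀ n, (∑ c ∈ Finset.range n, ∑ k ∈ Finset.range 32, term Tg Th (32 * c + k)) =
      ∑ i ∈ Finset.range (32 * n), term Tg Th i := by
    intro n
    induction n with
    | zero => rfl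
    | succ n ih => rw [Finset.sum_range_succ, ih, Nat.mul_succ, Finset.sum_range_add]
  have hl : ∀ (n : ℕ) (f : ℕ → F3), ((List.range n).map f).sum = ∑ i ∈ Finset.range n, f i :=
    fun n f => rfl
  rw [Fin.sum_univ_eq_sum_range (fun i => term Tg Th i) 1456, termSum, hl]
  simp only [hl]
  rw [show (1456 : ℕ) = 32 * 45 + 16 from rfl, Finset.sum_range_add, ← h 45]

theorem cocycle_table {g h : permGroup} {Mg Mh : M7} {Tg Th : List (List (ℕ × Par))}
    (hg : g.1.val = Mg.mat) (hh : h.1.val = Mh.mat) (hTg : TableOk Mg Tg) (hTh : TableOk Mh Th) :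
    cocycle.f g h = termSum Tg Th := by
  rw [termSum_eq]
  show ∑ i : Fin 1456, bcoc (lab g (img' h i)) (lab h i) = _
  refine Finset.sum_congr rfl fun i _ => ?_
  obtain ⟨hj, hv, e⟩ := table_row hh hTh i
  obtain ⟨hk, hv', e'⟩ := table_row hg hTg ⟨_, hj⟩
  have i1 : img' h i = ⟨_, hj⟩ := img_unique h ⟨_, hv, e⟩
  have i2 : img' g ⟨_, hj⟩ = ⟨_, hk⟩ := img_unique g ⟨_, hv', e'⟩
  simp only [bcoc, lab, i1, i2, e, e', readPar_psi hv, readPar_psi hv']
  rfl

end Cfsg.Agent.H50.GTwoThree
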