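/- Schreier data of a root element; generated. -/
import Cfsg.Agent.H50.GTwoThree.Code

set_option autoImplicit false
set_option maxRecDepth 100000

namespace Cfsg.Agent.H50.GTwoThree

/-- part 0 -/
def schk11_0 : List (ℕ × Par) :=
  [(169,⟨.e,.e,⟨.e,.e,.e,.o,.n,.o⟩⟩),
   (168,⟨.e,.n,⟨.o,.n,.n,.e,.o,.o⟩⟩),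
   (170,⟨.e,.n,⟨.o,.n,.e,.n,.o,.o⟩⟩),
   (171,⟨.e,.e,⟨.n,.n,.o,.o,.e,.n⟩⟩),
   (493,⟨.e,.n,⟨.e,.e,.n,.o,.e,.e⟩⟩),
   (492,⟨.n,.e,⟨.e,.o,.e,.o,.n,.o⟩⟩),
   (494,⟨.e,.n,⟨.n,.e,.o,.e,.e,.e⟩⟩),
   (495,⟨.n,.e,⟨.o,.n,.e,.n,.e,.n⟩⟩),
   (817,⟨.e,.e,⟨.e,.n,.n,.o,.e,.n⟩⟩),
   (816,⟨.n,.e,⟨.e,.o,.e,.o,.n,.o⟩⟩),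
   (818,⟨.e,.e,⟨.n,.o,.n,.n,.n,.o⟩⟩),
   (819,⟨.n,.e,⟨.e,.e,.o,.e,.o,.e⟩⟩),
   (1141,⟨.e,.e,⟨.o,.n,.e,.e,.n,.n⟩⟩),
   (1140,⟨.e,.n,⟨.o,.n,.n,.e,.o,.o⟩⟩),
   (1142,⟨.e,.e,⟨.n,.n,.o,.o,.e,.n⟩⟩),
   (1143,⟨.e,.n,⟨.o,.n,.e,.n,.o,.o⟩⟩),
   (18,⟨.n,.e,⟨.o,.n,.n,.o,.n,.e⟩⟩),
   (17,⟨.e,.e,⟨.e,.o,.e,.e,.n,.o⟩⟩),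
   (19,⟨.e,.e,⟨.o,.n,.e,.o,.e,.n⟩⟩),
   (16,⟨.n,.e,⟨.o,.e,.o,.n,.o,.o⟩⟩),
   (192,⟨.e,.n,⟨.n,.n,.n,.e,.n,.o⟩⟩),
   (195,⟨.n,.e,⟨.o,.e,.e,.n,.e,.n⟩⟩),
   (194,⟨.e,.e,⟨.n,.o,.n,.n,.e,.n⟩⟩),
   (193,⟨.e,.e,⟨.n,.o,.e,.n,.o,.o⟩⟩),
   (180,⟨.n,.n,⟨.e,.e,.n,.o,.n,.o⟩⟩),
   (182,⟨.n,.n,⟨.e,.e,.n,.o,.n,.o⟩⟩),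
   (183,⟨.e,.n,⟨.o,.e,.n,.e,.o,.e⟩⟩),
   (181,⟨.e,.n,⟨.n,.e,.e,.e,.e,.o⟩⟩),
   (517,⟨.n,.e,⟨.o,.n,.n,.n,.n,.e⟩⟩),
   (518,⟨.e,.n,⟨.n,.n,.e,.e,.n,.n⟩⟩),
   (519,⟨.n,.n,⟨.e,.o,.n,.n,.o,.o⟩⟩),
   (516,⟨.e,.n,⟨.e,.n,.n,.e,.o,.o⟩⟩)]

/-- part 1 -/
def schk11_1 : List (ℕ × Par) :=
  [(841,⟨.e,.e,⟨.e,.n,.n,.e,.e,.o⟩⟩),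
   (840,⟨.e,.n,⟨.e,.n,.e,.o,.o,.o⟩⟩),
   (842,⟨.e,.n,⟨.n,.n,.e,.e,.n,.n⟩⟩),
   (843,⟨.e,.n,⟨.n,.o,.n,.o,.n,.o⟩⟩),
   (1165,⟨.n,.n,⟨.e,.e,.o,.e,.n,.o⟩⟩),
   (1167,⟨.e,.n,⟨.n,.e,.o,.e,.e,.e⟩⟩),
   (1164,⟨.e,.n,⟨.n,.e,.o,.o,.e,.e⟩⟩),
   (1166,⟨.n,.e,⟨.n,.e,.e,.n,.n,.e⟩⟩),
   (505,⟨.e,.n,⟨.e,.e,.n,.o,.e,.e⟩⟩),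
   (507,⟨.n,.e,⟨.e,.o,.e,.o,.n,.o⟩⟩),
   (506,⟨.n,.e,⟨.o,.n,.e,.n,.e,.n⟩⟩),
   (504,⟨.n,.n,⟨.n,.n,.o,.e,.n,.n⟩⟩),
   (1153,⟨.e,.e,⟨.o,.n,.e,.e,.n,.n⟩⟩),
   (1154,⟨.e,.n,⟨.e,.e,.n,.e,.o,.o⟩⟩),
   (1152,⟨.n,.e,⟨.n,.e,.o,.o,.n,.e⟩⟩),
   (1155,⟨.e,.n,⟨.o,.n,.n,.e,.o,.o⟩⟩),
   (829,⟨.e,.e,⟨.n,.o,.o,.n,.o,.o⟩⟩),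
   (828,⟨.e,.n,⟨.n,.o,.n,.o,.n,.o⟩⟩),
   (831,⟨.n,.e,⟨.e,.o,.e,.o,.n,.o⟩⟩),
   (830,⟨.e,.n,⟨.n,.o,.e,.e,.n,.o⟩⟩),
   (54,⟨.n,.e,⟨.o,.e,.n,.o,.n,.e⟩⟩),
   (53,⟨.e,.e,⟨.e,.o,.e,.e,.n,.o⟩⟩),
   (55,⟨.e,.n,⟨.e,.o,.n,.e,.e,.o⟩⟩),
   (52,⟨.n,.n,⟨.e,.e,.n,.e,.n,.e⟩⟩),
   (385,⟨.e,.e,⟨.o,.n,.n,.n,.o,.e⟩⟩),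
   (386,⟨.e,.n,⟨.n,.n,.e,.e,.n,.n⟩⟩),
   (387,⟨.n,.e,⟨.n,.o,.e,.e,.n,.o⟩⟩),
   (384,⟨.e,.e,⟨.n,.e,.e,.n,.n,.o⟩⟩),
   (277,⟨.e,.n,⟨.o,.e,.n,.o,.e,.n⟩⟩),
   (279,⟨.e,.n,⟨.o,.n,.n,.n,.o,.o⟩⟩),
   (278,⟨.e,.e,⟨.e,.n,.n,.o,.e,.o⟩⟩),
   (276,⟨.n,.e,⟨.e,.o,.n,.o,.e,.e⟩⟩)]

/-- part 2 -/
def schk11_2 : List (ℕ × Par) :=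
  [(708,⟨.n,.n,⟨.e,.e,.n,.o,.n,.o⟩⟩),
   (711,⟨.n,.n,⟨.o,.e,.o,.e,.e,.o⟩⟩),
   (710,⟨.e,.n,⟨.e,.n,.o,.o,.n,.o⟩⟩),
   (709,⟨.e,.n,⟨.e,.e,.n,.o,.n,.o⟩⟩),
   (1035,⟨.n,.e,⟨.o,.n,.n,.n,.n,.e⟩⟩),
   (1034,⟨.n,.n,⟨.e,.e,.e,.e,.n,.e⟩⟩),
   (1032,⟨.n,.n,⟨.o,.n,.e,.n,.o,.n⟩⟩),
   (1033,⟨.e,.n,⟨.n,.n,.e,.e,.n,.n⟩⟩),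
   (1358,⟨.e,.e,⟨.o,.n,.e,.e,.n,.n⟩⟩),
   (1356,⟨.e,.e,⟨.n,.o,.n,.n,.n,.o⟩⟩),
   (1359,⟨.n,.n,⟨.n,.n,.e,.e,.n,.n⟩⟩),
   (1357,⟨.n,.e,⟨.e,.o,.n,.o,.n,.o⟩⟩),
   (600,⟨.e,.n,⟨.e,.e,.o,.o,.n,.e⟩⟩),
   (602,⟨.e,.e,⟨.o,.e,.n,.e,.n,.o⟩⟩),
   (603,⟨.n,.n,⟨.e,.e,.n,.e,.n,.e⟩⟩),
   (601,⟨.e,.n,⟨.o,.o,.e,.o,.e,.e⟩⟩),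
   (1251,⟨.n,.n,⟨.e,.e,.o,.e,.n,.o⟩⟩),
   (1248,⟨.n,.e,⟨.o,.e,.o,.n,.e,.e⟩⟩),
   (1250,⟨.e,.n,⟨.n,.n,.e,.e,.n,.n⟩⟩),
   (1249,⟨.n,.e,⟨.n,.o,.e,.e,.n,.o⟩⟩),
   (926,⟨.e,.n,⟨.e,.e,.n,.o,.e,.e⟩⟩),
   (927,⟨.n,.e,⟨.o,.n,.e,.n,.e,.n⟩⟩),
   (924,⟨.n,.e,⟨.e,.e,.n,.o,.o,.e⟩⟩),
   (925,⟨.n,.e,⟨.e,.o,.e,.o,.n,.o⟩⟩),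
   (90,⟨.n,.e,⟨.o,.e,.n,.o,.n,.e⟩⟩),
   (89,⟨.e,.e,⟨.e,.o,.e,.e,.n,.o⟩⟩),
   (91,⟨.e,.n,⟨.e,.o,.n,.e,.e,.o⟩⟩),
   (88,⟨.n,.n,⟨.e,.e,.n,.e,.n,.e⟩⟩),
   (483,⟨.n,.e,⟨.n,.n,.n,.e,.o,.n⟩⟩),
   (481,⟨.e,.e,⟨.n,.o,.e,.n,.n,.n⟩⟩),
   (482,⟨.n,.n,⟨.e,.o,.n,.e,.o,.o⟩⟩),
   (480,⟨.e,.e,⟨.n,.e,.o,.o,.n,.e⟩⟩)]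

/-- part 3 -/
def schk11_3 : List (ℕ × Par) :=
  [(326,⟨.e,.n,⟨.e,.e,.n,.n,.n,.e⟩⟩),
   (325,⟨.n,.e,⟨.n,.n,.e,.o,.e,.n⟩⟩),
   (327,⟨.e,.e,⟨.n,.e,.e,.o,.o,.o⟩⟩),
   (324,⟨.n,.n,⟨.n,.e,.o,.o,.e,.e⟩⟩),
   (806,⟨.e,.e,⟨.o,.n,.e,.e,.n,.n⟩⟩),
   (804,⟨.n,.n,⟨.e,.n,.o,.o,.o,.o⟩⟩),
   (807,⟨.e,.n,⟨.o,.n,.n,.e,.o,.o⟩⟩),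
   (805,⟨.e,.n,⟨.e,.o,.n,.o,.e,.o⟩⟩),
   (1128,⟨.n,.n,⟨.e,.e,.n,.o,.n,.o⟩⟩),
   (1131,⟨.n,.n,⟨.e,.o,.o,.n,.o,.n⟩⟩),
   (1130,⟨.n,.n,⟨.o,.o,.e,.e,.o,.n⟩⟩),
   (1129,⟨.e,.e,⟨.n,.n,.e,.e,.n,.n⟩⟩),
   (1455,⟨.e,.n,⟨.n,.e,.n,.n,.e,.o⟩⟩),
   (1454,⟨.n,.n,⟨.e,.e,.e,.e,.n,.e⟩⟩),
   (1452,⟨.e,.e,⟨.e,.o,.e,.e,.n,.n⟩⟩),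
   (1453,⟨.e,.n,⟨.n,.n,.e,.e,.n,.n⟩⟩),
   (651,⟨.n,.e,⟨.o,.e,.e,.e,.n,.n⟩⟩),
   (648,⟨.n,.n,⟨.e,.n,.n,.o,.e,.e⟩⟩),
   (650,⟨.n,.e,⟨.n,.e,.e,.e,.e,.e⟩⟩),
   (649,⟨.n,.n,⟨.e,.e,.e,.n,.n,.e⟩⟩),
   (1298,⟨.n,.e,⟨.n,.e,.e,.e,.n,.o⟩⟩),
   (1299,⟨.n,.e,⟨.o,.n,.e,.n,.e,.n⟩⟩),
   (1296,⟨.n,.e,⟨.n,.e,.e,.e,.o,.e⟩⟩),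
   (1297,⟨.n,.e,⟨.e,.o,.e,.o,.n,.o⟩⟩),
   (972,⟨.e,.n,⟨.e,.e,.e,.e,.n,.e⟩⟩),
   (974,⟨.n,.e,⟨.e,.n,.e,.n,.e,.n⟩⟩),
   (975,⟨.e,.e,⟨.n,.o,.n,.n,.e,.n⟩⟩),
   (973,⟨.n,.n,⟨.n,.o,.e,.e,.n,.n⟩⟩),
   (126,⟨.n,.e,⟨.o,.n,.n,.o,.n,.e⟩⟩),
   (125,⟨.e,.e,⟨.e,.o,.e,.e,.n,.o⟩⟩),
   (127,⟨.e,.e,⟨.o,.n,.e,.o,.e,.n⟩⟩),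
   (124,⟨.n,.e,⟨.o,.e,.o,.n,.o,.o⟩⟩)]

/-- part 4 -/
def schk11_4 : List (ℕ × Par) :=
  [(446,⟨.n,.e,⟨.n,.e,.e,.e,.n,.o⟩⟩),
   (447,⟨.e,.e,⟨.n,.o,.e,.n,.n,.n⟩⟩),
   (445,⟨.e,.e,⟨.e,.o,.e,.n,.n,.e⟩⟩),
   (444,⟨.e,.e,⟨.n,.n,.o,.o,.n,.e⟩⟩),
   (363,⟨.e,.n,⟨.e,.e,.n,.n,.n,.e⟩⟩),
   (362,⟨.n,.n,⟨.n,.o,.e,.n,.e,.n⟩⟩),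
   (361,⟨.e,.n,⟨.e,.e,.e,.o,.e,.e⟩⟩),
   (360,⟨.e,.n,⟨.e,.n,.e,.e,.n,.n⟩⟩),
   (771,⟨.n,.e,⟨.o,.n,.n,.n,.n,.e⟩⟩),
   (770,⟨.n,.n,⟨.e,.o,.n,.n,.o,.o⟩⟩),
   (768,⟨.e,.n,⟨.e,.n,.n,.e,.o,.o⟩⟩),
   (769,⟨.e,.n,⟨.n,.n,.e,.e,.n,.n⟩⟩),
   (1094,⟨.e,.e,⟨.o,.n,.e,.e,.n,.n⟩⟩),
   (1092,⟨.n,.n,⟨.e,.n,.o,.o,.o,.o⟩⟩),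
   (1095,⟨.e,.n,⟨.o,.n,.n,.e,.o,.o⟩⟩),
   (1093,⟨.e,.n,⟨.e,.e,.n,.e,.o,.o⟩⟩),
   (1416,⟨.n,.n,⟨.e,.e,.n,.o,.n,.o⟩⟩),
   (1419,⟨.n,.n,⟨.e,.e,.n,.o,.n,.o⟩⟩),
   (1418,⟨.n,.e,⟨.n,.e,.n,.e,.n,.n⟩⟩),
   (1417,⟨.e,.n,⟨.n,.o,.e,.o,.e,.n⟩⟩),
   (686,⟨.e,.n,⟨.e,.e,.n,.o,.e,.e⟩⟩),
   (687,⟨.n,.e,⟨.o,.n,.e,.n,.e,.n⟩⟩),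
   (684,⟨.n,.n,⟨.e,.n,.n,.e,.e,.e⟩⟩),
   (685,⟨.n,.e,⟨.e,.o,.e,.o,.n,.o⟩⟩),
   (1332,⟨.e,.n,⟨.n,.n,.n,.e,.n,.o⟩⟩),
   (1334,⟨.n,.e,⟨.e,.n,.e,.n,.e,.n⟩⟩),
   (1335,⟨.e,.e,⟨.n,.o,.n,.n,.e,.n⟩⟩),
   (1333,⟨.e,.n,⟨.e,.o,.n,.e,.o,.o⟩⟩),
   (1011,⟨.n,.n,⟨.e,.e,.o,.e,.n,.o⟩⟩),
   (1008,⟨.n,.e,⟨.e,.e,.n,.e,.n,.e⟩⟩),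
   (1010,⟨.n,.e,⟨.n,.e,.e,.e,.e,.e⟩⟩),
   (1009,⟨.n,.n,⟨.e,.e,.e,.n,.n,.e⟩⟩)]

/-- part 5 -/
def schk11_5 : List (ℕ × Par) :=
  [(160,⟨.e,.e,⟨.o,.o,.o,.o,.n,.e⟩⟩),
   (161,⟨.e,.e,⟨.o,.o,.o,.o,.o,.e⟩⟩),
   (162,⟨.e,.e,⟨.o,.o,.o,.o,.n,.e⟩⟩),
   (163,⟨.e,.e,⟨.o,.o,.o,.o,.n,.e⟩⟩),
   (1,⟨.e,.e,⟨.e,.o,.e,.o,.n,.o⟩⟩),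
   (0,⟨.e,.e,⟨.e,.o,.n,.e,.n,.e⟩⟩),
   (3,⟨.e,.e,⟨.e,.o,.n,.e,.n,.e⟩⟩),
   (2,⟨.n,.n,⟨.e,.e,.o,.o,.n,.e⟩⟩),
   (164,⟨.e,.n,⟨.n,.e,.e,.o,.e,.e⟩⟩),
   (165,⟨.e,.e,⟨.e,.n,.n,.o,.o,.e⟩⟩),
   (167,⟨.n,.e,⟨.e,.o,.o,.o,.n,.e⟩⟩),
   (166,⟨.e,.e,⟨.o,.e,.o,.o,.e,.n⟩⟩),
   (172,⟨.e,.e,⟨.n,.o,.e,.n,.n,.n⟩⟩),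
   (175,⟨.e,.e,⟨.o,.n,.n,.n,.n,.e⟩⟩),
   (173,⟨.n,.n,⟨.e,.n,.e,.e,.e,.n⟩⟩),
   (174,⟨.n,.n,⟨.e,.e,.e,.n,.n,.o⟩⟩),
   (20,⟨.n,.n,⟨.n,.e,.n,.o,.n,.o⟩⟩),
   (22,⟨.e,.e,⟨.o,.o,.e,.n,.o,.o⟩⟩),
   (23,⟨.e,.n,⟨.o,.o,.n,.n,.e,.n⟩⟩),
   (21,⟨.e,.n,⟨.e,.e,.o,.o,.n,.e⟩⟩),
   (188,⟨.e,.n,⟨.n,.o,.e,.n,.n,.o⟩⟩),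
   (191,⟨.e,.n,⟨.n,.n,.e,.n,.n,.o⟩⟩),
   (190,⟨.n,.e,⟨.n,.e,.n,.e,.e,.e⟩⟩),
   (189,⟨.e,.n,⟨.o,.n,.o,.n,.o,.n⟩⟩),
   (184,⟨.e,.e,⟨.e,.o,.e,.e,.n,.o⟩⟩),
   (186,⟨.n,.e,⟨.o,.n,.e,.e,.e,.n⟩⟩),
   (187,⟨.e,.n,⟨.e,.o,.o,.e,.o,.n⟩⟩),
   (185,⟨.n,.n,⟨.e,.n,.n,.o,.o,.n⟩⟩),
   (24,⟨.n,.e,⟨.n,.e,.o,.e,.n,.o⟩⟩),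
   (26,⟨.e,.e,⟨.o,.o,.n,.n,.o,.o⟩⟩),
   (25,⟨.e,.n,⟨.o,.o,.n,.e,.o,.n⟩⟩),
   (27,⟨.e,.e,⟨.o,.o,.n,.n,.o,.o⟩⟩)]

/-- part 6 -/
def schk11_6 : List (ℕ × Par) :=
  [(176,⟨.n,.e,⟨.o,.o,.e,.o,.n,.o⟩⟩),
   (178,⟨.e,.n,⟨.n,.o,.o,.e,.e,.n⟩⟩),
   (177,⟨.e,.e,⟨.e,.o,.o,.n,.n,.n⟩⟩),
   (179,⟨.n,.n,⟨.e,.o,.o,.e,.o,.e⟩⟩),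
   (853,⟨.e,.e,⟨.o,.n,.e,.n,.o,.e⟩⟩),
   (854,⟨.e,.n,⟨.e,.o,.o,.e,.o,.o⟩⟩),
   (852,⟨.n,.n,⟨.n,.e,.o,.e,.n,.o⟩⟩),
   (855,⟨.e,.e,⟨.o,.n,.e,.e,.n,.n⟩⟩),
   (529,⟨.n,.n,⟨.e,.o,.o,.e,.o,.o⟩⟩),
   (528,⟨.n,.n,⟨.o,.n,.e,.o,.n,.n⟩⟩),
   (531,⟨.n,.n,⟨.e,.o,.o,.e,.o,.o⟩⟩),
   (530,⟨.n,.n,⟨.n,.e,.o,.e,.n,.o⟩⟩),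
   (1177,⟨.e,.n,⟨.e,.o,.n,.e,.o,.o⟩⟩),
   (1178,⟨.e,.e,⟨.o,.n,.e,.e,.n,.n⟩⟩),
   (1176,⟨.n,.n,⟨.e,.o,.o,.e,.o,.o⟩⟩),
   (1179,⟨.e,.n,⟨.n,.o,.n,.e,.n,.n⟩⟩),
   (865,⟨.n,.n,⟨.e,.o,.n,.e,.o,.o⟩⟩),
   (866,⟨.e,.e,⟨.o,.n,.e,.e,.n,.n⟩⟩),
   (864,⟨.n,.n,⟨.e,.o,.o,.e,.o,.o⟩⟩),
   (867,⟨.e,.n,⟨.e,.e,.n,.e,.n,.e⟩⟩),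
   (541,⟨.e,.n,⟨.o,.o,.n,.e,.o,.e⟩⟩),
   (542,⟨.e,.n,⟨.e,.e,.o,.e,.n,.o⟩⟩),
   (540,⟨.n,.n,⟨.n,.e,.o,.e,.n,.o⟩⟩),
   (543,⟨.n,.n,⟨.o,.e,.e,.e,.o,.n⟩⟩),
   (1189,⟨.e,.n,⟨.e,.o,.n,.e,.o,.o⟩⟩),
   (1188,⟨.e,.e,⟨.o,.o,.o,.n,.o,.o⟩⟩),
   (1191,⟨.n,.n,⟨.e,.o,.o,.e,.o,.o⟩⟩),
   (1190,⟨.n,.e,⟨.o,.e,.o,.n,.o,.o⟩⟩),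
   (877,⟨.n,.n,⟨.e,.o,.n,.e,.o,.o⟩⟩),
   (876,⟨.e,.e,⟨.o,.o,.o,.n,.o,.o⟩⟩),
   (879,⟨.n,.n,⟨.e,.o,.o,.e,.o,.o⟩⟩),
   (878,⟨.n,.e,⟨.o,.e,.o,.n,.o,.o⟩⟩)]

/-- part 7 -/
def schk11_7 : List (ℕ × Par) :=
  [(553,⟨.e,.n,⟨.e,.o,.o,.e,.o,.o⟩⟩),
   (554,⟨.e,.e,⟨.o,.o,.e,.o,.o,.n⟩⟩),
   (552,⟨.n,.n,⟨.e,.n,.o,.e,.e,.o⟩⟩),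
   (555,⟨.n,.e,⟨.n,.o,.o,.e,.e,.o⟩⟩),
   (1201,⟨.e,.e,⟨.o,.n,.e,.n,.o,.e⟩⟩),
   (1202,⟨.e,.n,⟨.e,.o,.o,.e,.o,.o⟩⟩),
   (1200,⟨.e,.n,⟨.o,.e,.n,.o,.o,.n⟩⟩),
   (1203,⟨.e,.e,⟨.e,.n,.n,.o,.e,.n⟩⟩),
   (889,⟨.n,.n,⟨.e,.e,.e,.e,.o,.e⟩⟩),
   (891,⟨.e,.e,⟨.o,.n,.o,.n,.n,.o⟩⟩),
   (890,⟨.e,.e,⟨.o,.n,.o,.n,.n,.o⟩⟩),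
   (888,⟨.n,.n,⟨.e,.o,.o,.n,.o,.o⟩⟩),
   (565,⟨.n,.n,⟨.e,.o,.e,.n,.o,.n⟩⟩),
   (564,⟨.e,.e,⟨.o,.n,.e,.e,.n,.n⟩⟩),
   (567,⟨.e,.n,⟨.e,.e,.n,.n,.n,.e⟩⟩),
   (566,⟨.e,.e,⟨.o,.o,.e,.n,.o,.o⟩⟩),
   (1213,⟨.e,.n,⟨.e,.o,.n,.n,.o,.e⟩⟩),
   (1215,⟨.e,.e,⟨.o,.o,.o,.n,.o,.o⟩⟩),
   (1214,⟨.n,.n,⟨.e,.n,.o,.n,.n,.o⟩⟩),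
   (1212,⟨.n,.n,⟨.o,.e,.n,.e,.n,.o⟩⟩),
   (901,⟨.e,.e,⟨.o,.e,.n,.e,.e,.e⟩⟩),
   (900,⟨.n,.e,⟨.o,.o,.o,.n,.o,.o⟩⟩),
   (903,⟨.n,.n,⟨.e,.o,.o,.n,.o,.o⟩⟩),
   (902,⟨.e,.n,⟨.o,.o,.o,.n,.o,.o⟩⟩),
   (577,⟨.n,.n,⟨.o,.o,.o,.n,.o,.n⟩⟩),
   (579,⟨.n,.e,⟨.o,.n,.e,.e,.n,.n⟩⟩),
   (578,⟨.e,.n,⟨.o,.o,.e,.e,.e,.e⟩⟩),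
   (576,⟨.n,.n,⟨.e,.e,.o,.o,.n,.o⟩⟩),
   (1225,⟨.n,.n,⟨.e,.e,.o,.e,.o,.e⟩⟩),
   (1227,⟨.n,.e,⟨.o,.o,.o,.n,.o,.o⟩⟩),
   (1226,⟨.n,.e,⟨.o,.o,.o,.n,.o,.o⟩⟩),
   (1224,⟨.n,.e,⟨.n,.e,.o,.e,.n,.o⟩⟩)]

/-- part 8 -/
def schk11_8 : List (ℕ × Par) :=
  [(913,⟨.e,.n,⟨.e,.o,.e,.n,.o,.e⟩⟩),
   (915,⟨.e,.e,⟨.o,.o,.o,.n,.o,.o⟩⟩),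
   (914,⟨.n,.n,⟨.e,.n,.o,.n,.n,.o⟩⟩),
   (912,⟨.n,.n,⟨.o,.e,.n,.e,.n,.o⟩⟩),
   (589,⟨.e,.e,⟨.e,.n,.o,.n,.o,.o⟩⟩),
   (591,⟨.n,.n,⟨.n,.e,.o,.n,.e,.e⟩⟩),
   (590,⟨.n,.n,⟨.e,.n,.n,.o,.o,.o⟩⟩),
   (588,⟨.n,.n,⟨.n,.e,.o,.n,.e,.o⟩⟩),
   (1237,⟨.e,.e,⟨.o,.e,.e,.e,.e,.e⟩⟩),
   (1236,⟨.e,.e,⟨.o,.o,.o,.n,.o,.o⟩⟩),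
   (1239,⟨.n,.n,⟨.e,.o,.o,.n,.o,.o⟩⟩),
   (1238,⟨.e,.e,⟨.o,.o,.o,.n,.o,.o⟩⟩),
   (270,⟨.e,.e,⟨.o,.e,.n,.n,.n,.e⟩⟩),
   (269,⟨.e,.e,⟨.n,.o,.e,.n,.n,.n⟩⟩),
   (271,⟨.n,.n,⟨.e,.o,.n,.e,.o,.o⟩⟩),
   (268,⟨.n,.n,⟨.e,.n,.o,.n,.o,.o⟩⟩),
   (58,⟨.e,.e,⟨.o,.o,.n,.e,.o,.o⟩⟩),
   (56,⟨.n,.n,⟨.n,.o,.e,.o,.o,.o⟩⟩),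
   (57,⟨.n,.e,⟨.e,.e,.e,.e,.o,.o⟩⟩),
   (59,⟨.n,.n,⟨.o,.o,.e,.n,.n,.e⟩⟩),
   (382,⟨.n,.n,⟨.e,.o,.o,.n,.o,.o⟩⟩),
   (381,⟨.e,.n,⟨.n,.o,.e,.n,.n,.o⟩⟩),
   (380,⟨.n,.n,⟨.e,.e,.n,.e,.n,.e⟩⟩),
   (383,⟨.e,.n,⟨.n,.e,.e,.o,.e,.e⟩⟩),
   (1382,⟨.n,.n,⟨.n,.o,.n,.n,.n,.e⟩⟩),
   (1380,⟨.e,.n,⟨.e,.e,.e,.o,.n,.o⟩⟩),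
   (1383,⟨.n,.n,⟨.e,.e,.o,.o,.e,.o⟩⟩),
   (1381,⟨.n,.n,⟨.e,.o,.o,.e,.o,.n⟩⟩),
   (732,⟨.n,.n,⟨.e,.n,.n,.e,.e,.e⟩⟩),
   (733,⟨.e,.n,⟨.o,.o,.n,.o,.e,.o⟩⟩),
   (735,⟨.e,.e,⟨.n,.o,.e,.n,.e,.o⟩⟩),
   (734,⟨.e,.e,⟨.n,.n,.e,.e,.o,.n⟩⟩)]

/-- part 9 -/
def schk11_9 : List (ℕ × Par) :=
  [(1059,⟨.e,.n,⟨.o,.o,.o,.e,.n,.n⟩⟩),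
   (1056,⟨.e,.e,⟨.n,.n,.e,.n,.e,.n⟩⟩),
   (1057,⟨.n,.e,⟨.o,.e,.o,.e,.o,.e⟩⟩),
   (1058,⟨.n,.n,⟨.n,.o,.n,.e,.o,.o⟩⟩),
   (950,⟨.n,.e,⟨.o,.e,.o,.e,.e,.o⟩⟩),
   (951,⟨.e,.n,⟨.e,.e,.n,.n,.o,.n⟩⟩),
   (948,⟨.n,.n,⟨.e,.e,.n,.e,.n,.e⟩⟩),
   (949,⟨.n,.e,⟨.o,.e,.o,.e,.e,.o⟩⟩),
   (624,⟨.e,.e,⟨.n,.n,.o,.e,.n,.o⟩⟩),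
   (625,⟨.e,.n,⟨.n,.o,.e,.o,.e,.o⟩⟩),
   (626,⟨.e,.e,⟨.e,.o,.e,.o,.o,.n⟩⟩),
   (627,⟨.e,.e,⟨.n,.o,.n,.n,.e,.n⟩⟩),
   (1275,⟨.n,.e,⟨.o,.n,.o,.n,.e,.o⟩⟩),
   (1274,⟨.n,.n,⟨.o,.o,.e,.e,.e,.o⟩⟩),
   (1273,⟨.n,.n,⟨.o,.e,.n,.o,.o,.n⟩⟩),
   (1272,⟨.e,.n,⟨.e,.o,.e,.e,.o,.n⟩⟩),
   (960,⟨.n,.n,⟨.n,.e,.e,.e,.n,.o⟩⟩),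
   (963,⟨.n,.n,⟨.e,.e,.n,.n,.n,.n⟩⟩),
   (961,⟨.e,.e,⟨.o,.e,.n,.o,.n,.n⟩⟩),
   (962,⟨.n,.n,⟨.e,.n,.n,.o,.e,.e⟩⟩),
   (639,⟨.n,.n,⟨.o,.e,.n,.o,.o,.n⟩⟩),
   (636,⟨.e,.n,⟨.o,.o,.e,.e,.o,.n⟩⟩),
   (638,⟨.n,.n,⟨.o,.o,.o,.e,.n,.e⟩⟩),
   (637,⟨.n,.n,⟨.o,.o,.o,.e,.n,.e⟩⟩),
   (1286,⟨.n,.e,⟨.o,.e,.o,.e,.e,.o⟩⟩),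
   (1285,⟨.e,.e,⟨.n,.n,.e,.e,.n,.n⟩⟩),
   (1287,⟨.e,.n,⟨.e,.n,.e,.n,.e,.n⟩⟩),
   (1284,⟨.e,.n,⟨.e,.n,.o,.o,.n,.o⟩⟩),
   (319,⟨.e,.e,⟨.o,.e,.n,.n,.n,.e⟩⟩),
   (316,⟨.n,.n,⟨.e,.n,.o,.n,.o,.o⟩⟩),
   (318,⟨.e,.e,⟨.n,.o,.e,.n,.n,.n⟩⟩),
   (317,⟨.n,.n,⟨.e,.o,.n,.e,.o,.o⟩⟩)]

/-- part 10 -/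
def schk11_10 : List (ℕ × Par) :=
  [(94,⟨.e,.e,⟨.o,.n,.e,.o,.n,.n⟩⟩),
   (95,⟨.e,.n,⟨.n,.o,.n,.n,.e,.o⟩⟩),
   (92,⟨.n,.n,⟨.n,.e,.o,.o,.n,.e⟩⟩),
   (93,⟨.e,.n,⟨.o,.n,.n,.n,.o,.o⟩⟩),
   (477,⟨.n,.e,⟨.o,.e,.o,.o,.e,.e⟩⟩),
   (478,⟨.n,.e,⟨.n,.n,.e,.o,.e,.n⟩⟩),
   (479,⟨.e,.n,⟨.n,.o,.e,.n,.n,.o⟩⟩),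
   (476,⟨.e,.n,⟨.n,.e,.e,.o,.o,.o⟩⟩),
   (1443,⟨.e,.n,⟨.e,.n,.o,.o,.e,.n⟩⟩),
   (1442,⟨.e,.n,⟨.e,.n,.o,.n,.e,.n⟩⟩),
   (1440,⟨.e,.e,⟨.n,.n,.e,.n,.e,.n⟩⟩),
   (1441,⟨.e,.e,⟨.o,.o,.n,.o,.e,.e⟩⟩),
   (794,⟨.n,.n,⟨.n,.o,.n,.n,.n,.e⟩⟩),
   (793,⟨.e,.n,⟨.n,.n,.o,.e,.o,.n⟩⟩),
   (792,⟨.n,.e,⟨.o,.n,.o,.n,.n,.n⟩⟩),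
   (795,⟨.n,.e,⟨.o,.n,.o,.o,.n,.n⟩⟩),
   (1116,⟨.n,.e,⟨.e,.n,.e,.n,.n,.e⟩⟩),
   (1118,⟨.e,.e,⟨.e,.o,.e,.e,.n,.n⟩⟩),
   (1117,⟨.e,.e,⟨.n,.o,.n,.o,.e,.e⟩⟩),
   (1119,⟨.n,.e,⟨.e,.o,.n,.n,.n,.o⟩⟩),
   (999,⟨.e,.n,⟨.e,.n,.o,.e,.e,.o⟩⟩),
   (997,⟨.n,.n,⟨.o,.e,.n,.o,.o,.n⟩⟩),
   (996,⟨.e,.n,⟨.e,.o,.e,.e,.o,.n⟩⟩),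
   (998,⟨.e,.n,⟨.e,.n,.n,.e,.o,.e⟩⟩),
   (674,⟨.e,.e,⟨.o,.e,.e,.e,.e,.o⟩⟩),
   (672,⟨.e,.e,⟨.o,.o,.n,.n,.o,.e⟩⟩),
   (673,⟨.e,.e,⟨.o,.o,.e,.o,.o,.n⟩⟩),
   (675,⟨.n,.e,⟨.e,.o,.n,.n,.o,.o⟩⟩),
   (1320,⟨.n,.e,⟨.o,.e,.n,.n,.e,.o⟩⟩),
   (1322,⟨.e,.e,⟨.e,.o,.n,.e,.e,.e⟩⟩),
   (1323,⟨.n,.n,⟨.e,.e,.n,.n,.n,.n⟩⟩),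
   (1321,⟨.n,.n,⟨.e,.e,.o,.o,.n,.o⟩⟩)]

/-- part 11 -/
def schk11_11 : List (ℕ × Par) :=
  [(353,⟨.n,.n,⟨.e,.n,.o,.n,.e,.n⟩⟩),
   (354,⟨.e,.n,⟨.e,.o,.e,.e,.n,.e⟩⟩),
   (352,⟨.n,.e,⟨.o,.n,.e,.e,.e,.n⟩⟩),
   (355,⟨.e,.e,⟨.n,.o,.n,.n,.e,.o⟩⟩),
   (130,⟨.e,.n,⟨.o,.e,.e,.e,.o,.o⟩⟩),
   (129,⟨.n,.n,⟨.n,.o,.e,.n,.e,.n⟩⟩),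
   (131,⟨.e,.n,⟨.n,.n,.e,.o,.e,.n⟩⟩),
   (128,⟨.n,.n,⟨.e,.e,.e,.e,.n,.o⟩⟩),
   (443,⟨.e,.e,⟨.e,.e,.e,.n,.n,.e⟩⟩),
   (440,⟨.n,.n,⟨.n,.e,.n,.o,.o,.o⟩⟩),
   (441,⟨.n,.n,⟨.e,.o,.e,.e,.o,.o⟩⟩),
   (442,⟨.e,.n,⟨.n,.o,.e,.n,.n,.o⟩⟩),
   (1404,⟨.n,.n,⟨.e,.n,.n,.e,.e,.e⟩⟩),
   (1407,⟨.n,.n,⟨.e,.e,.e,.e,.e,.e⟩⟩),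
   (1406,⟨.n,.e,⟨.o,.e,.n,.n,.n,.e⟩⟩),
   (1405,⟨.e,.n,⟨.o,.o,.n,.o,.e,.o⟩⟩),
   (759,⟨.n,.n,⟨.n,.n,.e,.n,.o,.o⟩⟩),
   (757,⟨.n,.e,⟨.o,.e,.o,.e,.o,.e⟩⟩),
   (758,⟨.e,.n,⟨.e,.n,.o,.n,.e,.n⟩⟩),
   (756,⟨.e,.e,⟨.n,.n,.e,.n,.e,.n⟩⟩),
   (1082,⟨.n,.e,⟨.o,.e,.o,.e,.e,.e⟩⟩),
   (1083,⟨.e,.e,⟨.o,.e,.o,.e,.e,.e⟩⟩),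
   (1081,⟨.n,.e,⟨.o,.e,.o,.e,.o,.e⟩⟩),
   (1080,⟨.n,.n,⟨.o,.n,.o,.n,.n,.n⟩⟩),
   (379,⟨.n,.e,⟨.o,.e,.n,.o,.n,.e⟩⟩),
   (377,⟨.e,.e,⟨.e,.o,.e,.e,.n,.o⟩⟩),
   (376,⟨.n,.n,⟨.e,.e,.n,.e,.n,.e⟩⟩),
   (378,⟨.e,.n,⟨.e,.o,.n,.e,.e,.o⟩⟩),
   (62,⟨.n,.n,⟨.o,.n,.e,.o,.e,.e⟩⟩),
   (60,⟨.e,.e,⟨.e,.n,.n,.n,.e,.e⟩⟩),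
   (63,⟨.e,.n,⟨.o,.o,.n,.n,.e,.e⟩⟩),
   (61,⟨.e,.e,⟨.e,.o,.e,.e,.n,.o⟩⟩)]

/-- part 12 -/
def schk11_12 : List (ℕ × Par) :=
  [(275,⟨.n,.n,⟨.n,.e,.n,.e,.e,.e⟩⟩),
   (273,⟨.n,.n,⟨.n,.n,.o,.n,.o,.e⟩⟩),
   (274,⟨.n,.n,⟨.e,.o,.e,.e,.o,.o⟩⟩),
   (272,⟨.n,.e,⟨.e,.o,.n,.e,.n,.e⟩⟩),
   (1047,⟨.n,.n,⟨.e,.e,.n,.o,.n,.o⟩⟩),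
   (1046,⟨.n,.n,⟨.o,.e,.o,.e,.e,.o⟩⟩),
   (1045,⟨.e,.n,⟨.e,.e,.n,.o,.n,.o⟩⟩),
   (1044,⟨.e,.e,⟨.o,.o,.o,.n,.o,.o⟩⟩),
   (720,⟨.n,.n,⟨.n,.n,.e,.o,.o,.e⟩⟩),
   (721,⟨.e,.e,⟨.n,.o,.e,.o,.e,.o⟩⟩),
   (722,⟨.n,.n,⟨.e,.o,.e,.e,.o,.n⟩⟩),
   (723,⟨.n,.n,⟨.n,.e,.e,.n,.e,.o⟩⟩),
   (1370,⟨.n,.e,⟨.n,.o,.o,.o,.n,.o⟩⟩),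
   (1371,⟨.e,.n,⟨.o,.e,.n,.n,.o,.e⟩⟩),
   (1368,⟨.e,.e,⟨.n,.o,.e,.n,.e,.o⟩⟩),
   (1369,⟨.e,.n,⟨.o,.o,.n,.o,.e,.o⟩⟩),
   (1263,⟨.e,.n,⟨.e,.e,.o,.o,.n,.e⟩⟩),
   (1260,⟨.e,.n,⟨.e,.o,.e,.e,.n,.e⟩⟩),
   (1261,⟨.n,.e,⟨.o,.e,.o,.e,.o,.e⟩⟩),
   (1262,⟨.n,.n,⟨.e,.e,.n,.e,.n,.e⟩⟩),
   (612,⟨.n,.n,⟨.e,.n,.e,.o,.n,.n⟩⟩),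
   (613,⟨.n,.e,⟨.o,.o,.e,.o,.n,.o⟩⟩),
   (615,⟨.e,.n,⟨.e,.e,.n,.o,.n,.n⟩⟩),
   (614,⟨.n,.e,⟨.o,.n,.e,.n,.e,.n⟩⟩),
   (938,⟨.e,.n,⟨.n,.e,.o,.n,.o,.o⟩⟩),
   (936,⟨.e,.n,⟨.n,.n,.e,.n,.e,.n⟩⟩),
   (939,⟨.n,.e,⟨.o,.e,.o,.n,.e,.e⟩⟩),
   (937,⟨.n,.e,⟨.e,.n,.n,.n,.e,.n⟩⟩),
   (1070,⟨.n,.e,⟨.o,.n,.n,.n,.n,.o⟩⟩),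
   (1069,⟨.e,.n,⟨.o,.o,.n,.o,.e,.o⟩⟩),
   (1071,⟨.n,.n,⟨.e,.n,.o,.n,.n,.o⟩⟩),
   (1068,⟨.n,.n,⟨.e,.e,.e,.e,.e,.e⟩⟩)]

/-- part 13 -/
def schk11_13 : List (ℕ × Par) :=
  [(747,⟨.n,.n,⟨.e,.e,.n,.o,.n,.o⟩⟩),
   (744,⟨.n,.n,⟨.o,.o,.e,.e,.o,.n⟩⟩),
   (746,⟨.n,.n,⟨.e,.e,.n,.o,.n,.o⟩⟩),
   (745,⟨.n,.n,⟨.e,.e,.n,.o,.n,.o⟩⟩),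
   (1392,⟨.e,.n,⟨.e,.n,.n,.e,.e,.o⟩⟩),
   (1395,⟨.e,.n,⟨.e,.n,.o,.n,.e,.n⟩⟩),
   (1393,⟨.e,.e,⟨.o,.o,.e,.n,.o,.o⟩⟩),
   (1394,⟨.e,.e,⟨.n,.n,.e,.n,.e,.n⟩⟩),
   (1344,⟨.n,.n,⟨.e,.n,.e,.o,.n,.n⟩⟩),
   (1346,⟨.n,.e,⟨.o,.n,.e,.n,.e,.n⟩⟩),
   (1345,⟨.n,.e,⟨.o,.o,.e,.o,.n,.o⟩⟩),
   (1347,⟨.e,.n,⟨.e,.e,.n,.o,.n,.n⟩⟩),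
   (698,⟨.e,.e,⟨.o,.e,.n,.e,.e,.e⟩⟩),
   (697,⟨.n,.e,⟨.e,.n,.n,.n,.e,.n⟩⟩),
   (696,⟨.n,.e,⟨.e,.o,.n,.n,.o,.o⟩⟩),
   (699,⟨.n,.n,⟨.n,.e,.e,.e,.o,.o⟩⟩),
   (1023,⟨.e,.n,⟨.n,.n,.o,.o,.n,.n⟩⟩),
   (1022,⟨.e,.n,⟨.n,.o,.n,.e,.o,.o⟩⟩),
   (1020,⟨.e,.e,⟨.o,.e,.o,.e,.n,.e⟩⟩),
   (1021,⟨.n,.e,⟨.e,.e,.e,.n,.n,.o⟩⟩),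
   (437,⟨.n,.e,⟨.o,.n,.n,.o,.n,.e⟩⟩),
   (439,⟨.e,.e,⟨.o,.n,.e,.o,.e,.n⟩⟩),
   (438,⟨.e,.e,⟨.e,.o,.e,.e,.n,.o⟩⟩),
   (436,⟨.n,.e,⟨.o,.e,.o,.n,.o,.o⟩⟩),
   (134,⟨.n,.e,⟨.n,.o,.e,.n,.o,.o⟩⟩),
   (133,⟨.e,.e,⟨.e,.o,.e,.e,.n,.o⟩⟩),
   (132,⟨.e,.e,⟨.n,.n,.o,.o,.e,.n⟩⟩),
   (135,⟨.e,.n,⟨.n,.o,.e,.n,.n,.o⟩⟩),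
   (358,⟨.e,.n,⟨.e,.n,.e,.n,.o,.o⟩⟩),
   (356,⟨.e,.n,⟨.e,.n,.o,.o,.e,.n⟩⟩),
   (359,⟨.e,.n,⟨.o,.o,.n,.e,.e,.e⟩⟩),
   (357,⟨.n,.n,⟨.e,.o,.e,.e,.o,.o⟩⟩)]

/-- part 14 -/
def schk11_14 : List (ℕ × Par) :=
  [(1104,⟨.e,.e,⟨.o,.o,.e,.o,.n,.o⟩⟩),
   (1106,⟨.e,.e,⟨.n,.n,.e,.n,.e,.n⟩⟩),
   (1107,⟨.e,.n,⟨.e,.n,.o,.n,.e,.n⟩⟩),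
   (1105,⟨.e,.e,⟨.o,.o,.n,.o,.e,.e⟩⟩),
   (782,⟨.e,.n,⟨.n,.e,.n,.n,.e,.o⟩⟩),
   (780,⟨.n,.e,⟨.e,.o,.n,.n,.n,.o⟩⟩),
   (781,⟨.n,.n,⟨.n,.o,.n,.o,.n,.n⟩⟩),
   (783,⟨.n,.n,⟨.e,.n,.e,.n,.o,.n⟩⟩),
   (1431,⟨.n,.n,⟨.e,.e,.n,.o,.n,.o⟩⟩),
   (1429,⟨.e,.n,⟨.e,.e,.n,.o,.n,.o⟩⟩),
   (1428,⟨.n,.n,⟨.o,.o,.e,.e,.o,.n⟩⟩),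
   (1430,⟨.n,.n,⟨.e,.o,.o,.n,.o,.n⟩⟩),
   (1310,⟨.e,.e,⟨.o,.e,.n,.e,.e,.e⟩⟩),
   (1311,⟨.n,.n,⟨.e,.n,.n,.o,.e,.e⟩⟩),
   (1309,⟨.e,.n,⟨.e,.n,.o,.e,.o,.n⟩⟩),
   (1308,⟨.n,.e,⟨.e,.o,.n,.n,.o,.o⟩⟩),
   (663,⟨.e,.n,⟨.e,.e,.o,.o,.n,.e⟩⟩),
   (661,⟨.n,.n,⟨.n,.e,.n,.e,.e,.e⟩⟩),
   (662,⟨.n,.n,⟨.e,.e,.n,.e,.n,.e⟩⟩),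
   (660,⟨.n,.e,⟨.e,.n,.e,.n,.e,.n⟩⟩),
   (984,⟨.n,.n,⟨.e,.n,.e,.o,.n,.n⟩⟩),
   (987,⟨.e,.n,⟨.o,.n,.e,.o,.o,.e⟩⟩),
   (986,⟨.n,.e,⟨.o,.n,.e,.n,.e,.n⟩⟩),
   (985,⟨.n,.e,⟨.o,.o,.e,.o,.n,.o⟩⟩),
   (474,⟨.n,.e,⟨.o,.e,.n,.o,.n,.e⟩⟩),
   (472,⟨.n,.n,⟨.e,.e,.n,.e,.n,.e⟩⟩),
   (473,⟨.e,.n,⟨.e,.o,.n,.e,.e,.o⟩⟩),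
   (475,⟨.e,.e,⟨.e,.o,.e,.e,.n,.o⟩⟩),
   (98,⟨.e,.n,⟨.o,.e,.n,.o,.e,.n⟩⟩),
   (99,⟨.e,.n,⟨.n,.o,.e,.n,.n,.o⟩⟩),
   (97,⟨.e,.e,⟨.n,.o,.e,.n,.n,.n⟩⟩),
   (96,⟨.e,.e,⟨.n,.n,.o,.o,.e,.n⟩⟩)]

/-- part 15 -/
def schk11_15 : List (ℕ × Par) :=
  [(321,⟨.e,.n,⟨.e,.n,.e,.n,.e,.n⟩⟩),
   (323,⟨.e,.n,⟨.n,.e,.e,.o,.e,.e⟩⟩),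
   (320,⟨.n,.n,⟨.e,.e,.n,.e,.n,.e⟩⟩),
   (322,⟨.e,.n,⟨.e,.n,.n,.o,.e,.o⟩⟩),
   (484,⟨.e,.e,⟨.o,.o,.o,.o,.e,.e⟩⟩),
   (485,⟨.e,.e,⟨.o,.o,.o,.o,.o,.e⟩⟩),
   (486,⟨.e,.e,⟨.o,.o,.o,.o,.n,.e⟩⟩),
   (487,⟨.e,.e,⟨.o,.o,.o,.o,.e,.e⟩⟩),
   (5,⟨.n,.n,⟨.n,.o,.e,.o,.e,.e⟩⟩),
   (4,⟨.e,.e,⟨.o,.o,.e,.o,.n,.n⟩⟩),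
   (7,⟨.e,.n,⟨.o,.e,.o,.e,.e,.e⟩⟩),
   (6,⟨.e,.n,⟨.n,.e,.n,.e,.o,.o⟩⟩),
   (488,⟨.e,.n,⟨.o,.o,.o,.o,.e,.n⟩⟩),
   (489,⟨.e,.n,⟨.e,.n,.n,.o,.e,.o⟩⟩),
   (491,⟨.e,.e,⟨.o,.e,.o,.o,.e,.n⟩⟩),
   (490,⟨.n,.n,⟨.o,.e,.n,.n,.o,.e⟩⟩),
   (498,⟨.n,.e,⟨.o,.n,.n,.o,.n,.e⟩⟩),
   (497,⟨.e,.e,⟨.e,.o,.e,.e,.n,.o⟩⟩),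
   (499,⟨.e,.e,⟨.o,.o,.o,.o,.n,.e⟩⟩),
   (496,⟨.n,.e,⟨.o,.n,.n,.n,.e,.n⟩⟩),
   (30,⟨.e,.e,⟨.o,.n,.e,.e,.n,.n⟩⟩),
   (28,⟨.e,.e,⟨.o,.e,.n,.n,.n,.o⟩⟩),
   (29,⟨.n,.e,⟨.e,.e,.e,.e,.o,.o⟩⟩),
   (31,⟨.n,.e,⟨.o,.o,.e,.o,.n,.n⟩⟩),
   (514,⟨.n,.n,⟨.n,.o,.n,.o,.n,.n⟩⟩),
   (513,⟨.e,.n,⟨.e,.n,.n,.o,.e,.o⟩⟩),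
   (512,⟨.n,.n,⟨.e,.o,.o,.o,.n,.o⟩⟩),
   (515,⟨.e,.n,⟨.o,.o,.o,.o,.e,.n⟩⟩),
   (511,⟨.e,.n,⟨.e,.n,.n,.n,.e,.e⟩⟩),
   (509,⟨.e,.e,⟨.n,.o,.e,.n,.n,.n⟩⟩),
   (508,⟨.n,.e,⟨.o,.e,.e,.n,.e,.n⟩⟩),
   (510,⟨.n,.n,⟨.e,.o,.n,.e,.o,.o⟩⟩)]

/-- part 16 -/
def schk11_16 : List (ℕ × Par) :=
  [(42,⟨.e,.n,⟨.e,.n,.n,.e,.n,.e⟩⟩),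
   (40,⟨.e,.e,⟨.o,.o,.e,.o,.n,.n⟩⟩),
   (43,⟨.e,.e,⟨.o,.n,.e,.e,.n,.n⟩⟩),
   (41,⟨.n,.n,⟨.n,.o,.e,.o,.e,.e⟩⟩),
   (503,⟨.n,.n,⟨.e,.n,.o,.n,.e,.n⟩⟩),
   (501,⟨.n,.e,⟨.o,.e,.o,.o,.o,.e⟩⟩),
   (502,⟨.n,.n,⟨.e,.o,.e,.e,.o,.o⟩⟩),
   (500,⟨.n,.n,⟨.e,.e,.n,.e,.n,.e⟩⟩),
   (1170,⟨.n,.e,⟨.e,.e,.n,.n,.n,.o⟩⟩),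
   (1169,⟨.n,.e,⟨.e,.o,.n,.o,.n,.n⟩⟩),
   (1171,⟨.n,.n,⟨.o,.o,.e,.n,.e,.n⟩⟩),
   (1168,⟨.n,.n,⟨.o,.o,.e,.n,.e,.n⟩⟩),
   (241,⟨.n,.n,⟨.e,.n,.e,.o,.e,.o⟩⟩),
   (240,⟨.e,.e,⟨.o,.o,.e,.n,.o,.o⟩⟩),
   (242,⟨.e,.e,⟨.e,.o,.o,.n,.o,.o⟩⟩),
   (243,⟨.e,.e,⟨.o,.o,.o,.n,.o,.o⟩⟩),
   (887,⟨.e,.n,⟨.o,.n,.e,.e,.o,.e⟩⟩),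
   (885,⟨.e,.e,⟨.o,.o,.e,.o,.o,.n⟩⟩),
   (886,⟨.e,.n,⟨.o,.e,.e,.e,.o,.n⟩⟩),
   (884,⟨.e,.e,⟨.o,.e,.e,.e,.e,.o⟩⟩),
   (1183,⟨.n,.e,⟨.n,.e,.o,.o,.n,.o⟩⟩),
   (1181,⟨.n,.n,⟨.n,.o,.n,.o,.n,.n⟩⟩),
   (1180,⟨.n,.e,⟨.n,.e,.o,.o,.n,.o⟩⟩),
   (1182,⟨.n,.e,⟨.n,.e,.o,.o,.n,.o⟩⟩),
   (267,⟨.n,.n,⟨.e,.e,.n,.o,.n,.o⟩⟩),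
   (264,⟨.e,.e,⟨.o,.o,.e,.n,.o,.o⟩⟩),
   (265,⟨.e,.n,⟨.e,.e,.n,.o,.n,.o⟩⟩),
   (266,⟨.e,.e,⟨.e,.e,.n,.e,.o,.n⟩⟩),
   (908,⟨.n,.n,⟨.e,.n,.o,.n,.o,.e⟩⟩),
   (909,⟨.n,.e,⟨.o,.o,.e,.o,.o,.n⟩⟩),
   (911,⟨.n,.e,⟨.o,.e,.e,.e,.e,.o⟩⟩),
   (910,⟨.n,.n,⟨.n,.o,.e,.o,.e,.e⟩⟩)]

/-- part 17 -/
def schk11_17 : List (ℕ × Par) :=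
  [(1192,⟨.n,.e,⟨.o,.e,.o,.o,.e,.o⟩⟩),
   (1193,⟨.e,.n,⟨.e,.o,.n,.e,.o,.n⟩⟩),
   (1194,⟨.e,.n,⟨.n,.n,.n,.o,.n,.e⟩⟩),
   (1195,⟨.n,.e,⟨.e,.e,.e,.o,.o,.n⟩⟩),
   (255,⟨.e,.e,⟨.e,.n,.e,.e,.o,.e⟩⟩),
   (252,⟨.e,.e,⟨.o,.o,.e,.n,.o,.o⟩⟩),
   (253,⟨.n,.n,⟨.e,.e,.n,.o,.n,.o⟩⟩),
   (254,⟨.n,.e,⟨.o,.n,.e,.n,.o,.e⟩⟩),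
   (898,⟨.e,.e,⟨.o,.e,.e,.e,.e,.o⟩⟩),
   (897,⟨.n,.e,⟨.o,.o,.e,.o,.o,.n⟩⟩),
   (896,⟨.e,.n,⟨.e,.o,.o,.e,.o,.e⟩⟩),
   (899,⟨.n,.n,⟨.o,.n,.n,.e,.o,.e⟩⟩),
   (1207,⟨.n,.n,⟨.e,.e,.e,.n,.n,.n⟩⟩),
   (1205,⟨.e,.n,⟨.n,.n,.o,.n,.n,.n⟩⟩),
   (1204,⟨.n,.n,⟨.o,.n,.e,.o,.n,.o⟩⟩),
   (1206,⟨.n,.n,⟨.e,.e,.e,.n,.n,.n⟩⟩),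
   (205,⟨.e,.e,⟨.o,.e,.o,.e,.e,.o⟩⟩),
   (204,⟨.e,.e,⟨.e,.o,.o,.e,.o,.e⟩⟩),
   (206,⟨.n,.e,⟨.e,.e,.n,.o,.n,.o⟩⟩),
   (207,⟨.n,.n,⟨.e,.e,.n,.e,.o,.n⟩⟩),
   (850,⟨.e,.e,⟨.e,.n,.o,.e,.o,.n⟩⟩),
   (849,⟨.n,.n,⟨.e,.o,.o,.o,.o,.n⟩⟩),
   (848,⟨.n,.n,⟨.e,.e,.n,.o,.n,.o⟩⟩),
   (851,⟨.n,.n,⟨.e,.n,.e,.e,.n,.o⟩⟩),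
   (1216,⟨.e,.n,⟨.n,.n,.e,.n,.n,.o⟩⟩),
   (1217,⟨.n,.e,⟨.o,.e,.e,.e,.e,.o⟩⟩),
   (1218,⟨.n,.n,⟨.n,.e,.n,.n,.e,.o⟩⟩),
   (1219,⟨.n,.e,⟨.o,.o,.e,.o,.o,.n⟩⟩),
   (230,⟨.n,.e,⟨.n,.e,.o,.o,.n,.o⟩⟩),
   (228,⟨.e,.n,⟨.n,.o,.n,.o,.e,.e⟩⟩),
   (231,⟨.n,.e,⟨.n,.o,.n,.n,.n,.e⟩⟩),
   (229,⟨.n,.e,⟨.e,.e,.n,.o,.n,.o⟩⟩)]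

/-- part 18 -/
def schk11_18 : List (ℕ × Par) :=
  [(875,⟨.n,.n,⟨.e,.e,.n,.o,.n,.o⟩⟩),
   (873,⟨.n,.n,⟨.o,.o,.e,.o,.o,.n⟩⟩),
   (874,⟨.e,.n,⟨.n,.e,.e,.n,.o,.n⟩⟩),
   (872,⟨.e,.n,⟨.e,.o,.e,.e,.o,.e⟩⟩),
   (1230,⟨.n,.e,⟨.e,.e,.e,.e,.o,.n⟩⟩),
   (1229,⟨.n,.e,⟨.o,.e,.o,.n,.e,.e⟩⟩),
   (1231,⟨.e,.e,⟨.e,.o,.e,.e,.e,.n⟩⟩),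
   (1228,⟨.e,.n,⟨.e,.o,.o,.e,.o,.n⟩⟩),
   (218,⟨.n,.e,⟨.o,.e,.o,.e,.e,.o⟩⟩),
   (216,⟨.n,.e,⟨.o,.e,.n,.o,.e,.n⟩⟩),
   (219,⟨.e,.n,⟨.e,.e,.n,.n,.o,.n⟩⟩),
   (217,⟨.n,.e,⟨.o,.e,.o,.e,.e,.o⟩⟩),
   (860,⟨.n,.n,⟨.e,.n,.n,.e,.n,.o⟩⟩),
   (861,⟨.n,.e,⟨.n,.n,.o,.e,.e,.o⟩⟩),
   (863,⟨.n,.e,⟨.n,.e,.n,.o,.n,.o⟩⟩),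
   (862,⟨.e,.n,⟨.e,.o,.n,.e,.o,.n⟩⟩),
   (592,⟨.e,.e,⟨.e,.o,.e,.e,.n,.o⟩⟩),
   (595,⟨.n,.n,⟨.e,.o,.e,.e,.e,.e⟩⟩),
   (593,⟨.n,.e,⟨.o,.e,.n,.o,.n,.e⟩⟩),
   (594,⟨.e,.n,⟨.e,.e,.n,.e,.e,.e⟩⟩),
   (64,⟨.n,.n,⟨.e,.e,.o,.o,.n,.o⟩⟩),
   (66,⟨.e,.e,⟨.o,.n,.e,.e,.n,.n⟩⟩),
   (67,⟨.e,.n,⟨.e,.n,.o,.o,.e,.o⟩⟩),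
   (65,⟨.n,.n,⟨.e,.n,.n,.o,.o,.n⟩⟩),
   (704,⟨.e,.n,⟨.n,.o,.e,.n,.n,.o⟩⟩),
   (707,⟨.n,.n,⟨.e,.n,.n,.o,.n,.n⟩⟩),
   (706,⟨.n,.n,⟨.e,.n,.n,.o,.e,.e⟩⟩),
   (705,⟨.e,.n,⟨.e,.e,.e,.o,.o,.o⟩⟩),
   (930,⟨.n,.n,⟨.n,.n,.n,.o,.n,.n⟩⟩),
   (928,⟨.e,.e,⟨.o,.e,.o,.e,.n,.e⟩⟩),
   (929,⟨.e,.e,⟨.e,.o,.e,.n,.o,.o⟩⟩),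
   (931,⟨.e,.e,⟨.o,.e,.o,.e,.o,.e⟩⟩)]

/-- part 19 -/
def schk11_19 : List (ℕ × Par) :=
  [(288,⟨.e,.n,⟨.e,.e,.n,.n,.n,.e⟩⟩),
   (289,⟨.e,.n,⟨.o,.o,.n,.o,.e,.o⟩⟩),
   (290,⟨.e,.n,⟨.n,.e,.n,.e,.n,.n⟩⟩),
   (291,⟨.n,.n,⟨.o,.e,.n,.n,.n,.e⟩⟩),
   (1378,⟨.e,.n,⟨.e,.o,.n,.e,.e,.n⟩⟩),
   (1376,⟨.n,.n,⟨.n,.e,.o,.e,.n,.e⟩⟩),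
   (1379,⟨.e,.n,⟨.e,.n,.o,.e,.o,.n⟩⟩),
   (1377,⟨.n,.n,⟨.o,.n,.e,.o,.e,.n⟩⟩),
   (1267,⟨.n,.n,⟨.e,.e,.n,.o,.n,.o⟩⟩),
   (1266,⟨.n,.e,⟨.e,.e,.e,.n,.o,.e⟩⟩),
   (1265,⟨.e,.e,⟨.o,.n,.n,.o,.n,.e⟩⟩),
   (1264,⟨.n,.e,⟨.o,.e,.n,.o,.e,.n⟩⟩),
   (396,⟨.e,.n,⟨.o,.o,.e,.e,.e,.o⟩⟩),
   (397,⟨.n,.e,⟨.e,.e,.e,.o,.o,.n⟩⟩),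
   (399,⟨.n,.e,⟨.e,.e,.e,.e,.o,.o⟩⟩),
   (398,⟨.e,.e,⟨.o,.e,.o,.e,.e,.e⟩⟩),
   (1043,⟨.e,.n,⟨.n,.n,.o,.o,.n,.o⟩⟩),
   (1042,⟨.n,.n,⟨.n,.e,.e,.n,.e,.e⟩⟩),
   (1040,⟨.e,.n,⟨.e,.o,.o,.e,.o,.n⟩⟩),
   (1041,⟨.n,.e,⟨.o,.e,.o,.n,.e,.e⟩⟩),
   (1277,⟨.n,.e,⟨.o,.e,.e,.o,.e,.n⟩⟩),
   (1276,⟨.e,.e,⟨.o,.o,.e,.n,.o,.o⟩⟩),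
   (1279,⟨.n,.n,⟨.o,.o,.e,.n,.n,.e⟩⟩),
   (1278,⟨.e,.e,⟨.e,.o,.e,.e,.n,.o⟩⟩),
   (457,⟨.e,.n,⟨.e,.n,.o,.o,.e,.o⟩⟩),
   (458,⟨.n,.n,⟨.e,.o,.e,.o,.o,.n⟩⟩),
   (459,⟨.n,.e,⟨.o,.e,.o,.n,.e,.o⟩⟩),
   (456,⟨.n,.n,⟨.e,.e,.o,.o,.n,.o⟩⟩),
   (1102,⟨.e,.n,⟨.e,.n,.o,.e,.o,.n⟩⟩),
   (1103,⟨.n,.e,⟨.e,.o,.n,.o,.n,.n⟩⟩),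
   (1101,⟨.n,.n,⟨.n,.e,.n,.n,.o,.e⟩⟩),
   (1100,⟨.e,.n,⟨.o,.o,.n,.e,.e,.e⟩⟩)]

/-- part 20 -/
def schk11_20 : List (ℕ × Par) :=
  [(641,⟨.n,.e,⟨.o,.e,.n,.o,.n,.e⟩⟩),
   (642,⟨.n,.n,⟨.e,.o,.e,.e,.e,.e⟩⟩),
   (640,⟨.e,.n,⟨.e,.e,.n,.e,.e,.e⟩⟩),
   (643,⟨.e,.e,⟨.e,.o,.e,.e,.n,.o⟩⟩),
   (103,⟨.n,.e,⟨.o,.e,.n,.n,.n,.e⟩⟩),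
   (102,⟨.e,.e,⟨.e,.o,.e,.o,.n,.o⟩⟩),
   (101,⟨.e,.n,⟨.e,.o,.n,.n,.e,.o⟩⟩),
   (100,⟨.e,.n,⟨.e,.e,.n,.o,.e,.e⟩⟩),
   (803,⟨.e,.e,⟨.o,.n,.e,.o,.n,.n⟩⟩),
   (800,⟨.e,.n,⟨.e,.n,.o,.n,.n,.o⟩⟩),
   (801,⟨.e,.n,⟨.o,.n,.n,.n,.o,.o⟩⟩),
   (802,⟨.e,.n,⟨.e,.o,.n,.e,.e,.o⟩⟩),
   (977,⟨.n,.e,⟨.o,.e,.o,.e,.e,.e⟩⟩),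
   (979,⟨.e,.e,⟨.o,.e,.o,.e,.n,.e⟩⟩),
   (978,⟨.n,.e,⟨.o,.e,.o,.e,.o,.e⟩⟩),
   (976,⟨.n,.n,⟨.n,.e,.o,.n,.e,.e⟩⟩),
   (338,⟨.n,.n,⟨.o,.e,.n,.n,.o,.o⟩⟩),
   (337,⟨.e,.e,⟨.o,.o,.n,.e,.o,.o⟩⟩),
   (339,⟨.e,.e,⟨.o,.e,.o,.e,.e,.e⟩⟩),
   (336,⟨.e,.e,⟨.n,.e,.e,.o,.n,.e⟩⟩),
   (1436,⟨.n,.e,⟨.o,.n,.e,.o,.n,.n⟩⟩),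
   (1438,⟨.n,.e,⟨.o,.e,.n,.n,.n,.e⟩⟩),
   (1437,⟨.e,.n,⟨.e,.e,.e,.o,.o,.o⟩⟩),
   (1439,⟨.e,.n,⟨.n,.o,.e,.n,.n,.o⟩⟩),
   (1314,⟨.e,.e,⟨.n,.e,.e,.o,.n,.n⟩⟩),
   (1315,⟨.n,.n,⟨.e,.e,.n,.n,.n,.e⟩⟩),
   (1312,⟨.e,.e,⟨.n,.o,.n,.n,.e,.e⟩⟩),
   (1313,⟨.e,.e,⟨.o,.o,.n,.e,.o,.o⟩⟩),
   (421,⟨.e,.e,⟨.n,.n,.e,.e,.o,.n⟩⟩),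
   (423,⟨.e,.n,⟨.o,.o,.n,.o,.e,.o⟩⟩),
   (420,⟨.n,.e,⟨.n,.e,.e,.e,.n,.o⟩⟩),
   (422,⟨.n,.e,⟨.o,.o,.n,.n,.e,.e⟩⟩)]

/-- part 21 -/
def schk11_21 : List (ℕ × Par) :=
  [(1065,⟨.e,.e,⟨.o,.e,.o,.e,.e,.o⟩⟩),
   (1064,⟨.e,.e,⟨.o,.o,.e,.n,.o,.o⟩⟩),
   (1066,⟨.n,.n,⟨.e,.e,.n,.o,.n,.o⟩⟩),
   (1067,⟨.e,.n,⟨.n,.o,.o,.e,.o,.o⟩⟩),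
   (679,⟨.n,.e,⟨.o,.n,.n,.o,.n,.e⟩⟩),
   (676,⟨.n,.e,⟨.o,.e,.o,.n,.o,.o⟩⟩),
   (678,⟨.e,.e,⟨.e,.o,.e,.e,.n,.o⟩⟩),
   (677,⟨.e,.e,⟨.o,.n,.e,.o,.e,.n⟩⟩),
   (137,⟨.e,.e,⟨.o,.n,.e,.e,.n,.n⟩⟩),
   (138,⟨.n,.e,⟨.o,.o,.e,.o,.n,.n⟩⟩),
   (136,⟨.e,.e,⟨.o,.n,.e,.e,.o,.n⟩⟩),
   (139,⟨.n,.e,⟨.e,.e,.e,.e,.o,.o⟩⟩),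
   (765,⟨.e,.e,⟨.o,.n,.e,.o,.n,.n⟩⟩),
   (766,⟨.n,.n,⟨.n,.o,.e,.n,.e,.n⟩⟩),
   (767,⟨.e,.n,⟨.e,.n,.n,.o,.e,.o⟩⟩),
   (764,⟨.e,.n,⟨.e,.n,.o,.e,.o,.n⟩⟩),
   (1012,⟨.n,.e,⟨.n,.o,.n,.o,.e,.e⟩⟩),
   (1014,⟨.n,.e,⟨.o,.n,.o,.e,.e,.n⟩⟩),
   (1015,⟨.e,.e,⟨.n,.o,.n,.o,.e,.e⟩⟩),
   (1013,⟨.e,.n,⟨.n,.o,.n,.e,.n,.n⟩⟩),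
   (375,⟨.n,.e,⟨.e,.o,.o,.o,.n,.e⟩⟩),
   (373,⟨.e,.e,⟨.e,.n,.o,.n,.o,.o⟩⟩),
   (372,⟨.n,.n,⟨.n,.e,.o,.n,.e,.e⟩⟩),
   (374,⟨.e,.n,⟨.e,.n,.o,.n,.e,.n⟩⟩),
   (1401,⟨.n,.n,⟨.n,.o,.n,.n,.n,.e⟩⟩),
   (1403,⟨.e,.e,⟨.n,.o,.n,.e,.o,.o⟩⟩),
   (1400,⟨.e,.n,⟨.e,.e,.e,.o,.n,.o⟩⟩),
   (1402,⟨.n,.n,⟨.e,.n,.e,.o,.n,.e⟩⟩),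
   (700,⟨.e,.e,⟨.n,.o,.n,.n,.e,.o⟩⟩),
   (702,⟨.n,.e,⟨.o,.n,.e,.e,.e,.n⟩⟩),
   (703,⟨.n,.e,⟨.o,.e,.n,.e,.e,.n⟩⟩),
   (701,⟨.e,.e,⟨.o,.e,.n,.e,.o,.o⟩⟩)]

/-- part 22 -/
def schk11_22 : List (ℕ × Par) :=
  [(76,⟨.e,.e,⟨.n,.n,.e,.n,.e,.n⟩⟩),
   (78,⟨.n,.e,⟨.o,.n,.o,.n,.o,.n⟩⟩),
   (77,⟨.n,.n,⟨.e,.e,.e,.e,.e,.n⟩⟩),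
   (79,⟨.n,.e,⟨.n,.n,.n,.e,.e,.o⟩⟩),
   (596,⟨.e,.e,⟨.o,.o,.o,.n,.o,.o⟩⟩),
   (598,⟨.e,.e,⟨.o,.o,.o,.n,.o,.o⟩⟩),
   (597,⟨.e,.n,⟨.e,.n,.o,.o,.n,.o⟩⟩),
   (599,⟨.e,.e,⟨.e,.e,.n,.e,.e,.e⟩⟩),
   (1362,⟨.n,.n,⟨.e,.e,.n,.o,.n,.o⟩⟩),
   (1363,⟨.n,.e,⟨.n,.e,.n,.o,.n,.e⟩⟩),
   (1360,⟨.e,.e,⟨.o,.o,.o,.n,.o,.e⟩⟩),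
   (1361,⟨.n,.n,⟨.e,.n,.o,.n,.e,.e⟩⟩),
   (300,⟨.e,.e,⟨.e,.e,.n,.n,.o,.n⟩⟩),
   (301,⟨.n,.n,⟨.n,.o,.e,.o,.e,.e⟩⟩),
   (303,⟨.e,.e,⟨.o,.e,.n,.o,.n,.o⟩⟩),
   (302,⟨.e,.e,⟨.o,.o,.n,.e,.o,.n⟩⟩),
   (946,⟨.n,.n,⟨.n,.o,.e,.n,.n,.o⟩⟩),
   (947,⟨.e,.n,⟨.e,.n,.o,.o,.e,.e⟩⟩),
   (945,⟨.n,.e,⟨.o,.o,.e,.o,.o,.n⟩⟩),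
   (944,⟨.e,.n,⟨.e,.n,.e,.e,.n,.e⟩⟩),
   (1051,⟨.n,.n,⟨.o,.e,.n,.n,.o,.o⟩⟩),
   (1048,⟨.n,.e,⟨.o,.n,.o,.n,.n,.n⟩⟩),
   (1050,⟨.n,.e,⟨.n,.e,.e,.o,.n,.n⟩⟩),
   (1049,⟨.n,.n,⟨.o,.e,.n,.e,.o,.e⟩⟩),
   (408,⟨.e,.n,⟨.e,.e,.e,.e,.n,.n⟩⟩),
   (409,⟨.e,.n,⟨.e,.o,.e,.o,.n,.e⟩⟩),
   (410,⟨.e,.n,⟨.n,.o,.n,.e,.n,.n⟩⟩),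
   (411,⟨.n,.n,⟨.o,.n,.e,.n,.e,.n⟩⟩),
   (1259,⟨.n,.n,⟨.n,.e,.o,.n,.o,.o⟩⟩),
   (1256,⟨.n,.n,⟨.n,.e,.o,.n,.e,.e⟩⟩),
   (1257,⟨.e,.n,⟨.e,.n,.o,.n,.e,.n⟩⟩),
   (1258,⟨.e,.e,⟨.e,.n,.o,.n,.o,.o⟩⟩)]

/-- part 23 -/
def schk11_23 : List (ℕ × Par) :=
  [(1387,⟨.n,.e,⟨.o,.e,.o,.e,.e,.e⟩⟩),
   (1386,⟨.e,.e,⟨.o,.o,.e,.o,.o,.n⟩⟩),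
   (1385,⟨.e,.e,⟨.n,.e,.n,.n,.o,.n⟩⟩),
   (1384,⟨.e,.e,⟨.o,.e,.e,.e,.e,.o⟩⟩),
   (349,⟨.e,.e,⟨.n,.e,.o,.n,.o,.n⟩⟩),
   (350,⟨.n,.e,⟨.e,.o,.n,.o,.n,.n⟩⟩),
   (351,⟨.e,.e,⟨.e,.e,.n,.e,.o,.n⟩⟩),
   (348,⟨.n,.e,⟨.n,.e,.n,.n,.e,.o⟩⟩),
   (993,⟨.e,.n,⟨.o,.n,.n,.e,.n,.o⟩⟩),
   (992,⟨.e,.e,⟨.o,.o,.e,.n,.o,.o⟩⟩),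
   (994,⟨.n,.n,⟨.o,.o,.e,.n,.n,.e⟩⟩),
   (995,⟨.e,.n,⟨.n,.o,.e,.n,.n,.o⟩⟩),
   (1072,⟨.e,.n,⟨.e,.e,.n,.n,.n,.e⟩⟩),
   (1075,⟨.e,.n,⟨.o,.e,.o,.n,.n,.n⟩⟩),
   (1073,⟨.n,.e,⟨.n,.o,.e,.e,.e,.e⟩⟩),
   (1074,⟨.e,.n,⟨.o,.o,.n,.o,.e,.o⟩⟩),
   (434,⟨.e,.n,⟨.e,.e,.o,.o,.n,.e⟩⟩),
   (433,⟨.n,.n,⟨.n,.n,.e,.e,.n,.n⟩⟩),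
   (435,⟨.n,.n,⟨.o,.n,.e,.o,.e,.n⟩⟩),
   (432,⟨.n,.n,⟨.n,.e,.o,.e,.n,.e⟩⟩),
   (1341,⟨.e,.n,⟨.n,.e,.e,.o,.e,.e⟩⟩),
   (1342,⟨.n,.n,⟨.n,.o,.e,.e,.o,.o⟩⟩),
   (1343,⟨.e,.n,⟨.n,.n,.n,.n,.e,.o⟩⟩),
   (1340,⟨.e,.n,⟨.e,.o,.e,.e,.n,.e⟩⟩),
   (762,⟨.e,.n,⟨.e,.n,.n,.n,.e,.e⟩⟩),
   (760,⟨.n,.e,⟨.o,.e,.e,.n,.e,.n⟩⟩),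
   (761,⟨.n,.n,⟨.e,.o,.n,.e,.o,.o⟩⟩),
   (763,⟨.e,.e,⟨.n,.o,.e,.n,.n,.n⟩⟩),
   (149,⟨.n,.n,⟨.e,.e,.o,.o,.n,.e⟩⟩),
   (150,⟨.n,.n,⟨.e,.e,.e,.n,.n,.o⟩⟩),
   (151,⟨.e,.n,⟨.e,.o,.n,.n,.o,.o⟩⟩),
   (148,⟨.e,.e,⟨.o,.o,.e,.o,.n,.n⟩⟩)]

/-- part 24 -/
def schk11_24 : List (ℕ × Par) :=
  [(681,⟨.n,.n,⟨.e,.n,.o,.n,.e,.n⟩⟩),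
   (683,⟨.n,.n,⟨.e,.o,.e,.e,.o,.o⟩⟩),
   (680,⟨.n,.n,⟨.e,.e,.n,.e,.n,.e⟩⟩),
   (682,⟨.n,.e,⟨.o,.o,.e,.n,.n,.n⟩⟩),
   (1421,⟨.e,.n,⟨.e,.n,.o,.n,.e,.e⟩⟩),
   (1420,⟨.e,.e,⟨.o,.o,.e,.n,.o,.o⟩⟩),
   (1423,⟨.e,.e,⟨.e,.o,.e,.e,.n,.o⟩⟩),
   (1422,⟨.e,.n,⟨.n,.o,.o,.e,.o,.o⟩⟩),
   (313,⟨.e,.n,⟨.n,.o,.n,.e,.o,.o⟩⟩),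
   (315,⟨.e,.e,⟨.o,.o,.e,.o,.o,.n⟩⟩),
   (312,⟨.e,.n,⟨.e,.e,.n,.n,.n,.o⟩⟩),
   (314,⟨.n,.n,⟨.e,.o,.n,.n,.o,.o⟩⟩),
   (959,⟨.n,.n,⟨.o,.e,.o,.n,.n,.e⟩⟩),
   (958,⟨.e,.n,⟨.n,.n,.o,.n,.n,.n⟩⟩),
   (956,⟨.e,.n,⟨.n,.o,.e,.n,.n,.n⟩⟩),
   (957,⟨.e,.n,⟨.n,.e,.n,.e,.o,.o⟩⟩),
   (1109,⟨.n,.n,⟨.e,.e,.n,.o,.n,.e⟩⟩),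
   (1110,⟨.e,.n,⟨.e,.o,.n,.e,.o,.o⟩⟩),
   (1108,⟨.n,.n,⟨.n,.e,.o,.e,.n,.e⟩⟩),
   (1111,⟨.n,.n,⟨.o,.e,.o,.e,.o,.o⟩⟩),
   (471,⟨.n,.n,⟨.n,.n,.n,.o,.n,.n⟩⟩),
   (469,⟨.e,.e,⟨.e,.n,.n,.n,.o,.e⟩⟩),
   (468,⟨.e,.n,⟨.e,.o,.e,.e,.n,.e⟩⟩),
   (470,⟨.e,.n,⟨.n,.o,.n,.e,.o,.o⟩⟩),
   (1304,⟨.e,.n,⟨.e,.e,.n,.n,.n,.e⟩⟩),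
   (1307,⟨.n,.e,⟨.o,.n,.n,.o,.n,.e⟩⟩),
   (1306,⟨.e,.e,⟨.n,.o,.n,.o,.e,.e⟩⟩),
   (1305,⟨.n,.e,⟨.e,.e,.o,.n,.n,.n⟩⟩),
   (797,⟨.e,.e,⟨.o,.e,.n,.n,.n,.e⟩⟩),
   (799,⟨.n,.n,⟨.e,.o,.n,.e,.o,.o⟩⟩),
   (798,⟨.e,.e,⟨.n,.o,.e,.n,.n,.n⟩⟩),
   (796,⟨.n,.n,⟨.e,.n,.o,.n,.o,.o⟩⟩)]

/-- part 25 -/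
def schk11_25 : List (ℕ × Par) :=
  [(115,⟨.n,.e,⟨.o,.o,.e,.e,.e,.n⟩⟩),
   (114,⟨.n,.n,⟨.e,.o,.e,.o,.n,.e⟩⟩),
   (112,⟨.n,.n,⟨.e,.e,.e,.e,.n,.n⟩⟩),
   (113,⟨.n,.n,⟨.e,.e,.e,.e,.n,.o⟩⟩),
   (646,⟨.n,.e,⟨.o,.n,.e,.n,.n,.n⟩⟩),
   (644,⟨.n,.n,⟨.e,.e,.n,.e,.n,.e⟩⟩),
   (647,⟨.e,.n,⟨.e,.o,.e,.e,.n,.e⟩⟩),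
   (645,⟨.e,.n,⟨.n,.e,.e,.o,.e,.e⟩⟩),
   (808,⟨.e,.e,⟨.o,.o,.o,.o,.n,.e⟩⟩),
   (809,⟨.e,.e,⟨.o,.o,.o,.o,.o,.e⟩⟩),
   (810,⟨.e,.e,⟨.o,.o,.o,.o,.n,.e⟩⟩),
   (811,⟨.e,.e,⟨.o,.o,.o,.o,.n,.e⟩⟩),
   (9,⟨.n,.n,⟨.n,.o,.e,.o,.e,.e⟩⟩),
   (8,⟨.e,.e,⟨.n,.n,.n,.e,.e,.n⟩⟩),
   (11,⟨.n,.n,⟨.n,.e,.e,.o,.e,.e⟩⟩),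
   (10,⟨.e,.n,⟨.e,.o,.e,.e,.o,.o⟩⟩),
   (812,⟨.e,.n,⟨.o,.o,.o,.o,.e,.n⟩⟩),
   (813,⟨.e,.e,⟨.o,.n,.o,.o,.o,.n⟩⟩),
   (815,⟨.e,.n,⟨.o,.o,.o,.o,.n,.n⟩⟩),
   (814,⟨.e,.n,⟨.o,.o,.o,.o,.e,.n⟩⟩),
   (822,⟨.e,.n,⟨.e,.n,.n,.n,.e,.e⟩⟩),
   (821,⟨.e,.e,⟨.e,.o,.e,.e,.n,.o⟩⟩),
   (823,⟨.n,.n,⟨.e,.e,.e,.o,.e,.e⟩⟩),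
   (820,⟨.n,.e,⟨.o,.n,.e,.e,.e,.n⟩⟩),
   (35,⟨.e,.e,⟨.o,.n,.e,.e,.n,.n⟩⟩),
   (32,⟨.n,.n,⟨.n,.e,.n,.n,.e,.e⟩⟩),
   (34,⟨.n,.e,⟨.e,.e,.e,.e,.o,.o⟩⟩),
   (33,⟨.n,.e,⟨.o,.o,.e,.o,.n,.n⟩⟩),
   (838,⟨.e,.n,⟨.e,.n,.n,.o,.n,.e⟩⟩),
   (837,⟨.n,.n,⟨.n,.n,.e,.o,.n,.n⟩⟩),
   (836,⟨.e,.e,⟨.o,.n,.o,.o,.n,.e⟩⟩),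
   (839,⟨.e,.n,⟨.o,.o,.o,.o,.e,.n⟩⟩)]

/-- part 26 -/
def schk11_26 : List (ℕ × Par) :=
  [(835,⟨.e,.e,⟨.o,.o,.o,.o,.n,.e⟩⟩),
   (833,⟨.e,.e,⟨.e,.o,.e,.e,.n,.o⟩⟩),
   (832,⟨.e,.e,⟨.o,.e,.n,.e,.o,.o⟩⟩),
   (834,⟨.e,.e,⟨.o,.n,.e,.o,.e,.n⟩⟩),
   (51,⟨.e,.n,⟨.n,.e,.e,.o,.e,.e⟩⟩),
   (48,⟨.n,.n,⟨.o,.n,.e,.e,.n,.n⟩⟩),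
   (49,⟨.e,.e,⟨.e,.e,.e,.e,.n,.n⟩⟩),
   (50,⟨.n,.n,⟨.n,.o,.e,.o,.e,.e⟩⟩),
   (827,⟨.n,.n,⟨.e,.n,.e,.n,.e,.n⟩⟩),
   (825,⟨.n,.n,⟨.o,.o,.o,.o,.o,.e⟩⟩),
   (826,⟨.n,.n,⟨.e,.o,.e,.e,.o,.o⟩⟩),
   (824,⟨.e,.n,⟨.n,.e,.n,.e,.n,.n⟩⟩),
   (523,⟨.n,.e,⟨.n,.e,.o,.o,.n,.o⟩⟩),
   (521,⟨.n,.n,⟨.o,.o,.o,.e,.n,.e⟩⟩),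
   (520,⟨.n,.e,⟨.n,.e,.o,.o,.n,.o⟩⟩),
   (522,⟨.n,.n,⟨.e,.n,.e,.o,.e,.o⟩⟩),
   (239,⟨.n,.n,⟨.e,.e,.n,.o,.n,.o⟩⟩),
   (236,⟨.e,.e,⟨.o,.o,.n,.n,.o,.o⟩⟩),
   (237,⟨.e,.e,⟨.n,.n,.e,.e,.n,.n⟩⟩),
   (238,⟨.n,.e,⟨.o,.e,.n,.e,.n,.o⟩⟩),
   (1208,⟨.n,.n,⟨.o,.n,.n,.e,.o,.e⟩⟩),
   (1209,⟨.e,.e,⟨.o,.n,.e,.e,.e,.o⟩⟩),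
   (1211,⟨.n,.n,⟨.o,.e,.n,.n,.n,.o⟩⟩),
   (1210,⟨.e,.e,⟨.o,.o,.n,.n,.o,.e⟩⟩),
   (532,⟨.n,.e,⟨.o,.n,.o,.o,.e,.o⟩⟩),
   (533,⟨.n,.n,⟨.e,.o,.e,.e,.o,.n⟩⟩),
   (534,⟨.n,.e,⟨.o,.n,.o,.o,.e,.o⟩⟩),
   (535,⟨.n,.e,⟨.o,.n,.o,.o,.e,.o⟩⟩),
   (263,⟨.e,.e,⟨.e,.n,.e,.e,.o,.e⟩⟩),
   (260,⟨.n,.e,⟨.o,.o,.e,.n,.o,.e⟩⟩),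
   (261,⟨.n,.e,⟨.e,.e,.e,.o,.o,.n⟩⟩),
   (262,⟨.e,.n,⟨.o,.e,.n,.n,.o,.e⟩⟩)]

/-- part 27 -/
def schk11_27 : List (ℕ × Par) :=
  [(1234,⟨.e,.n,⟨.o,.e,.n,.n,.n,.o⟩⟩),
   (1233,⟨.n,.n,⟨.e,.o,.e,.o,.o,.e⟩⟩),
   (1232,⟨.e,.e,⟨.o,.o,.n,.n,.o,.e⟩⟩),
   (1235,⟨.e,.e,⟨.o,.e,.n,.o,.o,.e⟩⟩),
   (546,⟨.e,.e,⟨.e,.e,.n,.n,.o,.n⟩⟩),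
   (545,⟨.n,.n,⟨.n,.e,.o,.n,.e,.e⟩⟩),
   (547,⟨.e,.e,⟨.e,.e,.n,.n,.o,.n⟩⟩),
   (544,⟨.e,.e,⟨.e,.e,.n,.n,.o,.n⟩⟩),
   (249,⟨.n,.n,⟨.e,.n,.e,.o,.e,.o⟩⟩),
   (248,⟨.e,.e,⟨.o,.o,.n,.n,.o,.o⟩⟩),
   (250,⟨.e,.e,⟨.e,.n,.e,.e,.o,.e⟩⟩),
   (251,⟨.e,.e,⟨.o,.o,.o,.n,.o,.o⟩⟩),
   (1223,⟨.n,.e,⟨.o,.e,.o,.o,.e,.o⟩⟩),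
   (1221,⟨.n,.e,⟨.o,.n,.o,.n,.n,.o⟩⟩),
   (1222,⟨.n,.n,⟨.e,.o,.o,.n,.n,.o⟩⟩),
   (1220,⟨.e,.n,⟨.e,.e,.n,.n,.n,.o⟩⟩),
   (558,⟨.n,.e,⟨.e,.e,.e,.e,.o,.n⟩⟩),
   (557,⟨.n,.n,⟨.n,.o,.n,.o,.n,.n⟩⟩),
   (559,⟨.n,.e,⟨.e,.e,.e,.o,.o,.n⟩⟩),
   (556,⟨.e,.e,⟨.e,.n,.o,.o,.e,.e⟩⟩),
   (202,⟨.n,.n,⟨.e,.e,.n,.o,.n,.o⟩⟩),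
   (200,⟨.n,.n,⟨.e,.o,.n,.e,.o,.n⟩⟩),
   (203,⟨.n,.e,⟨.n,.n,.n,.n,.o,.e⟩⟩),
   (201,⟨.n,.e,⟨.o,.e,.o,.e,.e,.o⟩⟩),
   (1172,⟨.e,.n,⟨.e,.e,.n,.n,.o,.n⟩⟩),
   (1173,⟨.n,.n,⟨.e,.e,.e,.n,.e,.n⟩⟩),
   (1175,⟨.e,.e,⟨.o,.n,.e,.o,.o,.e⟩⟩),
   (1174,⟨.e,.n,⟨.e,.e,.o,.o,.n,.o⟩⟩),
   (571,⟨.e,.e,⟨.o,.o,.n,.e,.o,.e⟩⟩),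
   (569,⟨.e,.n,⟨.e,.e,.o,.e,.n,.o⟩⟩),
   (568,⟨.n,.e,⟨.n,.e,.o,.e,.n,.o⟩⟩),
   (570,⟨.n,.e,⟨.n,.e,.o,.e,.n,.o⟩⟩)]

/-- part 28 -/
def schk11_28 : List (ℕ × Par) :=
  [(225,⟨.e,.n,⟨.e,.o,.n,.e,.o,.o⟩⟩),
   (224,⟨.n,.n,⟨.e,.o,.n,.e,.o,.n⟩⟩),
   (226,⟨.n,.n,⟨.e,.o,.o,.e,.o,.o⟩⟩),
   (227,⟨.e,.n,⟨.e,.e,.n,.e,.e,.e⟩⟩),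
   (1198,⟨.e,.n,⟨.e,.n,.o,.o,.e,.o⟩⟩),
   (1197,⟨.e,.e,⟨.o,.n,.e,.e,.n,.n⟩⟩),
   (1196,⟨.n,.n,⟨.e,.e,.o,.o,.n,.o⟩⟩),
   (1199,⟨.e,.n,⟨.e,.e,.n,.n,.o,.n⟩⟩),
   (580,⟨.n,.e,⟨.o,.n,.o,.e,.o,.e⟩⟩),
   (581,⟨.n,.e,⟨.o,.e,.e,.e,.e,.o⟩⟩),
   (582,⟨.e,.n,⟨.n,.o,.e,.o,.e,.o⟩⟩),
   (583,⟨.n,.n,⟨.o,.o,.o,.n,.e,.e⟩⟩),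
   (214,⟨.e,.e,⟨.e,.n,.o,.o,.e,.o⟩⟩),
   (212,⟨.n,.n,⟨.o,.o,.e,.e,.o,.e⟩⟩),
   (215,⟨.e,.e,⟨.e,.e,.o,.e,.o,.o⟩⟩),
   (213,⟨.n,.n,⟨.e,.o,.o,.e,.o,.o⟩⟩),
   (1187,⟨.n,.n,⟨.o,.e,.e,.e,.e,.o⟩⟩),
   (1185,⟨.e,.n,⟨.e,.o,.e,.o,.o,.n⟩⟩),
   (1186,⟨.e,.n,⟨.e,.e,.n,.n,.o,.n⟩⟩),
   (1184,⟨.n,.n,⟨.e,.n,.o,.o,.e,.o⟩⟩),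
   (919,⟨.e,.e,⟨.o,.n,.e,.o,.n,.e⟩⟩),
   (916,⟨.e,.e,⟨.o,.n,.e,.o,.o,.o⟩⟩),
   (918,⟨.e,.e,⟨.e,.o,.e,.e,.n,.o⟩⟩),
   (917,⟨.e,.e,⟨.o,.n,.e,.o,.e,.n⟩⟩),
   (69,⟨.e,.e,⟨.o,.n,.e,.e,.e,.n⟩⟩),
   (70,⟨.e,.e,⟨.n,.o,.n,.o,.n,.n⟩⟩),
   (68,⟨.e,.e,⟨.o,.n,.e,.e,.o,.n⟩⟩),
   (71,⟨.n,.e,⟨.e,.e,.e,.e,.o,.o⟩⟩),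
   (1029,⟨.e,.n,⟨.o,.n,.n,.o,.e,.n⟩⟩),
   (1030,⟨.n,.n,⟨.n,.o,.e,.n,.e,.n⟩⟩),
   (1031,⟨.e,.n,⟨.e,.n,.n,.o,.e,.o⟩⟩),
   (1028,⟨.n,.n,⟨.o,.e,.e,.o,.o,.e⟩⟩)]

/-- part 29 -/
def schk11_29 : List (ℕ × Par) :=
  [(1252,⟨.e,.e,⟨.o,.e,.o,.e,.o,.e⟩⟩),
   (1254,⟨.n,.e,⟨.n,.e,.n,.e,.n,.n⟩⟩),
   (1255,⟨.n,.e,⟨.o,.o,.e,.o,.n,.o⟩⟩),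
   (1253,⟨.n,.e,⟨.o,.n,.o,.e,.n,.n⟩⟩),
   (281,⟨.e,.e,⟨.o,.e,.n,.e,.e,.e⟩⟩),
   (282,⟨.e,.n,⟨.e,.n,.o,.e,.e,.o⟩⟩),
   (280,⟨.n,.n,⟨.e,.o,.n,.n,.o,.o⟩⟩),
   (283,⟨.e,.n,⟨.e,.e,.n,.n,.n,.e⟩⟩),
   (729,⟨.e,.e,⟨.n,.e,.n,.o,.n,.e⟩⟩),
   (731,⟨.e,.n,⟨.e,.o,.e,.n,.o,.o⟩⟩),
   (728,⟨.e,.e,⟨.n,.e,.e,.o,.n,.e⟩⟩),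
   (730,⟨.n,.n,⟨.n,.e,.n,.e,.e,.e⟩⟩),
   (618,⟨.e,.e,⟨.o,.e,.n,.o,.e,.n⟩⟩),
   (619,⟨.e,.e,⟨.o,.o,.e,.n,.o,.o⟩⟩),
   (616,⟨.e,.e,⟨.o,.e,.e,.e,.e,.o⟩⟩),
   (617,⟨.e,.e,⟨.n,.o,.o,.e,.e,.o⟩⟩),
   (395,⟨.n,.e,⟨.e,.o,.e,.e,.o,.e⟩⟩),
   (394,⟨.e,.n,⟨.e,.o,.o,.e,.o,.o⟩⟩),
   (392,⟨.e,.e,⟨.o,.n,.e,.o,.e,.o⟩⟩),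
   (393,⟨.e,.n,⟨.n,.e,.e,.o,.e,.e⟩⟩),
   (1365,⟨.e,.n,⟨.e,.e,.e,.o,.o,.o⟩⟩),
   (1364,⟨.e,.n,⟨.e,.e,.e,.o,.e,.e⟩⟩),
   (1366,⟨.n,.n,⟨.e,.o,.o,.e,.o,.o⟩⟩),
   (1367,⟨.n,.e,⟨.o,.e,.o,.n,.o,.o⟩⟩),
   (631,⟨.e,.e,⟨.e,.o,.e,.e,.n,.o⟩⟩),
   (630,⟨.n,.e,⟨.n,.e,.n,.o,.n,.e⟩⟩),
   (629,⟨.e,.e,⟨.o,.n,.n,.o,.n,.e⟩⟩),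
   (628,⟨.n,.e,⟨.o,.e,.n,.o,.e,.n⟩⟩),
   (452,⟨.e,.e,⟨.o,.n,.e,.n,.n,.o⟩⟩),
   (455,⟨.n,.e,⟨.n,.o,.n,.o,.n,.n⟩⟩),
   (454,⟨.n,.e,⟨.o,.n,.n,.e,.n,.e⟩⟩),
   (453,⟨.e,.n,⟨.n,.n,.n,.n,.e,.e⟩⟩)]

/-- part 30 -/
def schk11_30 : List (ℕ × Par) :=
  [(1427,⟨.e,.n,⟨.o,.o,.n,.e,.e,.e⟩⟩),
   (1426,⟨.e,.n,⟨.e,.o,.e,.n,.e,.n⟩⟩),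
   (1424,⟨.e,.e,⟨.o,.n,.e,.o,.n,.n⟩⟩),
   (1425,⟨.e,.n,⟨.o,.n,.n,.n,.o,.o⟩⟩),
   (964,⟨.e,.e,⟨.e,.o,.e,.e,.n,.o⟩⟩),
   (967,⟨.n,.n,⟨.e,.o,.e,.e,.e,.e⟩⟩),
   (965,⟨.n,.e,⟨.o,.e,.n,.o,.n,.e⟩⟩),
   (966,⟨.e,.n,⟨.e,.e,.n,.e,.e,.e⟩⟩),
   (104,⟨.n,.n,⟨.e,.e,.o,.o,.n,.o⟩⟩),
   (106,⟨.n,.e,⟨.o,.e,.e,.n,.o,.n⟩⟩),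
   (107,⟨.e,.e,⟨.e,.n,.n,.n,.o,.n⟩⟩),
   (105,⟨.n,.e,⟨.o,.e,.o,.n,.e,.o⟩⟩),
   (1124,⟨.e,.n,⟨.n,.o,.n,.e,.n,.o⟩⟩),
   (1127,⟨.e,.n,⟨.n,.n,.e,.n,.n,.o⟩⟩),
   (1126,⟨.e,.n,⟨.e,.e,.n,.o,.e,.o⟩⟩),
   (1125,⟨.n,.e,⟨.e,.o,.o,.n,.e,.e⟩⟩),
   (1302,⟨.n,.e,⟨.o,.e,.o,.e,.e,.e⟩⟩),
   (1300,⟨.e,.e,⟨.e,.o,.e,.n,.e,.o⟩⟩),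
   (1301,⟨.e,.e,⟨.o,.e,.o,.e,.e,.e⟩⟩),
   (1303,⟨.e,.e,⟨.o,.e,.o,.e,.o,.e⟩⟩),
   (328,⟨.e,.e,⟨.o,.e,.n,.n,.n,.e⟩⟩),
   (330,⟨.e,.n,⟨.o,.o,.n,.o,.e,.o⟩⟩),
   (331,⟨.n,.n,⟨.e,.e,.e,.e,.e,.e⟩⟩),
   (329,⟨.e,.n,⟨.e,.e,.e,.e,.o,.o⟩⟩),
   (790,⟨.n,.e,⟨.o,.n,.e,.e,.n,.n⟩⟩),
   (788,⟨.e,.n,⟨.n,.n,.e,.n,.e,.n⟩⟩),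
   (791,⟨.n,.n,⟨.n,.n,.e,.e,.n,.n⟩⟩),
   (789,⟨.e,.n,⟨.n,.n,.o,.e,.n,.n⟩⟩),
   (665,⟨.n,.e,⟨.o,.e,.e,.o,.e,.n⟩⟩),
   (664,⟨.e,.n,⟨.e,.e,.n,.n,.n,.e⟩⟩),
   (667,⟨.e,.n,⟨.o,.e,.o,.o,.n,.e⟩⟩),
   (666,⟨.n,.n,⟨.n,.e,.e,.e,.e,.e⟩⟩)]

/-- part 31 -/
def schk11_31 : List (ℕ × Par) :=
  [(419,⟨.n,.n,⟨.e,.e,.n,.o,.n,.o⟩⟩),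
   (417,⟨.n,.e,⟨.o,.n,.e,.e,.n,.n⟩⟩),
   (418,⟨.e,.e,⟨.e,.e,.n,.n,.o,.n⟩⟩),
   (416,⟨.n,.e,⟨.n,.e,.o,.e,.n,.o⟩⟩),
   (1390,⟨.e,.n,⟨.e,.n,.o,.e,.o,.n⟩⟩),
   (1391,⟨.n,.n,⟨.o,.e,.n,.o,.o,.o⟩⟩),
   (1389,⟨.e,.e,⟨.o,.n,.e,.o,.n,.n⟩⟩),
   (1388,⟨.e,.n,⟨.e,.n,.n,.o,.e,.o⟩⟩),
   (1001,⟨.n,.e,⟨.o,.e,.n,.o,.n,.e⟩⟩),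
   (1002,⟨.n,.n,⟨.e,.n,.n,.o,.o,.o⟩⟩),
   (1000,⟨.e,.n,⟨.e,.n,.n,.n,.e,.e⟩⟩),
   (1003,⟨.e,.e,⟨.e,.o,.e,.e,.n,.o⟩⟩),
   (143,⟨.n,.e,⟨.o,.o,.n,.n,.e,.e⟩⟩),
   (142,⟨.e,.e,⟨.e,.o,.e,.o,.n,.o⟩⟩),
   (141,⟨.e,.n,⟨.e,.o,.n,.n,.e,.o⟩⟩),
   (140,⟨.e,.n,⟨.e,.e,.n,.o,.e,.e⟩⟩),
   (1091,⟨.e,.e,⟨.o,.n,.e,.o,.n,.n⟩⟩),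
   (1088,⟨.e,.n,⟨.e,.n,.o,.n,.n,.o⟩⟩),
   (1089,⟨.e,.n,⟨.o,.n,.n,.n,.o,.o⟩⟩),
   (1090,⟨.e,.e,⟨.e,.o,.n,.e,.e,.o⟩⟩),
   (1337,⟨.n,.e,⟨.e,.o,.n,.n,.n,.e⟩⟩),
   (1339,⟨.n,.e,⟨.o,.e,.o,.n,.e,.e⟩⟩),
   (1338,⟨.n,.e,⟨.o,.e,.o,.e,.o,.e⟩⟩),
   (1336,⟨.e,.e,⟨.n,.n,.e,.n,.e,.n⟩⟩),
   (367,⟨.n,.e,⟨.e,.e,.e,.e,.o,.o⟩⟩),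
   (366,⟨.n,.n,⟨.e,.o,.n,.o,.e,.n⟩⟩),
   (365,⟨.e,.e,⟨.o,.n,.e,.e,.n,.n⟩⟩),
   (364,⟨.e,.n,⟨.e,.n,.o,.o,.o,.n⟩⟩),
   (752,⟨.e,.n,⟨.e,.e,.e,.e,.o,.e⟩⟩),
   (754,⟨.e,.n,⟨.e,.e,.n,.o,.n,.n⟩⟩),
   (753,⟨.n,.e,⟨.o,.n,.e,.n,.e,.n⟩⟩),
   (755,⟨.n,.e,⟨.o,.o,.e,.o,.n,.o⟩⟩)]

/-- part 32 -/
def schk11_32 : List (ℕ × Par) :=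
  [(1026,⟨.n,.e,⟨.o,.e,.n,.e,.e,.n⟩⟩),
   (1024,⟨.n,.e,⟨.o,.n,.e,.e,.e,.n⟩⟩),
   (1025,⟨.e,.e,⟨.o,.e,.n,.e,.o,.o⟩⟩),
   (1027,⟨.e,.e,⟨.n,.o,.n,.n,.e,.o⟩⟩),
   (85,⟨.e,.n,⟨.o,.e,.n,.e,.e,.e⟩⟩),
   (86,⟨.n,.n,⟨.n,.o,.e,.o,.e,.e⟩⟩),
   (87,⟨.e,.n,⟨.e,.o,.n,.n,.o,.o⟩⟩),
   (84,⟨.e,.e,⟨.o,.o,.e,.o,.n,.n⟩⟩),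
   (921,⟨.n,.n,⟨.e,.n,.o,.n,.e,.n⟩⟩),
   (923,⟨.n,.n,⟨.e,.o,.e,.e,.o,.o⟩⟩),
   (920,⟨.n,.n,⟨.e,.n,.n,.n,.n,.e⟩⟩),
   (922,⟨.n,.e,⟨.o,.o,.e,.n,.n,.n⟩⟩),
   (715,⟨.n,.n,⟨.e,.n,.n,.o,.e,.e⟩⟩),
   (714,⟨.e,.n,⟨.e,.e,.n,.n,.n,.e⟩⟩),
   (713,⟨.e,.n,⟨.e,.n,.o,.n,.e,.e⟩⟩),
   (712,⟨.n,.n,⟨.n,.e,.e,.e,.e,.e⟩⟩),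
   (298,⟨.e,.n,⟨.o,.o,.n,.e,.o,.n⟩⟩),
   (299,⟨.n,.e,⟨.e,.e,.e,.e,.o,.o⟩⟩),
   (297,⟨.n,.e,⟨.o,.e,.e,.e,.o,.e⟩⟩),
   (296,⟨.e,.n,⟨.o,.n,.e,.o,.n,.o⟩⟩),
   (1269,⟨.e,.e,⟨.o,.e,.n,.e,.e,.e⟩⟩),
   (1268,⟨.e,.e,⟨.o,.o,.o,.n,.o,.o⟩⟩),
   (1270,⟨.e,.e,⟨.e,.e,.n,.e,.e,.e⟩⟩),
   (1271,⟨.e,.e,⟨.o,.o,.o,.n,.o,.o⟩⟩),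
   (1372,⟨.n,.e,⟨.o,.e,.o,.n,.o,.e⟩⟩),
   (1375,⟨.e,.n,⟨.e,.o,.n,.e,.o,.o⟩⟩),
   (1373,⟨.n,.n,⟨.o,.e,.n,.e,.o,.e⟩⟩),
   (1374,⟨.e,.e,⟨.n,.o,.n,.o,.e,.e⟩⟩),
   (401,⟨.n,.n,⟨.e,.e,.e,.e,.e,.n⟩⟩),
   (403,⟨.n,.e,⟨.o,.n,.o,.n,.o,.n⟩⟩),
   (402,⟨.e,.n,⟨.e,.n,.o,.n,.e,.n⟩⟩),
   (400,⟨.e,.e,⟨.n,.n,.e,.n,.e,.n⟩⟩)]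

/-- part 33 -/
def schk11_33 : List (ℕ × Par) :=
  [(609,⟨.e,.n,⟨.n,.e,.e,.o,.e,.e⟩⟩),
   (610,⟨.n,.n,⟨.n,.o,.e,.e,.o,.o⟩⟩),
   (611,⟨.e,.e,⟨.e,.e,.e,.n,.n,.e⟩⟩),
   (608,⟨.e,.e,⟨.e,.n,.o,.n,.n,.o⟩⟩),
   (737,⟨.e,.e,⟨.e,.n,.n,.o,.o,.o⟩⟩),
   (736,⟨.n,.n,⟨.o,.n,.e,.o,.n,.n⟩⟩),
   (739,⟨.n,.n,⟨.e,.o,.o,.e,.o,.o⟩⟩),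
   (738,⟨.n,.n,⟨.n,.o,.o,.e,.o,.o⟩⟩),
   (346,⟨.e,.e,⟨.o,.o,.e,.e,.o,.e⟩⟩),
   (345,⟨.e,.e,⟨.o,.n,.e,.e,.n,.n⟩⟩),
   (344,⟨.n,.n,⟨.e,.o,.o,.e,.o,.o⟩⟩),
   (347,⟨.n,.n,⟨.e,.o,.n,.n,.o,.o⟩⟩),
   (1319,⟨.e,.e,⟨.o,.o,.o,.e,.o,.e⟩⟩),
   (1318,⟨.n,.n,⟨.n,.e,.o,.n,.e,.e⟩⟩),
   (1316,⟨.n,.e,⟨.n,.o,.e,.n,.n,.n⟩⟩),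
   (1317,⟨.e,.n,⟨.e,.n,.o,.n,.e,.n⟩⟩),
   (1397,⟨.n,.n,⟨.e,.o,.e,.n,.o,.o⟩⟩),
   (1398,⟨.n,.e,⟨.o,.n,.o,.n,.n,.n⟩⟩),
   (1396,⟨.e,.e,⟨.n,.n,.e,.n,.e,.n⟩⟩),
   (1399,⟨.e,.e,⟨.e,.n,.o,.n,.o,.n⟩⟩),
   (426,⟨.e,.n,⟨.n,.n,.o,.o,.n,.n⟩⟩),
   (427,⟨.e,.n,⟨.e,.o,.e,.o,.n,.o⟩⟩),
   (424,⟨.n,.e,⟨.o,.n,.e,.e,.n,.n⟩⟩),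
   (425,⟨.n,.n,⟨.e,.e,.o,.o,.n,.e⟩⟩),
   (692,⟨.e,.n,⟨.n,.e,.o,.n,.e,.e⟩⟩),
   (695,⟨.n,.n,⟨.e,.n,.n,.o,.n,.n⟩⟩),
   (694,⟨.e,.n,⟨.n,.o,.e,.n,.n,.o⟩⟩),
   (693,⟨.e,.e,⟨.n,.o,.e,.n,.e,.o⟩⟩),
   (1085,⟨.n,.e,⟨.o,.n,.n,.o,.n,.e⟩⟩),
   (1087,⟨.n,.n,⟨.e,.o,.n,.e,.o,.o⟩⟩),
   (1086,⟨.e,.e,⟨.n,.o,.e,.n,.n,.n⟩⟩),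
   (1084,⟨.e,.n,⟨.e,.n,.n,.n,.e,.e⟩⟩)]

/-- part 34 -/
def schk11_34 : List (ℕ × Par) :=
  [(159,⟨.n,.e,⟨.o,.o,.e,.e,.e,.n⟩⟩),
   (158,⟨.n,.n,⟨.e,.o,.e,.o,.n,.e⟩⟩),
   (156,⟨.n,.n,⟨.n,.e,.n,.o,.n,.o⟩⟩),
   (157,⟨.n,.e,⟨.n,.o,.e,.n,.o,.o⟩⟩),
   (1006,⟨.n,.e,⟨.o,.n,.e,.n,.n,.n⟩⟩),
   (1004,⟨.n,.n,⟨.e,.e,.n,.e,.n,.e⟩⟩),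
   (1007,⟨.e,.n,⟨.e,.o,.e,.e,.n,.e⟩⟩),
   (1005,⟨.e,.n,⟨.n,.e,.e,.o,.e,.e⟩⟩),
   (774,⟨.n,.n,⟨.e,.e,.n,.o,.n,.o⟩⟩),
   (775,⟨.n,.n,⟨.e,.e,.n,.o,.n,.o⟩⟩),
   (772,⟨.e,.e,⟨.o,.o,.o,.n,.o,.e⟩⟩),
   (773,⟨.n,.n,⟨.e,.n,.o,.n,.e,.e⟩⟩),
   (308,⟨.n,.e,⟨.o,.e,.o,.e,.e,.o⟩⟩),
   (310,⟨.e,.e,⟨.e,.n,.n,.n,.o,.e⟩⟩),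
   (309,⟨.e,.e,⟨.n,.e,.n,.o,.n,.o⟩⟩),
   (311,⟨.e,.n,⟨.e,.o,.n,.e,.o,.n⟩⟩),
   (1282,⟨.e,.n,⟨.e,.e,.n,.o,.e,.o⟩⟩),
   (1283,⟨.n,.n,⟨.e,.e,.n,.e,.n,.e⟩⟩),
   (1281,⟨.e,.n,⟨.n,.e,.e,.o,.e,.e⟩⟩),
   (1280,⟨.e,.e,⟨.o,.o,.n,.o,.e,.e⟩⟩),
   (1435,⟨.e,.n,⟨.n,.n,.o,.o,.n,.n⟩⟩),
   (1432,⟨.n,.n,⟨.o,.n,.o,.n,.n,.n⟩⟩),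
   (1434,⟨.e,.e,⟨.o,.n,.n,.o,.e,.e⟩⟩),
   (1433,⟨.e,.e,⟨.o,.n,.n,.o,.n,.n⟩⟩),
   (460,⟨.e,.n,⟨.e,.e,.e,.e,.n,.n⟩⟩),
   (463,⟨.e,.n,⟨.e,.o,.e,.o,.n,.e⟩⟩),
   (461,⟨.e,.e,⟨.o,.o,.e,.n,.n,.n⟩⟩),
   (462,⟨.n,.e,⟨.o,.n,.e,.n,.e,.n⟩⟩),
   (659,⟨.n,.e,⟨.o,.e,.n,.e,.e,.e⟩⟩),
   (656,⟨.n,.n,⟨.n,.e,.o,.n,.e,.e⟩⟩),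
   (657,⟨.e,.e,⟨.n,.o,.o,.e,.e,.n⟩⟩),
   (658,⟨.n,.e,⟨.n,.n,.e,.e,.n,.n⟩⟩)]

/-- part 35 -/
def schk11_35 : List (ℕ × Par) :=
  [(1120,⟨.e,.e,⟨.n,.o,.n,.n,.e,.o⟩⟩),
   (1122,⟨.n,.e,⟨.o,.n,.e,.e,.e,.n⟩⟩),
   (1123,⟨.n,.e,⟨.o,.e,.n,.e,.e,.n⟩⟩),
   (1121,⟨.e,.e,⟨.o,.e,.n,.e,.o,.o⟩⟩),
   (120,⟨.e,.e,⟨.n,.n,.e,.n,.e,.n⟩⟩),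
   (122,⟨.n,.e,⟨.o,.o,.e,.n,.o,.o⟩⟩),
   (121,⟨.n,.n,⟨.o,.o,.e,.n,.e,.e⟩⟩),
   (123,⟨.n,.e,⟨.o,.n,.e,.e,.n,.n⟩⟩),
   (968,⟨.e,.e,⟨.o,.o,.o,.n,.o,.o⟩⟩),
   (970,⟨.e,.e,⟨.o,.n,.n,.e,.n,.n⟩⟩),
   (969,⟨.e,.n,⟨.o,.e,.n,.e,.o,.o⟩⟩),
   (971,⟨.e,.n,⟨.e,.e,.n,.n,.n,.e⟩⟩),
   (1132,⟨.e,.e,⟨.o,.o,.o,.o,.n,.e⟩⟩),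
   (1133,⟨.e,.e,⟨.o,.o,.o,.o,.o,.e⟩⟩),
   (1134,⟨.e,.e,⟨.o,.o,.o,.o,.n,.e⟩⟩),
   (1135,⟨.e,.e,⟨.o,.o,.o,.o,.n,.e⟩⟩),
   (13,⟨.e,.e,⟨.e,.o,.e,.o,.n,.o⟩⟩),
   (12,⟨.e,.e,⟨.n,.n,.n,.e,.e,.o⟩⟩),
   (15,⟨.n,.n,⟨.e,.e,.o,.o,.n,.e⟩⟩),
   (14,⟨.e,.e,⟨.e,.o,.n,.e,.n,.e⟩⟩),
   (1136,⟨.e,.n,⟨.n,.e,.e,.o,.e,.e⟩⟩),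
   (1137,⟨.e,.e,⟨.e,.n,.n,.o,.e,.o⟩⟩),
   (1139,⟨.e,.e,⟨.o,.e,.o,.o,.e,.n⟩⟩),
   (1138,⟨.n,.e,⟨.e,.o,.o,.o,.n,.e⟩⟩),
   (1146,⟨.n,.n,⟨.e,.o,.e,.e,.e,.e⟩⟩),
   (1145,⟨.e,.e,⟨.n,.o,.e,.n,.n,.n⟩⟩),
   (1147,⟨.n,.n,⟨.e,.o,.n,.e,.o,.o⟩⟩),
   (1144,⟨.e,.e,⟨.o,.o,.o,.o,.n,.e⟩⟩),
   (37,⟨.e,.n,⟨.n,.e,.n,.e,.o,.o⟩⟩),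
   (36,⟨.n,.n,⟨.n,.e,.n,.o,.n,.o⟩⟩),
   (39,⟨.n,.n,⟨.e,.o,.e,.n,.o,.o⟩⟩),
   (38,⟨.e,.e,⟨.o,.n,.o,.o,.n,.n⟩⟩)]

/-- part 36 -/
def schk11_36 : List (ℕ × Par) :=
  [(1162,⟨.e,.n,⟨.o,.o,.o,.o,.e,.e⟩⟩),
   (1161,⟨.e,.n,⟨.e,.o,.e,.e,.n,.e⟩⟩),
   (1160,⟨.n,.n,⟨.e,.e,.n,.e,.n,.e⟩⟩),
   (1163,⟨.e,.n,⟨.n,.e,.e,.o,.e,.e⟩⟩),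
   (1159,⟨.n,.e,⟨.o,.n,.n,.o,.n,.e⟩⟩),
   (1157,⟨.e,.e,⟨.e,.o,.e,.e,.n,.o⟩⟩),
   (1156,⟨.e,.n,⟨.e,.n,.n,.n,.e,.e⟩⟩),
   (1158,⟨.n,.n,⟨.e,.o,.n,.e,.o,.o⟩⟩),
   (45,⟨.n,.e,⟨.o,.o,.n,.n,.e,.e⟩⟩),
   (44,⟨.e,.n,⟨.e,.e,.n,.o,.e,.e⟩⟩),
   (46,⟨.n,.n,⟨.e,.e,.n,.n,.n,.e⟩⟩),
   (47,⟨.e,.e,⟨.e,.o,.e,.o,.n,.o⟩⟩),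
   (1151,⟨.e,.n,⟨.n,.o,.o,.o,.n,.n⟩⟩),
   (1149,⟨.e,.e,⟨.e,.o,.n,.e,.e,.o⟩⟩),
   (1150,⟨.e,.n,⟨.o,.n,.n,.n,.o,.o⟩⟩),
   (1148,⟨.e,.e,⟨.o,.e,.o,.o,.e,.n⟩⟩),
   (844,⟨.e,.n,⟨.e,.e,.o,.e,.e,.o⟩⟩),
   (845,⟨.e,.n,⟨.e,.o,.n,.e,.o,.n⟩⟩),
   (846,⟨.e,.e,⟨.o,.o,.o,.o,.e,.o⟩⟩),
   (847,⟨.e,.e,⟨.e,.n,.n,.n,.o,.e⟩⟩),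
   (235,⟨.n,.e,⟨.o,.e,.o,.n,.n,.o⟩⟩),
   (232,⟨.e,.e,⟨.o,.o,.o,.n,.o,.o⟩⟩),
   (233,⟨.e,.n,⟨.e,.o,.o,.e,.o,.o⟩⟩),
   (234,⟨.e,.e,⟨.o,.n,.n,.n,.e,.n⟩⟩),
   (562,⟨.e,.n,⟨.o,.e,.n,.n,.n,.o⟩⟩),
   (561,⟨.e,.n,⟨.o,.o,.n,.o,.o,.n⟩⟩),
   (560,⟨.e,.e,⟨.o,.o,.n,.n,.o,.e⟩⟩),
   (563,⟨.n,.e,⟨.n,.e,.e,.o,.e,.o⟩⟩),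
   (858,⟨.e,.e,⟨.e,.e,.n,.n,.o,.n⟩⟩),
   (857,⟨.e,.e,⟨.n,.o,.o,.e,.e,.n⟩⟩),
   (859,⟨.e,.e,⟨.e,.e,.n,.n,.o,.n⟩⟩),
   (856,⟨.e,.e,⟨.e,.e,.n,.n,.o,.n⟩⟩)]

/-- part 37 -/
def schk11_37 : List (ℕ × Par) :=
  [(257,⟨.n,.n,⟨.e,.n,.e,.o,.e,.o⟩⟩),
   (256,⟨.e,.e,⟨.o,.o,.o,.n,.o,.o⟩⟩),
   (258,⟨.n,.e,⟨.o,.o,.o,.n,.o,.o⟩⟩),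
   (259,⟨.e,.e,⟨.o,.o,.o,.n,.o,.o⟩⟩),
   (587,⟨.n,.e,⟨.o,.e,.o,.o,.e,.o⟩⟩),
   (585,⟨.n,.n,⟨.e,.e,.n,.e,.n,.n⟩⟩),
   (586,⟨.n,.n,⟨.e,.o,.o,.n,.n,.o⟩⟩),
   (584,⟨.e,.n,⟨.e,.e,.n,.n,.n,.o⟩⟩),
   (871,⟨.n,.e,⟨.n,.o,.o,.o,.n,.o⟩⟩),
   (869,⟨.n,.e,⟨.e,.e,.e,.o,.o,.n⟩⟩),
   (868,⟨.e,.n,⟨.e,.o,.n,.e,.o,.n⟩⟩),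
   (870,⟨.n,.e,⟨.e,.o,.e,.n,.e,.o⟩⟩),
   (247,⟨.n,.e,⟨.n,.e,.e,.o,.e,.o⟩⟩),
   (244,⟨.e,.e,⟨.o,.o,.o,.n,.o,.o⟩⟩),
   (245,⟨.n,.n,⟨.e,.n,.e,.o,.e,.o⟩⟩),
   (246,⟨.n,.e,⟨.o,.e,.o,.n,.n,.o⟩⟩),
   (572,⟨.n,.n,⟨.e,.n,.o,.n,.o,.e⟩⟩),
   (573,⟨.e,.n,⟨.n,.e,.o,.n,.e,.n⟩⟩),
   (575,⟨.n,.n,⟨.o,.e,.n,.n,.n,.o⟩⟩),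
   (574,⟨.n,.e,⟨.o,.n,.o,.o,.e,.o⟩⟩),
   (880,⟨.e,.n,⟨.n,.n,.o,.n,.e,.o⟩⟩),
   (881,⟨.n,.e,⟨.o,.n,.n,.e,.n,.e⟩⟩),
   (882,⟨.e,.n,⟨.o,.o,.o,.n,.e,.o⟩⟩),
   (883,⟨.n,.n,⟨.o,.n,.e,.n,.e,.e⟩⟩),
   (198,⟨.e,.e,⟨.n,.n,.n,.n,.o,.e⟩⟩),
   (196,⟨.e,.e,⟨.o,.n,.e,.o,.n,.n⟩⟩),
   (199,⟨.e,.e,⟨.o,.e,.o,.e,.e,.o⟩⟩),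
   (197,⟨.n,.e,⟨.e,.e,.n,.o,.n,.o⟩⟩),
   (527,⟨.n,.n,⟨.o,.e,.e,.e,.e,.o⟩⟩),
   (525,⟨.e,.n,⟨.e,.o,.e,.o,.o,.n⟩⟩),
   (526,⟨.n,.n,⟨.o,.n,.e,.n,.o,.e⟩⟩),
   (524,⟨.n,.n,⟨.e,.n,.o,.o,.e,.o⟩⟩)]

/-- part 38 -/
def schk11_38 : List (ℕ × Par) :=
  [(894,⟨.n,.n,⟨.o,.o,.e,.e,.e,.o⟩⟩),
   (893,⟨.n,.n,⟨.e,.o,.o,.e,.o,.o⟩⟩),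
   (895,⟨.e,.n,⟨.o,.o,.e,.e,.e,.o⟩⟩),
   (892,⟨.n,.e,⟨.o,.o,.n,.n,.o,.e⟩⟩),
   (222,⟨.n,.e,⟨.o,.e,.o,.e,.e,.o⟩⟩),
   (220,⟨.e,.n,⟨.e,.e,.e,.n,.n,.o⟩⟩),
   (223,⟨.e,.n,⟨.e,.e,.n,.n,.o,.n⟩⟩),
   (221,⟨.n,.e,⟨.o,.e,.o,.e,.e,.o⟩⟩),
   (548,⟨.n,.e,⟨.o,.n,.e,.n,.o,.e⟩⟩),
   (549,⟨.n,.n,⟨.e,.e,.e,.n,.e,.n⟩⟩),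
   (551,⟨.e,.e,⟨.o,.n,.e,.o,.o,.e⟩⟩),
   (550,⟨.e,.n,⟨.e,.e,.o,.o,.n,.o⟩⟩),
   (907,⟨.n,.e,⟨.n,.o,.o,.e,.n,.n⟩⟩),
   (905,⟨.e,.e,⟨.o,.o,.e,.o,.o,.n⟩⟩),
   (904,⟨.e,.e,⟨.n,.e,.o,.e,.n,.o⟩⟩),
   (906,⟨.e,.n,⟨.o,.o,.n,.e,.n,.o⟩⟩),
   (209,⟨.e,.e,⟨.o,.e,.o,.e,.e,.o⟩⟩),
   (208,⟨.e,.e,⟨.o,.o,.o,.e,.o,.n⟩⟩),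
   (210,⟨.n,.e,⟨.e,.e,.n,.o,.n,.o⟩⟩),
   (211,⟨.e,.n,⟨.e,.e,.n,.e,.e,.e⟩⟩),
   (538,⟨.e,.n,⟨.e,.n,.o,.o,.e,.o⟩⟩),
   (537,⟨.e,.e,⟨.o,.n,.e,.e,.n,.n⟩⟩),
   (536,⟨.n,.n,⟨.e,.e,.o,.o,.n,.o⟩⟩),
   (539,⟨.n,.n,⟨.o,.n,.e,.n,.o,.e⟩⟩),
   (1241,⟨.n,.e,⟨.o,.e,.n,.o,.n,.e⟩⟩),
   (1242,⟨.n,.n,⟨.e,.o,.e,.e,.e,.e⟩⟩),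
   (1240,⟨.e,.n,⟨.e,.e,.n,.e,.e,.e⟩⟩),
   (1243,⟨.e,.e,⟨.e,.o,.e,.e,.n,.o⟩⟩),
   (75,⟨.e,.n,⟨.o,.n,.n,.e,.o,.n⟩⟩),
   (74,⟨.n,.e,⟨.o,.o,.n,.n,.o,.o⟩⟩),
   (73,⟨.n,.n,⟨.n,.o,.e,.o,.e,.e⟩⟩),
   (72,⟨.e,.n,⟨.e,.e,.n,.o,.e,.e⟩⟩)]

/-- part 39 -/
def schk11_39 : List (ℕ × Par) :=
  [(1355,⟨.n,.n,⟨.n,.e,.n,.e,.e,.e⟩⟩),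
   (1352,⟨.n,.e,⟨.e,.o,.n,.e,.n,.e⟩⟩),
   (1353,⟨.n,.n,⟨.e,.o,.e,.e,.o,.o⟩⟩),
   (1354,⟨.e,.e,⟨.e,.o,.n,.e,.e,.o⟩⟩),
   (605,⟨.e,.e,⟨.o,.e,.o,.e,.e,.e⟩⟩),
   (607,⟨.n,.e,⟨.o,.e,.o,.e,.n,.e⟩⟩),
   (606,⟨.n,.e,⟨.o,.e,.o,.e,.o,.e⟩⟩),
   (604,⟨.e,.n,⟨.n,.n,.e,.n,.e,.n⟩⟩),
   (285,⟨.n,.e,⟨.e,.e,.e,.e,.o,.o⟩⟩),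
   (287,⟨.e,.n,⟨.n,.n,.n,.n,.e,.o⟩⟩),
   (286,⟨.e,.e,⟨.o,.e,.o,.e,.e,.e⟩⟩),
   (284,⟨.e,.e,⟨.n,.e,.e,.o,.n,.e⟩⟩),
   (1052,⟨.n,.e,⟨.o,.e,.o,.e,.e,.n⟩⟩),
   (1054,⟨.n,.n,⟨.e,.n,.n,.o,.n,.n⟩⟩),
   (1053,⟨.e,.n,⟨.e,.e,.e,.o,.o,.o⟩⟩),
   (1055,⟨.e,.n,⟨.n,.o,.e,.n,.n,.o⟩⟩),
   (941,⟨.n,.e,⟨.o,.e,.e,.o,.e,.n⟩⟩),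
   (940,⟨.e,.e,⟨.o,.o,.n,.n,.o,.o⟩⟩),
   (943,⟨.n,.e,⟨.o,.e,.n,.o,.e,.n⟩⟩),
   (942,⟨.n,.n,⟨.e,.o,.o,.e,.o,.o⟩⟩),
   (390,⟨.e,.n,⟨.e,.n,.o,.o,.e,.o⟩⟩),
   (391,⟨.e,.e,⟨.o,.n,.e,.e,.n,.n⟩⟩),
   (389,⟨.n,.n,⟨.e,.n,.n,.o,.o,.n⟩⟩),
   (388,⟨.n,.n,⟨.e,.e,.o,.o,.n,.o⟩⟩),
   (718,⟨.e,.n,⟨.e,.n,.o,.e,.o,.n⟩⟩),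
   (719,⟨.n,.n,⟨.o,.e,.n,.o,.o,.o⟩⟩),
   (717,⟨.e,.e,⟨.n,.o,.e,.n,.e,.o⟩⟩),
   (716,⟨.n,.e,⟨.n,.e,.o,.e,.n,.o⟩⟩),
   (954,⟨.e,.e,⟨.o,.e,.o,.o,.e,.n⟩⟩),
   (955,⟨.e,.e,⟨.o,.o,.e,.n,.o,.o⟩⟩),
   (952,⟨.e,.e,⟨.e,.o,.e,.e,.n,.o⟩⟩),
   (953,⟨.e,.n,⟨.e,.e,.n,.n,.n,.n⟩⟩)]

/-- part 40 -/
def schk11_40 : List (ℕ × Par) :=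
  [(450,⟨.e,.n,⟨.e,.e,.e,.e,.o,.o⟩⟩),
   (449,⟨.e,.n,⟨.o,.o,.n,.o,.e,.o⟩⟩),
   (448,⟨.e,.n,⟨.e,.n,.n,.o,.e,.o⟩⟩),
   (451,⟨.n,.n,⟨.e,.e,.e,.e,.e,.e⟩⟩),
   (777,⟨.e,.n,⟨.e,.e,.e,.o,.o,.o⟩⟩),
   (776,⟨.e,.n,⟨.e,.e,.e,.o,.e,.e⟩⟩),
   (778,⟨.n,.n,⟨.e,.o,.o,.e,.o,.o⟩⟩),
   (779,⟨.n,.e,⟨.o,.n,.e,.o,.n,.n⟩⟩),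
   (1291,⟨.e,.e,⟨.o,.n,.e,.o,.n,.e⟩⟩),
   (1288,⟨.e,.e,⟨.o,.n,.e,.o,.o,.o⟩⟩),
   (1290,⟨.e,.e,⟨.e,.o,.e,.e,.n,.o⟩⟩),
   (1289,⟨.e,.e,⟨.o,.n,.e,.o,.e,.n⟩⟩),
   (109,⟨.e,.e,⟨.o,.n,.e,.e,.e,.n⟩⟩),
   (110,⟨.n,.n,⟨.e,.n,.o,.n,.n,.n⟩⟩),
   (108,⟨.n,.e,⟨.o,.n,.e,.n,.n,.o⟩⟩),
   (111,⟨.n,.e,⟨.e,.e,.e,.e,.o,.o⟩⟩),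
   (1449,⟨.e,.n,⟨.e,.n,.n,.n,.o,.o⟩⟩),
   (1450,⟨.n,.e,⟨.e,.e,.e,.o,.o,.o⟩⟩),
   (1451,⟨.e,.n,⟨.o,.o,.n,.e,.e,.e⟩⟩),
   (1448,⟨.n,.n,⟨.n,.n,.e,.e,.n,.n⟩⟩),
   (652,⟨.n,.e,⟨.n,.e,.n,.e,.e,.e⟩⟩),
   (654,⟨.n,.e,⟨.o,.n,.o,.e,.e,.n⟩⟩),
   (655,⟨.e,.n,⟨.n,.o,.e,.n,.n,.o⟩⟩),
   (653,⟨.e,.e,⟨.o,.e,.o,.e,.e,.e⟩⟩),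
   (334,⟨.n,.n,⟨.e,.o,.e,.n,.o,.o⟩⟩),
   (335,⟨.e,.e,⟨.n,.e,.e,.n,.n,.e⟩⟩),
   (332,⟨.n,.n,⟨.e,.o,.n,.n,.o,.o⟩⟩),
   (333,⟨.n,.n,⟨.n,.o,.n,.e,.o,.o⟩⟩),
   (1113,⟨.n,.n,⟨.n,.o,.n,.n,.n,.e⟩⟩),
   (1115,⟨.n,.n,⟨.e,.e,.o,.o,.n,.e⟩⟩),
   (1112,⟨.e,.n,⟨.e,.e,.e,.o,.n,.o⟩⟩),
   (1114,⟨.n,.n,⟨.e,.n,.e,.o,.n,.e⟩⟩)]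

/-- part 41 -/
def schk11_41 : List (ℕ × Par) :=
  [(991,⟨.n,.n,⟨.e,.e,.n,.o,.n,.o⟩⟩),
   (990,⟨.e,.n,⟨.o,.n,.n,.e,.n,.n⟩⟩),
   (989,⟨.e,.n,⟨.o,.e,.n,.n,.n,.e⟩⟩),
   (988,⟨.e,.n,⟨.e,.o,.o,.e,.o,.e⟩⟩),
   (412,⟨.e,.e,⟨.e,.n,.n,.o,.n,.o⟩⟩),
   (414,⟨.n,.e,⟨.o,.e,.n,.e,.o,.n⟩⟩),
   (413,⟨.n,.e,⟨.e,.e,.e,.e,.o,.o⟩⟩),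
   (415,⟨.n,.n,⟨.e,.e,.e,.n,.o,.e⟩⟩),
   (743,⟨.e,.e,⟨.e,.o,.n,.e,.e,.o⟩⟩),
   (742,⟨.n,.n,⟨.o,.o,.o,.e,.n,.e⟩⟩),
   (740,⟨.e,.e,⟨.o,.n,.e,.o,.n,.n⟩⟩),
   (741,⟨.e,.n,⟨.o,.n,.n,.n,.o,.o⟩⟩),
   (1324,⟨.e,.e,⟨.e,.o,.e,.e,.n,.o⟩⟩),
   (1327,⟨.n,.e,⟨.o,.n,.e,.e,.e,.n⟩⟩),
   (1325,⟨.n,.n,⟨.e,.n,.n,.o,.o,.n⟩⟩),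
   (1326,⟨.e,.n,⟨.e,.o,.o,.e,.o,.n⟩⟩),
   (144,⟨.n,.e,⟨.n,.e,.o,.e,.n,.o⟩⟩),
   (146,⟨.e,.e,⟨.o,.e,.n,.e,.e,.o⟩⟩),
   (147,⟨.e,.n,⟨.n,.o,.n,.n,.e,.n⟩⟩),
   (145,⟨.e,.e,⟨.e,.e,.n,.n,.o,.n⟩⟩),
   (1412,⟨.n,.e,⟨.o,.o,.e,.o,.n,.o⟩⟩),
   (1415,⟨.e,.e,⟨.n,.o,.o,.e,.e,.n⟩⟩),
   (1414,⟨.n,.n,⟨.n,.e,.n,.o,.e,.n⟩⟩),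
   (1413,⟨.n,.n,⟨.e,.e,.o,.n,.n,.n⟩⟩),
   (690,⟨.e,.e,⟨.n,.e,.n,.o,.n,.e⟩⟩),
   (688,⟨.e,.e,⟨.o,.o,.o,.e,.n,.e⟩⟩),
   (689,⟨.e,.e,⟨.o,.e,.o,.e,.e,.e⟩⟩),
   (691,⟨.n,.n,⟨.n,.e,.n,.e,.e,.e⟩⟩),
   (368,⟨.n,.e,⟨.e,.n,.e,.n,.e,.n⟩⟩),
   (371,⟨.e,.n,⟨.o,.o,.n,.o,.e,.o⟩⟩),
   (369,⟨.e,.n,⟨.n,.e,.n,.e,.n,.n⟩⟩),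
   (370,⟨.e,.e,⟨.n,.n,.e,.e,.o,.n⟩⟩)]

/-- part 42 -/
def schk11_42 : List (ℕ × Par) :=
  [(1078,⟨.e,.n,⟨.e,.o,.n,.e,.e,.n⟩⟩),
   (1076,⟨.n,.n,⟨.n,.e,.o,.e,.n,.e⟩⟩),
   (1079,⟨.e,.n,⟨.e,.n,.o,.e,.o,.n⟩⟩),
   (1077,⟨.e,.e,⟨.o,.n,.e,.o,.e,.e⟩⟩),
   (1349,⟨.e,.e,⟨.o,.e,.n,.n,.n,.e⟩⟩),
   (1351,⟨.n,.n,⟨.e,.o,.n,.e,.o,.o⟩⟩),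
   (1350,⟨.e,.e,⟨.n,.o,.e,.n,.n,.n⟩⟩),
   (1348,⟨.n,.n,⟨.e,.n,.o,.n,.o,.o⟩⟩),
   (83,⟨.e,.e,⟨.o,.o,.n,.e,.o,.o⟩⟩),
   (82,⟨.n,.e,⟨.e,.e,.e,.e,.o,.o⟩⟩),
   (80,⟨.n,.n,⟨.n,.e,.n,.o,.n,.o⟩⟩),
   (81,⟨.e,.n,⟨.n,.o,.n,.e,.n,.n⟩⟩),
   (1246,⟨.n,.n,⟨.e,.o,.o,.n,.o,.o⟩⟩),
   (1244,⟨.n,.n,⟨.e,.e,.n,.e,.n,.e⟩⟩),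
   (1247,⟨.e,.n,⟨.e,.o,.e,.e,.n,.e⟩⟩),
   (1245,⟨.e,.n,⟨.n,.e,.e,.o,.e,.e⟩⟩),
   (1037,⟨.e,.n,⟨.e,.n,.o,.n,.e,.e⟩⟩),
   (1036,⟨.e,.e,⟨.o,.o,.n,.n,.o,.o⟩⟩),
   (1039,⟨.e,.e,⟨.e,.o,.e,.e,.n,.o⟩⟩),
   (1038,⟨.n,.n,⟨.o,.n,.n,.n,.e,.n⟩⟩),
   (295,⟨.n,.n,⟨.e,.n,.o,.n,.n,.o⟩⟩),
   (294,⟨.n,.e,⟨.o,.n,.o,.n,.o,.n⟩⟩),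
   (292,⟨.e,.n,⟨.e,.e,.n,.n,.n,.o⟩⟩),
   (293,⟨.n,.n,⟨.e,.o,.o,.n,.n,.o⟩⟩),
   (623,⟨.e,.e,⟨.e,.n,.o,.n,.o,.o⟩⟩),
   (622,⟨.n,.n,⟨.n,.e,.o,.n,.e,.e⟩⟩),
   (620,⟨.n,.n,⟨.n,.o,.e,.e,.n,.n⟩⟩),
   (621,⟨.n,.n,⟨.n,.n,.o,.n,.n,.e⟩⟩),
   (725,⟨.e,.e,⟨.o,.e,.o,.n,.n,.e⟩⟩),
   (726,⟨.e,.n,⟨.e,.o,.n,.e,.o,.o⟩⟩),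
   (724,⟨.n,.n,⟨.n,.e,.o,.n,.e,.e⟩⟩),
   (727,⟨.n,.e,⟨.n,.e,.e,.o,.n,.n⟩⟩)]

/-- part 43 -/
def schk11_43 : List (ℕ × Par) :=
  [(405,⟨.e,.n,⟨.n,.n,.o,.o,.n,.n⟩⟩),
   (406,⟨.n,.e,⟨.e,.e,.e,.n,.n,.o⟩⟩),
   (404,⟨.n,.e,⟨.o,.n,.e,.e,.n,.n⟩⟩),
   (407,⟨.n,.n,⟨.e,.e,.o,.o,.n,.e⟩⟩),
   (932,⟨.e,.n,⟨.e,.e,.e,.e,.n,.n⟩⟩),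
   (935,⟨.n,.e,⟨.o,.n,.n,.o,.n,.e⟩⟩),
   (934,⟨.e,.e,⟨.n,.o,.n,.o,.e,.e⟩⟩),
   (933,⟨.n,.e,⟨.o,.n,.e,.n,.e,.n⟩⟩),
   (1062,⟨.n,.n,⟨.e,.e,.n,.o,.n,.o⟩⟩),
   (1063,⟨.n,.n,⟨.e,.e,.n,.o,.n,.o⟩⟩),
   (1060,⟨.e,.e,⟨.n,.e,.e,.o,.n,.n⟩⟩),
   (1061,⟨.e,.n,⟨.o,.e,.n,.n,.n,.e⟩⟩),
   (340,⟨.e,.e,⟨.o,.n,.n,.e,.n,.o⟩⟩),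
   (343,⟨.e,.n,⟨.e,.n,.n,.n,.o,.e⟩⟩),
   (342,⟨.e,.e,⟨.o,.e,.n,.o,.n,.o⟩⟩),
   (341,⟨.e,.e,⟨.o,.o,.n,.e,.o,.n⟩⟩),
   (670,⟨.n,.n,⟨.n,.o,.e,.n,.n,.o⟩⟩),
   (671,⟨.n,.e,⟨.o,.o,.o,.n,.e,.e⟩⟩),
   (669,⟨.e,.n,⟨.n,.e,.e,.o,.e,.e⟩⟩),
   (668,⟨.e,.n,⟨.n,.n,.n,.n,.e,.o⟩⟩),
   (751,⟨.e,.n,⟨.n,.e,.e,.o,.e,.e⟩⟩),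
   (748,⟨.n,.e,⟨.o,.n,.o,.n,.n,.n⟩⟩),
   (750,⟨.e,.e,⟨.e,.e,.e,.n,.n,.e⟩⟩),
   (749,⟨.e,.n,⟨.e,.o,.o,.e,.n,.o⟩⟩),
   (428,⟨.e,.n,⟨.e,.e,.e,.e,.n,.n⟩⟩),
   (430,⟨.e,.n,⟨.e,.o,.e,.o,.n,.e⟩⟩),
   (431,⟨.e,.e,⟨.e,.n,.e,.n,.e,.n⟩⟩),
   (429,⟨.n,.e,⟨.o,.n,.e,.n,.e,.n⟩⟩),
   (1019,⟨.n,.e,⟨.o,.o,.e,.n,.n,.n⟩⟩),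
   (1016,⟨.n,.n,⟨.n,.e,.o,.n,.e,.e⟩⟩),
   (1017,⟨.e,.n,⟨.e,.n,.o,.n,.e,.n⟩⟩),
   (1018,⟨.n,.n,⟨.e,.n,.n,.n,.n,.e⟩⟩)]

/-- part 44 -/
def schk11_44 : List (ℕ × Par) :=
  [(1408,⟨.e,.e,⟨.n,.o,.e,.n,.n,.n⟩⟩),
   (1410,⟨.e,.e,⟨.o,.n,.n,.n,.n,.e⟩⟩),
   (1411,⟨.n,.n,⟨.e,.e,.e,.n,.n,.o⟩⟩),
   (1409,⟨.n,.n,⟨.e,.n,.e,.e,.e,.n⟩⟩),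
   (152,⟨.n,.n,⟨.n,.e,.n,.o,.n,.o⟩⟩),
   (154,⟨.n,.n,⟨.n,.e,.o,.e,.e,.n⟩⟩),
   (153,⟨.e,.n,⟨.e,.e,.o,.o,.n,.e⟩⟩),
   (155,⟨.e,.n,⟨.o,.o,.n,.n,.e,.n⟩⟩),
   (1328,⟨.e,.n,⟨.n,.o,.e,.n,.n,.o⟩⟩),
   (1330,⟨.e,.e,⟨.o,.o,.e,.n,.o,.o⟩⟩),
   (1329,⟨.n,.e,⟨.e,.o,.o,.n,.e,.e⟩⟩),
   (1331,⟨.n,.n,⟨.o,.o,.e,.n,.n,.e⟩⟩),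
   (1099,⟨.n,.n,⟨.e,.n,.o,.o,.e,.e⟩⟩),
   (1098,⟨.e,.n,⟨.e,.e,.n,.n,.n,.e⟩⟩),
   (1097,⟨.n,.e,⟨.n,.e,.n,.n,.o,.n⟩⟩),
   (1096,⟨.n,.n,⟨.n,.e,.e,.e,.e,.e⟩⟩),
   (307,⟨.n,.n,⟨.e,.e,.e,.e,.n,.o⟩⟩),
   (305,⟨.n,.e,⟨.e,.o,.n,.o,.n,.n⟩⟩),
   (306,⟨.e,.n,⟨.e,.n,.o,.n,.e,.n⟩⟩),
   (304,⟨.n,.e,⟨.n,.e,.n,.n,.e,.o⟩⟩),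
   (633,⟨.e,.e,⟨.e,.o,.e,.n,.o,.o⟩⟩),
   (632,⟨.e,.e,⟨.o,.o,.o,.n,.o,.o⟩⟩),
   (634,⟨.e,.n,⟨.e,.e,.n,.n,.n,.e⟩⟩),
   (635,⟨.e,.e,⟨.o,.o,.o,.n,.o,.o⟩⟩),
   (784,⟨.e,.e,⟨.e,.n,.o,.n,.o,.n⟩⟩),
   (787,⟨.n,.n,⟨.o,.o,.e,.n,.e,.n⟩⟩),
   (785,⟨.e,.n,⟨.e,.e,.e,.o,.e,.n⟩⟩),
   (786,⟨.n,.e,⟨.o,.o,.e,.o,.n,.o⟩⟩),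
   (467,⟨.e,.e,⟨.n,.o,.n,.e,.o,.o⟩⟩),
   (466,⟨.n,.e,⟨.o,.n,.o,.n,.o,.n⟩⟩),
   (465,⟨.e,.n,⟨.n,.o,.e,.e,.o,.o⟩⟩),
   (464,⟨.e,.e,⟨.n,.n,.e,.n,.e,.n⟩⟩)]

/-- part 45 -/
def schk11_45 : List (ℕ × Par) :=
  [(981,⟨.e,.n,⟨.n,.e,.e,.o,.e,.e⟩⟩),
   (982,⟨.n,.n,⟨.e,.e,.n,.e,.n,.e⟩⟩),
   (983,⟨.e,.e,⟨.o,.o,.n,.o,.e,.e⟩⟩),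
   (980,⟨.e,.n,⟨.e,.o,.e,.e,.n,.e⟩⟩),
   (1446,⟨.n,.e,⟨.o,.e,.n,.e,.e,.n⟩⟩),
   (1444,⟨.n,.e,⟨.o,.n,.e,.e,.e,.n⟩⟩),
   (1445,⟨.e,.e,⟨.o,.e,.n,.e,.o,.o⟩⟩),
   (1447,⟨.e,.e,⟨.n,.o,.n,.n,.e,.o⟩⟩),
   (117,⟨.e,.n,⟨.n,.o,.n,.e,.o,.o⟩⟩),
   (118,⟨.n,.n,⟨.n,.o,.e,.o,.e,.e⟩⟩),
   (119,⟨.e,.e,⟨.e,.n,.n,.e,.o,.o⟩⟩),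
   (116,⟨.n,.n,⟨.e,.e,.e,.e,.n,.o⟩⟩),
   (1293,⟨.n,.n,⟨.n,.n,.e,.e,.o,.o⟩⟩),
   (1295,⟨.n,.n,⟨.e,.o,.e,.e,.o,.o⟩⟩),
   (1292,⟨.n,.n,⟨.e,.n,.n,.n,.n,.e⟩⟩),
   (1294,⟨.n,.n,⟨.n,.o,.n,.n,.e,.e⟩⟩)]

/-- Schreier data of a root element -/
def tab11 : List (List (ℕ × Par)) :=
  [schk11_0,
   schk11_1,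
   schk11_2,
   schk11_3,
   schk11_4,
   schk11_5,
   schk11_6,
   schk11_7,
   schk11_8,
   schk11_9,
   schk11_10,
   schk11_11,
   schk11_12,
   schk11_13,
   schk11_14,
   schk11_15,
   schk11_16,
   schk11_17,
   schk11_18,
   schk11_19,
   schk11_20,
   schk11_21,
   schk11_22,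
   schk11_23,
   schk11_24,
   schk11_25,
   schk11_26,
   schk11_27,
   schk11_28,
   schk11_29,
   schk11_30,
   schk11_31,
   schk11_32,
   schk11_33,
   schk11_34,
   schk11_35,
   schk11_36,
   schk11_37,
   schk11_38,
   schk11_39,
   schk11_40,
   schk11_41,
   schk11_42,
   schk11_43,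
   schk11_44,
   schk11_45]

end Cfsg.Agent.H50.GTwoThree
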