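/- Schreier data of a root element; generated. -/
import Cfsg.Agent.H50.GTwoThree.Code

set_option autoImplicit false
set_option maxRecDepth 100000

namespace Cfsg.Agent.H50.GTwoThree

/-- part 0 -/
def schk4_0 : List (ℕ × Par) :=
  [(0,⟨.e,.e,⟨.o,.n,.n,.o,.e,.n⟩⟩),
   (1,⟨.e,.e,⟨.o,.o,.e,.n,.o,.o⟩⟩),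
   (2,⟨.e,.e,⟨.o,.n,.o,.e,.o,.o⟩⟩),
   (3,⟨.e,.e,⟨.o,.n,.n,.o,.e,.n⟩⟩),
   (8,⟨.e,.e,⟨.o,.o,.o,.o,.o,.o⟩⟩),
   (9,⟨.e,.e,⟨.o,.o,.o,.o,.o,.o⟩⟩),
   (10,⟨.e,.n,⟨.o,.o,.o,.e,.o,.o⟩⟩),
   (11,⟨.e,.e,⟨.o,.o,.o,.e,.e,.o⟩⟩),
   (12,⟨.e,.n,⟨.e,.n,.o,.e,.o,.n⟩⟩),
   (13,⟨.n,.e,⟨.e,.o,.o,.e,.n,.o⟩⟩),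
   (14,⟨.e,.e,⟨.o,.n,.o,.o,.o,.n⟩⟩),
   (15,⟨.n,.e,⟨.e,.n,.o,.e,.e,.n⟩⟩),
   (4,⟨.e,.n,⟨.e,.e,.n,.o,.e,.n⟩⟩),
   (5,⟨.n,.e,⟨.n,.o,.o,.n,.n,.n⟩⟩),
   (6,⟨.e,.n,⟨.o,.e,.o,.e,.o,.e⟩⟩),
   (7,⟨.n,.e,⟨.n,.n,.n,.n,.e,.e⟩⟩),
   (16,⟨.e,.e,⟨.o,.o,.o,.n,.o,.o⟩⟩),
   (17,⟨.e,.e,⟨.o,.o,.o,.n,.o,.o⟩⟩),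
   (18,⟨.e,.e,⟨.o,.o,.o,.n,.o,.o⟩⟩),
   (19,⟨.e,.e,⟨.o,.o,.o,.n,.o,.o⟩⟩),
   (20,⟨.e,.e,⟨.o,.o,.e,.n,.o,.o⟩⟩),
   (21,⟨.e,.e,⟨.o,.e,.o,.n,.o,.o⟩⟩),
   (22,⟨.e,.e,⟨.o,.e,.o,.n,.o,.o⟩⟩),
   (23,⟨.e,.e,⟨.o,.n,.n,.o,.e,.n⟩⟩),
   (24,⟨.e,.e,⟨.o,.o,.e,.n,.o,.o⟩⟩),
   (25,⟨.e,.e,⟨.o,.n,.o,.n,.o,.o⟩⟩),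
   (26,⟨.e,.e,⟨.o,.n,.o,.n,.o,.o⟩⟩),
   (27,⟨.e,.e,⟨.o,.n,.o,.n,.o,.o⟩⟩),
   (32,⟨.n,.e,⟨.n,.o,.e,.o,.o,.e⟩⟩),
   (34,⟨.e,.e,⟨.o,.o,.o,.o,.o,.o⟩⟩),
   (35,⟨.e,.e,⟨.o,.o,.o,.o,.o,.o⟩⟩),
   (33,⟨.e,.e,⟨.o,.o,.o,.o,.o,.o⟩⟩)]

/-- part 1 -/
def schk4_1 : List (ℕ × Par) :=
  [(36,⟨.n,.e,⟨.n,.o,.e,.e,.o,.o⟩⟩),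
   (38,⟨.n,.e,⟨.n,.o,.o,.n,.n,.n⟩⟩),
   (39,⟨.e,.e,⟨.o,.o,.o,.o,.o,.o⟩⟩),
   (37,⟨.e,.e,⟨.o,.o,.o,.o,.o,.o⟩⟩),
   (28,⟨.e,.e,⟨.n,.o,.o,.n,.o,.e⟩⟩),
   (30,⟨.e,.e,⟨.o,.o,.o,.o,.o,.o⟩⟩),
   (31,⟨.n,.e,⟨.e,.o,.o,.e,.n,.o⟩⟩),
   (29,⟨.e,.e,⟨.o,.o,.o,.o,.o,.o⟩⟩),
   (48,⟨.e,.e,⟨.o,.o,.o,.o,.o,.o⟩⟩),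
   (50,⟨.e,.e,⟨.o,.o,.o,.o,.o,.o⟩⟩),
   (51,⟨.e,.e,⟨.o,.o,.o,.e,.e,.o⟩⟩),
   (49,⟨.e,.e,⟨.o,.o,.o,.o,.o,.o⟩⟩),
   (40,⟨.e,.n,⟨.e,.e,.n,.o,.e,.n⟩⟩),
   (42,⟨.e,.e,⟨.o,.e,.o,.n,.o,.o⟩⟩),
   (43,⟨.e,.n,⟨.o,.e,.o,.e,.o,.e⟩⟩),
   (41,⟨.n,.e,⟨.n,.o,.o,.n,.n,.n⟩⟩),
   (44,⟨.e,.n,⟨.e,.n,.o,.e,.o,.n⟩⟩),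
   (46,⟨.e,.n,⟨.o,.n,.o,.e,.o,.n⟩⟩),
   (47,⟨.n,.e,⟨.e,.o,.o,.e,.n,.o⟩⟩),
   (45,⟨.e,.e,⟨.o,.n,.o,.o,.n,.o⟩⟩),
   (88,⟨.e,.e,⟨.o,.o,.o,.o,.o,.o⟩⟩),
   (89,⟨.e,.e,⟨.o,.o,.o,.o,.o,.o⟩⟩),
   (90,⟨.e,.e,⟨.o,.o,.o,.o,.o,.o⟩⟩),
   (91,⟨.e,.e,⟨.o,.o,.o,.o,.o,.o⟩⟩),
   (92,⟨.e,.e,⟨.o,.e,.e,.n,.o,.o⟩⟩),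
   (93,⟨.e,.n,⟨.o,.n,.o,.e,.o,.o⟩⟩),
   (94,⟨.e,.e,⟨.o,.o,.o,.n,.e,.o⟩⟩),
   (95,⟨.e,.e,⟨.o,.e,.o,.o,.n,.o⟩⟩),
   (96,⟨.e,.e,⟨.e,.o,.e,.o,.o,.e⟩⟩),
   (97,⟨.n,.n,⟨.e,.o,.o,.o,.o,.o⟩⟩),
   (98,⟨.n,.e,⟨.o,.o,.o,.o,.n,.o⟩⟩),
   (99,⟨.n,.e,⟨.n,.o,.o,.o,.e,.e⟩⟩)]

/-- part 2 -/
def schk4_2 : List (ℕ × Par) :=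
  [(104,⟨.e,.e,⟨.o,.o,.o,.o,.o,.o⟩⟩),
   (105,⟨.n,.e,⟨.n,.n,.e,.n,.n,.n⟩⟩),
   (106,⟨.e,.e,⟨.o,.o,.o,.o,.o,.o⟩⟩),
   (107,⟨.e,.n,⟨.n,.n,.n,.e,.n,.o⟩⟩),
   (108,⟨.e,.e,⟨.n,.o,.n,.o,.o,.n⟩⟩),
   (109,⟨.e,.e,⟨.o,.o,.o,.o,.o,.o⟩⟩),
   (110,⟨.n,.n,⟨.o,.n,.o,.o,.e,.o⟩⟩),
   (111,⟨.e,.e,⟨.o,.o,.o,.o,.o,.o⟩⟩),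
   (100,⟨.e,.e,⟨.o,.o,.o,.o,.o,.o⟩⟩),
   (101,⟨.n,.n,⟨.o,.n,.o,.n,.e,.o⟩⟩),
   (102,⟨.n,.e,⟨.e,.o,.o,.e,.n,.o⟩⟩),
   (103,⟨.n,.n,⟨.o,.o,.o,.o,.n,.o⟩⟩),
   (120,⟨.e,.e,⟨.o,.o,.o,.o,.o,.o⟩⟩),
   (121,⟨.n,.n,⟨.n,.o,.n,.n,.e,.n⟩⟩),
   (122,⟨.e,.e,⟨.e,.e,.n,.n,.n,.o⟩⟩),
   (123,⟨.n,.e,⟨.n,.e,.e,.e,.e,.o⟩⟩),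
   (112,⟨.e,.e,⟨.n,.o,.n,.o,.o,.n⟩⟩),
   (113,⟨.e,.n,⟨.n,.o,.o,.o,.e,.e⟩⟩),
   (114,⟨.e,.e,⟨.o,.o,.o,.e,.n,.o⟩⟩),
   (115,⟨.e,.e,⟨.o,.o,.o,.e,.o,.o⟩⟩),
   (116,⟨.e,.n,⟨.o,.n,.o,.o,.o,.e⟩⟩),
   (117,⟨.e,.e,⟨.o,.o,.o,.o,.o,.o⟩⟩),
   (118,⟨.e,.e,⟨.o,.o,.o,.o,.o,.o⟩⟩),
   (119,⟨.e,.e,⟨.o,.o,.o,.o,.o,.o⟩⟩),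
   (124,⟨.e,.e,⟨.o,.o,.o,.o,.o,.o⟩⟩),
   (125,⟨.n,.e,⟨.n,.e,.e,.e,.n,.e⟩⟩),
   (126,⟨.e,.e,⟨.o,.e,.o,.o,.o,.o⟩⟩),
   (127,⟨.e,.n,⟨.e,.o,.o,.o,.n,.o⟩⟩),
   (128,⟨.n,.e,⟨.e,.o,.n,.e,.o,.e⟩⟩),
   (129,⟨.e,.e,⟨.o,.o,.o,.o,.o,.o⟩⟩),
   (130,⟨.n,.e,⟨.e,.o,.o,.o,.o,.o⟩⟩),
   (131,⟨.e,.e,⟨.o,.n,.o,.o,.o,.o⟩⟩)]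

/-- part 3 -/
def schk4_3 : List (ℕ × Par) :=
  [(132,⟨.e,.e,⟨.o,.o,.o,.o,.o,.o⟩⟩),
   (133,⟨.e,.n,⟨.o,.e,.o,.o,.o,.o⟩⟩),
   (134,⟨.n,.n,⟨.o,.n,.o,.o,.o,.o⟩⟩),
   (135,⟨.e,.e,⟨.o,.o,.o,.o,.o,.o⟩⟩),
   (140,⟨.e,.e,⟨.o,.o,.o,.o,.o,.o⟩⟩),
   (141,⟨.e,.e,⟨.o,.o,.o,.o,.o,.o⟩⟩),
   (142,⟨.e,.e,⟨.o,.o,.o,.o,.o,.o⟩⟩),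
   (143,⟨.e,.e,⟨.o,.n,.o,.o,.n,.o⟩⟩),
   (144,⟨.e,.e,⟨.o,.o,.o,.o,.o,.o⟩⟩),
   (145,⟨.n,.e,⟨.n,.n,.n,.e,.e,.n⟩⟩),
   (146,⟨.e,.e,⟨.e,.n,.e,.n,.e,.o⟩⟩),
   (147,⟨.e,.n,⟨.o,.n,.o,.o,.n,.o⟩⟩),
   (136,⟨.e,.e,⟨.e,.o,.e,.o,.o,.e⟩⟩),
   (137,⟨.e,.e,⟨.o,.o,.o,.o,.e,.o⟩⟩),
   (138,⟨.e,.n,⟨.e,.e,.o,.o,.n,.o⟩⟩),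
   (139,⟨.e,.e,⟨.o,.o,.o,.o,.o,.o⟩⟩),
   (156,⟨.e,.e,⟨.e,.o,.e,.o,.o,.e⟩⟩),
   (157,⟨.e,.n,⟨.o,.n,.o,.e,.e,.o⟩⟩),
   (158,⟨.e,.e,⟨.o,.o,.o,.o,.o,.o⟩⟩),
   (159,⟨.e,.e,⟨.o,.o,.o,.o,.o,.o⟩⟩),
   (148,⟨.e,.n,⟨.o,.e,.o,.o,.o,.n⟩⟩),
   (149,⟨.e,.e,⟨.o,.o,.o,.o,.o,.o⟩⟩),
   (150,⟨.e,.n,⟨.o,.e,.o,.o,.n,.o⟩⟩),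
   (151,⟨.e,.e,⟨.o,.o,.o,.o,.o,.o⟩⟩),
   (152,⟨.n,.e,⟨.o,.o,.o,.e,.o,.n⟩⟩),
   (153,⟨.e,.e,⟨.o,.o,.o,.o,.o,.o⟩⟩),
   (154,⟨.e,.e,⟨.o,.o,.o,.o,.o,.o⟩⟩),
   (155,⟨.n,.e,⟨.e,.e,.o,.o,.n,.o⟩⟩),
   (52,⟨.e,.e,⟨.o,.o,.o,.o,.o,.o⟩⟩),
   (53,⟨.n,.e,⟨.e,.e,.o,.o,.o,.o⟩⟩),
   (54,⟨.e,.e,⟨.o,.n,.o,.o,.o,.o⟩⟩),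
   (55,⟨.e,.n,⟨.e,.o,.o,.o,.n,.e⟩⟩)]

/-- part 4 -/
def schk4_4 : List (ℕ × Par) :=
  [(56,⟨.n,.e,⟨.n,.n,.o,.o,.e,.o⟩⟩),
   (57,⟨.e,.n,⟨.o,.e,.o,.e,.o,.o⟩⟩),
   (58,⟨.n,.e,⟨.n,.o,.o,.e,.n,.n⟩⟩),
   (59,⟨.e,.e,⟨.o,.o,.o,.o,.e,.o⟩⟩),
   (60,⟨.e,.e,⟨.n,.o,.n,.o,.o,.n⟩⟩),
   (61,⟨.n,.e,⟨.e,.e,.o,.o,.o,.o⟩⟩),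
   (62,⟨.e,.n,⟨.o,.e,.o,.o,.n,.o⟩⟩),
   (63,⟨.n,.e,⟨.e,.o,.o,.o,.e,.o⟩⟩),
   (68,⟨.e,.e,⟨.o,.o,.o,.o,.o,.o⟩⟩),
   (69,⟨.e,.e,⟨.o,.o,.o,.o,.n,.o⟩⟩),
   (70,⟨.n,.e,⟨.n,.o,.o,.o,.e,.e⟩⟩),
   (71,⟨.e,.e,⟨.o,.o,.o,.o,.o,.o⟩⟩),
   (72,⟨.e,.e,⟨.o,.o,.o,.o,.o,.o⟩⟩),
   (73,⟨.n,.n,⟨.o,.n,.o,.n,.n,.o⟩⟩),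
   (74,⟨.n,.e,⟨.n,.o,.o,.n,.n,.n⟩⟩),
   (75,⟨.n,.n,⟨.o,.n,.o,.o,.n,.o⟩⟩),
   (64,⟨.e,.e,⟨.o,.o,.o,.o,.o,.o⟩⟩),
   (65,⟨.e,.e,⟨.n,.o,.o,.o,.o,.o⟩⟩),
   (66,⟨.e,.e,⟨.n,.e,.o,.o,.e,.o⟩⟩),
   (67,⟨.e,.e,⟨.n,.n,.o,.o,.n,.o⟩⟩),
   (84,⟨.e,.e,⟨.o,.o,.o,.o,.o,.o⟩⟩),
   (85,⟨.e,.e,⟨.o,.o,.o,.o,.o,.o⟩⟩),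
   (86,⟨.e,.n,⟨.o,.n,.o,.o,.n,.o⟩⟩),
   (87,⟨.e,.e,⟨.o,.o,.o,.o,.o,.o⟩⟩),
   (76,⟨.n,.e,⟨.o,.o,.o,.n,.o,.n⟩⟩),
   (77,⟨.n,.n,⟨.n,.o,.e,.n,.n,.e⟩⟩),
   (78,⟨.e,.e,⟨.n,.n,.o,.o,.n,.o⟩⟩),
   (79,⟨.e,.e,⟨.o,.o,.o,.o,.o,.o⟩⟩),
   (80,⟨.e,.e,⟨.o,.o,.o,.o,.o,.o⟩⟩),
   (81,⟨.e,.e,⟨.n,.e,.o,.n,.o,.o⟩⟩),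
   (82,⟨.e,.e,⟨.o,.o,.o,.n,.e,.o⟩⟩),
   (83,⟨.e,.e,⟨.o,.o,.o,.n,.o,.o⟩⟩)]

/-- part 5 -/
def schk4_5 : List (ℕ × Par) :=
  [(160,⟨.e,.e,⟨.o,.o,.n,.n,.o,.o⟩⟩),
   (161,⟨.e,.e,⟨.o,.n,.o,.o,.o,.o⟩⟩),
   (162,⟨.e,.e,⟨.o,.n,.o,.o,.o,.o⟩⟩),
   (163,⟨.e,.e,⟨.o,.n,.o,.o,.o,.o⟩⟩),
   (164,⟨.e,.e,⟨.o,.o,.e,.n,.o,.o⟩⟩),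
   (165,⟨.e,.e,⟨.o,.n,.o,.o,.o,.o⟩⟩),
   (166,⟨.e,.e,⟨.o,.n,.o,.o,.o,.o⟩⟩),
   (167,⟨.e,.e,⟨.o,.e,.e,.e,.n,.e⟩⟩),
   (168,⟨.e,.e,⟨.o,.o,.n,.n,.o,.o⟩⟩),
   (169,⟨.e,.e,⟨.o,.n,.e,.e,.n,.n⟩⟩),
   (170,⟨.e,.e,⟨.o,.n,.o,.o,.o,.o⟩⟩),
   (171,⟨.e,.e,⟨.o,.n,.o,.o,.o,.o⟩⟩),
   (172,⟨.e,.e,⟨.o,.o,.e,.n,.o,.o⟩⟩),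
   (173,⟨.e,.e,⟨.o,.n,.e,.e,.n,.n⟩⟩),
   (174,⟨.e,.e,⟨.o,.e,.n,.n,.e,.e⟩⟩),
   (175,⟨.e,.e,⟨.o,.n,.e,.n,.n,.n⟩⟩),
   (176,⟨.e,.e,⟨.o,.o,.e,.n,.o,.o⟩⟩),
   (177,⟨.e,.e,⟨.o,.e,.o,.o,.o,.o⟩⟩),
   (178,⟨.e,.e,⟨.o,.n,.e,.n,.n,.n⟩⟩),
   (179,⟨.e,.e,⟨.o,.e,.e,.e,.n,.e⟩⟩),
   (180,⟨.e,.e,⟨.o,.o,.e,.n,.o,.o⟩⟩),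
   (181,⟨.e,.e,⟨.o,.n,.e,.e,.n,.n⟩⟩),
   (182,⟨.e,.e,⟨.o,.e,.e,.o,.n,.e⟩⟩),
   (183,⟨.e,.e,⟨.o,.n,.o,.o,.o,.o⟩⟩),
   (184,⟨.e,.e,⟨.o,.o,.n,.o,.o,.o⟩⟩),
   (185,⟨.e,.e,⟨.o,.n,.e,.n,.n,.n⟩⟩),
   (186,⟨.e,.e,⟨.o,.e,.n,.n,.e,.e⟩⟩),
   (187,⟨.e,.e,⟨.o,.e,.n,.n,.e,.e⟩⟩),
   (188,⟨.e,.e,⟨.o,.o,.n,.e,.o,.o⟩⟩),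
   (189,⟨.e,.e,⟨.o,.n,.o,.o,.o,.o⟩⟩),
   (190,⟨.e,.e,⟨.o,.n,.o,.o,.o,.o⟩⟩),
   (191,⟨.e,.e,⟨.o,.n,.o,.o,.o,.o⟩⟩)]

/-- part 6 -/
def schk4_6 : List (ℕ × Par) :=
  [(192,⟨.e,.e,⟨.o,.o,.n,.n,.o,.o⟩⟩),
   (193,⟨.e,.e,⟨.o,.n,.o,.o,.o,.o⟩⟩),
   (194,⟨.e,.e,⟨.o,.e,.n,.n,.e,.e⟩⟩),
   (195,⟨.e,.e,⟨.o,.n,.o,.o,.o,.o⟩⟩),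
   (228,⟨.e,.e,⟨.o,.o,.o,.o,.o,.o⟩⟩),
   (229,⟨.e,.e,⟨.o,.o,.o,.o,.o,.o⟩⟩),
   (230,⟨.n,.e,⟨.e,.o,.o,.o,.o,.o⟩⟩),
   (231,⟨.e,.e,⟨.o,.o,.o,.o,.o,.o⟩⟩),
   (220,⟨.e,.e,⟨.o,.o,.e,.o,.o,.o⟩⟩),
   (221,⟨.e,.e,⟨.o,.o,.o,.o,.o,.o⟩⟩),
   (222,⟨.e,.e,⟨.o,.o,.o,.o,.o,.o⟩⟩),
   (223,⟨.n,.e,⟨.e,.e,.o,.o,.e,.o⟩⟩),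
   (224,⟨.n,.e,⟨.o,.o,.n,.o,.o,.o⟩⟩),
   (225,⟨.e,.e,⟨.o,.n,.o,.o,.n,.o⟩⟩),
   (226,⟨.e,.e,⟨.o,.n,.o,.o,.n,.o⟩⟩),
   (227,⟨.n,.e,⟨.o,.n,.o,.o,.n,.o⟩⟩),
   (204,⟨.n,.e,⟨.o,.o,.o,.o,.o,.o⟩⟩),
   (205,⟨.e,.e,⟨.o,.o,.o,.o,.o,.o⟩⟩),
   (206,⟨.e,.e,⟨.o,.o,.o,.o,.o,.o⟩⟩),
   (207,⟨.n,.e,⟨.o,.n,.o,.o,.n,.o⟩⟩),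
   (196,⟨.e,.n,⟨.o,.e,.e,.o,.o,.o⟩⟩),
   (197,⟨.e,.e,⟨.o,.e,.o,.o,.e,.o⟩⟩),
   (198,⟨.e,.e,⟨.o,.o,.o,.o,.o,.o⟩⟩),
   (199,⟨.e,.e,⟨.o,.e,.o,.o,.e,.o⟩⟩),
   (200,⟨.n,.e,⟨.o,.o,.n,.o,.o,.o⟩⟩),
   (201,⟨.e,.e,⟨.o,.o,.o,.o,.o,.o⟩⟩),
   (202,⟨.e,.e,⟨.o,.o,.o,.o,.o,.o⟩⟩),
   (203,⟨.n,.e,⟨.n,.e,.e,.e,.o,.n⟩⟩),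
   (216,⟨.n,.e,⟨.o,.o,.o,.o,.o,.o⟩⟩),
   (217,⟨.e,.e,⟨.o,.o,.o,.o,.o,.o⟩⟩),
   (218,⟨.e,.e,⟨.o,.o,.o,.o,.o,.o⟩⟩),
   (219,⟨.e,.e,⟨.o,.o,.o,.o,.o,.o⟩⟩)]

/-- part 7 -/
def schk4_7 : List (ℕ × Par) :=
  [(208,⟨.e,.e,⟨.o,.o,.e,.o,.o,.o⟩⟩),
   (209,⟨.e,.e,⟨.o,.e,.o,.o,.e,.o⟩⟩),
   (210,⟨.e,.e,⟨.o,.e,.o,.o,.e,.o⟩⟩),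
   (211,⟨.e,.e,⟨.o,.o,.o,.o,.o,.o⟩⟩),
   (212,⟨.e,.n,⟨.o,.n,.e,.e,.o,.o⟩⟩),
   (213,⟨.e,.e,⟨.o,.n,.o,.o,.n,.o⟩⟩),
   (214,⟨.n,.e,⟨.n,.o,.o,.o,.o,.o⟩⟩),
   (215,⟨.e,.e,⟨.o,.n,.o,.o,.n,.o⟩⟩),
   (252,⟨.e,.e,⟨.o,.o,.e,.o,.o,.o⟩⟩),
   (253,⟨.n,.e,⟨.o,.e,.o,.o,.e,.o⟩⟩),
   (254,⟨.n,.e,⟨.o,.e,.o,.o,.e,.o⟩⟩),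
   (255,⟨.e,.e,⟨.o,.e,.o,.o,.n,.o⟩⟩),
   (244,⟨.e,.e,⟨.o,.o,.e,.o,.o,.o⟩⟩),
   (245,⟨.n,.e,⟨.o,.o,.o,.o,.o,.o⟩⟩),
   (246,⟨.n,.e,⟨.e,.n,.e,.n,.n,.n⟩⟩),
   (247,⟨.e,.n,⟨.o,.o,.o,.o,.o,.o⟩⟩),
   (248,⟨.e,.e,⟨.o,.o,.e,.o,.o,.o⟩⟩),
   (249,⟨.e,.e,⟨.o,.o,.o,.o,.o,.o⟩⟩),
   (250,⟨.e,.e,⟨.o,.n,.o,.o,.e,.o⟩⟩),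
   (251,⟨.e,.e,⟨.o,.o,.o,.o,.o,.o⟩⟩),
   (264,⟨.e,.e,⟨.o,.o,.e,.o,.o,.o⟩⟩),
   (265,⟨.n,.e,⟨.o,.o,.o,.o,.o,.o⟩⟩),
   (266,⟨.e,.e,⟨.o,.o,.o,.o,.o,.o⟩⟩),
   (267,⟨.e,.n,⟨.o,.o,.o,.o,.o,.o⟩⟩),
   (256,⟨.e,.e,⟨.o,.o,.e,.o,.o,.o⟩⟩),
   (257,⟨.e,.e,⟨.o,.o,.o,.o,.o,.o⟩⟩),
   (258,⟨.e,.e,⟨.o,.e,.o,.o,.n,.o⟩⟩),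
   (259,⟨.e,.e,⟨.o,.o,.o,.o,.o,.o⟩⟩),
   (260,⟨.n,.e,⟨.o,.o,.n,.o,.o,.e⟩⟩),
   (261,⟨.e,.n,⟨.n,.o,.o,.o,.n,.o⟩⟩),
   (262,⟨.n,.n,⟨.e,.o,.o,.o,.e,.o⟩⟩),
   (263,⟨.e,.e,⟨.o,.o,.o,.o,.o,.o⟩⟩)]

/-- part 8 -/
def schk4_8 : List (ℕ × Par) :=
  [(240,⟨.e,.e,⟨.o,.o,.e,.o,.o,.o⟩⟩),
   (241,⟨.e,.e,⟨.o,.o,.o,.o,.o,.o⟩⟩),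
   (242,⟨.e,.e,⟨.o,.o,.o,.o,.o,.o⟩⟩),
   (243,⟨.e,.e,⟨.o,.o,.o,.o,.o,.o⟩⟩),
   (232,⟨.n,.e,⟨.o,.o,.e,.o,.o,.e⟩⟩),
   (233,⟨.n,.n,⟨.n,.e,.e,.e,.e,.o⟩⟩),
   (234,⟨.e,.n,⟨.e,.e,.n,.n,.o,.n⟩⟩),
   (235,⟨.e,.e,⟨.o,.n,.o,.o,.e,.o⟩⟩),
   (236,⟨.e,.e,⟨.o,.o,.e,.o,.o,.o⟩⟩),
   (237,⟨.e,.e,⟨.o,.o,.o,.o,.o,.o⟩⟩),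
   (238,⟨.n,.e,⟨.n,.n,.o,.o,.o,.o⟩⟩),
   (239,⟨.e,.e,⟨.o,.o,.o,.o,.o,.o⟩⟩),
   (316,⟨.e,.e,⟨.o,.o,.o,.o,.o,.o⟩⟩),
   (318,⟨.e,.e,⟨.o,.o,.o,.o,.o,.o⟩⟩),
   (319,⟨.e,.e,⟨.o,.o,.o,.o,.o,.o⟩⟩),
   (317,⟨.e,.e,⟨.o,.o,.o,.o,.o,.o⟩⟩),
   (320,⟨.e,.e,⟨.o,.e,.e,.e,.n,.e⟩⟩),
   (322,⟨.e,.e,⟨.o,.o,.o,.o,.o,.o⟩⟩),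
   (323,⟨.n,.e,⟨.e,.e,.o,.o,.o,.o⟩⟩),
   (321,⟨.n,.e,⟨.n,.e,.e,.e,.o,.n⟩⟩),
   (324,⟨.n,.n,⟨.e,.e,.n,.e,.o,.o⟩⟩),
   (326,⟨.e,.e,⟨.o,.o,.o,.o,.o,.o⟩⟩),
   (327,⟨.n,.e,⟨.e,.o,.o,.o,.o,.o⟩⟩),
   (325,⟨.e,.e,⟨.o,.o,.o,.o,.o,.o⟩⟩),
   (332,⟨.e,.e,⟨.o,.o,.o,.o,.o,.o⟩⟩),
   (334,⟨.e,.e,⟨.e,.o,.e,.e,.n,.n⟩⟩),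
   (335,⟨.e,.n,⟨.o,.n,.n,.e,.n,.o⟩⟩),
   (333,⟨.n,.e,⟨.e,.e,.n,.n,.e,.e⟩⟩),
   (336,⟨.e,.e,⟨.o,.o,.o,.o,.o,.o⟩⟩),
   (338,⟨.e,.n,⟨.e,.o,.o,.o,.o,.o⟩⟩),
   (339,⟨.e,.e,⟨.o,.o,.o,.o,.o,.o⟩⟩),
   (337,⟨.n,.e,⟨.n,.e,.e,.e,.e,.o⟩⟩)]

/-- part 9 -/
def schk4_9 : List (ℕ × Par) :=
  [(328,⟨.e,.e,⟨.e,.e,.n,.e,.o,.o⟩⟩),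
   (330,⟨.e,.e,⟨.o,.o,.o,.o,.o,.o⟩⟩),
   (331,⟨.n,.e,⟨.n,.n,.e,.n,.n,.n⟩⟩),
   (329,⟨.e,.e,⟨.o,.o,.o,.o,.o,.o⟩⟩),
   (312,⟨.e,.e,⟨.o,.o,.o,.o,.o,.o⟩⟩),
   (314,⟨.e,.n,⟨.n,.e,.e,.e,.o,.n⟩⟩),
   (315,⟨.n,.e,⟨.o,.n,.e,.n,.o,.e⟩⟩),
   (313,⟨.n,.e,⟨.e,.n,.e,.n,.o,.e⟩⟩),
   (304,⟨.e,.e,⟨.o,.o,.o,.o,.o,.o⟩⟩),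
   (306,⟨.e,.e,⟨.e,.o,.o,.o,.o,.o⟩⟩),
   (307,⟨.e,.n,⟨.o,.o,.o,.o,.n,.o⟩⟩),
   (305,⟨.e,.n,⟨.n,.o,.o,.n,.n,.o⟩⟩),
   (308,⟨.e,.e,⟨.e,.o,.o,.o,.o,.o⟩⟩),
   (310,⟨.n,.n,⟨.o,.n,.o,.o,.o,.o⟩⟩),
   (311,⟨.e,.e,⟨.o,.o,.o,.o,.o,.o⟩⟩),
   (309,⟨.e,.e,⟨.n,.o,.o,.o,.o,.o⟩⟩),
   (348,⟨.e,.e,⟨.o,.o,.o,.o,.o,.o⟩⟩),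
   (350,⟨.e,.e,⟨.o,.o,.o,.o,.o,.o⟩⟩),
   (351,⟨.n,.e,⟨.o,.n,.n,.e,.e,.n⟩⟩),
   (349,⟨.n,.n,⟨.o,.n,.o,.o,.o,.o⟩⟩),
   (340,⟨.e,.e,⟨.n,.o,.o,.o,.o,.o⟩⟩),
   (342,⟨.e,.e,⟨.e,.o,.o,.o,.o,.o⟩⟩),
   (343,⟨.e,.e,⟨.o,.o,.o,.o,.o,.o⟩⟩),
   (341,⟨.e,.e,⟨.o,.o,.o,.o,.o,.o⟩⟩),
   (344,⟨.n,.e,⟨.o,.o,.n,.o,.o,.o⟩⟩),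
   (346,⟨.e,.e,⟨.n,.n,.o,.o,.n,.o⟩⟩),
   (347,⟨.e,.e,⟨.o,.o,.o,.o,.o,.o⟩⟩),
   (345,⟨.e,.e,⟨.o,.o,.o,.o,.o,.o⟩⟩),
   (352,⟨.e,.n,⟨.e,.n,.n,.n,.o,.o⟩⟩),
   (354,⟨.e,.e,⟨.o,.e,.o,.o,.o,.o⟩⟩),
   (355,⟨.e,.e,⟨.o,.e,.o,.o,.o,.o⟩⟩),
   (353,⟨.n,.e,⟨.o,.e,.o,.o,.e,.o⟩⟩)]

/-- part 10 -/
def schk4_10 : List (ℕ × Par) :=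
  [(356,⟨.n,.n,⟨.n,.o,.e,.o,.o,.o⟩⟩),
   (358,⟨.e,.e,⟨.o,.o,.o,.o,.n,.o⟩⟩),
   (359,⟨.n,.e,⟨.e,.n,.o,.o,.o,.o⟩⟩),
   (357,⟨.n,.e,⟨.n,.e,.e,.e,.n,.e⟩⟩),
   (360,⟨.n,.e,⟨.n,.o,.e,.o,.o,.o⟩⟩),
   (362,⟨.e,.e,⟨.o,.o,.o,.o,.o,.o⟩⟩),
   (363,⟨.e,.e,⟨.o,.o,.o,.o,.o,.o⟩⟩),
   (361,⟨.n,.e,⟨.n,.e,.e,.e,.n,.e⟩⟩),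
   (368,⟨.n,.e,⟨.e,.o,.o,.o,.o,.o⟩⟩),
   (370,⟨.e,.e,⟨.o,.o,.o,.o,.o,.o⟩⟩),
   (371,⟨.e,.e,⟨.o,.o,.o,.o,.o,.o⟩⟩),
   (369,⟨.n,.e,⟨.e,.n,.n,.e,.e,.n⟩⟩),
   (372,⟨.e,.e,⟨.e,.e,.n,.e,.o,.o⟩⟩),
   (374,⟨.n,.e,⟨.n,.n,.o,.o,.o,.o⟩⟩),
   (375,⟨.e,.n,⟨.o,.o,.o,.o,.o,.o⟩⟩),
   (373,⟨.n,.n,⟨.e,.o,.o,.o,.o,.o⟩⟩),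
   (364,⟨.e,.e,⟨.o,.o,.o,.o,.o,.o⟩⟩),
   (366,⟨.e,.e,⟨.o,.e,.o,.o,.e,.o⟩⟩),
   (367,⟨.e,.n,⟨.e,.o,.o,.o,.o,.o⟩⟩),
   (365,⟨.n,.n,⟨.n,.e,.e,.e,.n,.e⟩⟩),
   (300,⟨.e,.e,⟨.o,.o,.o,.o,.o,.o⟩⟩),
   (302,⟨.e,.e,⟨.o,.o,.o,.o,.o,.o⟩⟩),
   (303,⟨.e,.e,⟨.o,.o,.o,.o,.o,.o⟩⟩),
   (301,⟨.n,.n,⟨.o,.n,.o,.o,.o,.o⟩⟩),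
   (292,⟨.n,.e,⟨.o,.o,.n,.o,.o,.o⟩⟩),
   (294,⟨.n,.e,⟨.o,.n,.e,.n,.o,.e⟩⟩),
   (295,⟨.n,.e,⟨.o,.e,.n,.n,.e,.e⟩⟩),
   (293,⟨.e,.n,⟨.n,.n,.o,.o,.e,.o⟩⟩),
   (296,⟨.e,.e,⟨.o,.o,.o,.o,.o,.o⟩⟩),
   (298,⟨.n,.e,⟨.o,.n,.o,.o,.n,.o⟩⟩),
   (299,⟨.e,.n,⟨.n,.o,.o,.n,.n,.n⟩⟩),
   (297,⟨.n,.e,⟨.n,.n,.n,.e,.e,.n⟩⟩)]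

/-- part 11 -/
def schk4_11 : List (ℕ × Par) :=
  [(268,⟨.e,.n,⟨.e,.e,.e,.n,.e,.e⟩⟩),
   (270,⟨.n,.e,⟨.o,.e,.o,.o,.e,.o⟩⟩),
   (271,⟨.e,.e,⟨.o,.n,.o,.o,.o,.o⟩⟩),
   (269,⟨.e,.e,⟨.o,.n,.o,.o,.o,.o⟩⟩),
   (272,⟨.n,.n,⟨.n,.n,.o,.n,.n,.n⟩⟩),
   (274,⟨.e,.e,⟨.o,.o,.o,.o,.o,.o⟩⟩),
   (275,⟨.n,.e,⟨.e,.e,.o,.o,.o,.o⟩⟩),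
   (273,⟨.n,.e,⟨.n,.n,.n,.e,.e,.n⟩⟩),
   (276,⟨.e,.n,⟨.o,.e,.n,.o,.o,.o⟩⟩),
   (278,⟨.e,.e,⟨.o,.n,.o,.o,.o,.o⟩⟩),
   (279,⟨.e,.e,⟨.o,.o,.o,.o,.o,.o⟩⟩),
   (277,⟨.e,.e,⟨.o,.o,.o,.o,.o,.o⟩⟩),
   (284,⟨.e,.e,⟨.o,.o,.o,.o,.o,.o⟩⟩),
   (286,⟨.n,.n,⟨.n,.e,.o,.o,.o,.o⟩⟩),
   (287,⟨.n,.e,⟨.e,.n,.o,.o,.o,.o⟩⟩),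
   (285,⟨.e,.e,⟨.o,.o,.o,.o,.o,.o⟩⟩),
   (288,⟨.n,.e,⟨.e,.n,.n,.n,.n,.n⟩⟩),
   (290,⟨.e,.e,⟨.o,.o,.o,.o,.o,.o⟩⟩),
   (291,⟨.e,.e,⟨.o,.o,.o,.o,.o,.o⟩⟩),
   (289,⟨.e,.e,⟨.o,.o,.o,.o,.o,.o⟩⟩),
   (280,⟨.e,.e,⟨.n,.n,.o,.e,.e,.n⟩⟩),
   (282,⟨.n,.e,⟨.n,.e,.o,.o,.e,.o⟩⟩),
   (283,⟨.e,.e,⟨.o,.n,.e,.n,.n,.n⟩⟩),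
   (281,⟨.e,.n,⟨.n,.o,.n,.n,.e,.n⟩⟩),
   (472,⟨.e,.e,⟨.o,.o,.o,.o,.o,.o⟩⟩),
   (475,⟨.e,.e,⟨.o,.o,.o,.o,.o,.o⟩⟩),
   (473,⟨.e,.e,⟨.o,.o,.o,.o,.o,.o⟩⟩),
   (474,⟨.e,.e,⟨.o,.o,.o,.o,.o,.o⟩⟩),
   (476,⟨.e,.e,⟨.o,.o,.o,.o,.o,.o⟩⟩),
   (479,⟨.e,.e,⟨.o,.o,.o,.o,.o,.o⟩⟩),
   (477,⟨.n,.e,⟨.o,.o,.o,.o,.n,.o⟩⟩),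
   (478,⟨.n,.n,⟨.e,.o,.o,.o,.o,.o⟩⟩)]

/-- part 12 -/
def schk4_12 : List (ℕ × Par) :=
  [(480,⟨.e,.e,⟨.o,.e,.e,.n,.o,.o⟩⟩),
   (483,⟨.n,.e,⟨.n,.o,.o,.o,.o,.o⟩⟩),
   (481,⟨.e,.e,⟨.o,.o,.o,.o,.o,.o⟩⟩),
   (482,⟨.e,.n,⟨.o,.o,.o,.o,.o,.o⟩⟩),
   (456,⟨.e,.e,⟨.o,.o,.o,.o,.o,.o⟩⟩),
   (459,⟨.n,.e,⟨.n,.n,.e,.n,.n,.n⟩⟩),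
   (457,⟨.e,.e,⟨.o,.o,.o,.o,.o,.o⟩⟩),
   (458,⟨.e,.e,⟨.o,.o,.o,.o,.o,.o⟩⟩),
   (448,⟨.e,.e,⟨.e,.n,.n,.n,.n,.n⟩⟩),
   (451,⟨.n,.e,⟨.e,.o,.o,.o,.e,.o⟩⟩),
   (449,⟨.n,.n,⟨.n,.e,.e,.e,.e,.o⟩⟩),
   (450,⟨.e,.n,⟨.e,.e,.n,.n,.o,.n⟩⟩),
   (452,⟨.e,.e,⟨.e,.e,.e,.n,.o,.o⟩⟩),
   (455,⟨.e,.e,⟨.o,.o,.o,.o,.o,.o⟩⟩),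
   (453,⟨.e,.e,⟨.o,.o,.o,.o,.o,.o⟩⟩),
   (454,⟨.n,.e,⟨.n,.o,.o,.o,.n,.o⟩⟩),
   (464,⟨.e,.e,⟨.o,.o,.o,.o,.o,.o⟩⟩),
   (467,⟨.n,.n,⟨.n,.o,.n,.n,.e,.n⟩⟩),
   (465,⟨.e,.e,⟨.e,.e,.n,.n,.e,.e⟩⟩),
   (466,⟨.e,.e,⟨.o,.o,.o,.o,.o,.o⟩⟩),
   (468,⟨.e,.e,⟨.o,.o,.o,.o,.o,.o⟩⟩),
   (471,⟨.e,.e,⟨.o,.o,.o,.o,.o,.o⟩⟩),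
   (469,⟨.n,.e,⟨.o,.o,.o,.o,.n,.o⟩⟩),
   (470,⟨.e,.e,⟨.o,.o,.o,.o,.o,.o⟩⟩),
   (460,⟨.e,.e,⟨.o,.o,.o,.o,.o,.o⟩⟩),
   (463,⟨.e,.e,⟨.o,.o,.o,.o,.o,.o⟩⟩),
   (461,⟨.e,.n,⟨.n,.o,.o,.o,.e,.e⟩⟩),
   (462,⟨.e,.e,⟨.o,.o,.o,.o,.o,.o⟩⟩),
   (396,⟨.e,.e,⟨.e,.n,.n,.n,.n,.n⟩⟩),
   (399,⟨.e,.e,⟨.o,.o,.o,.o,.o,.o⟩⟩),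
   (397,⟨.n,.e,⟨.n,.e,.e,.e,.n,.e⟩⟩),
   (398,⟨.n,.n,⟨.n,.e,.o,.o,.o,.o⟩⟩)]

/-- part 13 -/
def schk4_13 : List (ℕ × Par) :=
  [(388,⟨.e,.e,⟨.o,.o,.o,.o,.o,.o⟩⟩),
   (391,⟨.e,.e,⟨.o,.o,.o,.o,.o,.o⟩⟩),
   (389,⟨.e,.e,⟨.n,.o,.o,.o,.o,.o⟩⟩),
   (390,⟨.n,.e,⟨.o,.o,.o,.o,.o,.o⟩⟩),
   (392,⟨.n,.e,⟨.e,.o,.n,.o,.o,.o⟩⟩),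
   (395,⟨.e,.n,⟨.e,.n,.o,.o,.n,.o⟩⟩),
   (393,⟨.n,.n,⟨.o,.n,.o,.o,.n,.o⟩⟩),
   (394,⟨.n,.n,⟨.n,.e,.o,.o,.e,.o⟩⟩),
   (404,⟨.e,.e,⟨.o,.o,.o,.o,.o,.o⟩⟩),
   (407,⟨.e,.e,⟨.o,.o,.o,.o,.o,.o⟩⟩),
   (405,⟨.e,.e,⟨.o,.o,.o,.o,.o,.o⟩⟩),
   (406,⟨.e,.e,⟨.o,.o,.o,.o,.o,.o⟩⟩),
   (408,⟨.e,.e,⟨.o,.o,.o,.o,.o,.o⟩⟩),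
   (411,⟨.e,.e,⟨.o,.o,.o,.o,.o,.o⟩⟩),
   (409,⟨.e,.e,⟨.o,.o,.o,.o,.o,.o⟩⟩),
   (410,⟨.e,.n,⟨.o,.e,.n,.n,.e,.e⟩⟩),
   (400,⟨.n,.e,⟨.o,.o,.e,.o,.o,.o⟩⟩),
   (403,⟨.e,.e,⟨.n,.e,.o,.o,.o,.o⟩⟩),
   (401,⟨.n,.n,⟨.n,.o,.e,.n,.n,.e⟩⟩),
   (402,⟨.e,.n,⟨.o,.o,.o,.o,.o,.o⟩⟩),
   (376,⟨.e,.e,⟨.o,.o,.o,.o,.o,.o⟩⟩),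
   (379,⟨.e,.e,⟨.o,.n,.o,.o,.o,.o⟩⟩),
   (377,⟨.n,.e,⟨.e,.e,.o,.o,.o,.o⟩⟩),
   (378,⟨.e,.n,⟨.e,.o,.o,.o,.n,.e⟩⟩),
   (380,⟨.e,.e,⟨.n,.e,.n,.e,.o,.o⟩⟩),
   (383,⟨.n,.e,⟨.e,.e,.o,.o,.o,.o⟩⟩),
   (381,⟨.e,.e,⟨.o,.o,.o,.o,.o,.o⟩⟩),
   (382,⟨.n,.e,⟨.o,.o,.o,.o,.n,.o⟩⟩),
   (384,⟨.e,.e,⟨.o,.n,.n,.o,.o,.o⟩⟩),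
   (387,⟨.e,.e,⟨.o,.o,.o,.o,.e,.o⟩⟩),
   (385,⟨.e,.e,⟨.o,.o,.o,.o,.o,.o⟩⟩),
   (386,⟨.e,.e,⟨.o,.o,.o,.o,.o,.o⟩⟩)]

/-- part 14 -/
def schk4_14 : List (ℕ × Par) :=
  [(420,⟨.n,.e,⟨.e,.n,.o,.o,.o,.o⟩⟩),
   (423,⟨.e,.e,⟨.o,.o,.o,.o,.o,.o⟩⟩),
   (421,⟨.e,.e,⟨.o,.o,.o,.o,.o,.o⟩⟩),
   (422,⟨.e,.n,⟨.e,.n,.e,.n,.e,.o⟩⟩),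
   (412,⟨.e,.e,⟨.e,.o,.e,.o,.o,.o⟩⟩),
   (415,⟨.n,.n,⟨.n,.e,.e,.e,.n,.e⟩⟩),
   (413,⟨.n,.e,⟨.e,.o,.o,.o,.n,.e⟩⟩),
   (414,⟨.n,.e,⟨.e,.e,.o,.o,.o,.o⟩⟩),
   (416,⟨.e,.e,⟨.o,.o,.o,.o,.o,.o⟩⟩),
   (419,⟨.n,.e,⟨.o,.o,.o,.o,.o,.o⟩⟩),
   (417,⟨.e,.e,⟨.o,.o,.o,.o,.o,.o⟩⟩),
   (418,⟨.n,.e,⟨.n,.n,.n,.e,.e,.n⟩⟩),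
   (428,⟨.e,.e,⟨.o,.o,.o,.o,.o,.o⟩⟩),
   (431,⟨.e,.e,⟨.e,.n,.o,.o,.n,.o⟩⟩),
   (429,⟨.e,.e,⟨.o,.o,.o,.o,.o,.o⟩⟩),
   (430,⟨.e,.e,⟨.o,.o,.o,.o,.o,.o⟩⟩),
   (432,⟨.n,.e,⟨.o,.o,.e,.o,.o,.o⟩⟩),
   (435,⟨.e,.n,⟨.e,.n,.o,.o,.o,.o⟩⟩),
   (433,⟨.e,.e,⟨.e,.n,.e,.n,.n,.n⟩⟩),
   (434,⟨.e,.e,⟨.o,.o,.o,.o,.o,.o⟩⟩),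
   (424,⟨.e,.e,⟨.o,.o,.o,.o,.o,.o⟩⟩),
   (427,⟨.n,.e,⟨.o,.o,.o,.o,.n,.o⟩⟩),
   (425,⟨.e,.e,⟨.o,.o,.o,.o,.o,.o⟩⟩),
   (426,⟨.e,.e,⟨.o,.o,.o,.o,.o,.o⟩⟩),
   (436,⟨.e,.e,⟨.o,.o,.o,.o,.o,.o⟩⟩),
   (439,⟨.e,.n,⟨.e,.o,.o,.o,.n,.o⟩⟩),
   (437,⟨.e,.e,⟨.o,.e,.o,.o,.o,.o⟩⟩),
   (438,⟨.n,.e,⟨.n,.e,.e,.e,.n,.e⟩⟩),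
   (440,⟨.e,.e,⟨.e,.n,.n,.n,.n,.n⟩⟩),
   (443,⟨.e,.e,⟨.o,.o,.o,.o,.o,.o⟩⟩),
   (441,⟨.e,.n,⟨.o,.e,.o,.o,.o,.o⟩⟩),
   (442,⟨.e,.e,⟨.o,.o,.o,.o,.o,.o⟩⟩)]

/-- part 15 -/
def schk4_15 : List (ℕ × Par) :=
  [(444,⟨.e,.e,⟨.o,.o,.o,.o,.o,.o⟩⟩),
   (447,⟨.e,.e,⟨.o,.o,.o,.o,.o,.o⟩⟩),
   (445,⟨.e,.n,⟨.o,.o,.o,.o,.n,.o⟩⟩),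
   (446,⟨.n,.e,⟨.e,.o,.o,.o,.o,.o⟩⟩),
   (808,⟨.n,.e,⟨.e,.o,.o,.o,.o,.o⟩⟩),
   (809,⟨.e,.e,⟨.o,.o,.o,.o,.o,.o⟩⟩),
   (810,⟨.e,.e,⟨.o,.o,.o,.o,.o,.o⟩⟩),
   (811,⟨.n,.e,⟨.e,.o,.o,.o,.o,.o⟩⟩),
   (812,⟨.e,.e,⟨.o,.o,.o,.o,.o,.o⟩⟩),
   (813,⟨.e,.e,⟨.e,.e,.e,.o,.n,.n⟩⟩),
   (814,⟨.n,.e,⟨.n,.o,.o,.o,.o,.o⟩⟩),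
   (815,⟨.e,.n,⟨.o,.e,.o,.o,.o,.o⟩⟩),
   (816,⟨.e,.e,⟨.o,.o,.o,.o,.o,.o⟩⟩),
   (817,⟨.e,.n,⟨.n,.e,.o,.o,.o,.o⟩⟩),
   (818,⟨.e,.e,⟨.o,.n,.o,.o,.o,.o⟩⟩),
   (819,⟨.e,.e,⟨.e,.n,.n,.e,.e,.n⟩⟩),
   (820,⟨.n,.n,⟨.e,.o,.n,.o,.o,.o⟩⟩),
   (821,⟨.e,.e,⟨.o,.o,.o,.o,.o,.o⟩⟩),
   (822,⟨.e,.e,⟨.o,.o,.o,.o,.o,.o⟩⟩),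
   (823,⟨.n,.n,⟨.e,.e,.e,.o,.n,.n⟩⟩),
   (824,⟨.e,.e,⟨.o,.o,.o,.o,.o,.o⟩⟩),
   (825,⟨.e,.n,⟨.o,.n,.o,.o,.o,.o⟩⟩),
   (826,⟨.e,.e,⟨.o,.o,.o,.o,.o,.o⟩⟩),
   (827,⟨.e,.e,⟨.o,.o,.o,.o,.o,.o⟩⟩),
   (828,⟨.n,.e,⟨.o,.n,.o,.o,.o,.o⟩⟩),
   (829,⟨.e,.n,⟨.o,.n,.o,.o,.o,.o⟩⟩),
   (830,⟨.n,.n,⟨.n,.n,.o,.n,.o,.n⟩⟩),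
   (831,⟨.e,.e,⟨.o,.o,.o,.o,.o,.o⟩⟩),
   (832,⟨.e,.n,⟨.e,.n,.n,.n,.n,.n⟩⟩),
   (833,⟨.e,.n,⟨.o,.e,.o,.o,.o,.o⟩⟩),
   (834,⟨.n,.n,⟨.e,.n,.o,.o,.o,.o⟩⟩),
   (835,⟨.e,.e,⟨.o,.o,.o,.o,.o,.o⟩⟩)]

/-- part 16 -/
def schk4_16 : List (ℕ × Par) :=
  [(836,⟨.e,.e,⟨.e,.e,.o,.o,.o,.o⟩⟩),
   (837,⟨.n,.n,⟨.o,.n,.o,.o,.o,.o⟩⟩),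
   (838,⟨.e,.e,⟨.n,.e,.n,.e,.e,.o⟩⟩),
   (839,⟨.e,.e,⟨.o,.o,.o,.o,.o,.o⟩⟩),
   (840,⟨.e,.e,⟨.o,.o,.n,.o,.o,.o⟩⟩),
   (841,⟨.e,.e,⟨.o,.o,.o,.o,.o,.o⟩⟩),
   (842,⟨.e,.e,⟨.o,.o,.o,.o,.o,.o⟩⟩),
   (843,⟨.n,.e,⟨.e,.o,.e,.e,.n,.n⟩⟩),
   (868,⟨.e,.e,⟨.o,.o,.o,.o,.o,.o⟩⟩),
   (869,⟨.e,.n,⟨.e,.e,.e,.e,.n,.e⟩⟩),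
   (870,⟨.e,.e,⟨.o,.o,.o,.o,.o,.o⟩⟩),
   (871,⟨.e,.e,⟨.o,.o,.o,.o,.o,.o⟩⟩),
   (872,⟨.e,.e,⟨.o,.o,.o,.o,.o,.o⟩⟩),
   (873,⟨.e,.e,⟨.o,.o,.o,.o,.o,.o⟩⟩),
   (874,⟨.e,.e,⟨.o,.o,.o,.o,.o,.o⟩⟩),
   (875,⟨.e,.e,⟨.o,.o,.o,.o,.o,.o⟩⟩),
   (876,⟨.n,.n,⟨.o,.n,.n,.e,.e,.n⟩⟩),
   (877,⟨.e,.e,⟨.o,.o,.o,.o,.o,.o⟩⟩),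
   (878,⟨.n,.n,⟨.o,.e,.o,.o,.o,.o⟩⟩),
   (879,⟨.e,.e,⟨.o,.o,.o,.o,.o,.o⟩⟩),
   (844,⟨.e,.e,⟨.o,.o,.o,.o,.o,.o⟩⟩),
   (845,⟨.e,.n,⟨.e,.e,.e,.e,.n,.e⟩⟩),
   (846,⟨.e,.e,⟨.o,.o,.o,.o,.o,.o⟩⟩),
   (847,⟨.e,.n,⟨.n,.e,.e,.e,.n,.e⟩⟩),
   (848,⟨.e,.e,⟨.o,.o,.o,.o,.o,.o⟩⟩),
   (849,⟨.e,.e,⟨.o,.o,.o,.o,.o,.o⟩⟩),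
   (850,⟨.e,.n,⟨.n,.n,.n,.e,.n,.o⟩⟩),
   (851,⟨.e,.e,⟨.o,.o,.o,.o,.o,.o⟩⟩),
   (852,⟨.e,.e,⟨.o,.o,.o,.o,.o,.o⟩⟩),
   (853,⟨.e,.e,⟨.o,.o,.o,.o,.o,.o⟩⟩),
   (854,⟨.e,.e,⟨.o,.o,.o,.o,.o,.o⟩⟩),
   (855,⟨.n,.n,⟨.o,.e,.o,.e,.o,.e⟩⟩)]

/-- part 17 -/
def schk4_17 : List (ℕ × Par) :=
  [(856,⟨.e,.e,⟨.o,.o,.o,.o,.o,.o⟩⟩),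
   (857,⟨.n,.n,⟨.e,.e,.e,.e,.n,.e⟩⟩),
   (858,⟨.e,.e,⟨.o,.o,.o,.o,.o,.o⟩⟩),
   (859,⟨.e,.e,⟨.o,.o,.o,.o,.o,.o⟩⟩),
   (860,⟨.e,.e,⟨.o,.o,.o,.o,.o,.o⟩⟩),
   (861,⟨.e,.e,⟨.o,.o,.o,.o,.o,.o⟩⟩),
   (862,⟨.e,.e,⟨.o,.o,.o,.o,.o,.o⟩⟩),
   (863,⟨.e,.e,⟨.n,.o,.o,.o,.o,.o⟩⟩),
   (864,⟨.e,.e,⟨.o,.o,.o,.o,.o,.o⟩⟩),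
   (865,⟨.n,.e,⟨.o,.o,.o,.o,.o,.o⟩⟩),
   (866,⟨.e,.e,⟨.o,.o,.o,.o,.o,.o⟩⟩),
   (867,⟨.n,.n,⟨.o,.e,.o,.o,.o,.o⟩⟩),
   (892,⟨.n,.e,⟨.n,.n,.e,.n,.n,.n⟩⟩),
   (893,⟨.e,.n,⟨.n,.n,.n,.e,.n,.o⟩⟩),
   (894,⟨.n,.e,⟨.o,.o,.o,.o,.o,.o⟩⟩),
   (895,⟨.n,.e,⟨.n,.n,.e,.n,.n,.n⟩⟩),
   (896,⟨.e,.n,⟨.e,.o,.n,.o,.o,.o⟩⟩),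
   (897,⟨.e,.n,⟨.o,.o,.o,.o,.o,.o⟩⟩),
   (898,⟨.e,.n,⟨.o,.o,.o,.o,.o,.o⟩⟩),
   (899,⟨.e,.e,⟨.o,.o,.o,.o,.o,.o⟩⟩),
   (900,⟨.e,.e,⟨.o,.e,.n,.n,.e,.e⟩⟩),
   (901,⟨.n,.n,⟨.e,.e,.e,.n,.n,.o⟩⟩),
   (902,⟨.e,.e,⟨.o,.o,.n,.o,.o,.o⟩⟩),
   (903,⟨.e,.e,⟨.n,.o,.n,.o,.o,.o⟩⟩),
   (904,⟨.e,.e,⟨.o,.o,.o,.o,.o,.o⟩⟩),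
   (905,⟨.e,.e,⟨.o,.o,.o,.o,.o,.o⟩⟩),
   (906,⟨.n,.n,⟨.n,.e,.o,.e,.n,.e⟩⟩),
   (907,⟨.e,.n,⟨.o,.o,.e,.n,.n,.n⟩⟩),
   (908,⟨.e,.e,⟨.o,.o,.o,.o,.o,.o⟩⟩),
   (909,⟨.n,.n,⟨.n,.e,.n,.n,.e,.e⟩⟩),
   (910,⟨.n,.e,⟨.e,.e,.n,.n,.e,.e⟩⟩),
   (911,⟨.e,.n,⟨.o,.o,.o,.o,.o,.o⟩⟩)]

/-- part 18 -/
def schk4_18 : List (ℕ × Par) :=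
  [(912,⟨.e,.e,⟨.n,.o,.n,.o,.o,.o⟩⟩),
   (913,⟨.n,.e,⟨.e,.o,.o,.o,.o,.o⟩⟩),
   (914,⟨.n,.e,⟨.e,.e,.e,.e,.n,.e⟩⟩),
   (915,⟨.n,.e,⟨.o,.n,.e,.n,.n,.n⟩⟩),
   (880,⟨.e,.e,⟨.o,.o,.o,.o,.o,.o⟩⟩),
   (881,⟨.e,.n,⟨.e,.n,.n,.e,.e,.n⟩⟩),
   (882,⟨.e,.e,⟨.e,.n,.e,.n,.n,.n⟩⟩),
   (883,⟨.e,.e,⟨.o,.o,.o,.o,.o,.o⟩⟩),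
   (884,⟨.e,.n,⟨.e,.o,.o,.o,.o,.o⟩⟩),
   (885,⟨.n,.n,⟨.e,.e,.e,.e,.n,.e⟩⟩),
   (886,⟨.e,.n,⟨.e,.n,.n,.e,.e,.n⟩⟩),
   (887,⟨.e,.e,⟨.o,.o,.o,.o,.o,.o⟩⟩),
   (888,⟨.e,.e,⟨.n,.o,.o,.o,.o,.o⟩⟩),
   (889,⟨.e,.n,⟨.n,.n,.o,.o,.n,.n⟩⟩),
   (890,⟨.n,.e,⟨.o,.n,.e,.n,.n,.n⟩⟩),
   (891,⟨.e,.e,⟨.o,.n,.e,.n,.n,.n⟩⟩),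
   (964,⟨.e,.e,⟨.o,.o,.o,.o,.o,.o⟩⟩),
   (965,⟨.e,.e,⟨.o,.o,.o,.o,.o,.o⟩⟩),
   (966,⟨.e,.e,⟨.o,.o,.o,.o,.o,.o⟩⟩),
   (967,⟨.e,.e,⟨.o,.o,.o,.o,.o,.o⟩⟩),
   (968,⟨.e,.e,⟨.o,.o,.o,.o,.o,.o⟩⟩),
   (969,⟨.n,.e,⟨.o,.n,.o,.o,.e,.o⟩⟩),
   (970,⟨.e,.e,⟨.o,.n,.n,.n,.n,.n⟩⟩),
   (971,⟨.n,.n,⟨.o,.e,.o,.o,.o,.o⟩⟩),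
   (972,⟨.e,.e,⟨.o,.o,.e,.n,.o,.o⟩⟩),
   (973,⟨.e,.e,⟨.o,.n,.e,.e,.n,.n⟩⟩),
   (974,⟨.e,.n,⟨.o,.e,.o,.o,.o,.o⟩⟩),
   (975,⟨.n,.n,⟨.e,.n,.o,.o,.o,.o⟩⟩),
   (976,⟨.n,.n,⟨.e,.o,.n,.o,.o,.o⟩⟩),
   (977,⟨.e,.e,⟨.o,.o,.o,.o,.o,.o⟩⟩),
   (978,⟨.e,.e,⟨.o,.o,.o,.o,.o,.o⟩⟩),
   (979,⟨.e,.e,⟨.o,.o,.o,.o,.o,.o⟩⟩)]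

/-- part 19 -/
def schk4_19 : List (ℕ × Par) :=
  [(980,⟨.e,.n,⟨.n,.e,.o,.e,.n,.e⟩⟩),
   (981,⟨.e,.e,⟨.o,.o,.o,.o,.o,.o⟩⟩),
   (982,⟨.e,.e,⟨.o,.o,.o,.o,.o,.o⟩⟩),
   (983,⟨.n,.e,⟨.e,.o,.o,.o,.o,.o⟩⟩),
   (984,⟨.e,.e,⟨.o,.o,.o,.o,.o,.o⟩⟩),
   (985,⟨.e,.e,⟨.o,.o,.o,.o,.o,.o⟩⟩),
   (986,⟨.e,.e,⟨.o,.o,.o,.o,.o,.o⟩⟩),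
   (987,⟨.n,.e,⟨.n,.o,.o,.o,.o,.o⟩⟩),
   (952,⟨.n,.n,⟨.o,.e,.e,.o,.o,.o⟩⟩),
   (953,⟨.e,.e,⟨.e,.n,.o,.e,.o,.n⟩⟩),
   (954,⟨.e,.e,⟨.o,.o,.o,.o,.o,.o⟩⟩),
   (955,⟨.e,.e,⟨.o,.o,.o,.o,.o,.o⟩⟩),
   (956,⟨.e,.n,⟨.e,.n,.o,.o,.o,.o⟩⟩),
   (957,⟨.e,.e,⟨.n,.n,.e,.n,.n,.n⟩⟩),
   (958,⟨.n,.e,⟨.o,.o,.o,.o,.o,.o⟩⟩),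
   (959,⟨.e,.n,⟨.n,.n,.o,.o,.n,.n⟩⟩),
   (960,⟨.n,.n,⟨.e,.o,.e,.o,.o,.o⟩⟩),
   (961,⟨.e,.n,⟨.o,.e,.o,.o,.o,.o⟩⟩),
   (962,⟨.n,.e,⟨.o,.n,.n,.e,.e,.n⟩⟩),
   (963,⟨.n,.e,⟨.o,.e,.n,.n,.e,.e⟩⟩),
   (988,⟨.e,.e,⟨.o,.o,.o,.o,.o,.o⟩⟩),
   (989,⟨.e,.e,⟨.o,.o,.o,.o,.o,.o⟩⟩),
   (990,⟨.e,.e,⟨.o,.o,.o,.o,.o,.o⟩⟩),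
   (991,⟨.e,.e,⟨.o,.o,.o,.o,.o,.o⟩⟩),
   (992,⟨.e,.e,⟨.o,.o,.e,.o,.o,.o⟩⟩),
   (993,⟨.e,.n,⟨.e,.n,.e,.n,.e,.o⟩⟩),
   (994,⟨.e,.e,⟨.e,.o,.e,.e,.n,.n⟩⟩),
   (995,⟨.e,.n,⟨.n,.o,.e,.e,.n,.o⟩⟩),
   (996,⟨.e,.e,⟨.o,.o,.o,.o,.o,.o⟩⟩),
   (997,⟨.e,.e,⟨.o,.e,.n,.n,.e,.e⟩⟩),
   (998,⟨.n,.e,⟨.e,.n,.n,.o,.n,.n⟩⟩),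
   (999,⟨.n,.e,⟨.n,.o,.o,.o,.o,.o⟩⟩)]

/-- part 20 -/
def schk4_20 : List (ℕ × Par) :=
  [(1000,⟨.e,.e,⟨.o,.o,.o,.o,.o,.o⟩⟩),
   (1001,⟨.e,.e,⟨.o,.o,.o,.o,.o,.o⟩⟩),
   (1002,⟨.e,.e,⟨.o,.n,.o,.o,.o,.o⟩⟩),
   (1003,⟨.e,.e,⟨.o,.o,.o,.o,.o,.o⟩⟩),
   (1004,⟨.e,.e,⟨.o,.o,.o,.o,.o,.o⟩⟩),
   (1005,⟨.e,.e,⟨.o,.o,.o,.o,.o,.o⟩⟩),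
   (1006,⟨.e,.e,⟨.o,.o,.o,.o,.o,.o⟩⟩),
   (1007,⟨.e,.e,⟨.o,.o,.o,.o,.o,.o⟩⟩),
   (1008,⟨.e,.e,⟨.o,.o,.o,.o,.o,.o⟩⟩),
   (1009,⟨.e,.e,⟨.o,.o,.o,.o,.o,.o⟩⟩),
   (1010,⟨.e,.e,⟨.o,.o,.o,.o,.o,.o⟩⟩),
   (1011,⟨.e,.n,⟨.o,.o,.o,.o,.o,.o⟩⟩),
   (1012,⟨.e,.e,⟨.n,.n,.n,.e,.e,.n⟩⟩),
   (1013,⟨.n,.n,⟨.o,.o,.o,.o,.o,.o⟩⟩),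
   (1014,⟨.e,.e,⟨.o,.o,.o,.o,.o,.o⟩⟩),
   (1015,⟨.e,.e,⟨.o,.o,.o,.o,.o,.o⟩⟩),
   (1016,⟨.e,.e,⟨.o,.o,.o,.o,.o,.o⟩⟩),
   (1017,⟨.n,.n,⟨.e,.n,.o,.o,.o,.o⟩⟩),
   (1018,⟨.n,.n,⟨.n,.e,.e,.n,.o,.o⟩⟩),
   (1019,⟨.e,.n,⟨.n,.n,.o,.o,.o,.o⟩⟩),
   (1020,⟨.n,.e,⟨.n,.o,.e,.o,.o,.o⟩⟩),
   (1021,⟨.e,.e,⟨.o,.e,.o,.o,.o,.o⟩⟩),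
   (1022,⟨.n,.e,⟨.o,.o,.o,.o,.o,.o⟩⟩),
   (1023,⟨.n,.e,⟨.e,.o,.n,.e,.e,.e⟩⟩),
   (940,⟨.e,.n,⟨.e,.n,.n,.e,.e,.n⟩⟩),
   (941,⟨.e,.e,⟨.o,.o,.o,.o,.o,.o⟩⟩),
   (942,⟨.e,.e,⟨.n,.n,.o,.e,.e,.n⟩⟩),
   (943,⟨.n,.n,⟨.e,.o,.e,.o,.o,.o⟩⟩),
   (944,⟨.n,.n,⟨.e,.n,.e,.n,.n,.n⟩⟩),
   (945,⟨.n,.n,⟨.n,.e,.e,.e,.e,.o⟩⟩),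
   (946,⟨.e,.e,⟨.o,.o,.o,.o,.o,.o⟩⟩),
   (947,⟨.e,.e,⟨.n,.e,.e,.e,.n,.e⟩⟩)]

/-- part 21 -/
def schk4_21 : List (ℕ × Par) :=
  [(948,⟨.e,.n,⟨.e,.n,.n,.n,.n,.n⟩⟩),
   (949,⟨.e,.e,⟨.o,.o,.o,.o,.o,.o⟩⟩),
   (950,⟨.e,.e,⟨.o,.o,.o,.o,.o,.o⟩⟩),
   (951,⟨.n,.e,⟨.e,.o,.o,.o,.o,.o⟩⟩),
   (916,⟨.n,.e,⟨.o,.o,.e,.o,.o,.o⟩⟩),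
   (917,⟨.e,.e,⟨.o,.o,.o,.o,.o,.o⟩⟩),
   (918,⟨.e,.e,⟨.o,.o,.o,.o,.o,.o⟩⟩),
   (919,⟨.e,.e,⟨.o,.o,.o,.o,.o,.o⟩⟩),
   (920,⟨.e,.e,⟨.o,.o,.o,.o,.o,.o⟩⟩),
   (921,⟨.e,.e,⟨.o,.o,.o,.o,.o,.o⟩⟩),
   (922,⟨.e,.e,⟨.o,.o,.o,.o,.o,.o⟩⟩),
   (923,⟨.e,.e,⟨.o,.o,.o,.o,.o,.o⟩⟩),
   (924,⟨.e,.e,⟨.o,.o,.o,.o,.o,.o⟩⟩),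
   (925,⟨.e,.e,⟨.o,.o,.o,.o,.o,.o⟩⟩),
   (926,⟨.e,.e,⟨.o,.o,.o,.o,.o,.o⟩⟩),
   (927,⟨.e,.e,⟨.o,.o,.o,.o,.o,.o⟩⟩),
   (928,⟨.e,.e,⟨.o,.e,.o,.o,.o,.o⟩⟩),
   (929,⟨.e,.e,⟨.e,.n,.e,.n,.n,.n⟩⟩),
   (930,⟨.n,.n,⟨.e,.o,.o,.o,.o,.o⟩⟩),
   (931,⟨.n,.e,⟨.e,.n,.o,.o,.o,.o⟩⟩),
   (932,⟨.n,.n,⟨.e,.n,.e,.e,.o,.o⟩⟩),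
   (933,⟨.n,.n,⟨.e,.o,.o,.o,.o,.o⟩⟩),
   (934,⟨.e,.e,⟨.o,.o,.o,.o,.o,.o⟩⟩),
   (935,⟨.e,.e,⟨.o,.o,.o,.o,.o,.o⟩⟩),
   (936,⟨.n,.n,⟨.o,.n,.o,.o,.o,.o⟩⟩),
   (937,⟨.e,.e,⟨.o,.o,.o,.o,.o,.o⟩⟩),
   (938,⟨.e,.n,⟨.n,.o,.n,.n,.e,.n⟩⟩),
   (939,⟨.e,.e,⟨.e,.n,.e,.n,.n,.n⟩⟩),
   (1120,⟨.e,.e,⟨.o,.o,.o,.o,.o,.o⟩⟩),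
   (1121,⟨.e,.e,⟨.o,.o,.o,.o,.o,.o⟩⟩),
   (1122,⟨.e,.e,⟨.o,.o,.o,.o,.o,.o⟩⟩),
   (1123,⟨.e,.e,⟨.o,.o,.o,.o,.o,.o⟩⟩)]

/-- part 22 -/
def schk4_22 : List (ℕ × Par) :=
  [(1124,⟨.e,.e,⟨.o,.o,.o,.o,.o,.o⟩⟩),
   (1125,⟨.e,.e,⟨.e,.o,.n,.e,.e,.e⟩⟩),
   (1126,⟨.n,.n,⟨.n,.e,.n,.o,.e,.n⟩⟩),
   (1127,⟨.n,.e,⟨.e,.o,.n,.e,.n,.o⟩⟩),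
   (1128,⟨.e,.e,⟨.o,.o,.o,.o,.o,.o⟩⟩),
   (1129,⟨.e,.e,⟨.o,.o,.o,.o,.o,.o⟩⟩),
   (1130,⟨.n,.e,⟨.n,.n,.o,.o,.o,.o⟩⟩),
   (1131,⟨.n,.e,⟨.n,.n,.e,.e,.o,.o⟩⟩),
   (1096,⟨.e,.e,⟨.o,.o,.o,.o,.o,.o⟩⟩),
   (1097,⟨.e,.n,⟨.n,.o,.e,.n,.n,.e⟩⟩),
   (1098,⟨.e,.e,⟨.o,.o,.o,.o,.o,.o⟩⟩),
   (1099,⟨.e,.e,⟨.o,.o,.o,.o,.o,.o⟩⟩),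
   (1100,⟨.n,.e,⟨.n,.o,.n,.o,.o,.o⟩⟩),
   (1101,⟨.e,.e,⟨.o,.o,.o,.o,.o,.o⟩⟩),
   (1102,⟨.e,.e,⟨.o,.o,.o,.o,.o,.o⟩⟩),
   (1103,⟨.e,.n,⟨.e,.o,.o,.o,.o,.o⟩⟩),
   (1104,⟨.n,.n,⟨.o,.e,.o,.o,.o,.o⟩⟩),
   (1105,⟨.n,.e,⟨.n,.o,.o,.o,.o,.o⟩⟩),
   (1106,⟨.e,.e,⟨.o,.o,.o,.o,.o,.o⟩⟩),
   (1107,⟨.n,.n,⟨.n,.e,.o,.o,.o,.o⟩⟩),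
   (1108,⟨.e,.n,⟨.e,.o,.o,.o,.o,.o⟩⟩),
   (1109,⟨.e,.n,⟨.o,.o,.o,.o,.o,.o⟩⟩),
   (1110,⟨.e,.e,⟨.o,.o,.o,.o,.o,.o⟩⟩),
   (1111,⟨.n,.e,⟨.e,.o,.o,.o,.o,.o⟩⟩),
   (1112,⟨.e,.e,⟨.o,.o,.o,.o,.o,.o⟩⟩),
   (1113,⟨.e,.e,⟨.o,.o,.o,.o,.o,.o⟩⟩),
   (1114,⟨.e,.e,⟨.o,.o,.o,.o,.o,.o⟩⟩),
   (1115,⟨.e,.n,⟨.o,.o,.o,.o,.o,.o⟩⟩),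
   (1116,⟨.e,.n,⟨.n,.o,.o,.o,.o,.o⟩⟩),
   (1117,⟨.e,.e,⟨.o,.o,.o,.o,.o,.o⟩⟩),
   (1118,⟨.n,.e,⟨.e,.o,.o,.o,.o,.o⟩⟩),
   (1119,⟨.n,.e,⟨.n,.o,.o,.o,.o,.o⟩⟩)]

/-- part 23 -/
def schk4_23 : List (ℕ × Par) :=
  [(1036,⟨.n,.n,⟨.o,.n,.e,.o,.e,.n⟩⟩),
   (1037,⟨.e,.n,⟨.e,.n,.n,.o,.e,.e⟩⟩),
   (1038,⟨.e,.e,⟨.e,.n,.o,.o,.o,.o⟩⟩),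
   (1039,⟨.n,.n,⟨.n,.o,.e,.n,.n,.e⟩⟩),
   (1040,⟨.n,.n,⟨.e,.e,.o,.o,.o,.o⟩⟩),
   (1041,⟨.e,.n,⟨.o,.e,.o,.o,.o,.o⟩⟩),
   (1042,⟨.e,.e,⟨.o,.o,.o,.o,.o,.o⟩⟩),
   (1043,⟨.n,.n,⟨.e,.n,.e,.n,.n,.n⟩⟩),
   (1044,⟨.n,.n,⟨.o,.o,.n,.o,.o,.n⟩⟩),
   (1045,⟨.e,.e,⟨.o,.o,.o,.o,.o,.o⟩⟩),
   (1046,⟨.e,.e,⟨.o,.o,.o,.o,.o,.o⟩⟩),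
   (1047,⟨.e,.e,⟨.o,.o,.o,.o,.o,.o⟩⟩),
   (1048,⟨.e,.e,⟨.o,.o,.o,.o,.o,.o⟩⟩),
   (1049,⟨.e,.e,⟨.o,.e,.n,.o,.e,.n⟩⟩),
   (1050,⟨.n,.e,⟨.n,.n,.o,.o,.o,.o⟩⟩),
   (1051,⟨.e,.n,⟨.e,.o,.o,.o,.o,.o⟩⟩),
   (1052,⟨.e,.n,⟨.o,.n,.o,.o,.o,.o⟩⟩),
   (1053,⟨.e,.n,⟨.e,.n,.n,.o,.e,.e⟩⟩),
   (1054,⟨.n,.n,⟨.e,.o,.o,.o,.o,.o⟩⟩),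
   (1055,⟨.e,.n,⟨.o,.o,.o,.o,.o,.o⟩⟩),
   (1056,⟨.e,.e,⟨.o,.o,.o,.o,.o,.o⟩⟩),
   (1057,⟨.e,.e,⟨.o,.o,.o,.o,.o,.o⟩⟩),
   (1058,⟨.n,.e,⟨.e,.n,.e,.n,.n,.n⟩⟩),
   (1059,⟨.e,.e,⟨.o,.o,.o,.o,.o,.o⟩⟩),
   (1024,⟨.e,.e,⟨.o,.o,.o,.o,.o,.o⟩⟩),
   (1025,⟨.e,.e,⟨.o,.e,.o,.o,.o,.o⟩⟩),
   (1026,⟨.n,.n,⟨.e,.o,.o,.o,.o,.o⟩⟩),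
   (1027,⟨.e,.e,⟨.o,.e,.o,.o,.o,.o⟩⟩),
   (1028,⟨.n,.e,⟨.n,.o,.e,.o,.o,.o⟩⟩),
   (1029,⟨.e,.n,⟨.o,.o,.o,.o,.o,.o⟩⟩),
   (1030,⟨.e,.e,⟨.o,.o,.o,.o,.o,.o⟩⟩),
   (1031,⟨.e,.e,⟨.o,.o,.o,.o,.o,.o⟩⟩)]

/-- part 24 -/
def schk4_24 : List (ℕ × Par) :=
  [(1032,⟨.e,.e,⟨.o,.o,.o,.o,.o,.o⟩⟩),
   (1033,⟨.e,.e,⟨.o,.o,.o,.o,.o,.o⟩⟩),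
   (1034,⟨.e,.e,⟨.o,.e,.o,.o,.o,.o⟩⟩),
   (1035,⟨.e,.e,⟨.o,.o,.o,.o,.o,.o⟩⟩),
   (1060,⟨.e,.e,⟨.n,.e,.e,.e,.n,.e⟩⟩),
   (1061,⟨.e,.e,⟨.o,.o,.o,.o,.o,.o⟩⟩),
   (1062,⟨.e,.e,⟨.o,.o,.o,.o,.o,.o⟩⟩),
   (1063,⟨.e,.e,⟨.o,.o,.o,.o,.o,.o⟩⟩),
   (1064,⟨.e,.n,⟨.e,.n,.o,.o,.o,.o⟩⟩),
   (1065,⟨.e,.e,⟨.o,.e,.o,.o,.e,.o⟩⟩),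
   (1066,⟨.e,.e,⟨.o,.e,.o,.o,.e,.o⟩⟩),
   (1067,⟨.e,.e,⟨.o,.o,.o,.o,.o,.o⟩⟩),
   (1068,⟨.n,.e,⟨.e,.o,.o,.o,.o,.o⟩⟩),
   (1069,⟨.e,.e,⟨.o,.o,.o,.o,.o,.o⟩⟩),
   (1070,⟨.n,.n,⟨.o,.o,.o,.o,.o,.o⟩⟩),
   (1071,⟨.n,.e,⟨.n,.o,.o,.o,.o,.o⟩⟩),
   (1072,⟨.e,.n,⟨.n,.n,.o,.e,.e,.n⟩⟩),
   (1073,⟨.n,.n,⟨.o,.n,.e,.n,.n,.n⟩⟩),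
   (1074,⟨.e,.n,⟨.o,.o,.o,.o,.o,.o⟩⟩),
   (1075,⟨.n,.n,⟨.n,.n,.e,.n,.n,.n⟩⟩),
   (1076,⟨.n,.e,⟨.o,.o,.e,.o,.o,.o⟩⟩),
   (1077,⟨.n,.n,⟨.o,.e,.o,.o,.o,.o⟩⟩),
   (1078,⟨.n,.n,⟨.e,.n,.e,.o,.n,.e⟩⟩),
   (1079,⟨.n,.e,⟨.n,.e,.o,.o,.o,.o⟩⟩),
   (1080,⟨.e,.e,⟨.o,.o,.o,.o,.o,.o⟩⟩),
   (1081,⟨.e,.n,⟨.e,.o,.e,.e,.n,.n⟩⟩),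
   (1082,⟨.e,.n,⟨.o,.o,.n,.n,.e,.e⟩⟩),
   (1083,⟨.e,.n,⟨.e,.n,.n,.e,.e,.n⟩⟩),
   (1084,⟨.n,.e,⟨.o,.e,.o,.o,.o,.o⟩⟩),
   (1085,⟨.e,.e,⟨.o,.o,.o,.o,.o,.o⟩⟩),
   (1086,⟨.e,.e,⟨.o,.o,.o,.o,.o,.o⟩⟩),
   (1087,⟨.e,.e,⟨.o,.o,.o,.o,.o,.o⟩⟩)]

/-- part 25 -/
def schk4_25 : List (ℕ × Par) :=
  [(1088,⟨.e,.e,⟨.o,.o,.o,.o,.o,.o⟩⟩),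
   (1089,⟨.e,.e,⟨.o,.o,.o,.o,.o,.o⟩⟩),
   (1090,⟨.e,.e,⟨.o,.o,.o,.o,.o,.o⟩⟩),
   (1091,⟨.e,.e,⟨.o,.o,.o,.o,.o,.o⟩⟩),
   (1092,⟨.e,.e,⟨.o,.o,.o,.o,.o,.o⟩⟩),
   (1093,⟨.e,.e,⟨.o,.o,.o,.o,.o,.o⟩⟩),
   (1094,⟨.e,.e,⟨.o,.o,.o,.o,.o,.o⟩⟩),
   (1095,⟨.e,.e,⟨.o,.o,.o,.o,.o,.o⟩⟩),
   (1132,⟨.n,.n,⟨.e,.e,.n,.n,.e,.e⟩⟩),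
   (1133,⟨.e,.e,⟨.o,.o,.o,.o,.o,.o⟩⟩),
   (1134,⟨.e,.e,⟨.o,.o,.o,.o,.o,.o⟩⟩),
   (1135,⟨.n,.n,⟨.e,.e,.n,.n,.e,.e⟩⟩),
   (1136,⟨.e,.n,⟨.n,.o,.e,.e,.n,.n⟩⟩),
   (1137,⟨.e,.n,⟨.o,.n,.o,.o,.o,.o⟩⟩),
   (1138,⟨.n,.e,⟨.e,.o,.o,.o,.o,.o⟩⟩),
   (1139,⟨.e,.n,⟨.o,.n,.o,.o,.o,.o⟩⟩),
   (1140,⟨.e,.n,⟨.o,.n,.o,.o,.o,.o⟩⟩),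
   (1141,⟨.e,.n,⟨.n,.n,.n,.e,.e,.n⟩⟩),
   (1142,⟨.e,.e,⟨.o,.e,.o,.o,.o,.o⟩⟩),
   (1143,⟨.e,.n,⟨.o,.o,.o,.o,.o,.o⟩⟩),
   (1144,⟨.n,.e,⟨.o,.e,.e,.o,.o,.o⟩⟩),
   (1145,⟨.e,.n,⟨.o,.n,.o,.o,.o,.o⟩⟩),
   (1146,⟨.e,.e,⟨.o,.o,.o,.o,.o,.o⟩⟩),
   (1147,⟨.e,.e,⟨.o,.n,.o,.o,.o,.o⟩⟩),
   (1148,⟨.e,.n,⟨.n,.e,.o,.e,.n,.e⟩⟩),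
   (1149,⟨.n,.e,⟨.e,.n,.n,.o,.e,.e⟩⟩),
   (1150,⟨.e,.n,⟨.o,.n,.o,.o,.o,.o⟩⟩),
   (1151,⟨.e,.e,⟨.n,.e,.o,.o,.o,.o⟩⟩),
   (1152,⟨.n,.e,⟨.o,.n,.o,.o,.o,.o⟩⟩),
   (1153,⟨.e,.n,⟨.o,.e,.o,.o,.o,.o⟩⟩),
   (1154,⟨.e,.e,⟨.n,.o,.e,.n,.n,.e⟩⟩),
   (1155,⟨.e,.n,⟨.o,.n,.o,.o,.o,.o⟩⟩)]

/-- part 26 -/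
def schk4_26 : List (ℕ × Par) :=
  [(1156,⟨.n,.e,⟨.o,.n,.n,.n,.o,.o⟩⟩),
   (1157,⟨.n,.e,⟨.e,.e,.o,.o,.o,.o⟩⟩),
   (1158,⟨.n,.n,⟨.e,.n,.e,.n,.n,.n⟩⟩),
   (1159,⟨.e,.e,⟨.o,.o,.o,.o,.o,.o⟩⟩),
   (1160,⟨.n,.n,⟨.n,.o,.n,.o,.o,.o⟩⟩),
   (1161,⟨.n,.n,⟨.o,.o,.o,.o,.o,.o⟩⟩),
   (1162,⟨.n,.e,⟨.n,.e,.o,.o,.n,.o⟩⟩),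
   (1163,⟨.e,.n,⟨.n,.o,.e,.e,.n,.n⟩⟩),
   (1164,⟨.n,.e,⟨.n,.o,.o,.o,.o,.o⟩⟩),
   (1165,⟨.e,.n,⟨.o,.n,.o,.o,.o,.o⟩⟩),
   (1166,⟨.n,.n,⟨.e,.o,.o,.o,.o,.o⟩⟩),
   (1167,⟨.e,.e,⟨.o,.e,.o,.o,.o,.o⟩⟩),
   (1192,⟨.e,.e,⟨.o,.n,.o,.o,.o,.o⟩⟩),
   (1193,⟨.e,.e,⟨.o,.o,.o,.o,.o,.o⟩⟩),
   (1194,⟨.n,.n,⟨.n,.e,.n,.n,.e,.e⟩⟩),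
   (1195,⟨.e,.n,⟨.o,.e,.o,.o,.o,.o⟩⟩),
   (1196,⟨.e,.e,⟨.o,.o,.o,.o,.o,.o⟩⟩),
   (1197,⟨.e,.e,⟨.o,.o,.o,.o,.o,.o⟩⟩),
   (1198,⟨.e,.n,⟨.n,.e,.o,.o,.e,.o⟩⟩),
   (1199,⟨.n,.e,⟨.e,.o,.o,.o,.o,.o⟩⟩),
   (1200,⟨.e,.e,⟨.o,.o,.o,.o,.o,.o⟩⟩),
   (1201,⟨.e,.e,⟨.o,.o,.o,.o,.o,.o⟩⟩),
   (1202,⟨.e,.e,⟨.o,.o,.o,.o,.o,.o⟩⟩),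
   (1203,⟨.e,.e,⟨.e,.o,.e,.e,.n,.o⟩⟩),
   (1168,⟨.n,.n,⟨.e,.e,.e,.e,.n,.e⟩⟩),
   (1169,⟨.n,.n,⟨.e,.e,.e,.e,.n,.e⟩⟩),
   (1170,⟨.n,.e,⟨.o,.n,.o,.o,.o,.o⟩⟩),
   (1171,⟨.n,.n,⟨.e,.e,.e,.e,.n,.e⟩⟩),
   (1172,⟨.n,.e,⟨.e,.o,.o,.o,.o,.o⟩⟩),
   (1173,⟨.e,.e,⟨.o,.o,.o,.o,.o,.o⟩⟩),
   (1174,⟨.e,.e,⟨.o,.o,.o,.o,.o,.o⟩⟩),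
   (1175,⟨.e,.e,⟨.e,.o,.o,.o,.o,.o⟩⟩)]

/-- part 27 -/
def schk4_27 : List (ℕ × Par) :=
  [(1176,⟨.e,.e,⟨.o,.o,.o,.o,.o,.o⟩⟩),
   (1177,⟨.e,.e,⟨.o,.o,.o,.o,.o,.o⟩⟩),
   (1178,⟨.e,.e,⟨.o,.o,.o,.o,.o,.o⟩⟩),
   (1179,⟨.n,.e,⟨.e,.o,.e,.e,.n,.n⟩⟩),
   (1180,⟨.e,.e,⟨.o,.o,.o,.o,.o,.o⟩⟩),
   (1181,⟨.e,.e,⟨.o,.o,.o,.o,.o,.o⟩⟩),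
   (1182,⟨.e,.e,⟨.o,.o,.o,.o,.o,.o⟩⟩),
   (1183,⟨.e,.e,⟨.o,.o,.o,.o,.o,.o⟩⟩),
   (1184,⟨.e,.e,⟨.o,.o,.o,.o,.o,.o⟩⟩),
   (1185,⟨.e,.e,⟨.o,.o,.o,.o,.o,.o⟩⟩),
   (1186,⟨.n,.e,⟨.e,.o,.o,.o,.o,.o⟩⟩),
   (1187,⟨.e,.e,⟨.o,.o,.o,.o,.o,.o⟩⟩),
   (1188,⟨.e,.e,⟨.o,.o,.o,.o,.o,.o⟩⟩),
   (1189,⟨.e,.e,⟨.o,.o,.o,.o,.o,.o⟩⟩),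
   (1190,⟨.e,.e,⟨.o,.o,.o,.o,.o,.o⟩⟩),
   (1191,⟨.e,.e,⟨.o,.o,.o,.o,.o,.o⟩⟩),
   (1216,⟨.n,.n,⟨.n,.e,.e,.e,.n,.e⟩⟩),
   (1217,⟨.e,.n,⟨.e,.e,.e,.e,.n,.e⟩⟩),
   (1218,⟨.e,.n,⟨.o,.e,.o,.o,.o,.o⟩⟩),
   (1219,⟨.e,.e,⟨.o,.o,.o,.o,.o,.o⟩⟩),
   (1220,⟨.e,.n,⟨.e,.o,.o,.o,.o,.o⟩⟩),
   (1221,⟨.n,.e,⟨.o,.n,.e,.n,.n,.n⟩⟩),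
   (1222,⟨.e,.n,⟨.e,.e,.e,.e,.n,.e⟩⟩),
   (1223,⟨.e,.e,⟨.o,.o,.o,.o,.o,.o⟩⟩),
   (1224,⟨.e,.n,⟨.o,.o,.o,.o,.o,.o⟩⟩),
   (1225,⟨.e,.e,⟨.o,.o,.o,.o,.o,.o⟩⟩),
   (1226,⟨.e,.e,⟨.o,.o,.o,.o,.o,.o⟩⟩),
   (1227,⟨.e,.e,⟨.o,.o,.o,.o,.o,.o⟩⟩),
   (1228,⟨.n,.n,⟨.e,.o,.e,.o,.o,.o⟩⟩),
   (1229,⟨.e,.n,⟨.e,.e,.n,.n,.n,.e⟩⟩),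
   (1230,⟨.n,.e,⟨.o,.o,.o,.o,.o,.o⟩⟩),
   (1231,⟨.e,.e,⟨.o,.o,.o,.o,.o,.o⟩⟩)]

/-- part 28 -/
def schk4_28 : List (ℕ × Par) :=
  [(1232,⟨.e,.n,⟨.e,.o,.n,.o,.o,.o⟩⟩),
   (1233,⟨.n,.n,⟨.e,.o,.o,.o,.o,.o⟩⟩),
   (1234,⟨.e,.n,⟨.o,.o,.o,.o,.o,.o⟩⟩),
   (1235,⟨.e,.e,⟨.o,.o,.o,.o,.o,.o⟩⟩),
   (1236,⟨.e,.e,⟨.o,.o,.o,.o,.o,.o⟩⟩),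
   (1237,⟨.e,.e,⟨.o,.o,.o,.o,.o,.o⟩⟩),
   (1238,⟨.e,.e,⟨.o,.o,.o,.o,.o,.o⟩⟩),
   (1239,⟨.e,.e,⟨.o,.o,.o,.o,.o,.o⟩⟩),
   (1204,⟨.n,.n,⟨.n,.o,.e,.o,.o,.o⟩⟩),
   (1205,⟨.e,.n,⟨.e,.n,.n,.e,.e,.n⟩⟩),
   (1206,⟨.e,.e,⟨.o,.n,.n,.n,.o,.o⟩⟩),
   (1207,⟨.e,.e,⟨.o,.n,.n,.n,.o,.o⟩⟩),
   (1208,⟨.e,.e,⟨.n,.o,.n,.o,.o,.o⟩⟩),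
   (1209,⟨.n,.e,⟨.o,.n,.n,.e,.e,.n⟩⟩),
   (1210,⟨.e,.e,⟨.e,.e,.o,.o,.o,.o⟩⟩),
   (1211,⟨.e,.n,⟨.o,.o,.o,.o,.o,.o⟩⟩),
   (1212,⟨.e,.e,⟨.o,.o,.o,.o,.o,.o⟩⟩),
   (1213,⟨.e,.e,⟨.o,.o,.o,.o,.o,.o⟩⟩),
   (1214,⟨.e,.e,⟨.o,.o,.o,.o,.o,.o⟩⟩),
   (1215,⟨.e,.e,⟨.o,.o,.o,.o,.o,.o⟩⟩),
   (1288,⟨.e,.e,⟨.o,.o,.o,.o,.o,.o⟩⟩),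
   (1289,⟨.e,.e,⟨.o,.o,.o,.o,.o,.o⟩⟩),
   (1290,⟨.e,.e,⟨.o,.o,.o,.o,.o,.o⟩⟩),
   (1291,⟨.e,.e,⟨.o,.o,.o,.o,.o,.o⟩⟩),
   (1292,⟨.e,.e,⟨.o,.o,.o,.o,.o,.o⟩⟩),
   (1293,⟨.e,.e,⟨.o,.o,.o,.o,.o,.o⟩⟩),
   (1294,⟨.n,.e,⟨.n,.o,.o,.o,.o,.o⟩⟩),
   (1295,⟨.e,.e,⟨.o,.o,.o,.o,.o,.o⟩⟩),
   (1296,⟨.e,.e,⟨.e,.o,.n,.o,.o,.o⟩⟩),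
   (1297,⟨.e,.e,⟨.o,.o,.o,.o,.o,.o⟩⟩),
   (1298,⟨.n,.e,⟨.e,.o,.o,.o,.o,.o⟩⟩),
   (1299,⟨.e,.e,⟨.o,.o,.o,.o,.o,.o⟩⟩)]

/-- part 29 -/
def schk4_29 : List (ℕ × Par) :=
  [(1300,⟨.e,.e,⟨.e,.n,.e,.n,.n,.n⟩⟩),
   (1301,⟨.e,.e,⟨.n,.e,.o,.o,.o,.o⟩⟩),
   (1302,⟨.n,.e,⟨.n,.o,.n,.n,.e,.n⟩⟩),
   (1303,⟨.e,.e,⟨.o,.o,.o,.o,.o,.o⟩⟩),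
   (1304,⟨.n,.n,⟨.o,.n,.n,.o,.o,.o⟩⟩),
   (1305,⟨.e,.e,⟨.o,.o,.o,.o,.o,.o⟩⟩),
   (1306,⟨.e,.e,⟨.o,.o,.o,.o,.o,.o⟩⟩),
   (1307,⟨.e,.e,⟨.o,.o,.o,.o,.o,.o⟩⟩),
   (1308,⟨.n,.n,⟨.o,.n,.o,.o,.o,.o⟩⟩),
   (1309,⟨.n,.n,⟨.n,.e,.o,.o,.o,.o⟩⟩),
   (1310,⟨.e,.n,⟨.n,.o,.n,.n,.e,.n⟩⟩),
   (1311,⟨.e,.e,⟨.n,.e,.o,.o,.o,.o⟩⟩),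
   (1276,⟨.e,.e,⟨.o,.o,.n,.o,.o,.o⟩⟩),
   (1277,⟨.e,.e,⟨.o,.o,.o,.o,.o,.o⟩⟩),
   (1278,⟨.n,.n,⟨.n,.o,.e,.n,.n,.e⟩⟩),
   (1279,⟨.e,.n,⟨.e,.e,.e,.o,.n,.n⟩⟩),
   (1280,⟨.n,.e,⟨.e,.o,.o,.o,.o,.o⟩⟩),
   (1281,⟨.n,.n,⟨.n,.e,.o,.o,.e,.o⟩⟩),
   (1282,⟨.e,.n,⟨.o,.n,.n,.e,.e,.n⟩⟩),
   (1283,⟨.e,.e,⟨.e,.n,.o,.o,.o,.o⟩⟩),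
   (1284,⟨.e,.e,⟨.o,.o,.o,.o,.o,.o⟩⟩),
   (1285,⟨.e,.e,⟨.o,.o,.o,.o,.o,.o⟩⟩),
   (1286,⟨.e,.e,⟨.o,.o,.o,.o,.o,.o⟩⟩),
   (1287,⟨.e,.n,⟨.o,.n,.e,.n,.n,.n⟩⟩),
   (1312,⟨.n,.n,⟨.o,.e,.n,.e,.o,.o⟩⟩),
   (1313,⟨.n,.n,⟨.e,.n,.n,.o,.e,.e⟩⟩),
   (1314,⟨.e,.n,⟨.o,.e,.o,.o,.o,.o⟩⟩),
   (1315,⟨.n,.n,⟨.e,.e,.e,.e,.n,.e⟩⟩),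
   (1316,⟨.e,.e,⟨.o,.o,.o,.o,.o,.o⟩⟩),
   (1317,⟨.n,.e,⟨.o,.o,.o,.o,.o,.o⟩⟩),
   (1318,⟨.n,.e,⟨.o,.o,.o,.o,.o,.o⟩⟩),
   (1319,⟨.e,.n,⟨.e,.n,.o,.o,.n,.o⟩⟩)]

/-- part 30 -/
def schk4_30 : List (ℕ × Par) :=
  [(1320,⟨.e,.n,⟨.n,.o,.o,.o,.o,.o⟩⟩),
   (1321,⟨.e,.n,⟨.e,.e,.e,.o,.n,.n⟩⟩),
   (1322,⟨.e,.e,⟨.o,.o,.o,.o,.o,.o⟩⟩),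
   (1323,⟨.e,.e,⟨.o,.o,.o,.o,.o,.o⟩⟩),
   (1324,⟨.e,.e,⟨.o,.o,.o,.o,.o,.o⟩⟩),
   (1325,⟨.e,.n,⟨.e,.e,.e,.e,.n,.e⟩⟩),
   (1326,⟨.e,.e,⟨.o,.o,.o,.o,.o,.o⟩⟩),
   (1327,⟨.e,.e,⟨.o,.e,.e,.o,.n,.n⟩⟩),
   (1328,⟨.e,.n,⟨.n,.o,.e,.e,.n,.o⟩⟩),
   (1329,⟨.n,.e,⟨.e,.n,.e,.n,.n,.n⟩⟩),
   (1330,⟨.e,.e,⟨.o,.e,.n,.n,.e,.e⟩⟩),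
   (1331,⟨.e,.e,⟨.e,.o,.e,.e,.n,.n⟩⟩),
   (1332,⟨.n,.e,⟨.e,.o,.o,.n,.e,.e⟩⟩),
   (1333,⟨.e,.e,⟨.e,.e,.o,.o,.o,.o⟩⟩),
   (1334,⟨.e,.e,⟨.o,.o,.o,.o,.o,.o⟩⟩),
   (1335,⟨.e,.e,⟨.o,.o,.o,.o,.o,.o⟩⟩),
   (1336,⟨.n,.n,⟨.e,.o,.e,.o,.o,.o⟩⟩),
   (1337,⟨.e,.e,⟨.o,.o,.o,.o,.o,.o⟩⟩),
   (1338,⟨.e,.e,⟨.o,.o,.o,.o,.o,.o⟩⟩),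
   (1339,⟨.e,.n,⟨.o,.o,.o,.o,.o,.o⟩⟩),
   (1340,⟨.e,.e,⟨.o,.o,.o,.o,.o,.o⟩⟩),
   (1341,⟨.e,.e,⟨.o,.o,.o,.o,.o,.o⟩⟩),
   (1342,⟨.e,.e,⟨.o,.o,.o,.o,.o,.o⟩⟩),
   (1343,⟨.e,.n,⟨.n,.n,.e,.n,.n,.n⟩⟩),
   (1344,⟨.e,.e,⟨.o,.o,.o,.o,.o,.o⟩⟩),
   (1345,⟨.e,.e,⟨.o,.o,.o,.o,.o,.o⟩⟩),
   (1346,⟨.e,.e,⟨.o,.o,.o,.o,.o,.o⟩⟩),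
   (1347,⟨.n,.e,⟨.e,.o,.o,.o,.o,.o⟩⟩),
   (1264,⟨.e,.e,⟨.o,.o,.o,.o,.o,.o⟩⟩),
   (1265,⟨.e,.e,⟨.o,.o,.o,.o,.o,.o⟩⟩),
   (1266,⟨.e,.e,⟨.e,.n,.o,.o,.o,.o⟩⟩),
   (1267,⟨.e,.e,⟨.o,.o,.o,.o,.o,.o⟩⟩)]

/-- part 31 -/
def schk4_31 : List (ℕ × Par) :=
  [(1268,⟨.e,.e,⟨.o,.o,.n,.o,.o,.o⟩⟩),
   (1269,⟨.n,.e,⟨.o,.o,.o,.o,.o,.o⟩⟩),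
   (1270,⟨.n,.n,⟨.e,.e,.e,.o,.n,.n⟩⟩),
   (1271,⟨.e,.n,⟨.n,.o,.e,.e,.n,.n⟩⟩),
   (1272,⟨.e,.e,⟨.o,.o,.o,.o,.o,.o⟩⟩),
   (1273,⟨.e,.e,⟨.o,.o,.o,.o,.o,.o⟩⟩),
   (1274,⟨.e,.n,⟨.e,.n,.e,.o,.o,.o⟩⟩),
   (1275,⟨.n,.n,⟨.e,.e,.n,.n,.e,.e⟩⟩),
   (1240,⟨.e,.e,⟨.o,.o,.o,.o,.o,.o⟩⟩),
   (1241,⟨.e,.e,⟨.o,.o,.o,.o,.o,.o⟩⟩),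
   (1242,⟨.e,.e,⟨.o,.e,.o,.o,.o,.o⟩⟩),
   (1243,⟨.e,.e,⟨.o,.o,.o,.o,.o,.o⟩⟩),
   (1244,⟨.e,.e,⟨.o,.o,.o,.o,.o,.o⟩⟩),
   (1245,⟨.e,.e,⟨.o,.o,.o,.o,.o,.o⟩⟩),
   (1246,⟨.e,.n,⟨.o,.e,.o,.o,.o,.o⟩⟩),
   (1247,⟨.e,.e,⟨.o,.o,.o,.o,.o,.o⟩⟩),
   (1248,⟨.e,.e,⟨.e,.n,.e,.n,.n,.n⟩⟩),
   (1249,⟨.e,.n,⟨.o,.n,.o,.o,.o,.o⟩⟩),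
   (1250,⟨.n,.n,⟨.e,.o,.o,.o,.o,.o⟩⟩),
   (1251,⟨.e,.e,⟨.o,.o,.o,.o,.o,.o⟩⟩),
   (1252,⟨.n,.e,⟨.e,.n,.o,.o,.o,.o⟩⟩),
   (1253,⟨.e,.n,⟨.o,.o,.o,.o,.o,.o⟩⟩),
   (1254,⟨.e,.e,⟨.o,.o,.o,.o,.o,.o⟩⟩),
   (1255,⟨.e,.n,⟨.o,.o,.o,.o,.o,.o⟩⟩),
   (1256,⟨.e,.e,⟨.o,.o,.o,.o,.o,.o⟩⟩),
   (1257,⟨.e,.e,⟨.o,.o,.o,.o,.o,.o⟩⟩),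
   (1258,⟨.n,.n,⟨.n,.e,.o,.e,.n,.e⟩⟩),
   (1259,⟨.e,.n,⟨.n,.e,.e,.e,.n,.e⟩⟩),
   (1260,⟨.n,.e,⟨.n,.e,.o,.e,.n,.e⟩⟩),
   (1261,⟨.e,.n,⟨.e,.o,.e,.e,.n,.n⟩⟩),
   (1262,⟨.n,.e,⟨.o,.o,.o,.o,.o,.o⟩⟩),
   (1263,⟨.n,.e,⟨.n,.o,.n,.n,.e,.n⟩⟩)]

/-- part 32 -/
def schk4_32 : List (ℕ × Par) :=
  [(1444,⟨.e,.e,⟨.o,.o,.o,.o,.o,.o⟩⟩),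
   (1445,⟨.e,.e,⟨.o,.o,.o,.o,.o,.o⟩⟩),
   (1446,⟨.e,.e,⟨.o,.o,.o,.o,.o,.o⟩⟩),
   (1447,⟨.e,.e,⟨.o,.o,.o,.o,.o,.o⟩⟩),
   (1448,⟨.e,.e,⟨.n,.e,.o,.e,.n,.e⟩⟩),
   (1449,⟨.e,.e,⟨.o,.o,.o,.o,.o,.o⟩⟩),
   (1450,⟨.e,.n,⟨.o,.e,.o,.o,.o,.o⟩⟩),
   (1451,⟨.n,.e,⟨.e,.n,.o,.o,.o,.o⟩⟩),
   (1452,⟨.e,.e,⟨.e,.o,.o,.o,.o,.o⟩⟩),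
   (1453,⟨.e,.e,⟨.o,.o,.o,.o,.o,.o⟩⟩),
   (1454,⟨.e,.e,⟨.o,.o,.o,.o,.o,.o⟩⟩),
   (1455,⟨.n,.n,⟨.o,.o,.o,.o,.o,.o⟩⟩),
   (1420,⟨.e,.e,⟨.o,.o,.n,.o,.o,.o⟩⟩),
   (1421,⟨.e,.e,⟨.o,.o,.o,.o,.o,.o⟩⟩),
   (1422,⟨.n,.e,⟨.n,.n,.n,.e,.e,.n⟩⟩),
   (1423,⟨.e,.e,⟨.o,.o,.o,.o,.o,.o⟩⟩),
   (1424,⟨.n,.n,⟨.e,.e,.n,.n,.e,.e⟩⟩),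
   (1425,⟨.e,.n,⟨.o,.n,.o,.o,.o,.o⟩⟩),
   (1426,⟨.n,.n,⟨.o,.n,.n,.e,.e,.n⟩⟩),
   (1427,⟨.n,.n,⟨.e,.n,.o,.o,.o,.o⟩⟩),
   (1428,⟨.n,.n,⟨.o,.o,.e,.o,.o,.n⟩⟩),
   (1429,⟨.e,.e,⟨.o,.o,.o,.o,.o,.o⟩⟩),
   (1430,⟨.n,.e,⟨.n,.n,.e,.e,.o,.o⟩⟩),
   (1431,⟨.e,.e,⟨.o,.o,.o,.o,.o,.o⟩⟩),
   (1432,⟨.e,.e,⟨.o,.o,.o,.o,.o,.o⟩⟩),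
   (1433,⟨.e,.n,⟨.e,.e,.n,.n,.e,.e⟩⟩),
   (1434,⟨.n,.e,⟨.e,.o,.o,.o,.o,.o⟩⟩),
   (1435,⟨.n,.n,⟨.e,.o,.o,.o,.o,.o⟩⟩),
   (1436,⟨.e,.e,⟨.n,.n,.e,.o,.n,.e⟩⟩),
   (1437,⟨.e,.e,⟨.o,.o,.o,.o,.o,.o⟩⟩),
   (1438,⟨.e,.e,⟨.o,.o,.o,.o,.o,.o⟩⟩),
   (1439,⟨.e,.e,⟨.o,.o,.o,.o,.o,.o⟩⟩)]

/-- part 33 -/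
def schk4_33 : List (ℕ × Par) :=
  [(1440,⟨.e,.e,⟨.o,.o,.o,.o,.o,.o⟩⟩),
   (1441,⟨.e,.e,⟨.n,.e,.o,.o,.o,.o⟩⟩),
   (1442,⟨.n,.e,⟨.n,.n,.o,.o,.o,.o⟩⟩),
   (1443,⟨.e,.e,⟨.o,.o,.o,.o,.o,.o⟩⟩),
   (1360,⟨.e,.e,⟨.e,.n,.o,.o,.o,.o⟩⟩),
   (1361,⟨.e,.e,⟨.o,.o,.o,.o,.o,.o⟩⟩),
   (1362,⟨.e,.e,⟨.o,.o,.o,.o,.o,.o⟩⟩),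
   (1363,⟨.e,.e,⟨.o,.o,.o,.o,.o,.o⟩⟩),
   (1364,⟨.e,.n,⟨.e,.e,.n,.n,.e,.e⟩⟩),
   (1365,⟨.e,.e,⟨.o,.n,.o,.o,.n,.o⟩⟩),
   (1366,⟨.e,.e,⟨.o,.n,.o,.o,.n,.o⟩⟩),
   (1367,⟨.e,.n,⟨.o,.e,.o,.o,.o,.o⟩⟩),
   (1368,⟨.e,.e,⟨.o,.o,.o,.o,.o,.o⟩⟩),
   (1369,⟨.e,.e,⟨.o,.o,.o,.o,.o,.o⟩⟩),
   (1370,⟨.e,.e,⟨.o,.n,.n,.e,.e,.n⟩⟩),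
   (1371,⟨.e,.e,⟨.o,.o,.o,.o,.o,.o⟩⟩),
   (1372,⟨.n,.n,⟨.e,.n,.n,.n,.o,.o⟩⟩),
   (1373,⟨.n,.n,⟨.o,.n,.n,.e,.e,.n⟩⟩),
   (1374,⟨.e,.e,⟨.o,.o,.o,.o,.o,.o⟩⟩),
   (1375,⟨.e,.e,⟨.e,.o,.o,.o,.o,.o⟩⟩),
   (1376,⟨.e,.e,⟨.o,.o,.o,.o,.o,.o⟩⟩),
   (1377,⟨.n,.n,⟨.o,.e,.o,.o,.o,.o⟩⟩),
   (1378,⟨.e,.e,⟨.o,.o,.o,.o,.o,.o⟩⟩),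
   (1379,⟨.e,.e,⟨.o,.o,.o,.o,.o,.o⟩⟩),
   (1380,⟨.n,.n,⟨.n,.o,.e,.o,.o,.o⟩⟩),
   (1381,⟨.e,.n,⟨.e,.o,.e,.e,.n,.n⟩⟩),
   (1382,⟨.e,.n,⟨.o,.o,.n,.n,.e,.n⟩⟩),
   (1383,⟨.e,.n,⟨.n,.n,.n,.e,.e,.n⟩⟩),
   (1348,⟨.n,.e,⟨.o,.e,.o,.o,.o,.o⟩⟩),
   (1349,⟨.e,.e,⟨.o,.o,.o,.o,.o,.o⟩⟩),
   (1350,⟨.e,.e,⟨.o,.o,.o,.o,.o,.o⟩⟩),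
   (1351,⟨.e,.e,⟨.o,.o,.o,.o,.o,.o⟩⟩)]

/-- part 34 -/
def schk4_34 : List (ℕ × Par) :=
  [(1352,⟨.n,.e,⟨.o,.o,.n,.n,.e,.n⟩⟩),
   (1353,⟨.e,.n,⟨.o,.e,.o,.o,.o,.o⟩⟩),
   (1354,⟨.e,.e,⟨.o,.o,.o,.o,.o,.o⟩⟩),
   (1355,⟨.n,.n,⟨.e,.e,.o,.o,.o,.o⟩⟩),
   (1356,⟨.e,.e,⟨.e,.o,.n,.e,.e,.e⟩⟩),
   (1357,⟨.e,.e,⟨.o,.o,.o,.o,.o,.o⟩⟩),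
   (1358,⟨.e,.e,⟨.o,.o,.o,.o,.o,.o⟩⟩),
   (1359,⟨.e,.e,⟨.o,.o,.o,.o,.o,.o⟩⟩),
   (1384,⟨.e,.e,⟨.o,.o,.o,.o,.o,.o⟩⟩),
   (1385,⟨.e,.e,⟨.o,.o,.o,.o,.o,.o⟩⟩),
   (1386,⟨.e,.e,⟨.o,.o,.o,.o,.o,.o⟩⟩),
   (1387,⟨.n,.e,⟨.n,.e,.e,.e,.n,.e⟩⟩),
   (1388,⟨.n,.e,⟨.n,.n,.n,.e,.e,.n⟩⟩),
   (1389,⟨.e,.n,⟨.o,.o,.o,.o,.o,.o⟩⟩),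
   (1390,⟨.e,.e,⟨.o,.o,.o,.o,.o,.o⟩⟩),
   (1391,⟨.e,.n,⟨.e,.o,.o,.o,.o,.o⟩⟩),
   (1392,⟨.n,.n,⟨.o,.e,.o,.o,.o,.o⟩⟩),
   (1393,⟨.e,.n,⟨.e,.n,.e,.n,.n,.n⟩⟩),
   (1394,⟨.e,.e,⟨.o,.o,.o,.o,.o,.o⟩⟩),
   (1395,⟨.e,.e,⟨.o,.o,.o,.o,.o,.o⟩⟩),
   (1396,⟨.n,.e,⟨.o,.o,.e,.o,.o,.o⟩⟩),
   (1397,⟨.e,.n,⟨.o,.o,.o,.o,.o,.o⟩⟩),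
   (1398,⟨.e,.e,⟨.n,.o,.o,.o,.o,.o⟩⟩),
   (1399,⟨.e,.e,⟨.o,.o,.o,.o,.o,.o⟩⟩),
   (1400,⟨.e,.e,⟨.o,.o,.o,.o,.o,.o⟩⟩),
   (1401,⟨.e,.e,⟨.o,.o,.o,.o,.o,.o⟩⟩),
   (1402,⟨.e,.e,⟨.o,.o,.o,.o,.o,.o⟩⟩),
   (1403,⟨.e,.e,⟨.o,.o,.o,.o,.o,.o⟩⟩),
   (1404,⟨.e,.n,⟨.n,.o,.o,.o,.o,.o⟩⟩),
   (1405,⟨.e,.e,⟨.o,.o,.o,.o,.o,.o⟩⟩),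
   (1406,⟨.n,.e,⟨.n,.o,.o,.o,.o,.o⟩⟩),
   (1407,⟨.n,.e,⟨.e,.o,.o,.o,.o,.o⟩⟩)]

/-- part 35 -/
def schk4_35 : List (ℕ × Par) :=
  [(1408,⟨.e,.e,⟨.o,.n,.o,.o,.o,.o⟩⟩),
   (1409,⟨.e,.e,⟨.o,.n,.o,.o,.o,.o⟩⟩),
   (1410,⟨.n,.e,⟨.o,.o,.o,.o,.o,.o⟩⟩),
   (1411,⟨.n,.n,⟨.e,.n,.n,.e,.e,.n⟩⟩),
   (1412,⟨.e,.n,⟨.o,.o,.o,.o,.o,.o⟩⟩),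
   (1413,⟨.e,.n,⟨.n,.e,.n,.o,.e,.n⟩⟩),
   (1414,⟨.n,.e,⟨.e,.n,.o,.o,.o,.o⟩⟩),
   (1415,⟨.e,.n,⟨.n,.n,.o,.o,.e,.o⟩⟩),
   (1416,⟨.e,.e,⟨.o,.o,.o,.o,.o,.o⟩⟩),
   (1417,⟨.e,.e,⟨.o,.o,.o,.o,.o,.o⟩⟩),
   (1418,⟨.e,.n,⟨.o,.n,.e,.n,.n,.n⟩⟩),
   (1419,⟨.n,.e,⟨.e,.n,.n,.n,.n,.n⟩⟩),
   (484,⟨.e,.n,⟨.o,.n,.o,.o,.o,.o⟩⟩),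
   (485,⟨.e,.e,⟨.o,.o,.o,.o,.o,.o⟩⟩),
   (486,⟨.e,.e,⟨.o,.o,.o,.o,.o,.o⟩⟩),
   (487,⟨.e,.n,⟨.o,.n,.o,.o,.o,.o⟩⟩),
   (488,⟨.e,.n,⟨.n,.o,.e,.e,.n,.o⟩⟩),
   (489,⟨.e,.n,⟨.n,.o,.e,.n,.n,.e⟩⟩),
   (490,⟨.e,.e,⟨.o,.o,.o,.o,.o,.o⟩⟩),
   (491,⟨.e,.e,⟨.o,.o,.o,.o,.o,.o⟩⟩),
   (492,⟨.e,.n,⟨.o,.e,.o,.o,.o,.o⟩⟩),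
   (493,⟨.e,.e,⟨.o,.o,.o,.o,.o,.o⟩⟩),
   (494,⟨.e,.e,⟨.o,.o,.o,.o,.o,.o⟩⟩),
   (495,⟨.e,.n,⟨.n,.e,.n,.n,.e,.e⟩⟩),
   (496,⟨.e,.n,⟨.e,.n,.n,.n,.o,.o⟩⟩),
   (497,⟨.e,.n,⟨.o,.e,.o,.o,.o,.o⟩⟩),
   (498,⟨.e,.e,⟨.o,.o,.o,.o,.o,.o⟩⟩),
   (499,⟨.n,.n,⟨.e,.o,.e,.e,.n,.n⟩⟩),
   (500,⟨.e,.n,⟨.n,.n,.n,.n,.o,.o⟩⟩),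
   (501,⟨.n,.n,⟨.e,.o,.e,.e,.n,.n⟩⟩),
   (502,⟨.e,.n,⟨.o,.e,.o,.o,.o,.o⟩⟩),
   (503,⟨.e,.e,⟨.e,.n,.e,.n,.n,.n⟩⟩)]

/-- part 36 -/
def schk4_36 : List (ℕ × Par) :=
  [(504,⟨.e,.e,⟨.o,.o,.o,.o,.o,.o⟩⟩),
   (505,⟨.e,.e,⟨.o,.o,.o,.o,.o,.o⟩⟩),
   (506,⟨.n,.n,⟨.e,.n,.o,.o,.o,.o⟩⟩),
   (507,⟨.e,.n,⟨.o,.e,.o,.o,.o,.o⟩⟩),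
   (508,⟨.n,.n,⟨.e,.o,.n,.o,.o,.o⟩⟩),
   (509,⟨.n,.n,⟨.e,.o,.o,.o,.o,.o⟩⟩),
   (510,⟨.e,.e,⟨.o,.o,.o,.o,.o,.o⟩⟩),
   (511,⟨.e,.e,⟨.o,.o,.o,.o,.o,.o⟩⟩),
   (512,⟨.n,.n,⟨.e,.n,.n,.n,.n,.n⟩⟩),
   (513,⟨.e,.e,⟨.o,.n,.o,.o,.o,.o⟩⟩),
   (514,⟨.n,.e,⟨.n,.o,.n,.o,.o,.o⟩⟩),
   (515,⟨.e,.n,⟨.n,.o,.e,.e,.n,.o⟩⟩),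
   (516,⟨.n,.e,⟨.e,.o,.e,.o,.o,.o⟩⟩),
   (517,⟨.e,.n,⟨.o,.e,.o,.o,.o,.o⟩⟩),
   (518,⟨.n,.n,⟨.e,.o,.o,.o,.o,.o⟩⟩),
   (519,⟨.n,.e,⟨.n,.e,.e,.e,.n,.e⟩⟩),
   (544,⟨.n,.n,⟨.e,.e,.e,.e,.n,.e⟩⟩),
   (545,⟨.e,.e,⟨.o,.o,.o,.o,.o,.o⟩⟩),
   (546,⟨.n,.e,⟨.o,.n,.o,.o,.o,.o⟩⟩),
   (547,⟨.n,.n,⟨.e,.e,.e,.e,.n,.e⟩⟩),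
   (548,⟨.n,.e,⟨.n,.o,.o,.o,.o,.o⟩⟩),
   (549,⟨.e,.e,⟨.o,.o,.o,.o,.o,.o⟩⟩),
   (550,⟨.e,.e,⟨.o,.o,.o,.o,.o,.o⟩⟩),
   (551,⟨.e,.e,⟨.o,.o,.o,.o,.o,.o⟩⟩),
   (552,⟨.e,.e,⟨.o,.o,.o,.o,.o,.o⟩⟩),
   (553,⟨.n,.e,⟨.o,.o,.o,.o,.o,.o⟩⟩),
   (554,⟨.e,.e,⟨.o,.o,.o,.o,.o,.o⟩⟩),
   (555,⟨.e,.n,⟨.e,.e,.o,.o,.o,.o⟩⟩),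
   (520,⟨.e,.e,⟨.o,.o,.o,.o,.o,.o⟩⟩),
   (521,⟨.e,.n,⟨.e,.n,.n,.e,.e,.n⟩⟩),
   (522,⟨.e,.e,⟨.o,.o,.o,.o,.o,.o⟩⟩),
   (523,⟨.e,.e,⟨.o,.o,.o,.o,.o,.o⟩⟩)]

/-- part 37 -/
def schk4_37 : List (ℕ × Par) :=
  [(524,⟨.e,.e,⟨.o,.o,.o,.o,.o,.o⟩⟩),
   (525,⟨.e,.e,⟨.o,.o,.o,.o,.o,.o⟩⟩),
   (526,⟨.n,.e,⟨.n,.o,.o,.o,.o,.o⟩⟩),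
   (527,⟨.e,.e,⟨.o,.o,.o,.o,.o,.o⟩⟩),
   (528,⟨.n,.n,⟨.o,.n,.e,.n,.n,.n⟩⟩),
   (529,⟨.e,.e,⟨.o,.o,.o,.o,.o,.o⟩⟩),
   (530,⟨.n,.n,⟨.o,.e,.o,.o,.o,.o⟩⟩),
   (531,⟨.e,.e,⟨.o,.o,.o,.o,.o,.o⟩⟩),
   (532,⟨.e,.e,⟨.o,.e,.o,.o,.o,.o⟩⟩),
   (533,⟨.e,.n,⟨.e,.n,.n,.e,.e,.n⟩⟩),
   (534,⟨.n,.n,⟨.n,.e,.n,.n,.e,.e⟩⟩),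
   (535,⟨.e,.e,⟨.n,.e,.o,.o,.o,.o⟩⟩),
   (536,⟨.e,.e,⟨.o,.o,.o,.o,.o,.o⟩⟩),
   (537,⟨.e,.e,⟨.o,.o,.o,.o,.o,.o⟩⟩),
   (538,⟨.e,.e,⟨.o,.o,.o,.o,.o,.o⟩⟩),
   (539,⟨.n,.e,⟨.n,.o,.o,.o,.o,.o⟩⟩),
   (540,⟨.e,.e,⟨.o,.o,.o,.o,.o,.o⟩⟩),
   (541,⟨.e,.e,⟨.o,.o,.o,.o,.o,.o⟩⟩),
   (542,⟨.e,.e,⟨.o,.o,.o,.o,.o,.o⟩⟩),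
   (543,⟨.n,.n,⟨.e,.e,.e,.e,.n,.e⟩⟩),
   (568,⟨.n,.n,⟨.n,.o,.n,.o,.o,.o⟩⟩),
   (569,⟨.e,.n,⟨.e,.e,.e,.e,.n,.e⟩⟩),
   (570,⟨.n,.n,⟨.n,.o,.n,.o,.o,.o⟩⟩),
   (571,⟨.e,.n,⟨.o,.e,.o,.e,.n,.e⟩⟩),
   (572,⟨.e,.e,⟨.e,.o,.e,.o,.o,.o⟩⟩),
   (573,⟨.e,.n,⟨.n,.n,.e,.n,.n,.n⟩⟩),
   (574,⟨.n,.e,⟨.e,.n,.n,.e,.e,.n⟩⟩),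
   (575,⟨.e,.e,⟨.o,.o,.o,.o,.o,.o⟩⟩),
   (576,⟨.e,.e,⟨.e,.o,.e,.o,.o,.o⟩⟩),
   (577,⟨.n,.e,⟨.n,.o,.o,.o,.o,.o⟩⟩),
   (578,⟨.n,.e,⟨.n,.e,.n,.n,.e,.e⟩⟩),
   (579,⟨.n,.e,⟨.o,.n,.e,.n,.n,.n⟩⟩)]

/-- part 38 -/
def schk4_38 : List (ℕ × Par) :=
  [(580,⟨.n,.n,⟨.n,.e,.o,.o,.o,.o⟩⟩),
   (581,⟨.e,.e,⟨.o,.o,.o,.o,.o,.o⟩⟩),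
   (582,⟨.e,.n,⟨.n,.o,.o,.o,.o,.o⟩⟩),
   (583,⟨.e,.e,⟨.o,.o,.o,.o,.o,.o⟩⟩),
   (584,⟨.e,.e,⟨.o,.o,.o,.o,.o,.o⟩⟩),
   (585,⟨.e,.n,⟨.e,.n,.n,.e,.e,.n⟩⟩),
   (586,⟨.e,.e,⟨.o,.o,.o,.o,.o,.o⟩⟩),
   (587,⟨.e,.e,⟨.o,.o,.o,.o,.o,.o⟩⟩),
   (588,⟨.e,.n,⟨.e,.o,.o,.o,.o,.o⟩⟩),
   (589,⟨.e,.n,⟨.n,.e,.e,.e,.e,.e⟩⟩),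
   (590,⟨.n,.e,⟨.o,.n,.e,.n,.n,.n⟩⟩),
   (591,⟨.e,.e,⟨.o,.e,.n,.n,.e,.e⟩⟩),
   (556,⟨.e,.n,⟨.n,.n,.e,.o,.o,.o⟩⟩),
   (557,⟨.e,.e,⟨.e,.o,.e,.n,.n,.e⟩⟩),
   (558,⟨.e,.e,⟨.o,.o,.o,.o,.o,.o⟩⟩),
   (559,⟨.n,.e,⟨.e,.n,.n,.e,.e,.n⟩⟩),
   (560,⟨.e,.e,⟨.o,.o,.o,.o,.o,.o⟩⟩),
   (561,⟨.n,.e,⟨.n,.o,.o,.o,.o,.o⟩⟩),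
   (562,⟨.e,.e,⟨.o,.o,.o,.o,.o,.o⟩⟩),
   (563,⟨.e,.e,⟨.o,.o,.o,.o,.o,.o⟩⟩),
   (564,⟨.e,.e,⟨.o,.n,.e,.n,.n,.n⟩⟩),
   (565,⟨.n,.n,⟨.e,.e,.e,.n,.n,.o⟩⟩),
   (566,⟨.e,.e,⟨.o,.o,.e,.o,.o,.o⟩⟩),
   (567,⟨.e,.e,⟨.e,.o,.e,.o,.o,.o⟩⟩),
   (640,⟨.e,.e,⟨.o,.o,.o,.o,.o,.o⟩⟩),
   (641,⟨.e,.e,⟨.o,.o,.o,.o,.o,.o⟩⟩),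
   (642,⟨.e,.e,⟨.o,.o,.o,.o,.o,.o⟩⟩),
   (643,⟨.e,.e,⟨.o,.o,.o,.o,.o,.o⟩⟩),
   (644,⟨.e,.e,⟨.o,.o,.o,.o,.o,.o⟩⟩),
   (645,⟨.e,.e,⟨.o,.o,.o,.o,.o,.o⟩⟩),
   (646,⟨.e,.n,⟨.o,.n,.o,.o,.o,.o⟩⟩),
   (647,⟨.e,.e,⟨.o,.o,.o,.o,.o,.o⟩⟩)]

/-- part 39 -/
def schk4_39 : List (ℕ × Par) :=
  [(648,⟨.e,.e,⟨.n,.e,.o,.o,.o,.o⟩⟩),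
   (649,⟨.e,.n,⟨.o,.e,.o,.o,.o,.o⟩⟩),
   (650,⟨.n,.n,⟨.e,.o,.o,.o,.o,.o⟩⟩),
   (651,⟨.e,.n,⟨.o,.o,.o,.o,.o,.o⟩⟩),
   (652,⟨.n,.e,⟨.o,.o,.o,.o,.o,.o⟩⟩),
   (653,⟨.n,.e,⟨.o,.o,.o,.o,.o,.o⟩⟩),
   (654,⟨.e,.e,⟨.o,.o,.o,.o,.o,.o⟩⟩),
   (655,⟨.e,.n,⟨.o,.o,.o,.o,.o,.o⟩⟩),
   (656,⟨.e,.e,⟨.o,.o,.o,.o,.o,.o⟩⟩),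
   (657,⟨.n,.n,⟨.e,.n,.e,.n,.n,.n⟩⟩),
   (658,⟨.e,.e,⟨.o,.o,.o,.o,.o,.o⟩⟩),
   (659,⟨.e,.e,⟨.o,.o,.o,.o,.o,.o⟩⟩),
   (660,⟨.e,.e,⟨.n,.n,.n,.n,.o,.o⟩⟩),
   (661,⟨.e,.n,⟨.e,.n,.n,.o,.e,.e⟩⟩),
   (662,⟨.e,.e,⟨.o,.o,.o,.o,.o,.o⟩⟩),
   (663,⟨.e,.e,⟨.o,.o,.o,.o,.o,.o⟩⟩),
   (628,⟨.e,.e,⟨.o,.o,.o,.o,.o,.o⟩⟩),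
   (629,⟨.e,.e,⟨.o,.o,.o,.o,.o,.o⟩⟩),
   (630,⟨.e,.e,⟨.n,.e,.e,.e,.n,.e⟩⟩),
   (631,⟨.e,.e,⟨.o,.o,.o,.o,.o,.o⟩⟩),
   (632,⟨.e,.e,⟨.o,.o,.o,.o,.o,.o⟩⟩),
   (633,⟨.n,.n,⟨.e,.e,.o,.o,.n,.o⟩⟩),
   (634,⟨.n,.n,⟨.o,.e,.o,.o,.o,.o⟩⟩),
   (635,⟨.e,.e,⟨.o,.o,.o,.o,.o,.o⟩⟩),
   (636,⟨.e,.e,⟨.o,.o,.o,.o,.o,.o⟩⟩),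
   (637,⟨.e,.e,⟨.o,.n,.e,.n,.n,.n⟩⟩),
   (638,⟨.n,.n,⟨.o,.e,.n,.n,.e,.e⟩⟩),
   (639,⟨.e,.n,⟨.n,.n,.o,.o,.o,.o⟩⟩),
   (664,⟨.e,.n,⟨.e,.e,.o,.e,.n,.e⟩⟩),
   (665,⟨.e,.e,⟨.o,.o,.o,.o,.o,.o⟩⟩),
   (666,⟨.n,.n,⟨.o,.e,.n,.e,.o,.o⟩⟩),
   (667,⟨.n,.e,⟨.o,.e,.e,.e,.e,.n⟩⟩)]

/-- part 40 -/
def schk4_40 : List (ℕ × Par) :=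
  [(668,⟨.e,.n,⟨.n,.n,.e,.n,.n,.n⟩⟩),
   (669,⟨.e,.e,⟨.o,.o,.o,.o,.o,.o⟩⟩),
   (670,⟨.e,.n,⟨.o,.e,.n,.n,.e,.e⟩⟩),
   (671,⟨.e,.e,⟨.o,.o,.o,.o,.o,.o⟩⟩),
   (672,⟨.e,.n,⟨.e,.e,.e,.n,.o,.o⟩⟩),
   (673,⟨.e,.e,⟨.o,.o,.o,.o,.o,.o⟩⟩),
   (674,⟨.e,.e,⟨.o,.o,.o,.o,.o,.o⟩⟩),
   (675,⟨.n,.n,⟨.n,.n,.n,.e,.e,.n⟩⟩),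
   (676,⟨.n,.e,⟨.o,.o,.e,.o,.o,.o⟩⟩),
   (677,⟨.e,.e,⟨.o,.o,.o,.o,.o,.o⟩⟩),
   (678,⟨.e,.e,⟨.o,.o,.o,.o,.o,.o⟩⟩),
   (679,⟨.e,.e,⟨.o,.o,.o,.o,.o,.o⟩⟩),
   (680,⟨.e,.e,⟨.o,.o,.o,.o,.o,.o⟩⟩),
   (681,⟨.e,.e,⟨.o,.o,.o,.o,.o,.o⟩⟩),
   (682,⟨.n,.e,⟨.e,.o,.o,.o,.o,.o⟩⟩),
   (683,⟨.e,.e,⟨.o,.o,.o,.o,.o,.o⟩⟩),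
   (684,⟨.e,.e,⟨.n,.o,.e,.o,.o,.o⟩⟩),
   (685,⟨.e,.e,⟨.o,.o,.o,.o,.o,.o⟩⟩),
   (686,⟨.n,.e,⟨.n,.o,.o,.o,.o,.o⟩⟩),
   (687,⟨.e,.e,⟨.o,.o,.o,.o,.o,.o⟩⟩),
   (688,⟨.e,.e,⟨.n,.o,.n,.n,.e,.n⟩⟩),
   (689,⟨.e,.e,⟨.o,.o,.o,.o,.o,.o⟩⟩),
   (690,⟨.e,.n,⟨.o,.o,.n,.n,.e,.n⟩⟩),
   (691,⟨.n,.e,⟨.n,.n,.n,.e,.e,.n⟩⟩),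
   (692,⟨.e,.e,⟨.e,.o,.e,.e,.n,.n⟩⟩),
   (693,⟨.n,.n,⟨.e,.o,.o,.o,.o,.o⟩⟩),
   (694,⟨.e,.e,⟨.o,.o,.o,.o,.o,.o⟩⟩),
   (695,⟨.e,.e,⟨.o,.o,.o,.o,.o,.o⟩⟩),
   (696,⟨.e,.e,⟨.o,.o,.o,.o,.o,.o⟩⟩),
   (697,⟨.n,.n,⟨.n,.e,.e,.e,.n,.e⟩⟩),
   (698,⟨.e,.e,⟨.o,.o,.o,.o,.o,.o⟩⟩),
   (699,⟨.e,.e,⟨.o,.o,.o,.o,.o,.o⟩⟩)]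

/-- part 41 -/
def schk4_41 : List (ℕ × Par) :=
  [(616,⟨.e,.e,⟨.o,.o,.o,.o,.o,.o⟩⟩),
   (617,⟨.n,.n,⟨.o,.o,.n,.n,.e,.n⟩⟩),
   (618,⟨.e,.n,⟨.o,.n,.o,.o,.o,.o⟩⟩),
   (619,⟨.n,.n,⟨.e,.e,.e,.e,.n,.e⟩⟩),
   (620,⟨.e,.n,⟨.e,.e,.n,.n,.e,.e⟩⟩),
   (621,⟨.n,.e,⟨.e,.e,.e,.e,.n,.e⟩⟩),
   (622,⟨.e,.e,⟨.o,.o,.o,.o,.o,.o⟩⟩),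
   (623,⟨.e,.e,⟨.e,.n,.o,.e,.o,.n⟩⟩),
   (624,⟨.n,.e,⟨.n,.o,.n,.o,.o,.o⟩⟩),
   (625,⟨.e,.e,⟨.n,.e,.o,.o,.o,.o⟩⟩),
   (626,⟨.n,.e,⟨.o,.n,.n,.e,.e,.n⟩⟩),
   (627,⟨.n,.e,⟨.o,.e,.n,.n,.e,.e⟩⟩),
   (592,⟨.e,.e,⟨.o,.o,.o,.o,.o,.o⟩⟩),
   (593,⟨.e,.n,⟨.e,.n,.n,.e,.e,.n⟩⟩),
   (594,⟨.e,.e,⟨.o,.o,.o,.o,.o,.o⟩⟩),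
   (595,⟨.e,.e,⟨.o,.n,.n,.n,.e,.e⟩⟩),
   (596,⟨.e,.n,⟨.n,.o,.e,.e,.n,.n⟩⟩),
   (597,⟨.e,.e,⟨.n,.o,.n,.n,.n,.o⟩⟩),
   (598,⟨.e,.e,⟨.o,.o,.n,.o,.o,.o⟩⟩),
   (599,⟨.n,.n,⟨.e,.e,.e,.o,.n,.n⟩⟩),
   (600,⟨.n,.e,⟨.n,.o,.n,.n,.e,.n⟩⟩),
   (601,⟨.e,.e,⟨.n,.o,.n,.n,.e,.n⟩⟩),
   (602,⟨.e,.n,⟨.o,.n,.o,.o,.o,.o⟩⟩),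
   (603,⟨.n,.n,⟨.e,.n,.e,.n,.n,.n⟩⟩),
   (604,⟨.e,.e,⟨.o,.o,.o,.o,.o,.o⟩⟩),
   (605,⟨.e,.e,⟨.o,.o,.o,.o,.o,.o⟩⟩),
   (606,⟨.e,.e,⟨.o,.o,.o,.o,.o,.o⟩⟩),
   (607,⟨.e,.n,⟨.o,.o,.o,.o,.o,.o⟩⟩),
   (608,⟨.e,.n,⟨.n,.n,.n,.n,.o,.o⟩⟩),
   (609,⟨.e,.e,⟨.o,.o,.o,.o,.o,.o⟩⟩),
   (610,⟨.e,.e,⟨.o,.o,.o,.o,.o,.o⟩⟩),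
   (611,⟨.n,.n,⟨.e,.n,.e,.n,.n,.n⟩⟩)]

/-- part 42 -/
def schk4_42 : List (ℕ × Par) :=
  [(612,⟨.e,.e,⟨.o,.o,.o,.o,.o,.o⟩⟩),
   (613,⟨.e,.e,⟨.o,.o,.o,.o,.o,.o⟩⟩),
   (614,⟨.e,.e,⟨.o,.o,.o,.o,.o,.o⟩⟩),
   (615,⟨.e,.e,⟨.o,.o,.o,.o,.o,.o⟩⟩),
   (796,⟨.e,.e,⟨.o,.o,.o,.o,.o,.o⟩⟩),
   (797,⟨.e,.e,⟨.o,.o,.o,.o,.o,.o⟩⟩),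
   (798,⟨.e,.e,⟨.o,.o,.o,.o,.o,.o⟩⟩),
   (799,⟨.e,.e,⟨.o,.o,.o,.o,.o,.o⟩⟩),
   (800,⟨.n,.e,⟨.o,.o,.n,.e,.e,.n⟩⟩),
   (801,⟨.e,.n,⟨.o,.n,.o,.o,.o,.o⟩⟩),
   (802,⟨.e,.e,⟨.o,.o,.o,.o,.o,.o⟩⟩),
   (803,⟨.n,.n,⟨.e,.e,.n,.n,.e,.e⟩⟩),
   (804,⟨.e,.e,⟨.n,.o,.e,.n,.n,.e⟩⟩),
   (805,⟨.e,.e,⟨.o,.o,.o,.o,.o,.o⟩⟩),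
   (806,⟨.e,.e,⟨.o,.o,.o,.o,.o,.o⟩⟩),
   (807,⟨.e,.e,⟨.o,.o,.o,.o,.o,.o⟩⟩),
   (772,⟨.e,.e,⟨.o,.o,.o,.o,.o,.o⟩⟩),
   (773,⟨.e,.e,⟨.o,.o,.o,.o,.o,.o⟩⟩),
   (774,⟨.e,.e,⟨.o,.o,.o,.o,.o,.o⟩⟩),
   (775,⟨.e,.e,⟨.o,.o,.o,.o,.o,.o⟩⟩),
   (776,⟨.e,.e,⟨.o,.o,.o,.o,.o,.o⟩⟩),
   (777,⟨.e,.e,⟨.o,.o,.o,.o,.o,.o⟩⟩),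
   (778,⟨.e,.e,⟨.o,.o,.o,.o,.o,.o⟩⟩),
   (779,⟨.e,.n,⟨.o,.n,.o,.o,.o,.o⟩⟩),
   (780,⟨.n,.e,⟨.n,.o,.o,.o,.o,.o⟩⟩),
   (781,⟨.e,.e,⟨.o,.o,.o,.o,.o,.o⟩⟩),
   (782,⟨.n,.n,⟨.o,.n,.e,.n,.n,.n⟩⟩),
   (783,⟨.n,.e,⟨.e,.o,.o,.o,.o,.o⟩⟩),
   (784,⟨.n,.e,⟨.e,.o,.o,.o,.o,.o⟩⟩),
   (785,⟨.e,.e,⟨.o,.o,.o,.o,.o,.o⟩⟩),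
   (786,⟨.e,.n,⟨.o,.o,.o,.o,.o,.o⟩⟩),
   (787,⟨.n,.n,⟨.o,.n,.n,.e,.e,.n⟩⟩)]

/-- part 43 -/
def schk4_43 : List (ℕ × Par) :=
  [(788,⟨.n,.e,⟨.o,.o,.e,.o,.o,.o⟩⟩),
   (789,⟨.e,.e,⟨.o,.o,.o,.o,.o,.o⟩⟩),
   (790,⟨.n,.n,⟨.e,.n,.o,.e,.o,.n⟩⟩),
   (791,⟨.n,.e,⟨.e,.e,.n,.n,.e,.e⟩⟩),
   (792,⟨.n,.n,⟨.n,.o,.n,.o,.o,.o⟩⟩),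
   (793,⟨.e,.e,⟨.o,.o,.o,.o,.o,.o⟩⟩),
   (794,⟨.e,.e,⟨.o,.o,.o,.o,.o,.o⟩⟩),
   (795,⟨.e,.e,⟨.n,.n,.o,.o,.o,.o⟩⟩),
   (712,⟨.e,.e,⟨.o,.o,.o,.o,.o,.o⟩⟩),
   (713,⟨.e,.n,⟨.n,.o,.e,.n,.n,.e⟩⟩),
   (714,⟨.e,.e,⟨.o,.o,.o,.o,.o,.o⟩⟩),
   (715,⟨.n,.e,⟨.e,.e,.o,.o,.o,.o⟩⟩),
   (716,⟨.e,.e,⟨.n,.e,.n,.e,.o,.o⟩⟩),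
   (717,⟨.e,.n,⟨.o,.o,.o,.o,.o,.o⟩⟩),
   (718,⟨.e,.e,⟨.o,.o,.o,.o,.o,.o⟩⟩),
   (719,⟨.e,.e,⟨.o,.o,.o,.o,.o,.o⟩⟩),
   (720,⟨.e,.e,⟨.o,.o,.o,.o,.o,.o⟩⟩),
   (721,⟨.n,.n,⟨.n,.n,.o,.o,.o,.o⟩⟩),
   (722,⟨.e,.e,⟨.o,.o,.o,.o,.o,.o⟩⟩),
   (723,⟨.n,.n,⟨.n,.e,.e,.e,.n,.e⟩⟩),
   (724,⟨.n,.n,⟨.e,.o,.n,.o,.o,.o⟩⟩),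
   (725,⟨.e,.e,⟨.o,.o,.o,.o,.o,.o⟩⟩),
   (726,⟨.e,.e,⟨.e,.o,.o,.o,.o,.o⟩⟩),
   (727,⟨.n,.e,⟨.n,.o,.o,.o,.o,.o⟩⟩),
   (728,⟨.e,.e,⟨.o,.o,.o,.o,.o,.o⟩⟩),
   (729,⟨.e,.e,⟨.o,.o,.o,.o,.o,.o⟩⟩),
   (730,⟨.e,.e,⟨.o,.o,.o,.o,.o,.o⟩⟩),
   (731,⟨.e,.n,⟨.o,.o,.o,.o,.o,.o⟩⟩),
   (732,⟨.e,.e,⟨.o,.o,.o,.o,.o,.o⟩⟩),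
   (733,⟨.e,.e,⟨.o,.o,.o,.o,.o,.o⟩⟩),
   (734,⟨.e,.e,⟨.o,.o,.o,.o,.o,.o⟩⟩),
   (735,⟨.e,.e,⟨.o,.o,.o,.o,.o,.o⟩⟩)]

/-- part 44 -/
def schk4_44 : List (ℕ × Par) :=
  [(700,⟨.e,.e,⟨.o,.e,.o,.o,.o,.o⟩⟩),
   (701,⟨.e,.e,⟨.o,.e,.o,.o,.o,.o⟩⟩),
   (702,⟨.n,.e,⟨.o,.o,.o,.o,.o,.o⟩⟩),
   (703,⟨.n,.n,⟨.e,.n,.n,.e,.e,.n⟩⟩),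
   (704,⟨.e,.n,⟨.o,.o,.o,.o,.o,.o⟩⟩),
   (705,⟨.e,.n,⟨.e,.n,.n,.o,.e,.e⟩⟩),
   (706,⟨.e,.n,⟨.o,.n,.o,.o,.o,.o⟩⟩),
   (707,⟨.n,.n,⟨.e,.n,.e,.n,.n,.n⟩⟩),
   (708,⟨.e,.e,⟨.o,.o,.o,.o,.o,.o⟩⟩),
   (709,⟨.e,.e,⟨.o,.o,.o,.o,.o,.o⟩⟩),
   (710,⟨.n,.n,⟨.e,.e,.o,.e,.o,.e⟩⟩),
   (711,⟨.e,.e,⟨.o,.o,.o,.o,.o,.o⟩⟩),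
   (736,⟨.n,.n,⟨.o,.n,.o,.n,.n,.n⟩⟩),
   (737,⟨.e,.n,⟨.e,.e,.e,.o,.n,.n⟩⟩),
   (738,⟨.n,.e,⟨.o,.o,.o,.o,.o,.o⟩⟩),
   (739,⟨.n,.n,⟨.n,.o,.n,.n,.e,.n⟩⟩),
   (740,⟨.e,.e,⟨.o,.o,.o,.o,.o,.o⟩⟩),
   (741,⟨.e,.e,⟨.o,.o,.o,.o,.o,.o⟩⟩),
   (742,⟨.n,.n,⟨.o,.n,.e,.n,.n,.n⟩⟩),
   (743,⟨.e,.e,⟨.o,.o,.o,.o,.o,.o⟩⟩),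
   (744,⟨.e,.e,⟨.o,.o,.o,.o,.o,.o⟩⟩),
   (745,⟨.e,.e,⟨.o,.o,.o,.o,.o,.o⟩⟩),
   (746,⟨.n,.e,⟨.e,.n,.n,.n,.n,.n⟩⟩),
   (747,⟨.e,.e,⟨.o,.o,.o,.o,.o,.o⟩⟩),
   (748,⟨.e,.e,⟨.o,.o,.o,.o,.o,.o⟩⟩),
   (749,⟨.e,.n,⟨.e,.e,.n,.n,.e,.e⟩⟩),
   (750,⟨.e,.e,⟨.o,.n,.o,.o,.o,.o⟩⟩),
   (751,⟨.n,.e,⟨.o,.o,.o,.o,.o,.o⟩⟩),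
   (752,⟨.e,.n,⟨.n,.n,.o,.o,.o,.o⟩⟩),
   (753,⟨.e,.n,⟨.e,.e,.e,.o,.n,.n⟩⟩),
   (754,⟨.n,.n,⟨.e,.o,.o,.o,.o,.o⟩⟩),
   (755,⟨.e,.n,⟨.o,.o,.o,.o,.o,.o⟩⟩)]

/-- part 45 -/
def schk4_45 : List (ℕ × Par) :=
  [(756,⟨.e,.e,⟨.o,.o,.o,.o,.o,.o⟩⟩),
   (757,⟨.e,.e,⟨.e,.n,.e,.n,.n,.n⟩⟩),
   (758,⟨.e,.e,⟨.o,.o,.o,.o,.o,.o⟩⟩),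
   (759,⟨.e,.e,⟨.o,.o,.o,.o,.o,.o⟩⟩),
   (760,⟨.e,.e,⟨.o,.o,.o,.o,.o,.o⟩⟩),
   (761,⟨.e,.e,⟨.o,.n,.o,.o,.o,.o⟩⟩),
   (762,⟨.n,.n,⟨.e,.o,.o,.o,.o,.o⟩⟩),
   (763,⟨.e,.e,⟨.o,.n,.o,.o,.o,.o⟩⟩),
   (764,⟨.n,.e,⟨.n,.e,.o,.o,.o,.o⟩⟩),
   (765,⟨.e,.n,⟨.o,.o,.o,.o,.o,.o⟩⟩),
   (766,⟨.e,.n,⟨.o,.n,.o,.o,.o,.o⟩⟩),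
   (767,⟨.n,.e,⟨.n,.n,.n,.e,.e,.n⟩⟩),
   (768,⟨.e,.e,⟨.n,.o,.o,.o,.o,.o⟩⟩),
   (769,⟨.e,.e,⟨.o,.o,.o,.o,.o,.o⟩⟩),
   (770,⟨.e,.e,⟨.o,.n,.o,.o,.o,.o⟩⟩),
   (771,⟨.n,.n,⟨.o,.o,.o,.o,.o,.o⟩⟩)]

/-- Schreier data of a root element -/
def tab4 : List (List (ℕ × Par)) :=
  [schk4_0,
   schk4_1,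
   schk4_2,
   schk4_3,
   schk4_4,
   schk4_5,
   schk4_6,
   schk4_7,
   schk4_8,
   schk4_9,
   schk4_10,
   schk4_11,
   schk4_12,
   schk4_13,
   schk4_14,
   schk4_15,
   schk4_16,
   schk4_17,
   schk4_18,
   schk4_19,
   schk4_20,
   schk4_21,
   schk4_22,
   schk4_23,
   schk4_24,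
   schk4_25,
   schk4_26,
   schk4_27,
   schk4_28,
   schk4_29,
   schk4_30,
   schk4_31,
   schk4_32,
   schk4_33,
   schk4_34,
   schk4_35,
   schk4_36,
   schk4_37,
   schk4_38,
   schk4_39,
   schk4_40,
   schk4_41,
   schk4_42,
   schk4_43,
   schk4_44,
   schk4_45]

end Cfsg.Agent.H50.GTwoThree
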