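/- Schreier data of a root element; generated. -/
import Cfsg.Agent.H50.GTwoThree.Code

set_option autoImplicit false
set_option maxRecDepth 100000

namespace Cfsg.Agent.H50.GTwoThree

/-- part 0 -/
def schk5_0 : List (ℕ × Par) :=
  [(0,⟨.e,.e,⟨.n,.o,.n,.n,.e,.e⟩⟩),
   (2,⟨.e,.e,⟨.o,.o,.o,.o,.o,.o⟩⟩),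
   (3,⟨.n,.e,⟨.n,.e,.e,.o,.n,.n⟩⟩),
   (1,⟨.n,.e,⟨.e,.e,.o,.e,.o,.e⟩⟩),
   (4,⟨.e,.e,⟨.o,.o,.o,.o,.e,.n⟩⟩),
   (5,⟨.e,.e,⟨.o,.o,.o,.o,.o,.n⟩⟩),
   (6,⟨.e,.e,⟨.o,.o,.o,.o,.e,.n⟩⟩),
   (7,⟨.e,.e,⟨.o,.o,.o,.o,.e,.n⟩⟩),
   (8,⟨.e,.e,⟨.n,.o,.o,.o,.o,.e⟩⟩),
   (10,⟨.e,.e,⟨.o,.o,.o,.o,.o,.o⟩⟩),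
   (11,⟨.e,.e,⟨.o,.e,.o,.o,.e,.e⟩⟩),
   (9,⟨.e,.e,⟨.o,.n,.o,.o,.n,.n⟩⟩),
   (12,⟨.e,.e,⟨.n,.o,.e,.n,.n,.o⟩⟩),
   (15,⟨.e,.e,⟨.o,.o,.o,.o,.o,.o⟩⟩),
   (13,⟨.n,.e,⟨.e,.e,.o,.e,.o,.e⟩⟩),
   (14,⟨.n,.e,⟨.n,.e,.e,.o,.n,.n⟩⟩),
   (28,⟨.e,.e,⟨.o,.o,.o,.o,.o,.o⟩⟩),
   (29,⟨.e,.e,⟨.o,.o,.o,.o,.o,.o⟩⟩),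
   (30,⟨.e,.e,⟨.o,.o,.o,.o,.o,.o⟩⟩),
   (31,⟨.e,.e,⟨.o,.o,.o,.o,.o,.o⟩⟩),
   (32,⟨.e,.e,⟨.o,.o,.o,.o,.o,.o⟩⟩),
   (33,⟨.n,.e,⟨.e,.n,.o,.e,.n,.o⟩⟩),
   (34,⟨.e,.e,⟨.o,.o,.o,.o,.o,.o⟩⟩),
   (35,⟨.n,.e,⟨.n,.o,.o,.e,.o,.o⟩⟩),
   (36,⟨.e,.e,⟨.o,.o,.o,.o,.o,.o⟩⟩),
   (37,⟨.e,.e,⟨.o,.e,.o,.n,.n,.o⟩⟩),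
   (38,⟨.e,.e,⟨.o,.o,.o,.o,.o,.o⟩⟩),
   (39,⟨.e,.e,⟨.o,.e,.o,.o,.e,.e⟩⟩),
   (40,⟨.e,.n,⟨.e,.e,.n,.n,.e,.n⟩⟩),
   (41,⟨.e,.e,⟨.o,.n,.o,.o,.n,.o⟩⟩),
   (42,⟨.e,.e,⟨.o,.n,.o,.o,.n,.o⟩⟩),
   (43,⟨.n,.n,⟨.e,.o,.o,.n,.o,.e⟩⟩)]

/-- part 1 -/
def schk5_1 : List (ℕ × Par) :=
  [(44,⟨.n,.e,⟨.n,.o,.o,.n,.o,.e⟩⟩),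
   (45,⟨.n,.e,⟨.n,.n,.n,.o,.o,.e⟩⟩),
   (46,⟨.e,.e,⟨.o,.o,.o,.o,.o,.o⟩⟩),
   (47,⟨.n,.e,⟨.e,.o,.o,.n,.o,.o⟩⟩),
   (48,⟨.e,.n,⟨.o,.e,.e,.n,.o,.n⟩⟩),
   (49,⟨.e,.n,⟨.o,.e,.o,.o,.o,.e⟩⟩),
   (50,⟨.e,.e,⟨.o,.o,.o,.o,.o,.o⟩⟩),
   (51,⟨.e,.e,⟨.o,.o,.o,.o,.o,.o⟩⟩),
   (16,⟨.e,.n,⟨.e,.n,.o,.o,.o,.n⟩⟩),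
   (17,⟨.e,.e,⟨.o,.e,.o,.o,.e,.o⟩⟩),
   (18,⟨.e,.e,⟨.o,.e,.o,.o,.e,.o⟩⟩),
   (19,⟨.n,.n,⟨.e,.o,.o,.n,.o,.e⟩⟩),
   (20,⟨.n,.e,⟨.e,.o,.o,.e,.o,.e⟩⟩),
   (21,⟨.e,.e,⟨.o,.o,.o,.o,.o,.o⟩⟩),
   (22,⟨.e,.e,⟨.o,.o,.o,.o,.o,.o⟩⟩),
   (23,⟨.e,.e,⟨.o,.o,.o,.o,.o,.o⟩⟩),
   (24,⟨.e,.n,⟨.o,.n,.e,.o,.o,.e⟩⟩),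
   (25,⟨.e,.n,⟨.o,.e,.o,.e,.e,.n⟩⟩),
   (26,⟨.e,.e,⟨.o,.o,.o,.o,.o,.o⟩⟩),
   (27,⟨.e,.e,⟨.o,.n,.o,.o,.n,.n⟩⟩),
   (52,⟨.e,.e,⟨.o,.o,.o,.o,.o,.n⟩⟩),
   (53,⟨.e,.e,⟨.o,.o,.o,.o,.n,.n⟩⟩),
   (54,⟨.e,.e,⟨.o,.o,.o,.o,.e,.o⟩⟩),
   (55,⟨.e,.e,⟨.o,.o,.o,.o,.e,.o⟩⟩),
   (56,⟨.e,.e,⟨.n,.o,.n,.n,.e,.e⟩⟩),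
   (58,⟨.e,.e,⟨.o,.o,.o,.o,.o,.o⟩⟩),
   (59,⟨.e,.e,⟨.o,.n,.o,.n,.n,.o⟩⟩),
   (57,⟨.e,.e,⟨.o,.e,.o,.e,.e,.o⟩⟩),
   (60,⟨.e,.e,⟨.e,.o,.o,.o,.o,.n⟩⟩),
   (63,⟨.e,.e,⟨.o,.o,.o,.o,.o,.o⟩⟩),
   (61,⟨.n,.n,⟨.e,.e,.o,.o,.n,.o⟩⟩),
   (62,⟨.n,.n,⟨.e,.e,.n,.n,.n,.o⟩⟩)]

/-- part 2 -/
def schk5_2 : List (ℕ × Par) :=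
  [(64,⟨.e,.e,⟨.o,.o,.o,.o,.o,.n⟩⟩),
   (65,⟨.e,.e,⟨.o,.o,.o,.o,.e,.n⟩⟩),
   (66,⟨.e,.e,⟨.o,.o,.o,.o,.e,.n⟩⟩),
   (67,⟨.e,.e,⟨.o,.o,.o,.o,.e,.n⟩⟩),
   (68,⟨.e,.e,⟨.n,.o,.o,.o,.o,.n⟩⟩),
   (70,⟨.e,.e,⟨.o,.o,.o,.o,.o,.o⟩⟩),
   (71,⟨.e,.e,⟨.o,.o,.o,.o,.o,.o⟩⟩),
   (69,⟨.e,.e,⟨.o,.o,.o,.o,.o,.o⟩⟩),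
   (72,⟨.e,.e,⟨.e,.o,.o,.o,.o,.n⟩⟩),
   (75,⟨.n,.n,⟨.o,.o,.o,.n,.e,.o⟩⟩),
   (73,⟨.e,.e,⟨.o,.o,.o,.o,.o,.o⟩⟩),
   (74,⟨.n,.n,⟨.o,.o,.o,.n,.n,.o⟩⟩),
   (76,⟨.e,.e,⟨.o,.o,.o,.o,.o,.n⟩⟩),
   (77,⟨.e,.e,⟨.o,.o,.o,.o,.e,.n⟩⟩),
   (78,⟨.e,.e,⟨.o,.o,.o,.o,.e,.n⟩⟩),
   (79,⟨.e,.e,⟨.o,.o,.o,.o,.n,.n⟩⟩),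
   (80,⟨.e,.e,⟨.n,.o,.o,.o,.o,.n⟩⟩),
   (82,⟨.n,.e,⟨.e,.e,.n,.e,.o,.n⟩⟩),
   (83,⟨.e,.e,⟨.o,.o,.o,.o,.o,.o⟩⟩),
   (81,⟨.n,.e,⟨.n,.e,.o,.e,.n,.o⟩⟩),
   (84,⟨.e,.e,⟨.n,.o,.e,.n,.n,.o⟩⟩),
   (87,⟨.e,.e,⟨.o,.o,.o,.o,.e,.o⟩⟩),
   (85,⟨.e,.e,⟨.o,.o,.o,.o,.n,.o⟩⟩),
   (86,⟨.e,.e,⟨.o,.o,.o,.o,.o,.o⟩⟩),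
   (100,⟨.e,.e,⟨.o,.o,.o,.o,.o,.o⟩⟩),
   (102,⟨.e,.e,⟨.o,.o,.o,.o,.o,.o⟩⟩),
   (103,⟨.e,.e,⟨.o,.o,.o,.o,.o,.o⟩⟩),
   (101,⟨.e,.e,⟨.o,.o,.o,.o,.o,.o⟩⟩),
   (104,⟨.e,.e,⟨.o,.o,.e,.o,.o,.n⟩⟩),
   (107,⟨.e,.e,⟨.o,.o,.o,.o,.o,.o⟩⟩),
   (105,⟨.n,.e,⟨.e,.n,.o,.o,.n,.o⟩⟩),
   (106,⟨.e,.e,⟨.n,.o,.o,.o,.n,.o⟩⟩)]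

/-- part 3 -/
def schk5_3 : List (ℕ × Par) :=
  [(108,⟨.e,.e,⟨.o,.o,.n,.o,.o,.e⟩⟩),
   (109,⟨.e,.n,⟨.o,.o,.o,.o,.n,.o⟩⟩),
   (110,⟨.e,.e,⟨.o,.o,.o,.o,.o,.o⟩⟩),
   (111,⟨.e,.e,⟨.o,.o,.o,.o,.o,.o⟩⟩),
   (112,⟨.e,.e,⟨.o,.o,.n,.o,.o,.e⟩⟩),
   (113,⟨.e,.e,⟨.o,.e,.o,.o,.e,.o⟩⟩),
   (114,⟨.n,.e,⟨.n,.e,.e,.e,.e,.o⟩⟩),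
   (115,⟨.e,.e,⟨.o,.e,.o,.o,.n,.o⟩⟩),
   (116,⟨.e,.e,⟨.o,.o,.o,.o,.o,.o⟩⟩),
   (118,⟨.n,.e,⟨.n,.n,.n,.e,.e,.n⟩⟩),
   (119,⟨.e,.e,⟨.e,.o,.o,.o,.e,.n⟩⟩),
   (117,⟨.e,.n,⟨.o,.e,.o,.o,.n,.o⟩⟩),
   (120,⟨.e,.e,⟨.o,.o,.e,.o,.o,.n⟩⟩),
   (123,⟨.e,.e,⟨.o,.o,.o,.o,.o,.o⟩⟩),
   (121,⟨.n,.n,⟨.o,.o,.o,.o,.o,.o⟩⟩),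
   (122,⟨.e,.e,⟨.o,.o,.o,.o,.o,.o⟩⟩),
   (88,⟨.e,.e,⟨.o,.o,.e,.o,.o,.n⟩⟩),
   (91,⟨.e,.e,⟨.o,.n,.o,.o,.n,.o⟩⟩),
   (89,⟨.n,.e,⟨.e,.e,.o,.o,.n,.o⟩⟩),
   (90,⟨.e,.e,⟨.o,.n,.o,.o,.e,.o⟩⟩),
   (92,⟨.e,.e,⟨.o,.o,.n,.o,.o,.e⟩⟩),
   (93,⟨.e,.n,⟨.o,.n,.o,.o,.n,.o⟩⟩),
   (94,⟨.e,.e,⟨.o,.o,.o,.o,.n,.o⟩⟩),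
   (95,⟨.e,.e,⟨.o,.o,.o,.o,.o,.o⟩⟩),
   (96,⟨.e,.e,⟨.o,.o,.o,.o,.o,.o⟩⟩),
   (98,⟨.n,.n,⟨.o,.o,.o,.o,.o,.o⟩⟩),
   (99,⟨.e,.e,⟨.o,.o,.o,.o,.o,.o⟩⟩),
   (97,⟨.e,.n,⟨.o,.o,.o,.o,.n,.o⟩⟩),
   (136,⟨.e,.e,⟨.o,.o,.o,.o,.o,.o⟩⟩),
   (139,⟨.e,.e,⟨.o,.o,.o,.o,.o,.o⟩⟩),
   (137,⟨.e,.e,⟨.o,.o,.o,.o,.o,.o⟩⟩),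
   (138,⟨.e,.e,⟨.o,.o,.o,.o,.o,.o⟩⟩)]

/-- part 4 -/
def schk5_4 : List (ℕ × Par) :=
  [(140,⟨.n,.e,⟨.n,.o,.o,.n,.o,.e⟩⟩),
   (141,⟨.n,.e,⟨.o,.e,.o,.o,.n,.o⟩⟩),
   (142,⟨.e,.e,⟨.o,.o,.o,.o,.o,.o⟩⟩),
   (143,⟨.e,.e,⟨.o,.o,.o,.o,.o,.o⟩⟩),
   (144,⟨.e,.e,⟨.e,.o,.o,.o,.o,.e⟩⟩),
   (146,⟨.e,.e,⟨.o,.o,.o,.o,.o,.o⟩⟩),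
   (147,⟨.e,.e,⟨.o,.o,.o,.o,.o,.o⟩⟩),
   (145,⟨.e,.e,⟨.o,.n,.o,.o,.e,.o⟩⟩),
   (148,⟨.e,.n,⟨.e,.e,.n,.n,.e,.n⟩⟩),
   (149,⟨.e,.e,⟨.o,.n,.o,.o,.n,.o⟩⟩),
   (150,⟨.n,.n,⟨.e,.o,.o,.o,.e,.n⟩⟩),
   (151,⟨.e,.e,⟨.o,.n,.o,.o,.n,.o⟩⟩),
   (152,⟨.n,.e,⟨.e,.o,.o,.e,.o,.e⟩⟩),
   (154,⟨.n,.n,⟨.o,.o,.o,.o,.e,.o⟩⟩),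
   (155,⟨.e,.e,⟨.o,.o,.o,.o,.o,.o⟩⟩),
   (153,⟨.e,.e,⟨.o,.o,.o,.o,.o,.o⟩⟩),
   (156,⟨.e,.e,⟨.o,.o,.o,.o,.o,.o⟩⟩),
   (159,⟨.e,.e,⟨.o,.e,.o,.o,.e,.o⟩⟩),
   (157,⟨.n,.e,⟨.o,.e,.o,.e,.e,.o⟩⟩),
   (158,⟨.e,.e,⟨.o,.o,.o,.o,.o,.o⟩⟩),
   (124,⟨.e,.n,⟨.e,.n,.o,.o,.o,.n⟩⟩),
   (126,⟨.e,.e,⟨.o,.e,.o,.o,.e,.o⟩⟩),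
   (127,⟨.n,.n,⟨.e,.o,.o,.o,.n,.o⟩⟩),
   (125,⟨.e,.e,⟨.o,.e,.o,.o,.e,.o⟩⟩),
   (128,⟨.e,.e,⟨.o,.o,.o,.o,.o,.o⟩⟩),
   (131,⟨.e,.e,⟨.o,.o,.o,.o,.o,.o⟩⟩),
   (129,⟨.e,.n,⟨.o,.e,.o,.o,.o,.o⟩⟩),
   (130,⟨.e,.e,⟨.o,.o,.o,.o,.o,.o⟩⟩),
   (132,⟨.e,.e,⟨.n,.o,.o,.o,.o,.n⟩⟩),
   (133,⟨.n,.e,⟨.o,.e,.o,.n,.e,.o⟩⟩),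
   (134,⟨.e,.e,⟨.o,.o,.o,.o,.o,.o⟩⟩),
   (135,⟨.e,.e,⟨.o,.o,.o,.o,.e,.o⟩⟩)]

/-- part 5 -/
def schk5_5 : List (ℕ × Par) :=
  [(268,⟨.e,.e,⟨.o,.o,.o,.o,.o,.o⟩⟩),
   (269,⟨.e,.e,⟨.o,.o,.o,.o,.o,.o⟩⟩),
   (270,⟨.e,.e,⟨.o,.o,.o,.o,.o,.o⟩⟩),
   (271,⟨.e,.e,⟨.o,.o,.o,.o,.o,.o⟩⟩),
   (272,⟨.e,.e,⟨.o,.o,.o,.o,.o,.o⟩⟩),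
   (273,⟨.e,.n,⟨.o,.n,.o,.o,.n,.o⟩⟩),
   (274,⟨.e,.e,⟨.o,.o,.o,.o,.o,.o⟩⟩),
   (275,⟨.e,.e,⟨.o,.o,.o,.o,.o,.o⟩⟩),
   (276,⟨.e,.e,⟨.o,.o,.o,.o,.o,.o⟩⟩),
   (277,⟨.e,.e,⟨.e,.e,.o,.o,.o,.o⟩⟩),
   (278,⟨.e,.n,⟨.o,.o,.o,.o,.o,.o⟩⟩),
   (279,⟨.e,.e,⟨.o,.o,.o,.o,.o,.o⟩⟩),
   (280,⟨.e,.e,⟨.o,.o,.o,.o,.o,.o⟩⟩),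
   (281,⟨.e,.e,⟨.o,.o,.o,.o,.o,.o⟩⟩),
   (282,⟨.e,.e,⟨.o,.o,.o,.o,.e,.n⟩⟩),
   (283,⟨.e,.e,⟨.o,.o,.o,.o,.o,.o⟩⟩),
   (284,⟨.e,.e,⟨.e,.e,.e,.n,.o,.o⟩⟩),
   (285,⟨.e,.e,⟨.o,.o,.o,.o,.o,.o⟩⟩),
   (286,⟨.e,.e,⟨.o,.o,.o,.o,.o,.o⟩⟩),
   (287,⟨.e,.e,⟨.o,.o,.o,.o,.o,.o⟩⟩),
   (288,⟨.e,.e,⟨.o,.o,.o,.o,.o,.o⟩⟩),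
   (289,⟨.e,.e,⟨.e,.o,.e,.e,.n,.n⟩⟩),
   (290,⟨.n,.e,⟨.e,.o,.e,.n,.n,.e⟩⟩),
   (291,⟨.e,.e,⟨.o,.o,.o,.o,.e,.o⟩⟩),
   (292,⟨.e,.e,⟨.o,.o,.o,.o,.o,.o⟩⟩),
   (293,⟨.e,.e,⟨.o,.o,.o,.o,.o,.o⟩⟩),
   (294,⟨.e,.e,⟨.o,.o,.o,.o,.e,.n⟩⟩),
   (295,⟨.e,.e,⟨.o,.o,.o,.o,.o,.o⟩⟩),
   (296,⟨.n,.e,⟨.o,.n,.e,.e,.o,.o⟩⟩),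
   (297,⟨.e,.e,⟨.o,.o,.o,.o,.o,.o⟩⟩),
   (298,⟨.e,.e,⟨.o,.o,.o,.o,.o,.o⟩⟩),
   (299,⟨.n,.n,⟨.o,.o,.o,.n,.e,.o⟩⟩)]

/-- part 6 -/
def schk5_6 : List (ℕ × Par) :=
  [(300,⟨.e,.n,⟨.o,.n,.n,.n,.o,.o⟩⟩),
   (301,⟨.n,.n,⟨.o,.o,.o,.o,.o,.o⟩⟩),
   (302,⟨.e,.e,⟨.o,.o,.o,.o,.o,.o⟩⟩),
   (303,⟨.e,.e,⟨.e,.n,.o,.o,.o,.o⟩⟩),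
   (304,⟨.e,.n,⟨.o,.n,.o,.o,.o,.o⟩⟩),
   (305,⟨.n,.e,⟨.n,.e,.o,.o,.n,.o⟩⟩),
   (306,⟨.e,.e,⟨.e,.e,.o,.o,.o,.o⟩⟩),
   (307,⟨.e,.e,⟨.o,.o,.o,.o,.o,.o⟩⟩),
   (308,⟨.e,.e,⟨.o,.o,.o,.o,.o,.o⟩⟩),
   (309,⟨.e,.e,⟨.o,.o,.o,.o,.o,.o⟩⟩),
   (310,⟨.e,.e,⟨.o,.o,.o,.o,.o,.o⟩⟩),
   (311,⟨.n,.e,⟨.n,.e,.o,.o,.e,.o⟩⟩),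
   (312,⟨.e,.e,⟨.o,.o,.n,.o,.o,.n⟩⟩),
   (313,⟨.e,.e,⟨.o,.o,.o,.o,.o,.o⟩⟩),
   (314,⟨.e,.e,⟨.o,.o,.o,.o,.o,.o⟩⟩),
   (315,⟨.n,.e,⟨.n,.o,.o,.o,.n,.o⟩⟩),
   (316,⟨.e,.n,⟨.e,.e,.n,.n,.e,.n⟩⟩),
   (317,⟨.e,.e,⟨.o,.n,.o,.o,.n,.o⟩⟩),
   (318,⟨.e,.e,⟨.o,.n,.o,.o,.n,.o⟩⟩),
   (319,⟨.e,.e,⟨.o,.o,.o,.o,.o,.o⟩⟩),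
   (320,⟨.n,.n,⟨.n,.o,.o,.o,.o,.o⟩⟩),
   (321,⟨.e,.e,⟨.o,.o,.o,.o,.o,.o⟩⟩),
   (322,⟨.e,.e,⟨.o,.o,.o,.o,.o,.o⟩⟩),
   (323,⟨.n,.n,⟨.e,.e,.o,.o,.n,.o⟩⟩),
   (324,⟨.e,.e,⟨.o,.o,.o,.o,.o,.o⟩⟩),
   (325,⟨.e,.e,⟨.o,.o,.o,.o,.o,.o⟩⟩),
   (326,⟨.e,.e,⟨.o,.o,.o,.o,.o,.o⟩⟩),
   (327,⟨.e,.e,⟨.o,.o,.o,.o,.o,.o⟩⟩),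
   (328,⟨.e,.e,⟨.o,.o,.o,.o,.o,.o⟩⟩),
   (329,⟨.e,.e,⟨.o,.o,.o,.o,.o,.o⟩⟩),
   (330,⟨.e,.e,⟨.o,.o,.o,.o,.o,.o⟩⟩),
   (331,⟨.e,.e,⟨.o,.o,.o,.o,.o,.o⟩⟩)]

/-- part 7 -/
def schk5_7 : List (ℕ × Par) :=
  [(332,⟨.e,.e,⟨.n,.n,.n,.e,.e,.o⟩⟩),
   (333,⟨.n,.e,⟨.o,.o,.o,.o,.o,.o⟩⟩),
   (334,⟨.e,.e,⟨.o,.o,.o,.o,.o,.o⟩⟩),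
   (335,⟨.n,.n,⟨.e,.e,.o,.o,.o,.o⟩⟩),
   (336,⟨.e,.n,⟨.o,.n,.e,.e,.o,.o⟩⟩),
   (337,⟨.e,.e,⟨.o,.o,.o,.o,.o,.o⟩⟩),
   (338,⟨.e,.e,⟨.o,.o,.o,.o,.o,.o⟩⟩),
   (339,⟨.e,.e,⟨.n,.n,.o,.o,.e,.o⟩⟩),
   (340,⟨.e,.e,⟨.o,.o,.o,.o,.o,.n⟩⟩),
   (341,⟨.e,.n,⟨.n,.o,.o,.o,.n,.o⟩⟩),
   (342,⟨.n,.n,⟨.e,.o,.o,.o,.e,.o⟩⟩),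
   (343,⟨.e,.e,⟨.o,.n,.o,.o,.n,.o⟩⟩),
   (344,⟨.e,.e,⟨.o,.o,.n,.o,.o,.e⟩⟩),
   (345,⟨.e,.e,⟨.n,.o,.o,.o,.o,.o⟩⟩),
   (346,⟨.n,.e,⟨.o,.o,.o,.o,.o,.o⟩⟩),
   (347,⟨.e,.n,⟨.o,.n,.o,.o,.e,.o⟩⟩),
   (348,⟨.e,.e,⟨.o,.o,.o,.o,.o,.o⟩⟩),
   (349,⟨.e,.e,⟨.o,.o,.o,.o,.o,.o⟩⟩),
   (350,⟨.n,.e,⟨.n,.e,.o,.o,.o,.o⟩⟩),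
   (351,⟨.e,.e,⟨.o,.o,.o,.o,.o,.o⟩⟩),
   (352,⟨.e,.e,⟨.o,.o,.n,.o,.o,.e⟩⟩),
   (353,⟨.e,.e,⟨.o,.e,.o,.o,.e,.o⟩⟩),
   (354,⟨.e,.e,⟨.o,.o,.o,.o,.o,.o⟩⟩),
   (355,⟨.e,.e,⟨.o,.o,.o,.o,.o,.o⟩⟩),
   (356,⟨.e,.e,⟨.o,.o,.o,.o,.o,.o⟩⟩),
   (357,⟨.n,.e,⟨.o,.n,.o,.o,.n,.o⟩⟩),
   (358,⟨.e,.e,⟨.o,.e,.o,.o,.n,.o⟩⟩),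
   (359,⟨.e,.e,⟨.o,.o,.o,.o,.o,.o⟩⟩),
   (360,⟨.e,.e,⟨.o,.o,.o,.o,.o,.n⟩⟩),
   (361,⟨.e,.n,⟨.o,.e,.o,.o,.n,.o⟩⟩),
   (362,⟨.e,.n,⟨.o,.o,.o,.o,.n,.o⟩⟩),
   (363,⟨.e,.e,⟨.o,.n,.o,.o,.o,.o⟩⟩)]

/-- part 8 -/
def schk5_8 : List (ℕ × Par) :=
  [(364,⟨.e,.e,⟨.o,.o,.o,.o,.o,.o⟩⟩),
   (365,⟨.e,.e,⟨.o,.e,.o,.o,.e,.o⟩⟩),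
   (366,⟨.e,.e,⟨.o,.o,.o,.o,.o,.o⟩⟩),
   (367,⟨.e,.n,⟨.e,.o,.o,.o,.o,.o⟩⟩),
   (368,⟨.e,.e,⟨.n,.o,.o,.o,.o,.o⟩⟩),
   (369,⟨.e,.e,⟨.o,.o,.o,.o,.o,.o⟩⟩),
   (370,⟨.n,.e,⟨.n,.e,.e,.e,.n,.e⟩⟩),
   (371,⟨.e,.e,⟨.o,.o,.o,.o,.o,.o⟩⟩),
   (372,⟨.e,.e,⟨.o,.o,.n,.o,.o,.e⟩⟩),
   (373,⟨.e,.e,⟨.o,.o,.o,.o,.o,.o⟩⟩),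
   (374,⟨.e,.e,⟨.n,.n,.o,.o,.o,.o⟩⟩),
   (375,⟨.e,.e,⟨.o,.o,.o,.o,.o,.o⟩⟩),
   (376,⟨.e,.n,⟨.e,.n,.o,.o,.o,.o⟩⟩),
   (377,⟨.n,.e,⟨.e,.o,.o,.o,.o,.o⟩⟩),
   (378,⟨.n,.e,⟨.o,.o,.o,.o,.n,.o⟩⟩),
   (379,⟨.e,.e,⟨.o,.o,.o,.o,.o,.o⟩⟩),
   (380,⟨.n,.n,⟨.o,.n,.e,.n,.n,.n⟩⟩),
   (381,⟨.e,.e,⟨.o,.o,.o,.o,.o,.o⟩⟩),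
   (382,⟨.e,.e,⟨.o,.o,.o,.o,.o,.o⟩⟩),
   (383,⟨.e,.e,⟨.o,.o,.o,.o,.o,.o⟩⟩),
   (384,⟨.e,.n,⟨.e,.e,.e,.o,.n,.n⟩⟩),
   (385,⟨.n,.e,⟨.e,.n,.o,.o,.o,.o⟩⟩),
   (386,⟨.e,.n,⟨.o,.o,.o,.o,.o,.o⟩⟩),
   (387,⟨.e,.e,⟨.o,.o,.o,.o,.o,.o⟩⟩),
   (388,⟨.e,.e,⟨.e,.e,.o,.o,.o,.o⟩⟩),
   (389,⟨.e,.e,⟨.o,.e,.o,.o,.o,.o⟩⟩),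
   (390,⟨.n,.n,⟨.e,.n,.n,.e,.o,.e⟩⟩),
   (391,⟨.e,.e,⟨.o,.o,.o,.o,.o,.o⟩⟩),
   (392,⟨.e,.e,⟨.e,.o,.n,.o,.o,.o⟩⟩),
   (393,⟨.e,.e,⟨.o,.o,.o,.o,.o,.o⟩⟩),
   (394,⟨.e,.e,⟨.o,.o,.o,.o,.o,.o⟩⟩),
   (395,⟨.e,.e,⟨.o,.o,.o,.o,.o,.o⟩⟩)]

/-- part 9 -/
def schk5_9 : List (ℕ × Par) :=
  [(396,⟨.e,.e,⟨.o,.o,.o,.o,.o,.o⟩⟩),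
   (397,⟨.e,.e,⟨.o,.o,.o,.o,.o,.o⟩⟩),
   (398,⟨.n,.n,⟨.e,.o,.o,.o,.n,.n⟩⟩),
   (399,⟨.e,.e,⟨.o,.o,.o,.o,.n,.o⟩⟩),
   (400,⟨.n,.e,⟨.o,.o,.o,.o,.o,.o⟩⟩),
   (401,⟨.n,.e,⟨.o,.n,.n,.n,.e,.e⟩⟩),
   (402,⟨.n,.e,⟨.o,.o,.o,.o,.e,.n⟩⟩),
   (403,⟨.n,.e,⟨.o,.o,.o,.o,.o,.o⟩⟩),
   (404,⟨.e,.n,⟨.e,.e,.n,.n,.e,.e⟩⟩),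
   (405,⟨.e,.e,⟨.o,.o,.o,.o,.o,.o⟩⟩),
   (406,⟨.e,.e,⟨.o,.o,.o,.o,.o,.o⟩⟩),
   (407,⟨.n,.n,⟨.o,.o,.o,.n,.e,.o⟩⟩),
   (408,⟨.e,.e,⟨.e,.o,.n,.o,.o,.o⟩⟩),
   (409,⟨.n,.n,⟨.o,.o,.o,.o,.o,.o⟩⟩),
   (410,⟨.e,.e,⟨.o,.o,.o,.o,.o,.o⟩⟩),
   (411,⟨.e,.e,⟨.n,.e,.e,.e,.n,.e⟩⟩),
   (412,⟨.e,.e,⟨.e,.o,.o,.o,.o,.o⟩⟩),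
   (413,⟨.n,.e,⟨.e,.e,.n,.n,.o,.n⟩⟩),
   (414,⟨.n,.e,⟨.o,.o,.o,.o,.o,.o⟩⟩),
   (415,⟨.e,.e,⟨.o,.o,.o,.o,.o,.o⟩⟩),
   (416,⟨.e,.e,⟨.o,.o,.o,.o,.o,.o⟩⟩),
   (417,⟨.e,.e,⟨.n,.o,.o,.o,.o,.o⟩⟩),
   (418,⟨.e,.e,⟨.o,.o,.o,.o,.o,.o⟩⟩),
   (419,⟨.e,.e,⟨.o,.o,.o,.o,.o,.o⟩⟩),
   (420,⟨.e,.e,⟨.o,.o,.o,.o,.o,.o⟩⟩),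
   (421,⟨.n,.n,⟨.o,.n,.o,.o,.e,.o⟩⟩),
   (422,⟨.e,.e,⟨.o,.o,.o,.o,.o,.o⟩⟩),
   (423,⟨.n,.e,⟨.e,.o,.o,.o,.n,.e⟩⟩),
   (424,⟨.e,.e,⟨.o,.o,.o,.o,.o,.o⟩⟩),
   (425,⟨.e,.e,⟨.o,.o,.o,.o,.o,.o⟩⟩),
   (426,⟨.e,.e,⟨.o,.o,.o,.o,.o,.o⟩⟩),
   (427,⟨.e,.e,⟨.o,.o,.o,.o,.o,.o⟩⟩)]

/-- part 10 -/
def schk5_10 : List (ℕ × Par) :=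
  [(428,⟨.n,.n,⟨.n,.o,.o,.o,.o,.o⟩⟩),
   (429,⟨.e,.e,⟨.o,.n,.o,.o,.n,.o⟩⟩),
   (430,⟨.e,.e,⟨.o,.o,.o,.o,.o,.o⟩⟩),
   (431,⟨.e,.e,⟨.o,.o,.o,.o,.o,.o⟩⟩),
   (432,⟨.e,.e,⟨.o,.o,.o,.o,.o,.o⟩⟩),
   (433,⟨.e,.e,⟨.o,.o,.o,.o,.o,.o⟩⟩),
   (434,⟨.e,.e,⟨.o,.o,.o,.o,.o,.o⟩⟩),
   (435,⟨.n,.e,⟨.o,.n,.n,.e,.e,.n⟩⟩),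
   (436,⟨.e,.e,⟨.o,.o,.o,.o,.o,.o⟩⟩),
   (437,⟨.e,.e,⟨.o,.o,.o,.o,.o,.o⟩⟩),
   (438,⟨.e,.e,⟨.o,.o,.o,.o,.o,.o⟩⟩),
   (439,⟨.e,.e,⟨.o,.o,.o,.o,.o,.o⟩⟩),
   (440,⟨.e,.e,⟨.o,.o,.o,.o,.o,.o⟩⟩),
   (441,⟨.n,.e,⟨.o,.o,.o,.o,.o,.o⟩⟩),
   (442,⟨.e,.e,⟨.o,.n,.o,.o,.o,.o⟩⟩),
   (443,⟨.e,.n,⟨.e,.o,.o,.o,.n,.e⟩⟩),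
   (444,⟨.e,.e,⟨.o,.o,.n,.o,.o,.o⟩⟩),
   (445,⟨.e,.e,⟨.o,.o,.o,.o,.o,.o⟩⟩),
   (446,⟨.e,.e,⟨.o,.o,.o,.o,.o,.o⟩⟩),
   (447,⟨.e,.n,⟨.n,.e,.e,.e,.n,.e⟩⟩),
   (448,⟨.e,.e,⟨.o,.n,.o,.o,.o,.o⟩⟩),
   (449,⟨.e,.n,⟨.n,.o,.o,.o,.n,.n⟩⟩),
   (450,⟨.n,.n,⟨.e,.o,.o,.o,.n,.e⟩⟩),
   (451,⟨.e,.n,⟨.e,.o,.o,.o,.e,.o⟩⟩),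
   (452,⟨.e,.e,⟨.o,.o,.o,.o,.o,.o⟩⟩),
   (453,⟨.n,.e,⟨.o,.o,.o,.o,.n,.e⟩⟩),
   (454,⟨.n,.e,⟨.o,.o,.o,.o,.o,.o⟩⟩),
   (455,⟨.e,.e,⟨.o,.n,.o,.o,.n,.o⟩⟩),
   (456,⟨.e,.e,⟨.o,.o,.o,.o,.o,.o⟩⟩),
   (457,⟨.n,.n,⟨.n,.e,.o,.o,.e,.o⟩⟩),
   (458,⟨.n,.e,⟨.o,.o,.o,.o,.o,.o⟩⟩),
   (459,⟨.e,.e,⟨.o,.o,.o,.o,.o,.o⟩⟩)]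

/-- part 11 -/
def schk5_11 : List (ℕ × Par) :=
  [(460,⟨.e,.e,⟨.o,.o,.o,.o,.o,.o⟩⟩),
   (461,⟨.e,.e,⟨.o,.o,.o,.o,.o,.o⟩⟩),
   (462,⟨.e,.e,⟨.o,.o,.o,.o,.o,.o⟩⟩),
   (463,⟨.e,.e,⟨.o,.o,.o,.o,.o,.o⟩⟩),
   (464,⟨.e,.e,⟨.o,.o,.o,.o,.o,.o⟩⟩),
   (465,⟨.e,.e,⟨.o,.o,.o,.o,.o,.o⟩⟩),
   (466,⟨.e,.e,⟨.n,.e,.o,.o,.o,.o⟩⟩),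
   (467,⟨.n,.e,⟨.n,.o,.o,.o,.o,.o⟩⟩),
   (468,⟨.e,.n,⟨.o,.e,.o,.o,.o,.o⟩⟩),
   (469,⟨.n,.n,⟨.o,.n,.o,.o,.n,.o⟩⟩),
   (470,⟨.e,.e,⟨.o,.e,.o,.o,.o,.o⟩⟩),
   (471,⟨.e,.e,⟨.o,.e,.o,.o,.o,.o⟩⟩),
   (472,⟨.e,.e,⟨.o,.o,.o,.o,.o,.o⟩⟩),
   (473,⟨.e,.e,⟨.o,.n,.o,.o,.n,.o⟩⟩),
   (474,⟨.e,.e,⟨.o,.o,.o,.o,.o,.o⟩⟩),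
   (475,⟨.e,.n,⟨.e,.o,.o,.o,.o,.o⟩⟩),
   (476,⟨.n,.e,⟨.o,.o,.n,.o,.o,.o⟩⟩),
   (477,⟨.n,.n,⟨.n,.e,.e,.e,.e,.o⟩⟩),
   (478,⟨.e,.n,⟨.o,.o,.o,.o,.o,.o⟩⟩),
   (479,⟨.e,.e,⟨.o,.o,.o,.o,.o,.o⟩⟩),
   (480,⟨.e,.e,⟨.o,.o,.o,.o,.o,.o⟩⟩),
   (481,⟨.e,.e,⟨.o,.o,.o,.o,.o,.o⟩⟩),
   (482,⟨.e,.n,⟨.n,.e,.e,.e,.n,.e⟩⟩),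
   (483,⟨.e,.n,⟨.o,.e,.o,.o,.o,.o⟩⟩),
   (160,⟨.e,.n,⟨.e,.e,.n,.n,.e,.e⟩⟩),
   (161,⟨.n,.e,⟨.n,.o,.o,.o,.o,.o⟩⟩),
   (162,⟨.n,.e,⟨.o,.o,.o,.o,.n,.o⟩⟩),
   (163,⟨.e,.e,⟨.o,.o,.o,.o,.o,.o⟩⟩),
   (164,⟨.n,.n,⟨.o,.n,.n,.e,.e,.n⟩⟩),
   (165,⟨.e,.n,⟨.o,.e,.o,.o,.n,.o⟩⟩),
   (166,⟨.e,.e,⟨.o,.o,.o,.o,.o,.o⟩⟩),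
   (167,⟨.e,.e,⟨.o,.o,.o,.o,.o,.o⟩⟩)]

/-- part 12 -/
def schk5_12 : List (ℕ × Par) :=
  [(168,⟨.e,.n,⟨.e,.n,.n,.o,.e,.e⟩⟩),
   (169,⟨.n,.e,⟨.e,.e,.o,.e,.o,.e⟩⟩),
   (170,⟨.e,.e,⟨.o,.o,.o,.o,.o,.o⟩⟩),
   (171,⟨.e,.e,⟨.o,.o,.o,.o,.o,.o⟩⟩),
   (172,⟨.e,.e,⟨.n,.n,.n,.e,.e,.n⟩⟩),
   (173,⟨.e,.e,⟨.o,.n,.o,.o,.o,.o⟩⟩),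
   (174,⟨.n,.n,⟨.e,.n,.n,.e,.e,.n⟩⟩),
   (175,⟨.e,.e,⟨.o,.o,.o,.o,.o,.o⟩⟩),
   (176,⟨.e,.e,⟨.e,.n,.e,.n,.n,.n⟩⟩),
   (177,⟨.e,.e,⟨.o,.o,.o,.o,.o,.o⟩⟩),
   (178,⟨.e,.e,⟨.o,.o,.o,.o,.o,.o⟩⟩),
   (179,⟨.e,.e,⟨.o,.o,.o,.o,.o,.o⟩⟩),
   (180,⟨.e,.e,⟨.o,.o,.o,.o,.o,.o⟩⟩),
   (181,⟨.e,.e,⟨.n,.o,.n,.n,.e,.n⟩⟩),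
   (182,⟨.e,.n,⟨.o,.o,.e,.e,.e,.o⟩⟩),
   (183,⟨.e,.e,⟨.o,.o,.o,.o,.o,.o⟩⟩),
   (184,⟨.n,.e,⟨.o,.o,.o,.o,.o,.o⟩⟩),
   (185,⟨.n,.e,⟨.o,.n,.n,.o,.e,.e⟩⟩),
   (186,⟨.n,.e,⟨.o,.o,.o,.o,.o,.o⟩⟩),
   (187,⟨.n,.e,⟨.o,.o,.o,.o,.o,.o⟩⟩),
   (188,⟨.n,.n,⟨.e,.o,.n,.o,.n,.n⟩⟩),
   (189,⟨.e,.e,⟨.o,.o,.o,.o,.o,.o⟩⟩),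
   (190,⟨.e,.e,⟨.o,.o,.o,.o,.o,.o⟩⟩),
   (191,⟨.e,.e,⟨.o,.o,.o,.o,.e,.o⟩⟩),
   (192,⟨.e,.n,⟨.e,.e,.o,.n,.e,.e⟩⟩),
   (193,⟨.e,.e,⟨.o,.o,.o,.o,.o,.o⟩⟩),
   (194,⟨.e,.e,⟨.o,.o,.o,.o,.o,.o⟩⟩),
   (195,⟨.e,.e,⟨.o,.o,.o,.o,.o,.o⟩⟩),
   (196,⟨.e,.n,⟨.e,.e,.n,.n,.e,.e⟩⟩),
   (197,⟨.e,.e,⟨.o,.o,.o,.o,.o,.o⟩⟩),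
   (198,⟨.n,.e,⟨.n,.n,.n,.e,.e,.n⟩⟩),
   (199,⟨.e,.e,⟨.o,.o,.o,.o,.o,.o⟩⟩)]

/-- part 13 -/
def schk5_13 : List (ℕ × Par) :=
  [(200,⟨.e,.e,⟨.o,.o,.o,.o,.o,.o⟩⟩),
   (201,⟨.e,.e,⟨.e,.o,.o,.o,.o,.o⟩⟩),
   (202,⟨.e,.e,⟨.o,.o,.o,.o,.o,.o⟩⟩),
   (203,⟨.n,.e,⟨.e,.e,.n,.n,.n,.o⟩⟩),
   (204,⟨.e,.e,⟨.o,.o,.e,.o,.o,.e⟩⟩),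
   (205,⟨.n,.n,⟨.o,.n,.o,.o,.n,.o⟩⟩),
   (206,⟨.e,.e,⟨.o,.o,.o,.o,.o,.o⟩⟩),
   (207,⟨.e,.e,⟨.o,.o,.o,.o,.o,.o⟩⟩),
   (208,⟨.e,.n,⟨.e,.n,.o,.o,.o,.n⟩⟩),
   (209,⟨.e,.e,⟨.o,.e,.o,.o,.e,.o⟩⟩),
   (210,⟨.e,.e,⟨.o,.e,.o,.o,.e,.o⟩⟩),
   (211,⟨.e,.e,⟨.o,.o,.o,.o,.o,.o⟩⟩),
   (212,⟨.e,.e,⟨.o,.o,.o,.o,.o,.o⟩⟩),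
   (213,⟨.e,.e,⟨.o,.e,.o,.o,.e,.o⟩⟩),
   (214,⟨.e,.e,⟨.o,.o,.o,.o,.o,.o⟩⟩),
   (215,⟨.n,.n,⟨.e,.e,.n,.n,.n,.o⟩⟩),
   (216,⟨.e,.e,⟨.o,.o,.o,.o,.o,.o⟩⟩),
   (217,⟨.e,.e,⟨.o,.o,.o,.o,.o,.o⟩⟩),
   (218,⟨.e,.e,⟨.o,.o,.o,.o,.o,.o⟩⟩),
   (219,⟨.n,.e,⟨.o,.n,.n,.e,.e,.n⟩⟩),
   (220,⟨.e,.e,⟨.o,.o,.o,.o,.o,.o⟩⟩),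
   (221,⟨.e,.e,⟨.o,.o,.o,.o,.o,.o⟩⟩),
   (222,⟨.e,.e,⟨.o,.o,.o,.o,.o,.o⟩⟩),
   (223,⟨.e,.e,⟨.o,.o,.o,.o,.o,.o⟩⟩),
   (224,⟨.e,.e,⟨.e,.e,.o,.o,.o,.n⟩⟩),
   (225,⟨.e,.e,⟨.o,.o,.o,.o,.o,.o⟩⟩),
   (226,⟨.e,.e,⟨.o,.e,.o,.o,.o,.o⟩⟩),
   (227,⟨.n,.e,⟨.o,.e,.o,.o,.n,.o⟩⟩),
   (228,⟨.e,.n,⟨.o,.e,.o,.o,.o,.o⟩⟩),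
   (229,⟨.e,.e,⟨.o,.o,.o,.o,.o,.o⟩⟩),
   (230,⟨.e,.e,⟨.o,.o,.o,.o,.o,.o⟩⟩),
   (231,⟨.e,.n,⟨.o,.o,.o,.o,.n,.o⟩⟩)]

/-- part 14 -/
def schk5_14 : List (ℕ × Par) :=
  [(232,⟨.e,.e,⟨.o,.e,.o,.o,.o,.e⟩⟩),
   (233,⟨.e,.e,⟨.o,.o,.o,.o,.o,.o⟩⟩),
   (234,⟨.e,.e,⟨.o,.o,.o,.o,.o,.o⟩⟩),
   (235,⟨.e,.n,⟨.e,.e,.n,.n,.o,.n⟩⟩),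
   (236,⟨.e,.e,⟨.o,.o,.e,.o,.o,.n⟩⟩),
   (237,⟨.n,.e,⟨.e,.o,.o,.o,.n,.e⟩⟩),
   (238,⟨.e,.e,⟨.o,.o,.o,.o,.o,.o⟩⟩),
   (239,⟨.e,.n,⟨.o,.n,.o,.o,.o,.o⟩⟩),
   (240,⟨.e,.e,⟨.o,.o,.o,.o,.o,.o⟩⟩),
   (241,⟨.n,.n,⟨.n,.e,.e,.e,.e,.o⟩⟩),
   (242,⟨.e,.e,⟨.e,.e,.n,.n,.e,.e⟩⟩),
   (243,⟨.e,.e,⟨.o,.o,.o,.o,.o,.o⟩⟩),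
   (244,⟨.e,.e,⟨.o,.o,.e,.o,.o,.n⟩⟩),
   (245,⟨.e,.e,⟨.o,.n,.o,.o,.n,.o⟩⟩),
   (246,⟨.e,.e,⟨.o,.o,.o,.o,.o,.o⟩⟩),
   (247,⟨.e,.e,⟨.o,.o,.o,.o,.o,.o⟩⟩),
   (248,⟨.e,.e,⟨.o,.o,.o,.o,.o,.o⟩⟩),
   (249,⟨.n,.e,⟨.o,.n,.o,.o,.n,.o⟩⟩),
   (250,⟨.e,.e,⟨.e,.e,.n,.n,.n,.o⟩⟩),
   (251,⟨.n,.e,⟨.e,.o,.o,.o,.o,.o⟩⟩),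
   (252,⟨.e,.n,⟨.o,.n,.o,.o,.o,.e⟩⟩),
   (253,⟨.n,.e,⟨.o,.e,.o,.o,.e,.o⟩⟩),
   (254,⟨.e,.n,⟨.o,.n,.o,.o,.n,.o⟩⟩),
   (255,⟨.e,.e,⟨.o,.o,.o,.o,.o,.o⟩⟩),
   (256,⟨.e,.e,⟨.o,.o,.o,.o,.o,.o⟩⟩),
   (257,⟨.e,.e,⟨.o,.o,.o,.o,.o,.o⟩⟩),
   (258,⟨.e,.e,⟨.o,.o,.o,.o,.o,.o⟩⟩),
   (259,⟨.e,.e,⟨.o,.o,.o,.o,.o,.o⟩⟩),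
   (260,⟨.n,.e,⟨.e,.o,.n,.o,.o,.o⟩⟩),
   (261,⟨.n,.n,⟨.n,.e,.o,.o,.e,.o⟩⟩),
   (262,⟨.n,.n,⟨.e,.e,.o,.o,.o,.o⟩⟩),
   (263,⟨.e,.e,⟨.o,.o,.o,.o,.o,.o⟩⟩)]

/-- part 15 -/
def schk5_15 : List (ℕ × Par) :=
  [(264,⟨.e,.e,⟨.o,.o,.e,.o,.o,.n⟩⟩),
   (265,⟨.e,.e,⟨.o,.o,.o,.o,.o,.o⟩⟩),
   (266,⟨.e,.n,⟨.o,.o,.o,.o,.o,.o⟩⟩),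
   (267,⟨.e,.n,⟨.o,.n,.o,.o,.o,.o⟩⟩),
   (484,⟨.e,.e,⟨.n,.o,.o,.o,.o,.o⟩⟩),
   (486,⟨.e,.e,⟨.o,.o,.o,.o,.o,.o⟩⟩),
   (487,⟨.e,.e,⟨.o,.o,.o,.o,.o,.o⟩⟩),
   (485,⟨.e,.e,⟨.o,.o,.o,.o,.o,.o⟩⟩),
   (488,⟨.e,.e,⟨.n,.o,.n,.n,.e,.n⟩⟩),
   (490,⟨.n,.e,⟨.n,.e,.o,.o,.o,.o⟩⟩),
   (491,⟨.n,.n,⟨.e,.e,.n,.n,.e,.e⟩⟩),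
   (489,⟨.e,.n,⟨.n,.o,.e,.n,.n,.e⟩⟩),
   (492,⟨.e,.e,⟨.n,.o,.n,.n,.e,.n⟩⟩),
   (494,⟨.e,.e,⟨.e,.e,.o,.o,.o,.o⟩⟩),
   (495,⟨.e,.e,⟨.n,.e,.n,.n,.e,.e⟩⟩),
   (493,⟨.e,.e,⟨.o,.e,.n,.e,.e,.n⟩⟩),
   (500,⟨.e,.e,⟨.o,.o,.o,.o,.o,.o⟩⟩),
   (502,⟨.e,.e,⟨.o,.o,.o,.o,.o,.o⟩⟩),
   (503,⟨.e,.e,⟨.o,.o,.o,.o,.o,.o⟩⟩),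
   (501,⟨.e,.e,⟨.o,.o,.o,.o,.o,.o⟩⟩),
   (504,⟨.e,.e,⟨.e,.o,.e,.o,.o,.o⟩⟩),
   (506,⟨.e,.e,⟨.o,.n,.e,.o,.n,.e⟩⟩),
   (507,⟨.e,.e,⟨.o,.o,.o,.o,.o,.o⟩⟩),
   (505,⟨.e,.e,⟨.o,.o,.o,.o,.o,.o⟩⟩),
   (496,⟨.e,.e,⟨.n,.o,.n,.o,.o,.o⟩⟩),
   (498,⟨.e,.e,⟨.o,.o,.o,.o,.o,.o⟩⟩),
   (499,⟨.e,.e,⟨.o,.e,.n,.e,.e,.n⟩⟩),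
   (497,⟨.e,.e,⟨.o,.o,.o,.o,.o,.o⟩⟩),
   (516,⟨.e,.e,⟨.o,.o,.o,.o,.o,.o⟩⟩),
   (518,⟨.e,.e,⟨.o,.o,.o,.o,.o,.o⟩⟩),
   (519,⟨.e,.e,⟨.o,.o,.o,.o,.o,.o⟩⟩),
   (517,⟨.e,.e,⟨.o,.o,.o,.o,.o,.o⟩⟩)]

/-- part 16 -/
def schk5_16 : List (ℕ × Par) :=
  [(508,⟨.e,.e,⟨.o,.e,.e,.n,.o,.o⟩⟩),
   (510,⟨.e,.e,⟨.o,.o,.o,.o,.o,.o⟩⟩),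
   (511,⟨.n,.n,⟨.e,.n,.n,.n,.n,.n⟩⟩),
   (509,⟨.n,.e,⟨.n,.o,.e,.n,.n,.e⟩⟩),
   (512,⟨.e,.e,⟨.o,.n,.n,.o,.o,.o⟩⟩),
   (514,⟨.n,.n,⟨.e,.n,.n,.n,.o,.o⟩⟩),
   (515,⟨.n,.e,⟨.e,.o,.e,.e,.n,.n⟩⟩),
   (513,⟨.e,.e,⟨.o,.o,.o,.o,.o,.o⟩⟩),
   (520,⟨.e,.e,⟨.n,.o,.o,.o,.o,.o⟩⟩),
   (522,⟨.e,.e,⟨.e,.n,.e,.n,.n,.n⟩⟩),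
   (523,⟨.n,.e,⟨.e,.o,.o,.o,.o,.o⟩⟩),
   (521,⟨.n,.e,⟨.e,.e,.e,.e,.n,.e⟩⟩),
   (524,⟨.e,.e,⟨.n,.o,.o,.o,.o,.o⟩⟩),
   (526,⟨.e,.e,⟨.o,.o,.o,.o,.o,.o⟩⟩),
   (527,⟨.e,.e,⟨.o,.o,.o,.o,.o,.o⟩⟩),
   (525,⟨.e,.e,⟨.o,.o,.o,.o,.o,.o⟩⟩),
   (528,⟨.e,.e,⟨.n,.o,.n,.n,.e,.e⟩⟩),
   (530,⟨.n,.e,⟨.o,.o,.o,.o,.o,.o⟩⟩),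
   (531,⟨.n,.e,⟨.o,.o,.o,.o,.o,.o⟩⟩),
   (529,⟨.e,.e,⟨.o,.o,.o,.o,.o,.o⟩⟩),
   (536,⟨.e,.e,⟨.o,.o,.o,.o,.o,.o⟩⟩),
   (538,⟨.n,.e,⟨.o,.e,.n,.n,.e,.e⟩⟩),
   (539,⟨.e,.e,⟨.o,.o,.o,.o,.o,.o⟩⟩),
   (537,⟨.e,.e,⟨.o,.o,.o,.o,.o,.o⟩⟩),
   (540,⟨.e,.e,⟨.o,.o,.o,.o,.o,.o⟩⟩),
   (542,⟨.e,.e,⟨.o,.o,.o,.o,.o,.o⟩⟩),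
   (543,⟨.e,.e,⟨.o,.n,.e,.n,.n,.n⟩⟩),
   (541,⟨.e,.e,⟨.o,.o,.o,.o,.o,.o⟩⟩),
   (532,⟨.e,.e,⟨.o,.o,.o,.o,.o,.o⟩⟩),
   (534,⟨.e,.e,⟨.o,.o,.o,.o,.o,.o⟩⟩),
   (535,⟨.e,.e,⟨.o,.o,.o,.o,.o,.o⟩⟩),
   (533,⟨.n,.e,⟨.o,.o,.o,.o,.o,.o⟩⟩)]

/-- part 17 -/
def schk5_17 : List (ℕ × Par) :=
  [(552,⟨.n,.e,⟨.o,.o,.o,.o,.o,.o⟩⟩),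
   (554,⟨.n,.n,⟨.e,.e,.e,.e,.n,.e⟩⟩),
   (555,⟨.e,.e,⟨.o,.o,.o,.o,.o,.o⟩⟩),
   (553,⟨.e,.e,⟨.o,.o,.o,.o,.o,.o⟩⟩),
   (544,⟨.e,.e,⟨.o,.o,.o,.o,.o,.o⟩⟩),
   (546,⟨.e,.e,⟨.o,.o,.o,.o,.o,.o⟩⟩),
   (547,⟨.e,.e,⟨.o,.o,.o,.o,.o,.o⟩⟩),
   (545,⟨.n,.n,⟨.o,.o,.o,.o,.o,.o⟩⟩),
   (548,⟨.n,.e,⟨.o,.o,.o,.o,.o,.o⟩⟩),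
   (550,⟨.e,.e,⟨.o,.o,.o,.o,.o,.o⟩⟩),
   (551,⟨.e,.e,⟨.n,.n,.e,.n,.n,.n⟩⟩),
   (549,⟨.e,.e,⟨.o,.o,.o,.o,.o,.o⟩⟩),
   (556,⟨.e,.e,⟨.n,.o,.n,.n,.e,.e⟩⟩),
   (558,⟨.n,.e,⟨.e,.n,.e,.n,.n,.n⟩⟩),
   (559,⟨.n,.e,⟨.n,.n,.o,.o,.o,.o⟩⟩),
   (557,⟨.e,.e,⟨.o,.o,.o,.o,.o,.o⟩⟩),
   (560,⟨.e,.e,⟨.n,.o,.o,.o,.o,.o⟩⟩),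
   (562,⟨.e,.e,⟨.o,.o,.o,.o,.o,.o⟩⟩),
   (563,⟨.e,.e,⟨.o,.o,.o,.o,.o,.o⟩⟩),
   (561,⟨.e,.e,⟨.o,.o,.o,.o,.o,.o⟩⟩),
   (564,⟨.e,.e,⟨.n,.o,.n,.n,.e,.e⟩⟩),
   (566,⟨.e,.e,⟨.o,.o,.o,.o,.o,.o⟩⟩),
   (567,⟨.e,.e,⟨.o,.o,.o,.o,.o,.o⟩⟩),
   (565,⟨.e,.e,⟨.o,.o,.o,.o,.o,.o⟩⟩),
   (572,⟨.e,.e,⟨.o,.o,.o,.o,.o,.o⟩⟩),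
   (574,⟨.e,.e,⟨.o,.o,.o,.o,.o,.o⟩⟩),
   (575,⟨.e,.e,⟨.n,.o,.n,.o,.o,.o⟩⟩),
   (573,⟨.e,.e,⟨.o,.o,.o,.o,.o,.o⟩⟩),
   (576,⟨.e,.e,⟨.o,.o,.o,.o,.o,.o⟩⟩),
   (578,⟨.e,.e,⟨.o,.o,.o,.o,.o,.o⟩⟩),
   (579,⟨.e,.e,⟨.o,.o,.o,.o,.o,.o⟩⟩),
   (577,⟨.e,.e,⟨.o,.o,.o,.o,.o,.o⟩⟩)]

/-- part 18 -/
def schk5_18 : List (ℕ × Par) :=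
  [(568,⟨.e,.e,⟨.o,.o,.o,.o,.o,.o⟩⟩),
   (570,⟨.e,.e,⟨.e,.o,.e,.o,.o,.o⟩⟩),
   (571,⟨.e,.e,⟨.o,.o,.o,.o,.o,.o⟩⟩),
   (569,⟨.e,.e,⟨.o,.o,.o,.o,.o,.o⟩⟩),
   (588,⟨.e,.e,⟨.o,.o,.o,.o,.o,.o⟩⟩),
   (590,⟨.e,.e,⟨.n,.o,.n,.n,.e,.e⟩⟩),
   (591,⟨.n,.e,⟨.o,.o,.o,.o,.o,.o⟩⟩),
   (589,⟨.n,.n,⟨.o,.o,.e,.n,.n,.n⟩⟩),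
   (580,⟨.e,.e,⟨.o,.o,.o,.o,.o,.o⟩⟩),
   (582,⟨.n,.e,⟨.o,.o,.o,.o,.o,.o⟩⟩),
   (583,⟨.e,.n,⟨.o,.o,.o,.o,.o,.o⟩⟩),
   (581,⟨.e,.e,⟨.o,.n,.e,.n,.n,.n⟩⟩),
   (584,⟨.e,.e,⟨.o,.o,.o,.o,.o,.o⟩⟩),
   (586,⟨.n,.e,⟨.o,.o,.e,.e,.n,.n⟩⟩),
   (587,⟨.e,.e,⟨.e,.e,.n,.n,.e,.e⟩⟩),
   (585,⟨.e,.e,⟨.o,.o,.o,.o,.o,.o⟩⟩),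
   (592,⟨.e,.e,⟨.n,.o,.o,.o,.o,.o⟩⟩),
   (594,⟨.n,.e,⟨.o,.o,.o,.o,.o,.o⟩⟩),
   (595,⟨.e,.n,⟨.e,.e,.n,.n,.e,.e⟩⟩),
   (593,⟨.n,.n,⟨.e,.e,.o,.o,.o,.o⟩⟩),
   (596,⟨.e,.e,⟨.e,.o,.e,.e,.n,.e⟩⟩),
   (598,⟨.e,.n,⟨.e,.e,.n,.e,.e,.o⟩⟩),
   (599,⟨.n,.e,⟨.o,.n,.n,.o,.o,.o⟩⟩),
   (597,⟨.n,.n,⟨.e,.e,.e,.o,.o,.e⟩⟩),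
   (600,⟨.e,.e,⟨.e,.o,.e,.e,.n,.n⟩⟩),
   (602,⟨.e,.e,⟨.o,.o,.o,.o,.o,.o⟩⟩),
   (603,⟨.e,.e,⟨.o,.o,.o,.o,.o,.o⟩⟩),
   (601,⟨.e,.e,⟨.o,.o,.o,.o,.o,.o⟩⟩),
   (608,⟨.e,.e,⟨.o,.o,.o,.o,.o,.o⟩⟩),
   (610,⟨.n,.e,⟨.o,.o,.o,.o,.o,.o⟩⟩),
   (611,⟨.e,.e,⟨.o,.o,.o,.o,.o,.o⟩⟩),
   (609,⟨.n,.e,⟨.o,.o,.o,.o,.o,.o⟩⟩)]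

/-- part 19 -/
def schk5_19 : List (ℕ × Par) :=
  [(612,⟨.e,.e,⟨.e,.o,.e,.o,.o,.o⟩⟩),
   (614,⟨.n,.e,⟨.o,.o,.o,.o,.o,.o⟩⟩),
   (615,⟨.e,.e,⟨.e,.o,.o,.o,.o,.o⟩⟩),
   (613,⟨.e,.e,⟨.o,.o,.o,.o,.o,.o⟩⟩),
   (604,⟨.e,.e,⟨.n,.o,.n,.o,.o,.o⟩⟩),
   (606,⟨.e,.e,⟨.o,.o,.o,.o,.o,.o⟩⟩),
   (607,⟨.e,.e,⟨.o,.o,.o,.o,.o,.o⟩⟩),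
   (605,⟨.n,.e,⟨.n,.o,.o,.o,.o,.o⟩⟩),
   (624,⟨.e,.e,⟨.o,.o,.o,.o,.o,.o⟩⟩),
   (626,⟨.e,.e,⟨.o,.o,.o,.o,.o,.o⟩⟩),
   (627,⟨.n,.e,⟨.o,.e,.n,.n,.e,.e⟩⟩),
   (625,⟨.n,.e,⟨.o,.o,.o,.o,.o,.o⟩⟩),
   (616,⟨.n,.e,⟨.e,.e,.n,.e,.o,.o⟩⟩),
   (618,⟨.n,.e,⟨.o,.e,.n,.n,.e,.e⟩⟩),
   (619,⟨.e,.e,⟨.o,.o,.o,.o,.o,.o⟩⟩),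
   (617,⟨.n,.n,⟨.o,.o,.n,.n,.e,.n⟩⟩),
   (620,⟨.n,.e,⟨.n,.e,.o,.e,.n,.e⟩⟩),
   (622,⟨.n,.e,⟨.o,.o,.o,.o,.o,.o⟩⟩),
   (623,⟨.n,.n,⟨.o,.o,.e,.n,.n,.n⟩⟩),
   (621,⟨.e,.e,⟨.o,.o,.o,.o,.o,.o⟩⟩),
   (628,⟨.e,.e,⟨.n,.o,.o,.o,.o,.o⟩⟩),
   (630,⟨.e,.e,⟨.o,.o,.o,.o,.o,.o⟩⟩),
   (631,⟨.e,.e,⟨.o,.o,.o,.o,.o,.o⟩⟩),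
   (629,⟨.e,.e,⟨.o,.o,.o,.o,.o,.o⟩⟩),
   (632,⟨.e,.e,⟨.e,.o,.o,.o,.o,.o⟩⟩),
   (634,⟨.e,.n,⟨.e,.o,.o,.o,.o,.o⟩⟩),
   (635,⟨.e,.n,⟨.e,.o,.o,.o,.o,.o⟩⟩),
   (633,⟨.e,.e,⟨.o,.o,.o,.o,.o,.o⟩⟩),
   (636,⟨.e,.e,⟨.n,.o,.o,.o,.o,.o⟩⟩),
   (638,⟨.e,.e,⟨.o,.o,.o,.o,.o,.o⟩⟩),
   (639,⟨.e,.e,⟨.o,.e,.n,.n,.e,.e⟩⟩),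
   (637,⟨.e,.e,⟨.o,.n,.e,.n,.n,.n⟩⟩)]

/-- part 20 -/
def schk5_20 : List (ℕ × Par) :=
  [(644,⟨.e,.e,⟨.o,.o,.o,.o,.o,.o⟩⟩),
   (646,⟨.e,.e,⟨.o,.o,.o,.o,.o,.o⟩⟩),
   (647,⟨.e,.e,⟨.o,.o,.o,.o,.o,.o⟩⟩),
   (645,⟨.e,.e,⟨.o,.o,.o,.o,.o,.o⟩⟩),
   (648,⟨.e,.e,⟨.o,.o,.o,.o,.o,.o⟩⟩),
   (650,⟨.e,.e,⟨.o,.o,.o,.o,.o,.o⟩⟩),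
   (651,⟨.e,.e,⟨.o,.o,.o,.o,.o,.o⟩⟩),
   (649,⟨.e,.e,⟨.o,.o,.o,.o,.o,.o⟩⟩),
   (640,⟨.e,.e,⟨.o,.o,.o,.o,.o,.o⟩⟩),
   (642,⟨.e,.e,⟨.o,.o,.o,.o,.o,.o⟩⟩),
   (643,⟨.e,.e,⟨.o,.o,.o,.o,.o,.o⟩⟩),
   (641,⟨.e,.e,⟨.o,.o,.o,.o,.o,.o⟩⟩),
   (660,⟨.n,.e,⟨.o,.o,.o,.o,.o,.o⟩⟩),
   (662,⟨.n,.n,⟨.e,.n,.e,.n,.n,.n⟩⟩),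
   (663,⟨.n,.n,⟨.e,.n,.e,.n,.n,.n⟩⟩),
   (661,⟨.e,.e,⟨.o,.o,.o,.o,.o,.o⟩⟩),
   (652,⟨.e,.e,⟨.o,.o,.o,.o,.o,.o⟩⟩),
   (654,⟨.n,.n,⟨.e,.n,.o,.o,.o,.o⟩⟩),
   (655,⟨.e,.n,⟨.o,.o,.o,.o,.o,.o⟩⟩),
   (653,⟨.e,.n,⟨.e,.n,.o,.o,.o,.o⟩⟩),
   (656,⟨.n,.e,⟨.o,.o,.o,.o,.o,.o⟩⟩),
   (658,⟨.e,.n,⟨.o,.o,.o,.o,.o,.o⟩⟩),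
   (659,⟨.n,.e,⟨.o,.o,.o,.o,.o,.o⟩⟩),
   (657,⟨.e,.e,⟨.o,.o,.o,.o,.o,.o⟩⟩),
   (664,⟨.e,.e,⟨.e,.o,.n,.e,.e,.o⟩⟩),
   (666,⟨.n,.n,⟨.n,.n,.n,.n,.o,.o⟩⟩),
   (667,⟨.e,.e,⟨.o,.o,.o,.o,.o,.o⟩⟩),
   (665,⟨.n,.n,⟨.n,.n,.o,.e,.e,.n⟩⟩),
   (668,⟨.e,.e,⟨.e,.o,.e,.e,.n,.e⟩⟩),
   (670,⟨.e,.e,⟨.o,.o,.o,.o,.o,.o⟩⟩),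
   (671,⟨.n,.e,⟨.n,.o,.o,.o,.o,.o⟩⟩),
   (669,⟨.n,.e,⟨.e,.o,.o,.o,.o,.o⟩⟩)]

/-- part 21 -/
def schk5_21 : List (ℕ × Par) :=
  [(672,⟨.e,.e,⟨.n,.o,.o,.o,.o,.o⟩⟩),
   (674,⟨.e,.e,⟨.o,.o,.o,.o,.o,.o⟩⟩),
   (675,⟨.e,.e,⟨.o,.o,.o,.o,.o,.o⟩⟩),
   (673,⟨.e,.e,⟨.o,.o,.o,.o,.o,.o⟩⟩),
   (680,⟨.e,.e,⟨.o,.o,.o,.o,.o,.o⟩⟩),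
   (682,⟨.e,.e,⟨.o,.o,.o,.o,.o,.o⟩⟩),
   (683,⟨.e,.e,⟨.o,.o,.o,.o,.o,.o⟩⟩),
   (681,⟨.e,.e,⟨.o,.o,.o,.o,.o,.o⟩⟩),
   (684,⟨.e,.e,⟨.o,.o,.o,.o,.o,.o⟩⟩),
   (686,⟨.e,.e,⟨.o,.o,.o,.o,.o,.o⟩⟩),
   (687,⟨.e,.e,⟨.o,.o,.o,.o,.o,.o⟩⟩),
   (685,⟨.e,.e,⟨.o,.o,.o,.o,.o,.o⟩⟩),
   (676,⟨.e,.e,⟨.o,.o,.o,.o,.o,.o⟩⟩),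
   (678,⟨.e,.e,⟨.o,.o,.o,.o,.o,.o⟩⟩),
   (679,⟨.e,.e,⟨.o,.o,.o,.o,.o,.o⟩⟩),
   (677,⟨.e,.e,⟨.o,.o,.o,.o,.o,.o⟩⟩),
   (696,⟨.e,.e,⟨.o,.o,.o,.o,.o,.o⟩⟩),
   (698,⟨.e,.e,⟨.o,.n,.o,.o,.o,.o⟩⟩),
   (699,⟨.n,.e,⟨.e,.e,.e,.e,.n,.e⟩⟩),
   (697,⟨.e,.e,⟨.o,.o,.o,.o,.o,.o⟩⟩),
   (688,⟨.e,.e,⟨.o,.o,.o,.o,.o,.o⟩⟩),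
   (690,⟨.e,.e,⟨.o,.o,.o,.o,.o,.o⟩⟩),
   (691,⟨.e,.e,⟨.o,.o,.o,.o,.o,.o⟩⟩),
   (689,⟨.e,.e,⟨.n,.e,.o,.o,.o,.o⟩⟩),
   (692,⟨.e,.e,⟨.o,.o,.o,.o,.o,.o⟩⟩),
   (694,⟨.e,.e,⟨.o,.o,.o,.o,.o,.o⟩⟩),
   (695,⟨.e,.e,⟨.e,.o,.e,.e,.n,.n⟩⟩),
   (693,⟨.n,.e,⟨.n,.e,.n,.n,.e,.e⟩⟩),
   (700,⟨.e,.e,⟨.n,.o,.o,.o,.o,.o⟩⟩),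
   (702,⟨.n,.e,⟨.o,.o,.o,.o,.o,.o⟩⟩),
   (703,⟨.n,.e,⟨.o,.o,.o,.o,.o,.o⟩⟩),
   (701,⟨.e,.e,⟨.o,.o,.o,.o,.o,.o⟩⟩)]

/-- part 22 -/
def schk5_22 : List (ℕ × Par) :=
  [(704,⟨.e,.e,⟨.e,.o,.e,.e,.n,.n⟩⟩),
   (706,⟨.n,.e,⟨.o,.o,.o,.o,.o,.o⟩⟩),
   (707,⟨.e,.e,⟨.o,.o,.o,.o,.o,.o⟩⟩),
   (705,⟨.n,.e,⟨.o,.o,.o,.o,.o,.o⟩⟩),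
   (708,⟨.e,.e,⟨.n,.o,.n,.n,.e,.n⟩⟩),
   (710,⟨.e,.e,⟨.o,.o,.o,.o,.o,.o⟩⟩),
   (711,⟨.n,.e,⟨.n,.e,.n,.o,.e,.n⟩⟩),
   (709,⟨.n,.e,⟨.e,.e,.e,.o,.n,.n⟩⟩),
   (716,⟨.e,.e,⟨.o,.o,.o,.o,.o,.o⟩⟩),
   (718,⟨.e,.n,⟨.o,.n,.o,.o,.o,.o⟩⟩),
   (719,⟨.n,.e,⟨.o,.e,.n,.n,.e,.e⟩⟩),
   (717,⟨.n,.e,⟨.o,.o,.o,.o,.o,.o⟩⟩),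
   (720,⟨.e,.e,⟨.e,.o,.e,.o,.o,.o⟩⟩),
   (722,⟨.n,.e,⟨.o,.o,.o,.o,.o,.o⟩⟩),
   (723,⟨.e,.e,⟨.o,.o,.o,.o,.o,.o⟩⟩),
   (721,⟨.e,.e,⟨.o,.o,.o,.o,.o,.o⟩⟩),
   (712,⟨.e,.e,⟨.n,.o,.n,.o,.o,.o⟩⟩),
   (714,⟨.n,.e,⟨.o,.e,.n,.n,.e,.e⟩⟩),
   (715,⟨.e,.e,⟨.o,.o,.o,.o,.o,.o⟩⟩),
   (713,⟨.e,.n,⟨.o,.e,.o,.o,.o,.o⟩⟩),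
   (732,⟨.e,.n,⟨.n,.o,.e,.o,.o,.o⟩⟩),
   (734,⟨.e,.e,⟨.o,.o,.o,.o,.o,.o⟩⟩),
   (735,⟨.e,.e,⟨.o,.o,.o,.o,.o,.o⟩⟩),
   (733,⟨.e,.e,⟨.o,.o,.o,.o,.o,.o⟩⟩),
   (724,⟨.e,.e,⟨.n,.o,.e,.o,.o,.o⟩⟩),
   (726,⟨.e,.e,⟨.o,.o,.o,.o,.o,.o⟩⟩),
   (727,⟨.e,.e,⟨.o,.o,.o,.o,.o,.o⟩⟩),
   (725,⟨.e,.e,⟨.o,.o,.o,.o,.o,.o⟩⟩),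
   (728,⟨.e,.n,⟨.o,.o,.o,.o,.o,.o⟩⟩),
   (730,⟨.e,.e,⟨.o,.o,.o,.o,.o,.o⟩⟩),
   (731,⟨.e,.e,⟨.o,.o,.o,.o,.o,.o⟩⟩),
   (729,⟨.e,.e,⟨.o,.o,.o,.o,.o,.o⟩⟩)]

/-- part 23 -/
def schk5_23 : List (ℕ × Par) :=
  [(736,⟨.e,.e,⟨.n,.o,.n,.n,.e,.e⟩⟩),
   (738,⟨.n,.e,⟨.o,.o,.o,.o,.o,.o⟩⟩),
   (739,⟨.n,.e,⟨.o,.o,.o,.o,.o,.o⟩⟩),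
   (737,⟨.e,.e,⟨.o,.o,.o,.o,.o,.o⟩⟩),
   (740,⟨.e,.e,⟨.e,.o,.n,.e,.e,.e⟩⟩),
   (742,⟨.e,.e,⟨.o,.o,.o,.o,.o,.o⟩⟩),
   (743,⟨.n,.e,⟨.n,.o,.o,.o,.o,.o⟩⟩),
   (741,⟨.n,.e,⟨.e,.o,.o,.o,.o,.o⟩⟩),
   (744,⟨.e,.e,⟨.n,.o,.o,.o,.o,.o⟩⟩),
   (746,⟨.e,.e,⟨.o,.o,.o,.o,.o,.o⟩⟩),
   (747,⟨.e,.e,⟨.o,.o,.o,.o,.o,.o⟩⟩),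
   (745,⟨.e,.e,⟨.o,.o,.o,.o,.o,.o⟩⟩),
   (752,⟨.e,.e,⟨.o,.o,.o,.o,.o,.o⟩⟩),
   (754,⟨.e,.n,⟨.o,.o,.e,.n,.n,.e⟩⟩),
   (755,⟨.e,.e,⟨.o,.o,.o,.o,.o,.o⟩⟩),
   (753,⟨.n,.e,⟨.o,.o,.o,.o,.o,.o⟩⟩),
   (756,⟨.e,.e,⟨.o,.o,.o,.o,.o,.o⟩⟩),
   (758,⟨.e,.n,⟨.n,.n,.o,.o,.o,.o⟩⟩),
   (759,⟨.e,.n,⟨.o,.o,.e,.n,.n,.n⟩⟩),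
   (757,⟨.e,.e,⟨.o,.o,.o,.o,.o,.o⟩⟩),
   (748,⟨.e,.e,⟨.o,.o,.o,.o,.o,.o⟩⟩),
   (750,⟨.e,.e,⟨.o,.o,.o,.o,.o,.o⟩⟩),
   (751,⟨.n,.n,⟨.n,.n,.n,.e,.e,.n⟩⟩),
   (749,⟨.e,.e,⟨.o,.o,.o,.o,.o,.o⟩⟩),
   (768,⟨.e,.e,⟨.o,.o,.o,.o,.o,.o⟩⟩),
   (770,⟨.e,.e,⟨.o,.o,.o,.o,.o,.o⟩⟩),
   (771,⟨.e,.e,⟨.o,.o,.o,.o,.o,.o⟩⟩),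
   (769,⟨.e,.e,⟨.o,.o,.o,.o,.o,.o⟩⟩),
   (760,⟨.n,.e,⟨.o,.o,.o,.o,.o,.o⟩⟩),
   (762,⟨.e,.e,⟨.o,.o,.o,.o,.o,.o⟩⟩),
   (763,⟨.e,.e,⟨.o,.o,.o,.o,.o,.o⟩⟩),
   (761,⟨.e,.e,⟨.o,.o,.o,.o,.o,.o⟩⟩)]

/-- part 24 -/
def schk5_24 : List (ℕ × Par) :=
  [(764,⟨.n,.e,⟨.o,.o,.o,.o,.o,.o⟩⟩),
   (766,⟨.e,.e,⟨.o,.o,.o,.o,.o,.o⟩⟩),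
   (767,⟨.e,.e,⟨.o,.o,.o,.o,.o,.o⟩⟩),
   (765,⟨.e,.e,⟨.o,.o,.o,.o,.o,.o⟩⟩),
   (772,⟨.e,.e,⟨.n,.o,.o,.o,.o,.o⟩⟩),
   (774,⟨.e,.e,⟨.o,.o,.o,.o,.o,.o⟩⟩),
   (775,⟨.e,.e,⟨.o,.o,.o,.o,.o,.o⟩⟩),
   (773,⟨.e,.e,⟨.o,.o,.o,.o,.o,.o⟩⟩),
   (776,⟨.e,.e,⟨.e,.o,.n,.e,.e,.e⟩⟩),
   (778,⟨.e,.e,⟨.o,.o,.o,.o,.o,.o⟩⟩),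
   (779,⟨.e,.e,⟨.o,.o,.o,.o,.o,.o⟩⟩),
   (777,⟨.e,.e,⟨.o,.o,.o,.o,.o,.o⟩⟩),
   (780,⟨.e,.e,⟨.n,.o,.o,.o,.o,.o⟩⟩),
   (782,⟨.e,.e,⟨.o,.o,.o,.o,.o,.o⟩⟩),
   (783,⟨.e,.e,⟨.o,.o,.o,.o,.o,.o⟩⟩),
   (781,⟨.e,.e,⟨.o,.o,.o,.o,.o,.o⟩⟩),
   (788,⟨.n,.e,⟨.o,.o,.e,.o,.o,.o⟩⟩),
   (790,⟨.e,.e,⟨.e,.o,.e,.n,.n,.o⟩⟩),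
   (791,⟨.e,.e,⟨.o,.o,.o,.o,.o,.o⟩⟩),
   (789,⟨.n,.n,⟨.n,.n,.e,.n,.n,.n⟩⟩),
   (792,⟨.e,.e,⟨.o,.o,.o,.o,.o,.o⟩⟩),
   (794,⟨.n,.n,⟨.n,.n,.e,.n,.n,.n⟩⟩),
   (795,⟨.n,.n,⟨.e,.n,.e,.o,.n,.e⟩⟩),
   (793,⟨.e,.n,⟨.o,.e,.o,.o,.o,.o⟩⟩),
   (784,⟨.n,.e,⟨.o,.o,.e,.o,.o,.o⟩⟩),
   (786,⟨.e,.n,⟨.o,.n,.o,.o,.o,.o⟩⟩),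
   (787,⟨.e,.e,⟨.o,.o,.o,.o,.o,.o⟩⟩),
   (785,⟨.n,.n,⟨.o,.n,.n,.e,.e,.n⟩⟩),
   (804,⟨.e,.e,⟨.o,.o,.o,.o,.o,.o⟩⟩),
   (806,⟨.e,.e,⟨.o,.o,.o,.o,.o,.o⟩⟩),
   (807,⟨.e,.e,⟨.o,.o,.o,.o,.o,.o⟩⟩),
   (805,⟨.e,.e,⟨.o,.o,.o,.o,.o,.o⟩⟩)]

/-- part 25 -/
def schk5_25 : List (ℕ × Par) :=
  [(796,⟨.e,.e,⟨.o,.o,.o,.o,.o,.o⟩⟩),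
   (798,⟨.e,.e,⟨.o,.o,.o,.o,.o,.o⟩⟩),
   (799,⟨.e,.e,⟨.o,.o,.o,.o,.o,.o⟩⟩),
   (797,⟨.e,.e,⟨.o,.o,.o,.o,.o,.o⟩⟩),
   (800,⟨.e,.e,⟨.o,.o,.o,.o,.o,.o⟩⟩),
   (802,⟨.e,.e,⟨.o,.o,.o,.o,.o,.o⟩⟩),
   (803,⟨.e,.e,⟨.o,.o,.o,.o,.o,.o⟩⟩),
   (801,⟨.e,.e,⟨.o,.o,.o,.o,.o,.o⟩⟩),
   (916,⟨.e,.e,⟨.o,.o,.o,.o,.o,.o⟩⟩),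
   (918,⟨.e,.e,⟨.o,.o,.o,.o,.o,.o⟩⟩),
   (919,⟨.e,.e,⟨.o,.o,.o,.o,.o,.o⟩⟩),
   (917,⟨.e,.e,⟨.o,.o,.o,.o,.o,.o⟩⟩),
   (920,⟨.n,.e,⟨.e,.n,.e,.e,.o,.o⟩⟩),
   (922,⟨.n,.e,⟨.e,.n,.o,.o,.o,.o⟩⟩),
   (923,⟨.e,.e,⟨.o,.o,.o,.o,.o,.o⟩⟩),
   (921,⟨.e,.e,⟨.o,.e,.o,.o,.o,.o⟩⟩),
   (924,⟨.e,.e,⟨.o,.e,.e,.n,.o,.o⟩⟩),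
   (926,⟨.e,.n,⟨.o,.o,.o,.o,.o,.o⟩⟩),
   (927,⟨.n,.e,⟨.e,.n,.o,.o,.o,.o⟩⟩),
   (925,⟨.e,.e,⟨.o,.o,.o,.o,.o,.o⟩⟩),
   (932,⟨.e,.e,⟨.o,.o,.o,.o,.o,.o⟩⟩),
   (934,⟨.e,.e,⟨.o,.o,.o,.o,.o,.o⟩⟩),
   (935,⟨.e,.e,⟨.o,.o,.o,.o,.o,.o⟩⟩),
   (933,⟨.e,.e,⟨.o,.o,.o,.o,.o,.o⟩⟩),
   (936,⟨.n,.n,⟨.n,.o,.e,.o,.o,.o⟩⟩),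
   (938,⟨.n,.e,⟨.e,.o,.e,.e,.n,.n⟩⟩),
   (939,⟨.e,.e,⟨.o,.o,.o,.o,.o,.o⟩⟩),
   (937,⟨.e,.e,⟨.o,.o,.o,.o,.o,.o⟩⟩),
   (928,⟨.n,.e,⟨.e,.n,.o,.o,.o,.o⟩⟩),
   (930,⟨.e,.e,⟨.o,.e,.o,.o,.o,.o⟩⟩),
   (931,⟨.n,.n,⟨.n,.e,.o,.o,.o,.o⟩⟩),
   (929,⟨.e,.e,⟨.o,.o,.o,.o,.o,.o⟩⟩)]

/-- part 26 -/
def schk5_26 : List (ℕ × Par) :=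
  [(948,⟨.e,.e,⟨.o,.o,.o,.o,.o,.o⟩⟩),
   (950,⟨.e,.e,⟨.o,.o,.o,.o,.o,.o⟩⟩),
   (951,⟨.e,.e,⟨.o,.o,.o,.o,.o,.o⟩⟩),
   (949,⟨.e,.e,⟨.o,.o,.o,.o,.o,.o⟩⟩),
   (940,⟨.e,.e,⟨.o,.o,.o,.o,.o,.o⟩⟩),
   (942,⟨.n,.e,⟨.o,.o,.o,.o,.o,.o⟩⟩),
   (943,⟨.e,.e,⟨.o,.n,.o,.o,.e,.o⟩⟩),
   (941,⟨.e,.e,⟨.o,.o,.o,.o,.o,.o⟩⟩),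
   (944,⟨.e,.e,⟨.o,.o,.o,.o,.o,.o⟩⟩),
   (946,⟨.n,.n,⟨.n,.n,.o,.o,.o,.o⟩⟩),
   (947,⟨.e,.e,⟨.o,.o,.o,.o,.o,.o⟩⟩),
   (945,⟨.n,.n,⟨.e,.o,.n,.e,.o,.n⟩⟩),
   (952,⟨.e,.e,⟨.o,.e,.o,.o,.o,.o⟩⟩),
   (954,⟨.n,.n,⟨.e,.n,.n,.e,.e,.n⟩⟩),
   (955,⟨.e,.e,⟨.e,.o,.o,.o,.o,.o⟩⟩),
   (953,⟨.e,.n,⟨.n,.o,.e,.n,.n,.e⟩⟩),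
   (956,⟨.e,.e,⟨.o,.o,.o,.o,.o,.o⟩⟩),
   (958,⟨.e,.e,⟨.o,.o,.o,.o,.o,.o⟩⟩),
   (959,⟨.n,.n,⟨.o,.n,.o,.o,.e,.o⟩⟩),
   (957,⟨.e,.e,⟨.o,.o,.o,.o,.o,.o⟩⟩),
   (960,⟨.e,.e,⟨.o,.o,.o,.o,.o,.o⟩⟩),
   (962,⟨.e,.e,⟨.o,.o,.o,.o,.o,.o⟩⟩),
   (963,⟨.e,.e,⟨.o,.o,.o,.o,.o,.o⟩⟩),
   (961,⟨.n,.e,⟨.o,.o,.e,.n,.n,.n⟩⟩),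
   (968,⟨.e,.n,⟨.e,.n,.o,.o,.o,.o⟩⟩),
   (970,⟨.e,.e,⟨.o,.o,.o,.o,.o,.o⟩⟩),
   (971,⟨.e,.e,⟨.o,.n,.o,.o,.o,.o⟩⟩),
   (969,⟨.e,.e,⟨.o,.o,.o,.o,.o,.o⟩⟩),
   (972,⟨.e,.n,⟨.e,.n,.n,.n,.n,.n⟩⟩),
   (974,⟨.e,.e,⟨.o,.o,.o,.o,.o,.o⟩⟩),
   (975,⟨.e,.e,⟨.o,.o,.o,.o,.o,.o⟩⟩),
   (973,⟨.e,.e,⟨.n,.o,.n,.n,.e,.n⟩⟩)]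

/-- part 27 -/
def schk5_27 : List (ℕ × Par) :=
  [(964,⟨.n,.e,⟨.o,.o,.o,.o,.o,.o⟩⟩),
   (966,⟨.n,.e,⟨.o,.o,.o,.o,.o,.o⟩⟩),
   (967,⟨.n,.e,⟨.o,.o,.e,.n,.n,.n⟩⟩),
   (965,⟨.n,.n,⟨.e,.e,.o,.o,.o,.o⟩⟩),
   (984,⟨.n,.e,⟨.n,.o,.o,.o,.o,.o⟩⟩),
   (986,⟨.e,.n,⟨.n,.e,.e,.e,.n,.e⟩⟩),
   (987,⟨.e,.e,⟨.o,.o,.o,.o,.o,.o⟩⟩),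
   (985,⟨.n,.e,⟨.n,.o,.o,.o,.o,.o⟩⟩),
   (976,⟨.e,.n,⟨.e,.o,.e,.o,.o,.o⟩⟩),
   (978,⟨.e,.e,⟨.o,.o,.o,.o,.o,.o⟩⟩),
   (979,⟨.e,.e,⟨.o,.o,.o,.o,.o,.o⟩⟩),
   (977,⟨.e,.e,⟨.o,.o,.o,.o,.o,.o⟩⟩),
   (980,⟨.n,.e,⟨.o,.e,.o,.o,.o,.o⟩⟩),
   (982,⟨.n,.e,⟨.o,.o,.o,.o,.o,.o⟩⟩),
   (983,⟨.n,.n,⟨.e,.e,.o,.o,.o,.o⟩⟩),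
   (981,⟨.n,.e,⟨.o,.o,.o,.o,.o,.o⟩⟩),
   (988,⟨.e,.e,⟨.n,.o,.o,.o,.o,.o⟩⟩),
   (990,⟨.n,.n,⟨.n,.n,.n,.e,.e,.n⟩⟩),
   (991,⟨.e,.e,⟨.o,.o,.o,.o,.o,.o⟩⟩),
   (989,⟨.e,.e,⟨.n,.o,.o,.o,.o,.o⟩⟩),
   (992,⟨.e,.e,⟨.o,.o,.o,.o,.o,.o⟩⟩),
   (994,⟨.n,.n,⟨.o,.n,.o,.o,.o,.o⟩⟩),
   (995,⟨.n,.e,⟨.n,.n,.n,.e,.e,.n⟩⟩),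
   (993,⟨.e,.e,⟨.e,.e,.n,.n,.o,.n⟩⟩),
   (996,⟨.e,.e,⟨.o,.o,.o,.o,.o,.o⟩⟩),
   (998,⟨.e,.e,⟨.o,.n,.e,.e,.e,.o⟩⟩),
   (999,⟨.n,.e,⟨.o,.o,.o,.o,.o,.o⟩⟩),
   (997,⟨.n,.e,⟨.o,.o,.o,.o,.o,.o⟩⟩),
   (1004,⟨.n,.e,⟨.n,.o,.o,.o,.o,.o⟩⟩),
   (1006,⟨.e,.n,⟨.o,.n,.o,.o,.e,.o⟩⟩),
   (1007,⟨.e,.n,⟨.o,.e,.o,.o,.o,.o⟩⟩),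
   (1005,⟨.e,.e,⟨.o,.o,.o,.o,.o,.o⟩⟩)]

/-- part 28 -/
def schk5_28 : List (ℕ × Par) :=
  [(1008,⟨.e,.n,⟨.o,.o,.n,.o,.o,.o⟩⟩),
   (1010,⟨.n,.n,⟨.e,.o,.o,.o,.o,.o⟩⟩),
   (1011,⟨.e,.e,⟨.o,.o,.o,.o,.o,.o⟩⟩),
   (1009,⟨.e,.n,⟨.o,.e,.o,.o,.o,.o⟩⟩),
   (1000,⟨.e,.e,⟨.o,.o,.o,.o,.o,.o⟩⟩),
   (1002,⟨.e,.e,⟨.o,.n,.o,.o,.n,.o⟩⟩),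
   (1003,⟨.e,.e,⟨.o,.o,.o,.o,.o,.o⟩⟩),
   (1001,⟨.n,.e,⟨.o,.o,.o,.o,.o,.o⟩⟩),
   (1020,⟨.e,.e,⟨.o,.o,.o,.o,.o,.o⟩⟩),
   (1022,⟨.e,.n,⟨.n,.n,.n,.e,.e,.n⟩⟩),
   (1023,⟨.e,.e,⟨.o,.o,.o,.o,.o,.o⟩⟩),
   (1021,⟨.n,.n,⟨.n,.o,.n,.n,.e,.n⟩⟩),
   (1012,⟨.e,.e,⟨.e,.n,.o,.n,.n,.n⟩⟩),
   (1014,⟨.e,.n,⟨.o,.o,.o,.o,.o,.o⟩⟩),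
   (1015,⟨.n,.e,⟨.o,.o,.o,.o,.o,.o⟩⟩),
   (1013,⟨.e,.e,⟨.o,.o,.o,.o,.o,.o⟩⟩),
   (1016,⟨.e,.e,⟨.e,.o,.o,.o,.o,.o⟩⟩),
   (1018,⟨.n,.e,⟨.o,.o,.e,.o,.o,.o⟩⟩),
   (1019,⟨.e,.e,⟨.o,.o,.o,.o,.o,.o⟩⟩),
   (1017,⟨.n,.e,⟨.o,.o,.o,.o,.o,.o⟩⟩),
   (1024,⟨.n,.e,⟨.o,.o,.o,.o,.o,.o⟩⟩),
   (1026,⟨.e,.e,⟨.o,.o,.o,.o,.o,.o⟩⟩),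
   (1027,⟨.e,.e,⟨.o,.o,.o,.o,.o,.o⟩⟩),
   (1025,⟨.e,.e,⟨.o,.o,.o,.o,.o,.o⟩⟩),
   (1028,⟨.e,.e,⟨.o,.o,.o,.o,.o,.o⟩⟩),
   (1030,⟨.e,.e,⟨.o,.n,.o,.o,.o,.o⟩⟩),
   (1031,⟨.n,.e,⟨.n,.n,.n,.e,.e,.n⟩⟩),
   (1029,⟨.e,.e,⟨.o,.o,.o,.o,.o,.o⟩⟩),
   (1032,⟨.e,.e,⟨.n,.o,.n,.o,.o,.o⟩⟩),
   (1034,⟨.e,.e,⟨.o,.o,.o,.o,.o,.o⟩⟩),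
   (1035,⟨.e,.n,⟨.o,.o,.o,.o,.o,.o⟩⟩),
   (1033,⟨.n,.e,⟨.n,.n,.n,.e,.e,.n⟩⟩)]

/-- part 29 -/
def schk5_29 : List (ℕ × Par) :=
  [(1040,⟨.n,.e,⟨.o,.o,.o,.o,.o,.o⟩⟩),
   (1042,⟨.e,.e,⟨.n,.e,.o,.o,.o,.o⟩⟩),
   (1043,⟨.e,.e,⟨.o,.o,.o,.o,.o,.o⟩⟩),
   (1041,⟨.n,.n,⟨.n,.e,.e,.e,.n,.e⟩⟩),
   (1044,⟨.e,.e,⟨.o,.o,.e,.o,.o,.n⟩⟩),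
   (1046,⟨.e,.n,⟨.o,.o,.o,.o,.o,.o⟩⟩),
   (1047,⟨.e,.e,⟨.o,.o,.o,.o,.o,.o⟩⟩),
   (1045,⟨.e,.e,⟨.o,.o,.o,.o,.o,.o⟩⟩),
   (1036,⟨.e,.e,⟨.o,.o,.o,.o,.o,.o⟩⟩),
   (1038,⟨.n,.e,⟨.e,.n,.o,.o,.o,.o⟩⟩),
   (1039,⟨.n,.e,⟨.n,.o,.e,.n,.n,.e⟩⟩),
   (1037,⟨.e,.n,⟨.e,.n,.n,.o,.e,.e⟩⟩),
   (1056,⟨.e,.e,⟨.o,.o,.o,.o,.o,.o⟩⟩),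
   (1058,⟨.e,.n,⟨.e,.n,.n,.o,.e,.e⟩⟩),
   (1059,⟨.n,.e,⟨.n,.o,.e,.n,.n,.e⟩⟩),
   (1057,⟨.n,.e,⟨.o,.n,.o,.o,.o,.o⟩⟩),
   (1048,⟨.e,.e,⟨.o,.o,.o,.o,.o,.o⟩⟩),
   (1050,⟨.n,.n,⟨.n,.e,.o,.o,.e,.o⟩⟩),
   (1051,⟨.e,.n,⟨.o,.e,.e,.e,.n,.e⟩⟩),
   (1049,⟨.n,.n,⟨.n,.o,.e,.e,.n,.n⟩⟩),
   (1052,⟨.e,.e,⟨.o,.o,.o,.o,.o,.o⟩⟩),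
   (1054,⟨.e,.e,⟨.o,.o,.o,.o,.o,.o⟩⟩),
   (1055,⟨.e,.e,⟨.o,.o,.o,.o,.o,.o⟩⟩),
   (1053,⟨.n,.e,⟨.o,.n,.e,.e,.n,.e⟩⟩),
   (1060,⟨.e,.e,⟨.o,.o,.o,.o,.o,.o⟩⟩),
   (1062,⟨.e,.n,⟨.n,.o,.e,.n,.n,.e⟩⟩),
   (1063,⟨.e,.n,⟨.n,.e,.e,.e,.n,.e⟩⟩),
   (1061,⟨.n,.n,⟨.n,.e,.e,.e,.n,.e⟩⟩),
   (1064,⟨.e,.e,⟨.o,.o,.o,.o,.o,.o⟩⟩),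
   (1066,⟨.n,.n,⟨.e,.n,.e,.n,.o,.e⟩⟩),
   (1067,⟨.e,.n,⟨.n,.e,.e,.e,.n,.e⟩⟩),
   (1065,⟨.n,.n,⟨.o,.n,.o,.o,.n,.o⟩⟩)]

/-- part 30 -/
def schk5_30 : List (ℕ × Par) :=
  [(1068,⟨.n,.e,⟨.e,.o,.o,.o,.o,.o⟩⟩),
   (1070,⟨.n,.e,⟨.o,.e,.o,.o,.o,.o⟩⟩),
   (1071,⟨.e,.e,⟨.o,.o,.o,.o,.o,.o⟩⟩),
   (1069,⟨.e,.e,⟨.o,.o,.o,.o,.o,.o⟩⟩),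
   (1076,⟨.e,.e,⟨.o,.o,.o,.o,.o,.o⟩⟩),
   (1078,⟨.e,.e,⟨.o,.o,.o,.o,.o,.o⟩⟩),
   (1079,⟨.e,.e,⟨.o,.o,.o,.o,.o,.o⟩⟩),
   (1077,⟨.e,.e,⟨.o,.o,.o,.o,.o,.o⟩⟩),
   (1080,⟨.n,.n,⟨.o,.n,.n,.o,.n,.n⟩⟩),
   (1082,⟨.e,.e,⟨.o,.n,.o,.o,.o,.o⟩⟩),
   (1083,⟨.e,.e,⟨.o,.o,.o,.o,.o,.o⟩⟩),
   (1081,⟨.e,.e,⟨.o,.o,.o,.o,.o,.o⟩⟩),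
   (1072,⟨.e,.e,⟨.o,.o,.o,.o,.o,.o⟩⟩),
   (1074,⟨.e,.e,⟨.e,.o,.e,.e,.n,.n⟩⟩),
   (1075,⟨.e,.e,⟨.o,.o,.o,.o,.o,.o⟩⟩),
   (1073,⟨.n,.e,⟨.o,.o,.o,.o,.o,.o⟩⟩),
   (1092,⟨.n,.e,⟨.n,.e,.n,.e,.n,.e⟩⟩),
   (1094,⟨.e,.n,⟨.o,.e,.o,.o,.o,.o⟩⟩),
   (1095,⟨.e,.e,⟨.o,.o,.o,.o,.o,.o⟩⟩),
   (1093,⟨.e,.e,⟨.o,.o,.o,.o,.o,.o⟩⟩),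
   (1084,⟨.n,.e,⟨.o,.e,.o,.o,.o,.o⟩⟩),
   (1086,⟨.n,.e,⟨.o,.o,.o,.o,.o,.o⟩⟩),
   (1087,⟨.n,.e,⟨.o,.o,.o,.o,.o,.o⟩⟩),
   (1085,⟨.n,.n,⟨.e,.e,.n,.n,.e,.e⟩⟩),
   (1088,⟨.e,.n,⟨.n,.e,.e,.e,.n,.e⟩⟩),
   (1090,⟨.e,.e,⟨.o,.o,.o,.o,.o,.o⟩⟩),
   (1091,⟨.e,.n,⟨.o,.e,.o,.o,.o,.o⟩⟩),
   (1089,⟨.e,.e,⟨.o,.o,.o,.o,.o,.o⟩⟩),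
   (1096,⟨.n,.e,⟨.o,.o,.n,.o,.o,.o⟩⟩),
   (1098,⟨.e,.e,⟨.n,.o,.o,.o,.o,.o⟩⟩),
   (1099,⟨.n,.e,⟨.n,.e,.o,.o,.o,.o⟩⟩),
   (1097,⟨.e,.e,⟨.o,.o,.o,.o,.o,.o⟩⟩)]

/-- part 31 -/
def schk5_31 : List (ℕ × Par) :=
  [(1100,⟨.e,.n,⟨.e,.o,.o,.o,.o,.o⟩⟩),
   (1102,⟨.n,.e,⟨.e,.e,.o,.o,.n,.o⟩⟩),
   (1103,⟨.e,.n,⟨.o,.e,.o,.o,.o,.o⟩⟩),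
   (1101,⟨.n,.e,⟨.e,.n,.o,.o,.o,.o⟩⟩),
   (1104,⟨.e,.n,⟨.e,.e,.n,.n,.e,.e⟩⟩),
   (1106,⟨.n,.e,⟨.o,.o,.o,.o,.o,.o⟩⟩),
   (1107,⟨.e,.n,⟨.e,.e,.n,.e,.n,.e⟩⟩),
   (1105,⟨.n,.e,⟨.o,.o,.o,.o,.o,.o⟩⟩),
   (1112,⟨.e,.e,⟨.o,.o,.o,.o,.o,.o⟩⟩),
   (1114,⟨.e,.e,⟨.o,.o,.o,.o,.o,.o⟩⟩),
   (1115,⟨.e,.e,⟨.o,.o,.o,.o,.o,.o⟩⟩),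
   (1113,⟨.e,.e,⟨.o,.o,.o,.o,.o,.o⟩⟩),
   (1116,⟨.e,.e,⟨.o,.o,.o,.o,.o,.o⟩⟩),
   (1118,⟨.e,.e,⟨.o,.o,.o,.o,.o,.o⟩⟩),
   (1119,⟨.e,.e,⟨.o,.o,.o,.o,.o,.o⟩⟩),
   (1117,⟨.e,.n,⟨.o,.n,.o,.o,.o,.o⟩⟩),
   (1108,⟨.e,.n,⟨.o,.o,.n,.o,.o,.o⟩⟩),
   (1110,⟨.n,.n,⟨.e,.e,.o,.o,.o,.o⟩⟩),
   (1111,⟨.e,.e,⟨.o,.o,.o,.o,.o,.o⟩⟩),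
   (1109,⟨.e,.e,⟨.o,.o,.o,.o,.o,.o⟩⟩),
   (1128,⟨.e,.e,⟨.n,.o,.n,.n,.e,.n⟩⟩),
   (1130,⟨.e,.n,⟨.o,.o,.o,.o,.o,.o⟩⟩),
   (1131,⟨.e,.e,⟨.e,.o,.e,.o,.o,.o⟩⟩),
   (1129,⟨.e,.e,⟨.n,.e,.n,.o,.e,.n⟩⟩),
   (1120,⟨.e,.e,⟨.n,.o,.o,.o,.o,.o⟩⟩),
   (1122,⟨.n,.e,⟨.o,.o,.o,.o,.o,.o⟩⟩),
   (1123,⟨.n,.e,⟨.o,.o,.e,.o,.o,.o⟩⟩),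
   (1121,⟨.e,.e,⟨.o,.o,.o,.o,.o,.o⟩⟩),
   (1124,⟨.e,.n,⟨.n,.n,.o,.e,.e,.n⟩⟩),
   (1126,⟨.e,.e,⟨.o,.o,.o,.o,.o,.o⟩⟩),
   (1127,⟨.e,.e,⟨.o,.o,.o,.o,.e,.o⟩⟩),
   (1125,⟨.e,.e,⟨.o,.o,.o,.o,.o,.o⟩⟩)]

/-- part 32 -/
def schk5_32 : List (ℕ × Par) :=
  [(808,⟨.n,.e,⟨.o,.o,.o,.o,.o,.o⟩⟩),
   (810,⟨.e,.e,⟨.o,.o,.o,.o,.o,.o⟩⟩),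
   (811,⟨.e,.e,⟨.o,.o,.o,.o,.o,.o⟩⟩),
   (809,⟨.e,.e,⟨.o,.o,.o,.o,.o,.o⟩⟩),
   (812,⟨.n,.e,⟨.n,.n,.o,.e,.e,.n⟩⟩),
   (814,⟨.e,.e,⟨.o,.o,.o,.o,.o,.o⟩⟩),
   (815,⟨.e,.e,⟨.o,.o,.o,.o,.o,.o⟩⟩),
   (813,⟨.e,.e,⟨.o,.o,.o,.o,.o,.o⟩⟩),
   (816,⟨.e,.e,⟨.e,.n,.e,.n,.n,.n⟩⟩),
   (818,⟨.e,.e,⟨.o,.o,.o,.o,.o,.o⟩⟩),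
   (819,⟨.e,.e,⟨.o,.o,.o,.o,.o,.o⟩⟩),
   (817,⟨.e,.e,⟨.o,.o,.o,.o,.o,.o⟩⟩),
   (824,⟨.n,.n,⟨.n,.o,.n,.o,.o,.o⟩⟩),
   (826,⟨.e,.n,⟨.e,.e,.e,.o,.n,.n⟩⟩),
   (827,⟨.n,.e,⟨.n,.n,.n,.e,.e,.n⟩⟩),
   (825,⟨.e,.e,⟨.o,.o,.o,.o,.o,.o⟩⟩),
   (828,⟨.e,.e,⟨.n,.n,.n,.e,.e,.n⟩⟩),
   (830,⟨.e,.e,⟨.o,.o,.o,.o,.o,.o⟩⟩),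
   (831,⟨.e,.e,⟨.e,.n,.e,.n,.n,.n⟩⟩),
   (829,⟨.e,.e,⟨.o,.n,.o,.o,.o,.o⟩⟩),
   (820,⟨.e,.e,⟨.o,.o,.n,.o,.o,.e⟩⟩),
   (822,⟨.e,.e,⟨.o,.o,.o,.o,.o,.o⟩⟩),
   (823,⟨.e,.n,⟨.o,.o,.o,.o,.o,.o⟩⟩),
   (821,⟨.e,.e,⟨.o,.o,.o,.o,.o,.o⟩⟩),
   (840,⟨.e,.e,⟨.o,.o,.o,.o,.o,.o⟩⟩),
   (842,⟨.n,.n,⟨.n,.o,.n,.e,.e,.o⟩⟩),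
   (843,⟨.e,.e,⟨.n,.n,.n,.e,.e,.n⟩⟩),
   (841,⟨.n,.e,⟨.n,.o,.o,.o,.o,.o⟩⟩),
   (832,⟨.e,.e,⟨.o,.o,.o,.o,.o,.o⟩⟩),
   (834,⟨.n,.e,⟨.o,.n,.e,.o,.n,.e⟩⟩),
   (835,⟨.e,.e,⟨.o,.o,.o,.o,.o,.o⟩⟩),
   (833,⟨.e,.e,⟨.o,.o,.o,.o,.o,.o⟩⟩)]

/-- part 33 -/
def schk5_33 : List (ℕ × Par) :=
  [(836,⟨.e,.e,⟨.o,.o,.o,.o,.o,.o⟩⟩),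
   (838,⟨.n,.e,⟨.o,.o,.o,.o,.n,.o⟩⟩),
   (839,⟨.e,.n,⟨.e,.e,.e,.o,.n,.n⟩⟩),
   (837,⟨.e,.e,⟨.e,.o,.n,.e,.e,.e⟩⟩),
   (844,⟨.e,.e,⟨.o,.n,.o,.o,.o,.o⟩⟩),
   (846,⟨.n,.n,⟨.e,.e,.o,.o,.o,.o⟩⟩),
   (847,⟨.e,.e,⟨.o,.o,.o,.o,.o,.o⟩⟩),
   (845,⟨.n,.e,⟨.n,.o,.o,.o,.o,.o⟩⟩),
   (848,⟨.e,.e,⟨.o,.o,.o,.o,.o,.o⟩⟩),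
   (850,⟨.e,.e,⟨.o,.o,.o,.o,.o,.o⟩⟩),
   (851,⟨.n,.n,⟨.e,.n,.o,.o,.n,.o⟩⟩),
   (849,⟨.e,.n,⟨.n,.n,.o,.o,.o,.o⟩⟩),
   (852,⟨.n,.e,⟨.n,.o,.o,.o,.o,.o⟩⟩),
   (854,⟨.e,.e,⟨.o,.o,.o,.o,.o,.o⟩⟩),
   (855,⟨.e,.e,⟨.o,.n,.e,.n,.n,.n⟩⟩),
   (853,⟨.e,.e,⟨.o,.o,.o,.o,.o,.o⟩⟩),
   (860,⟨.e,.n,⟨.e,.e,.e,.n,.o,.o⟩⟩),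
   (862,⟨.n,.e,⟨.o,.o,.o,.o,.o,.o⟩⟩),
   (863,⟨.e,.e,⟨.o,.o,.o,.o,.o,.o⟩⟩),
   (861,⟨.e,.e,⟨.o,.o,.o,.o,.o,.o⟩⟩),
   (864,⟨.n,.e,⟨.o,.o,.o,.o,.o,.o⟩⟩),
   (866,⟨.n,.e,⟨.o,.o,.e,.e,.n,.n⟩⟩),
   (867,⟨.n,.n,⟨.e,.e,.n,.n,.e,.e⟩⟩),
   (865,⟨.n,.e,⟨.o,.o,.o,.o,.o,.o⟩⟩),
   (856,⟨.n,.e,⟨.e,.o,.e,.o,.o,.o⟩⟩),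
   (858,⟨.e,.e,⟨.o,.e,.o,.o,.o,.o⟩⟩),
   (859,⟨.e,.e,⟨.o,.e,.o,.o,.o,.o⟩⟩),
   (857,⟨.e,.e,⟨.o,.o,.o,.o,.o,.o⟩⟩),
   (876,⟨.e,.e,⟨.o,.o,.o,.o,.o,.o⟩⟩),
   (878,⟨.e,.e,⟨.o,.o,.o,.o,.o,.o⟩⟩),
   (879,⟨.e,.e,⟨.o,.o,.o,.o,.o,.o⟩⟩),
   (877,⟨.e,.e,⟨.o,.o,.o,.o,.o,.o⟩⟩)]

/-- part 34 -/
def schk5_34 : List (ℕ × Par) :=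
  [(868,⟨.n,.n,⟨.o,.e,.o,.o,.o,.o⟩⟩),
   (870,⟨.e,.e,⟨.o,.o,.o,.o,.o,.o⟩⟩),
   (871,⟨.n,.e,⟨.e,.o,.o,.o,.o,.o⟩⟩),
   (869,⟨.e,.e,⟨.n,.e,.o,.o,.o,.o⟩⟩),
   (872,⟨.n,.n,⟨.o,.e,.o,.o,.o,.o⟩⟩),
   (874,⟨.e,.e,⟨.o,.o,.o,.o,.o,.o⟩⟩),
   (875,⟨.e,.n,⟨.o,.n,.o,.o,.o,.o⟩⟩),
   (873,⟨.e,.e,⟨.o,.o,.o,.o,.o,.o⟩⟩),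
   (880,⟨.n,.e,⟨.e,.o,.n,.o,.o,.o⟩⟩),
   (882,⟨.e,.e,⟨.o,.o,.o,.o,.o,.o⟩⟩),
   (883,⟨.e,.e,⟨.n,.o,.o,.o,.o,.o⟩⟩),
   (881,⟨.e,.n,⟨.e,.e,.e,.e,.n,.e⟩⟩),
   (884,⟨.e,.n,⟨.e,.o,.o,.o,.o,.o⟩⟩),
   (886,⟨.e,.e,⟨.o,.o,.o,.o,.o,.o⟩⟩),
   (887,⟨.n,.e,⟨.e,.o,.o,.o,.o,.o⟩⟩),
   (885,⟨.n,.e,⟨.o,.o,.o,.o,.o,.o⟩⟩),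
   (888,⟨.e,.n,⟨.e,.n,.o,.o,.o,.o⟩⟩),
   (890,⟨.e,.e,⟨.o,.o,.o,.o,.o,.o⟩⟩),
   (891,⟨.e,.e,⟨.o,.o,.o,.o,.o,.o⟩⟩),
   (889,⟨.e,.n,⟨.e,.o,.e,.n,.e,.e⟩⟩),
   (896,⟨.e,.e,⟨.o,.o,.o,.o,.o,.o⟩⟩),
   (898,⟨.e,.e,⟨.o,.o,.o,.o,.o,.o⟩⟩),
   (899,⟨.n,.e,⟨.n,.o,.o,.o,.o,.o⟩⟩),
   (897,⟨.n,.n,⟨.e,.o,.o,.o,.o,.o⟩⟩),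
   (900,⟨.e,.e,⟨.o,.o,.o,.o,.o,.o⟩⟩),
   (902,⟨.e,.e,⟨.o,.o,.o,.o,.o,.o⟩⟩),
   (903,⟨.n,.e,⟨.o,.o,.o,.o,.o,.o⟩⟩),
   (901,⟨.e,.e,⟨.o,.e,.o,.o,.e,.o⟩⟩),
   (892,⟨.n,.e,⟨.e,.o,.o,.o,.o,.o⟩⟩),
   (894,⟨.e,.e,⟨.o,.o,.o,.o,.o,.o⟩⟩),
   (895,⟨.e,.e,⟨.o,.o,.o,.o,.o,.o⟩⟩),
   (893,⟨.e,.n,⟨.o,.e,.o,.o,.e,.o⟩⟩)]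

/-- part 35 -/
def schk5_35 : List (ℕ × Par) :=
  [(912,⟨.e,.e,⟨.o,.o,.o,.o,.o,.o⟩⟩),
   (914,⟨.e,.e,⟨.o,.o,.o,.o,.o,.o⟩⟩),
   (915,⟨.e,.e,⟨.o,.o,.o,.o,.o,.o⟩⟩),
   (913,⟨.e,.e,⟨.o,.o,.o,.o,.o,.o⟩⟩),
   (904,⟨.e,.n,⟨.n,.e,.e,.n,.o,.o⟩⟩),
   (906,⟨.e,.e,⟨.o,.o,.o,.o,.o,.o⟩⟩),
   (907,⟨.n,.n,⟨.n,.o,.e,.n,.n,.e⟩⟩),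
   (905,⟨.e,.n,⟨.n,.e,.o,.o,.e,.o⟩⟩),
   (908,⟨.e,.e,⟨.o,.e,.e,.n,.o,.o⟩⟩),
   (910,⟨.n,.e,⟨.e,.e,.e,.o,.n,.n⟩⟩),
   (911,⟨.e,.n,⟨.o,.o,.o,.o,.o,.o⟩⟩),
   (909,⟨.e,.n,⟨.e,.o,.e,.o,.o,.o⟩⟩),
   (1348,⟨.e,.e,⟨.o,.o,.o,.o,.o,.o⟩⟩),
   (1350,⟨.e,.e,⟨.o,.o,.o,.o,.o,.o⟩⟩),
   (1351,⟨.e,.e,⟨.o,.o,.o,.o,.o,.o⟩⟩),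
   (1349,⟨.e,.e,⟨.o,.o,.o,.o,.o,.o⟩⟩),
   (1352,⟨.e,.e,⟨.o,.o,.o,.o,.o,.o⟩⟩),
   (1354,⟨.e,.n,⟨.o,.n,.o,.o,.o,.o⟩⟩),
   (1355,⟨.e,.e,⟨.o,.o,.o,.o,.o,.o⟩⟩),
   (1353,⟨.e,.e,⟨.o,.o,.o,.o,.o,.o⟩⟩),
   (1356,⟨.e,.e,⟨.o,.o,.o,.o,.o,.o⟩⟩),
   (1358,⟨.e,.n,⟨.n,.n,.e,.o,.n,.e⟩⟩),
   (1359,⟨.e,.e,⟨.o,.o,.o,.o,.o,.o⟩⟩),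
   (1357,⟨.e,.n,⟨.o,.o,.o,.o,.o,.o⟩⟩),
   (1364,⟨.e,.e,⟨.o,.o,.o,.o,.o,.o⟩⟩),
   (1366,⟨.e,.e,⟨.o,.o,.o,.o,.o,.o⟩⟩),
   (1367,⟨.e,.e,⟨.o,.o,.o,.o,.o,.o⟩⟩),
   (1365,⟨.e,.e,⟨.o,.o,.o,.o,.o,.o⟩⟩),
   (1368,⟨.n,.n,⟨.o,.e,.o,.o,.o,.o⟩⟩),
   (1370,⟨.n,.e,⟨.e,.o,.o,.o,.o,.o⟩⟩),
   (1371,⟨.n,.n,⟨.e,.e,.o,.o,.o,.o⟩⟩),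
   (1369,⟨.e,.e,⟨.o,.o,.o,.o,.o,.o⟩⟩)]

/-- part 36 -/
def schk5_36 : List (ℕ × Par) :=
  [(1360,⟨.e,.e,⟨.o,.o,.o,.o,.o,.o⟩⟩),
   (1362,⟨.e,.n,⟨.o,.n,.o,.o,.o,.o⟩⟩),
   (1363,⟨.e,.e,⟨.o,.o,.o,.o,.o,.o⟩⟩),
   (1361,⟨.e,.e,⟨.o,.o,.o,.o,.o,.o⟩⟩),
   (1380,⟨.e,.e,⟨.o,.o,.o,.o,.o,.o⟩⟩),
   (1382,⟨.e,.e,⟨.o,.o,.o,.o,.o,.o⟩⟩),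
   (1383,⟨.e,.e,⟨.o,.o,.o,.o,.o,.o⟩⟩),
   (1381,⟨.e,.e,⟨.o,.o,.o,.o,.o,.o⟩⟩),
   (1372,⟨.n,.n,⟨.o,.o,.e,.o,.o,.o⟩⟩),
   (1374,⟨.e,.n,⟨.o,.n,.o,.o,.o,.o⟩⟩),
   (1375,⟨.e,.e,⟨.o,.o,.o,.o,.o,.o⟩⟩),
   (1373,⟨.e,.e,⟨.o,.o,.o,.o,.o,.o⟩⟩),
   (1376,⟨.e,.e,⟨.o,.o,.o,.o,.o,.o⟩⟩),
   (1378,⟨.e,.e,⟨.n,.n,.o,.o,.o,.o⟩⟩),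
   (1379,⟨.e,.n,⟨.o,.e,.n,.n,.e,.e⟩⟩),
   (1377,⟨.n,.e,⟨.o,.o,.o,.o,.o,.o⟩⟩),
   (1384,⟨.e,.n,⟨.n,.n,.e,.o,.e,.n⟩⟩),
   (1386,⟨.n,.e,⟨.o,.o,.o,.o,.o,.o⟩⟩),
   (1387,⟨.n,.e,⟨.o,.o,.o,.o,.o,.o⟩⟩),
   (1385,⟨.e,.n,⟨.n,.o,.o,.o,.o,.o⟩⟩),
   (1388,⟨.e,.e,⟨.o,.n,.o,.o,.o,.o⟩⟩),
   (1390,⟨.e,.e,⟨.o,.o,.o,.o,.o,.o⟩⟩),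
   (1391,⟨.e,.e,⟨.o,.o,.o,.o,.o,.o⟩⟩),
   (1389,⟨.e,.e,⟨.o,.n,.n,.e,.e,.n⟩⟩),
   (1392,⟨.e,.e,⟨.o,.o,.o,.o,.o,.o⟩⟩),
   (1394,⟨.n,.e,⟨.o,.o,.o,.o,.o,.o⟩⟩),
   (1395,⟨.n,.e,⟨.n,.o,.e,.n,.n,.n⟩⟩),
   (1393,⟨.e,.e,⟨.o,.o,.o,.o,.o,.o⟩⟩),
   (1400,⟨.n,.e,⟨.n,.o,.o,.o,.o,.o⟩⟩),
   (1402,⟨.e,.n,⟨.n,.e,.e,.e,.n,.e⟩⟩),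
   (1403,⟨.e,.n,⟨.o,.o,.o,.o,.o,.o⟩⟩),
   (1401,⟨.e,.e,⟨.o,.o,.o,.o,.o,.o⟩⟩)]

/-- part 37 -/
def schk5_37 : List (ℕ × Par) :=
  [(1404,⟨.n,.n,⟨.e,.o,.o,.o,.o,.o⟩⟩),
   (1406,⟨.e,.e,⟨.o,.o,.o,.o,.o,.o⟩⟩),
   (1407,⟨.e,.e,⟨.o,.o,.o,.o,.o,.o⟩⟩),
   (1405,⟨.e,.e,⟨.o,.o,.o,.o,.o,.o⟩⟩),
   (1396,⟨.e,.e,⟨.o,.o,.n,.o,.o,.o⟩⟩),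
   (1398,⟨.n,.e,⟨.o,.o,.o,.o,.o,.o⟩⟩),
   (1399,⟨.n,.n,⟨.e,.e,.o,.o,.o,.o⟩⟩),
   (1397,⟨.e,.e,⟨.o,.o,.o,.o,.o,.o⟩⟩),
   (1416,⟨.e,.e,⟨.o,.o,.o,.o,.o,.o⟩⟩),
   (1418,⟨.e,.e,⟨.o,.o,.o,.o,.o,.o⟩⟩),
   (1419,⟨.n,.n,⟨.n,.o,.e,.e,.n,.o⟩⟩),
   (1417,⟨.e,.e,⟨.n,.o,.n,.n,.e,.n⟩⟩),
   (1408,⟨.e,.e,⟨.n,.n,.n,.e,.e,.n⟩⟩),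
   (1410,⟨.e,.e,⟨.o,.o,.o,.o,.o,.o⟩⟩),
   (1411,⟨.n,.n,⟨.e,.n,.n,.e,.e,.n⟩⟩),
   (1409,⟨.e,.e,⟨.o,.n,.o,.o,.o,.o⟩⟩),
   (1412,⟨.e,.e,⟨.e,.n,.e,.n,.n,.n⟩⟩),
   (1414,⟨.e,.e,⟨.o,.o,.o,.o,.o,.o⟩⟩),
   (1415,⟨.e,.e,⟨.o,.o,.o,.o,.o,.o⟩⟩),
   (1413,⟨.n,.n,⟨.e,.e,.o,.e,.o,.e⟩⟩),
   (1420,⟨.e,.e,⟨.o,.o,.o,.o,.o,.o⟩⟩),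
   (1422,⟨.e,.n,⟨.n,.e,.e,.e,.n,.e⟩⟩),
   (1423,⟨.n,.e,⟨.n,.e,.o,.e,.n,.e⟩⟩),
   (1421,⟨.n,.e,⟨.n,.e,.o,.e,.n,.e⟩⟩),
   (1424,⟨.e,.n,⟨.e,.e,.n,.n,.e,.e⟩⟩),
   (1426,⟨.e,.e,⟨.o,.o,.o,.o,.o,.o⟩⟩),
   (1427,⟨.e,.e,⟨.o,.o,.o,.o,.o,.o⟩⟩),
   (1425,⟨.n,.e,⟨.e,.o,.o,.o,.o,.o⟩⟩),
   (1428,⟨.e,.e,⟨.o,.o,.o,.o,.o,.o⟩⟩),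
   (1430,⟨.n,.e,⟨.o,.o,.e,.o,.o,.o⟩⟩),
   (1431,⟨.e,.e,⟨.e,.n,.e,.n,.n,.n⟩⟩),
   (1429,⟨.n,.e,⟨.e,.n,.e,.n,.n,.n⟩⟩)]

/-- part 38 -/
def schk5_38 : List (ℕ × Par) :=
  [(1436,⟨.e,.e,⟨.n,.o,.e,.n,.n,.e⟩⟩),
   (1438,⟨.n,.n,⟨.n,.e,.e,.e,.n,.e⟩⟩),
   (1439,⟨.e,.e,⟨.o,.o,.o,.o,.o,.o⟩⟩),
   (1437,⟨.e,.n,⟨.n,.o,.n,.e,.e,.o⟩⟩),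
   (1440,⟨.n,.e,⟨.o,.o,.o,.o,.o,.o⟩⟩),
   (1442,⟨.n,.e,⟨.o,.o,.o,.o,.o,.o⟩⟩),
   (1443,⟨.n,.e,⟨.o,.n,.n,.n,.e,.e⟩⟩),
   (1441,⟨.n,.e,⟨.o,.o,.o,.o,.o,.o⟩⟩),
   (1432,⟨.n,.n,⟨.o,.o,.o,.o,.o,.o⟩⟩),
   (1434,⟨.n,.e,⟨.o,.e,.o,.o,.n,.o⟩⟩),
   (1435,⟨.e,.e,⟨.n,.n,.n,.e,.e,.n⟩⟩),
   (1433,⟨.e,.e,⟨.o,.o,.o,.o,.o,.o⟩⟩),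
   (1452,⟨.e,.n,⟨.e,.o,.e,.o,.o,.o⟩⟩),
   (1454,⟨.e,.e,⟨.n,.e,.n,.o,.e,.n⟩⟩),
   (1455,⟨.e,.e,⟨.o,.o,.o,.o,.o,.o⟩⟩),
   (1453,⟨.n,.e,⟨.n,.n,.n,.e,.e,.n⟩⟩),
   (1444,⟨.e,.e,⟨.o,.o,.o,.o,.o,.o⟩⟩),
   (1446,⟨.e,.e,⟨.o,.o,.o,.o,.o,.o⟩⟩),
   (1447,⟨.e,.e,⟨.o,.o,.o,.o,.o,.o⟩⟩),
   (1445,⟨.e,.e,⟨.o,.o,.o,.o,.o,.o⟩⟩),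
   (1448,⟨.e,.e,⟨.o,.e,.o,.o,.o,.o⟩⟩),
   (1450,⟨.e,.e,⟨.o,.n,.o,.o,.n,.o⟩⟩),
   (1451,⟨.e,.e,⟨.o,.o,.o,.o,.o,.o⟩⟩),
   (1449,⟨.n,.e,⟨.o,.o,.o,.o,.o,.o⟩⟩),
   (1132,⟨.e,.n,⟨.e,.e,.n,.n,.e,.e⟩⟩),
   (1134,⟨.e,.e,⟨.o,.o,.o,.o,.o,.o⟩⟩),
   (1135,⟨.e,.e,⟨.o,.o,.o,.o,.o,.o⟩⟩),
   (1133,⟨.n,.e,⟨.n,.o,.o,.o,.o,.o⟩⟩),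
   (1136,⟨.n,.n,⟨.o,.n,.n,.e,.e,.n⟩⟩),
   (1138,⟨.e,.e,⟨.o,.o,.o,.o,.o,.o⟩⟩),
   (1139,⟨.e,.e,⟨.o,.o,.o,.o,.o,.o⟩⟩),
   (1137,⟨.e,.e,⟨.o,.o,.o,.o,.o,.o⟩⟩)]

/-- part 39 -/
def schk5_39 : List (ℕ × Par) :=
  [(1140,⟨.e,.n,⟨.e,.n,.n,.o,.e,.e⟩⟩),
   (1142,⟨.e,.e,⟨.o,.o,.o,.o,.o,.o⟩⟩),
   (1143,⟨.e,.e,⟨.o,.o,.o,.o,.o,.o⟩⟩),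
   (1141,⟨.e,.n,⟨.n,.n,.n,.e,.e,.n⟩⟩),
   (1148,⟨.n,.n,⟨.n,.e,.e,.e,.n,.e⟩⟩),
   (1150,⟨.n,.n,⟨.e,.e,.n,.n,.e,.e⟩⟩),
   (1151,⟨.e,.e,⟨.o,.o,.o,.o,.o,.o⟩⟩),
   (1149,⟨.e,.e,⟨.o,.o,.o,.o,.o,.o⟩⟩),
   (1152,⟨.e,.e,⟨.o,.o,.o,.o,.o,.o⟩⟩),
   (1154,⟨.e,.n,⟨.n,.e,.e,.e,.n,.e⟩⟩),
   (1155,⟨.e,.e,⟨.o,.o,.o,.o,.o,.o⟩⟩),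
   (1153,⟨.e,.n,⟨.o,.e,.o,.o,.o,.o⟩⟩),
   (1144,⟨.n,.n,⟨.e,.n,.e,.e,.e,.e⟩⟩),
   (1146,⟨.e,.n,⟨.e,.o,.e,.e,.n,.n⟩⟩),
   (1147,⟨.n,.e,⟨.o,.o,.o,.o,.o,.o⟩⟩),
   (1145,⟨.n,.e,⟨.e,.o,.n,.e,.e,.e⟩⟩),
   (1164,⟨.e,.e,⟨.o,.o,.o,.o,.o,.o⟩⟩),
   (1166,⟨.n,.n,⟨.e,.o,.o,.o,.o,.o⟩⟩),
   (1167,⟨.n,.e,⟨.o,.o,.o,.o,.o,.o⟩⟩),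
   (1165,⟨.e,.e,⟨.o,.o,.o,.o,.o,.o⟩⟩),
   (1156,⟨.e,.e,⟨.o,.o,.o,.o,.o,.o⟩⟩),
   (1158,⟨.e,.e,⟨.o,.n,.o,.o,.n,.o⟩⟩),
   (1159,⟨.e,.e,⟨.o,.o,.o,.o,.o,.o⟩⟩),
   (1157,⟨.e,.e,⟨.o,.o,.o,.o,.o,.o⟩⟩),
   (1160,⟨.e,.n,⟨.o,.o,.n,.o,.o,.o⟩⟩),
   (1162,⟨.e,.e,⟨.o,.o,.o,.o,.o,.o⟩⟩),
   (1163,⟨.e,.e,⟨.o,.o,.o,.o,.o,.o⟩⟩),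
   (1161,⟨.e,.n,⟨.o,.e,.o,.o,.o,.o⟩⟩),
   (1168,⟨.e,.n,⟨.n,.e,.n,.o,.o,.o⟩⟩),
   (1170,⟨.e,.e,⟨.o,.o,.o,.o,.o,.o⟩⟩),
   (1171,⟨.n,.n,⟨.e,.n,.e,.o,.n,.e⟩⟩),
   (1169,⟨.e,.n,⟨.o,.e,.o,.o,.o,.o⟩⟩)]

/-- part 40 -/
def schk5_40 : List (ℕ × Par) :=
  [(1172,⟨.n,.e,⟨.o,.o,.o,.o,.o,.o⟩⟩),
   (1174,⟨.e,.e,⟨.o,.o,.o,.o,.o,.o⟩⟩),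
   (1175,⟨.n,.e,⟨.o,.o,.o,.o,.o,.o⟩⟩),
   (1173,⟨.e,.e,⟨.o,.o,.o,.o,.o,.o⟩⟩),
   (1176,⟨.e,.n,⟨.e,.e,.o,.o,.o,.o⟩⟩),
   (1178,⟨.e,.e,⟨.n,.o,.o,.o,.o,.o⟩⟩),
   (1179,⟨.e,.e,⟨.o,.o,.o,.o,.o,.o⟩⟩),
   (1177,⟨.n,.e,⟨.o,.o,.o,.o,.o,.o⟩⟩),
   (1184,⟨.e,.e,⟨.o,.o,.o,.o,.o,.o⟩⟩),
   (1186,⟨.e,.e,⟨.o,.o,.o,.o,.o,.o⟩⟩),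
   (1187,⟨.e,.e,⟨.o,.o,.o,.o,.o,.o⟩⟩),
   (1185,⟨.e,.e,⟨.o,.o,.o,.o,.o,.o⟩⟩),
   (1188,⟨.n,.n,⟨.n,.o,.n,.o,.o,.o⟩⟩),
   (1190,⟨.e,.n,⟨.o,.e,.o,.o,.o,.o⟩⟩),
   (1191,⟨.e,.e,⟨.o,.o,.o,.o,.o,.o⟩⟩),
   (1189,⟨.e,.e,⟨.o,.o,.o,.o,.o,.o⟩⟩),
   (1180,⟨.n,.e,⟨.e,.o,.o,.o,.o,.o⟩⟩),
   (1182,⟨.e,.e,⟨.o,.o,.o,.o,.o,.o⟩⟩),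
   (1183,⟨.e,.e,⟨.o,.o,.o,.o,.o,.o⟩⟩),
   (1181,⟨.n,.n,⟨.o,.n,.e,.n,.n,.n⟩⟩),
   (1200,⟨.e,.e,⟨.n,.e,.o,.o,.o,.o⟩⟩),
   (1202,⟨.e,.e,⟨.o,.o,.o,.o,.o,.o⟩⟩),
   (1203,⟨.e,.e,⟨.o,.e,.o,.o,.o,.o⟩⟩),
   (1201,⟨.e,.e,⟨.o,.o,.o,.o,.o,.o⟩⟩),
   (1192,⟨.e,.e,⟨.o,.o,.o,.o,.o,.o⟩⟩),
   (1194,⟨.e,.e,⟨.e,.n,.o,.o,.o,.o⟩⟩),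
   (1195,⟨.e,.e,⟨.o,.o,.o,.o,.o,.o⟩⟩),
   (1193,⟨.n,.n,⟨.n,.e,.o,.o,.o,.o⟩⟩),
   (1196,⟨.e,.e,⟨.e,.e,.o,.o,.o,.o⟩⟩),
   (1198,⟨.n,.n,⟨.e,.n,.n,.e,.e,.n⟩⟩),
   (1199,⟨.e,.e,⟨.o,.e,.o,.o,.o,.o⟩⟩),
   (1197,⟨.e,.e,⟨.o,.o,.o,.o,.o,.o⟩⟩)]

/-- part 41 -/
def schk5_41 : List (ℕ × Par) :=
  [(1204,⟨.e,.e,⟨.o,.o,.o,.o,.o,.o⟩⟩),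
   (1206,⟨.n,.e,⟨.e,.e,.n,.e,.o,.o⟩⟩),
   (1207,⟨.n,.e,⟨.e,.e,.n,.e,.o,.o⟩⟩),
   (1205,⟨.e,.e,⟨.o,.o,.o,.o,.o,.o⟩⟩),
   (1208,⟨.e,.e,⟨.e,.o,.o,.o,.o,.o⟩⟩),
   (1210,⟨.n,.e,⟨.o,.o,.o,.o,.o,.o⟩⟩),
   (1211,⟨.e,.e,⟨.n,.o,.o,.o,.o,.o⟩⟩),
   (1209,⟨.e,.e,⟨.o,.o,.o,.o,.o,.o⟩⟩),
   (1212,⟨.e,.n,⟨.o,.o,.o,.o,.o,.o⟩⟩),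
   (1214,⟨.e,.e,⟨.n,.e,.o,.o,.o,.o⟩⟩),
   (1215,⟨.e,.e,⟨.e,.o,.o,.o,.o,.o⟩⟩),
   (1213,⟨.e,.e,⟨.o,.o,.o,.o,.o,.o⟩⟩),
   (1220,⟨.e,.e,⟨.o,.o,.o,.o,.o,.o⟩⟩),
   (1222,⟨.e,.e,⟨.o,.o,.o,.o,.o,.o⟩⟩),
   (1223,⟨.e,.e,⟨.o,.o,.o,.o,.o,.o⟩⟩),
   (1221,⟨.e,.e,⟨.o,.o,.o,.o,.o,.o⟩⟩),
   (1224,⟨.e,.n,⟨.n,.e,.o,.o,.o,.o⟩⟩),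
   (1226,⟨.e,.e,⟨.e,.e,.o,.o,.o,.o⟩⟩),
   (1227,⟨.n,.n,⟨.e,.o,.o,.o,.o,.o⟩⟩),
   (1225,⟨.n,.e,⟨.e,.o,.n,.e,.o,.n⟩⟩),
   (1216,⟨.e,.e,⟨.o,.o,.o,.o,.o,.o⟩⟩),
   (1218,⟨.e,.e,⟨.o,.o,.o,.o,.o,.o⟩⟩),
   (1219,⟨.e,.e,⟨.o,.e,.e,.e,.n,.e⟩⟩),
   (1217,⟨.e,.e,⟨.o,.n,.e,.n,.n,.n⟩⟩),
   (1236,⟨.e,.e,⟨.o,.o,.e,.o,.o,.o⟩⟩),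
   (1238,⟨.n,.e,⟨.e,.o,.o,.o,.o,.o⟩⟩),
   (1239,⟨.n,.e,⟨.o,.o,.o,.o,.o,.o⟩⟩),
   (1237,⟨.e,.e,⟨.o,.e,.o,.o,.e,.o⟩⟩),
   (1228,⟨.e,.e,⟨.e,.n,.e,.e,.o,.o⟩⟩),
   (1230,⟨.e,.e,⟨.o,.o,.o,.o,.o,.o⟩⟩),
   (1231,⟨.e,.e,⟨.e,.o,.o,.o,.o,.o⟩⟩),
   (1229,⟨.n,.n,⟨.n,.e,.e,.e,.n,.e⟩⟩)]

/-- part 42 -/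
def schk5_42 : List (ℕ × Par) :=
  [(1232,⟨.e,.e,⟨.o,.o,.o,.o,.o,.o⟩⟩),
   (1234,⟨.e,.e,⟨.o,.o,.o,.o,.o,.o⟩⟩),
   (1235,⟨.e,.e,⟨.o,.o,.o,.o,.o,.o⟩⟩),
   (1233,⟨.e,.e,⟨.o,.o,.o,.o,.o,.o⟩⟩),
   (1240,⟨.e,.n,⟨.e,.n,.o,.o,.o,.o⟩⟩),
   (1242,⟨.e,.e,⟨.o,.o,.o,.o,.o,.o⟩⟩),
   (1243,⟨.n,.e,⟨.e,.o,.o,.o,.o,.o⟩⟩),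
   (1241,⟨.e,.e,⟨.o,.o,.o,.o,.o,.o⟩⟩),
   (1244,⟨.n,.n,⟨.o,.n,.e,.n,.n,.n⟩⟩),
   (1246,⟨.e,.e,⟨.o,.o,.o,.o,.o,.o⟩⟩),
   (1247,⟨.e,.n,⟨.o,.e,.o,.o,.o,.o⟩⟩),
   (1245,⟨.e,.e,⟨.o,.o,.o,.o,.o,.o⟩⟩),
   (1248,⟨.e,.n,⟨.e,.e,.e,.o,.n,.n⟩⟩),
   (1250,⟨.e,.n,⟨.o,.o,.o,.o,.o,.o⟩⟩),
   (1251,⟨.e,.e,⟨.o,.n,.o,.o,.o,.o⟩⟩),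
   (1249,⟨.e,.e,⟨.o,.o,.o,.o,.o,.o⟩⟩),
   (1256,⟨.e,.e,⟨.o,.o,.o,.o,.o,.o⟩⟩),
   (1258,⟨.e,.e,⟨.o,.o,.o,.o,.o,.o⟩⟩),
   (1259,⟨.e,.e,⟨.o,.o,.o,.o,.o,.o⟩⟩),
   (1257,⟨.e,.n,⟨.n,.n,.o,.o,.o,.o⟩⟩),
   (1260,⟨.n,.n,⟨.e,.n,.o,.n,.e,.e⟩⟩),
   (1262,⟨.n,.e,⟨.o,.o,.o,.o,.o,.o⟩⟩),
   (1263,⟨.n,.e,⟨.n,.o,.n,.n,.e,.n⟩⟩),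
   (1261,⟨.e,.n,⟨.e,.o,.e,.e,.n,.n⟩⟩),
   (1252,⟨.e,.e,⟨.n,.o,.o,.o,.o,.o⟩⟩),
   (1254,⟨.e,.e,⟨.o,.o,.o,.o,.o,.o⟩⟩),
   (1255,⟨.n,.e,⟨.n,.o,.o,.o,.o,.o⟩⟩),
   (1253,⟨.e,.e,⟨.o,.o,.o,.o,.o,.o⟩⟩),
   (1272,⟨.n,.e,⟨.o,.o,.o,.o,.o,.o⟩⟩),
   (1274,⟨.e,.e,⟨.o,.o,.o,.o,.o,.o⟩⟩),
   (1275,⟨.e,.e,⟨.o,.o,.o,.o,.o,.o⟩⟩),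
   (1273,⟨.e,.e,⟨.o,.o,.o,.o,.o,.o⟩⟩)]

/-- part 43 -/
def schk5_43 : List (ℕ × Par) :=
  [(1264,⟨.e,.e,⟨.o,.o,.o,.o,.o,.o⟩⟩),
   (1266,⟨.e,.e,⟨.o,.o,.o,.o,.o,.o⟩⟩),
   (1267,⟨.e,.e,⟨.e,.e,.n,.n,.e,.e⟩⟩),
   (1265,⟨.n,.e,⟨.e,.e,.n,.n,.e,.e⟩⟩),
   (1268,⟨.e,.e,⟨.o,.o,.o,.o,.o,.o⟩⟩),
   (1270,⟨.e,.e,⟨.o,.o,.o,.o,.o,.o⟩⟩),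
   (1271,⟨.e,.e,⟨.o,.o,.o,.o,.o,.o⟩⟩),
   (1269,⟨.e,.e,⟨.o,.e,.o,.o,.e,.o⟩⟩),
   (1276,⟨.e,.e,⟨.o,.o,.o,.o,.o,.o⟩⟩),
   (1278,⟨.n,.e,⟨.n,.n,.e,.o,.n,.e⟩⟩),
   (1279,⟨.n,.n,⟨.o,.n,.o,.o,.o,.o⟩⟩),
   (1277,⟨.n,.e,⟨.o,.o,.o,.o,.o,.o⟩⟩),
   (1280,⟨.n,.e,⟨.o,.n,.o,.o,.o,.o⟩⟩),
   (1282,⟨.n,.e,⟨.o,.n,.n,.e,.e,.n⟩⟩),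
   (1283,⟨.e,.e,⟨.o,.o,.o,.o,.o,.o⟩⟩),
   (1281,⟨.e,.e,⟨.o,.o,.o,.o,.o,.o⟩⟩),
   (1284,⟨.e,.n,⟨.e,.n,.e,.n,.n,.n⟩⟩),
   (1286,⟨.e,.e,⟨.o,.o,.o,.o,.o,.o⟩⟩),
   (1287,⟨.e,.e,⟨.o,.o,.o,.o,.o,.o⟩⟩),
   (1285,⟨.n,.e,⟨.n,.o,.e,.e,.n,.o⟩⟩),
   (1292,⟨.n,.n,⟨.n,.o,.n,.o,.o,.o⟩⟩),
   (1294,⟨.e,.e,⟨.o,.o,.o,.o,.o,.o⟩⟩),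
   (1295,⟨.n,.e,⟨.o,.o,.o,.o,.o,.o⟩⟩),
   (1293,⟨.n,.e,⟨.n,.o,.o,.o,.o,.o⟩⟩),
   (1296,⟨.e,.e,⟨.o,.o,.o,.o,.o,.o⟩⟩),
   (1298,⟨.e,.e,⟨.o,.o,.o,.o,.o,.o⟩⟩),
   (1299,⟨.n,.e,⟨.e,.o,.o,.o,.o,.o⟩⟩),
   (1297,⟨.e,.n,⟨.o,.o,.o,.o,.o,.o⟩⟩),
   (1288,⟨.n,.n,⟨.e,.o,.o,.o,.o,.o⟩⟩),
   (1290,⟨.e,.e,⟨.o,.o,.o,.o,.o,.o⟩⟩),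
   (1291,⟨.e,.e,⟨.o,.o,.o,.o,.o,.o⟩⟩),
   (1289,⟨.e,.e,⟨.o,.o,.o,.o,.o,.o⟩⟩)]

/-- part 44 -/
def schk5_44 : List (ℕ × Par) :=
  [(1308,⟨.e,.e,⟨.o,.o,.o,.o,.o,.o⟩⟩),
   (1310,⟨.e,.e,⟨.o,.o,.o,.o,.o,.o⟩⟩),
   (1311,⟨.e,.e,⟨.o,.o,.o,.o,.o,.o⟩⟩),
   (1309,⟨.e,.e,⟨.o,.o,.o,.o,.o,.o⟩⟩),
   (1300,⟨.e,.e,⟨.o,.o,.o,.o,.o,.o⟩⟩),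
   (1302,⟨.n,.n,⟨.e,.o,.o,.e,.o,.e⟩⟩),
   (1303,⟨.e,.e,⟨.o,.o,.o,.o,.o,.o⟩⟩),
   (1301,⟨.e,.e,⟨.o,.o,.o,.o,.o,.o⟩⟩),
   (1304,⟨.e,.e,⟨.o,.o,.o,.o,.o,.o⟩⟩),
   (1306,⟨.e,.e,⟨.e,.o,.e,.e,.n,.n⟩⟩),
   (1307,⟨.n,.n,⟨.n,.e,.e,.e,.n,.e⟩⟩),
   (1305,⟨.n,.n,⟨.e,.e,.e,.o,.n,.n⟩⟩),
   (1312,⟨.e,.e,⟨.o,.o,.o,.o,.o,.o⟩⟩),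
   (1314,⟨.e,.e,⟨.o,.o,.o,.o,.o,.o⟩⟩),
   (1315,⟨.e,.n,⟨.n,.n,.o,.o,.o,.o⟩⟩),
   (1313,⟨.e,.e,⟨.o,.o,.o,.o,.o,.o⟩⟩),
   (1316,⟨.e,.n,⟨.o,.n,.o,.o,.o,.o⟩⟩),
   (1318,⟨.n,.e,⟨.o,.o,.o,.o,.o,.o⟩⟩),
   (1319,⟨.e,.e,⟨.o,.o,.o,.o,.o,.o⟩⟩),
   (1317,⟨.n,.e,⟨.o,.o,.o,.o,.o,.o⟩⟩),
   (1320,⟨.e,.n,⟨.o,.o,.o,.o,.o,.o⟩⟩),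
   (1322,⟨.n,.e,⟨.e,.n,.o,.o,.o,.o⟩⟩),
   (1323,⟨.n,.e,⟨.o,.o,.e,.o,.o,.o⟩⟩),
   (1321,⟨.e,.e,⟨.o,.o,.o,.o,.o,.o⟩⟩),
   (1328,⟨.n,.e,⟨.n,.n,.n,.e,.e,.n⟩⟩),
   (1330,⟨.n,.n,⟨.e,.o,.o,.o,.o,.o⟩⟩),
   (1331,⟨.e,.e,⟨.n,.n,.n,.e,.e,.n⟩⟩),
   (1329,⟨.e,.e,⟨.o,.o,.o,.o,.o,.o⟩⟩),
   (1332,⟨.e,.e,⟨.e,.o,.n,.e,.e,.e⟩⟩),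
   (1334,⟨.e,.n,⟨.n,.n,.o,.o,.o,.o⟩⟩),
   (1335,⟨.n,.n,⟨.n,.n,.o,.o,.o,.o⟩⟩),
   (1333,⟨.e,.e,⟨.o,.o,.o,.o,.o,.o⟩⟩)]

/-- part 45 -/
def schk5_45 : List (ℕ × Par) :=
  [(1324,⟨.n,.e,⟨.o,.o,.o,.o,.o,.o⟩⟩),
   (1326,⟨.n,.e,⟨.o,.o,.o,.o,.o,.o⟩⟩),
   (1327,⟨.n,.e,⟨.o,.o,.o,.o,.o,.o⟩⟩),
   (1325,⟨.n,.e,⟨.o,.n,.n,.o,.e,.e⟩⟩),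
   (1344,⟨.e,.e,⟨.o,.o,.o,.o,.o,.o⟩⟩),
   (1346,⟨.e,.e,⟨.o,.o,.o,.o,.o,.o⟩⟩),
   (1347,⟨.e,.e,⟨.o,.o,.o,.o,.o,.o⟩⟩),
   (1345,⟨.e,.e,⟨.o,.o,.o,.o,.o,.o⟩⟩),
   (1336,⟨.e,.e,⟨.o,.n,.n,.n,.o,.o⟩⟩),
   (1338,⟨.e,.e,⟨.o,.o,.o,.o,.o,.o⟩⟩),
   (1339,⟨.e,.e,⟨.o,.o,.o,.o,.o,.o⟩⟩),
   (1337,⟨.n,.e,⟨.n,.o,.o,.o,.o,.o⟩⟩),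
   (1340,⟨.e,.n,⟨.o,.e,.o,.o,.o,.o⟩⟩),
   (1342,⟨.n,.e,⟨.o,.n,.o,.o,.o,.o⟩⟩),
   (1343,⟨.n,.n,⟨.e,.n,.o,.o,.o,.o⟩⟩),
   (1341,⟨.e,.e,⟨.o,.o,.o,.o,.o,.o⟩⟩)]

/-- Schreier data of a root element -/
def tab5 : List (List (ℕ × Par)) :=
  [schk5_0,
   schk5_1,
   schk5_2,
   schk5_3,
   schk5_4,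
   schk5_5,
   schk5_6,
   schk5_7,
   schk5_8,
   schk5_9,
   schk5_10,
   schk5_11,
   schk5_12,
   schk5_13,
   schk5_14,
   schk5_15,
   schk5_16,
   schk5_17,
   schk5_18,
   schk5_19,
   schk5_20,
   schk5_21,
   schk5_22,
   schk5_23,
   schk5_24,
   schk5_25,
   schk5_26,
   schk5_27,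
   schk5_28,
   schk5_29,
   schk5_30,
   schk5_31,
   schk5_32,
   schk5_33,
   schk5_34,
   schk5_35,
   schk5_36,
   schk5_37,
   schk5_38,
   schk5_39,
   schk5_40,
   schk5_41,
   schk5_42,
   schk5_43,
   schk5_44,
   schk5_45]

end Cfsg.Agent.H50.GTwoThree
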