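/- The table of a root element is correct. -/
import Cfsg.Agent.H50.GTwoThree.Cover
import Cfsg.Agent.H50.GTwoThree.Tab6

set_option autoImplicit false
set_option maxRecDepth 100000
set_option Elab.async false

namespace Cfsg.Agent.H50.GTwoThree

theorem table6_part0 : partIdx (fun i => rowOk (img 6 1) i (entry tab6 i)) 0 = true := by decide +kernel

theorem table6_part7 : partIdx (fun i => rowOk (img 6 1) i (entry tab6 i)) 7 = true := by decide +kernel

theorem table6_part14 : partIdx (fun i => rowOk (img 6 1) i (entry tab6 i)) 14 = true := by decide +kernel

theorem table6_part21 : partIdx (fun i => rowOk (img 6 1) i (entry tab6 i)) 21 = true := by decide +kernel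

theorem table6_part28 : partIdx (fun i => rowOk (img 6 1) i (entry tab6 i)) 28 = true := by decide +kernel

theorem table6_part35 : partIdx (fun i => rowOk (img 6 1) i (entry tab6 i)) 35 = true := by decide +kernel

theorem table6_part42 : partIdx (fun i => rowOk (img 6 1) i (entry tab6 i)) 42 = true := by decide +kernel

theorem table_ok6 : TableOk (img 6 1) tab6 :=
  fun i hi => of_parts table6_part0 table6_part7 table6_part14 table6_part21 table6_part28 table6_part35 table6_part42 hi

end Cfsg.Agent.H50.GTwoThree
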