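/- The root matrices satisfy Steinberg's relations. -/
import Cfsg.Agent.H50.GTwoThree.Gens
import Cfsg.Prelude.Def_ChevG2
import Cfsg.Prelude.Def_SteinbergCover

set_option autoImplicit false
set_option maxRecDepth 100000
set_option Elab.async false

namespace Cfsg.Agent.H50.GTwoThree

open Cfsg.Lie Cfsg.Lie.ChevalleyDatum

/-- product of a word in root matrices -/
def wordC : List (ℕ × F3) → M7
  | [] => M7.one
  | x :: w => (img x.1 x.2).mul (wordC w)

/-- all values of the field -/
def allF3 : List F3 := [.o, .e, .n]

theorem mem_allF3 (t : F3) : t ∈ allF3 := by cases t <;> simp [allF3]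

/-- first kind of relation for all roots -/
def relOne : Bool :=
  (List.range 12).all fun r => allF3.all fun t => allF3.all fun u =>
    decide ((img r t).mul (img r u) = img r (t + u))

theorem rel_one : relOne = true := by decide +kernel

/-- second kind of relation for one root -/
def relTwoRow (r : ℕ) : Bool :=
  (List.range 12).all fun s => (s == r) || (s == chevG2.neg r) ||
    allF3.all fun t => allF3.all fun u =>
      decide ((((img s (-u)).mul (img r (-t))).mul (img s u)).mul (img r t) =
        wordC (chevG2.commWord F3 r s t u))

theorem rel_two0 : relTwoRow 0 = true := by decide +kernel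

theorem rel_two1 : relTwoRow 1 = true := by decide +kernel

theorem rel_two2 : relTwoRow 2 = true := by decide +kernel

theorem rel_two3 : relTwoRow 3 = true := by decide +kernel

theorem rel_two4 : relTwoRow 4 = true := by decide +kernel

theorem rel_two5 : relTwoRow 5 = true := by decide +kernel

theorem rel_two6 : relTwoRow 6 = true := by decide +kernel

theorem rel_two7 : relTwoRow 7 = true := by decide +kernel

theorem rel_two8 : relTwoRow 8 = true := by decide +kernel

theorem rel_two9 : relTwoRow 9 = true := by decide +kernel

theorem rel_two10 : relTwoRow 10 = true := by decide +kernel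

theorem rel_two11 : relTwoRow 11 = true := by decide +kernel

theorem rel_one_spec {r : ℕ} (hr : r < 12) (t u : F3) :
    (img r t).mul (img r u) = img r (t + u) := by
  have h := rel_one
  simp only [relOne, List.all_eq_true, List.mem_range, decide_eq_true_eq] at h
  exact h r hr t (mem_allF3 t) u (mem_allF3 u)

theorem rel_two_spec {r s : ℕ} (hr : r < 12) (hs : s < 12) (h1 : s ≠ r) (h2 : s ≠ chevG2.neg r)
    (t u : F3) :
    (((img s (-u)).mul (img r (-t))).mul (img s u)).mul (img r t) =
      wordC (chevG2.commWord F3 r s t u) := by
  have h : relTwoRow r = true := by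
    interval_cases r
    · exact rel_two0
    · exact rel_two1
    · exact rel_two2
    · exact rel_two3
    · exact rel_two4
    · exact rel_two5
    · exact rel_two6
    · exact rel_two7
    · exact rel_two8
    · exact rel_two9
    · exact rel_two10
    · exact rel_two11
  simp only [relTwoRow, List.all_eq_true, List.mem_range, Bool.or_eq_true, beq_iff_eq,
    decide_eq_true_eq] at h
  exact ((h s hs).resolve_left (by rintro (e | e) <;> contradiction)) t (mem_allF3 t) u (mem_allF3 u)

theorem img_zero : ∀ r : Fin 12, img r.1 0 = M7.one := by decide +kernel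

theorem word_ok : ∀ r : Fin 12,
    wordC (imgWord r.1) = img r.1 1 ∧ ∀ x ∈ imgWord r.1, x.1 = 4 ∨ x.1 = 5 ∨ x.1 = 6 ∨ x.1 = 7 := by
  decide +kernel

end Cfsg.Agent.H50.GTwoThree
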