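/- The cocycle difference on a commuting pair. -/
import Cfsg.Agent.H50.GTwoThree.Cover
import Cfsg.Agent.H50.GTwoThree.Tab7
import Cfsg.Agent.H50.GTwoThree.Tab11

set_option autoImplicit false
set_option maxRecDepth 100000
set_option Elab.async false

namespace Cfsg.Agent.H50.GTwoThree

theorem sum_delta : termSum tab7 tab11 - termSum tab11 tab7 = 1 := by decide +kernel

end Cfsg.Agent.H50.GTwoThree
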