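/-
The Schur multiplier of the Chevalley group of type G2 over the field with three elements.
-/
import Cfsg.Agent.H50.GTwoThree.Bound
import Cfsg.Agent.H50.GTwoThree.Rels
import Cfsg.Agent.H50.GTwoThree.Sums
import Cfsg.Agent.H50.GTwoThree.Check4
import Cfsg.Agent.H50.GTwoThree.Check5
import Cfsg.Agent.H50.GTwoThree.Check6
import Cfsg.Agent.H50.GTwoThree.Check7
import Cfsg.Agent.H50.GTwoThree.Check11
import Cfsg.Agent.H38.St.Symbols
import Cfsg.Agent.H38.St.CentreData
import Cfsg.Agent.H74.SchurBasic
import Cfsg.Agent.S1078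
import Cfsg.Agent.S2395

set_option autoImplicit false
set_option maxRecDepth 100000

namespace Cfsg.Agent.H50.GTwoThree

open Cfsg.Lie Cfsg.Lie.ChevalleyDatum Cfsg.Agent.Chevalley
open Cfsg.Agent.H38.St Cfsg.Agent.H38.CT

universe u

/-- a root element of the representation -/
def imgG (r : Fin 12) (t : F3) : G7 :=
  ⟨(img r.1 t).mat, (img r.1 (-t)).mat,
    by rw [← M7.mat_mul, rel_one_spec r.2, add_neg_cancel, img_zero, M7.mat_one],
    by rw [← M7.mat_mul, rel_one_spec r.2, neg_add_cancel, img_zero, M7.mat_one]⟩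

/-- root elements of the representation, trivial out of range -/
def imgN (r : ℕ) (t : F3) : G7 := if h : r < 12 then imgG ⟨r, h⟩ t else 1

theorem imgN_val {r : ℕ} (hr : r < 12) (t : F3) : (imgN r t).val = (img r t).mat := by
  rw [imgN, dif_pos hr]; rfl

theorem imgN_inv {r : ℕ} (hr : r < 12) (t : F3) : (imgN r t)⁻¹ = imgN r (-t) := by
  refine inv_eq_of_mul_eq_one_right (Units.ext ?_)
  rw [Units.val_mul, imgN_val hr, imgN_val hr, ← M7.mat_mul, rel_one_spec hr, add_neg_cancel]
  exact (congrArg M7.mat (img_zero ⟨r, hr⟩)).trans M7.mat_one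

theorem word_val (w : List (ℕ × F3)) (hw : ∀ x ∈ w, x.1 < 12) :
    ((w.map fun x => imgN x.1 x.2).prod).val = (wordC w).mat := by
  induction w with
  | nil => exact M7.mat_one.symm
  | cons x w ih =>
    rw [List.map_cons, List.prod_cons, Units.val_mul, imgN_val (hw x (by simp)),
      ih fun y hy => hw y (List.mem_cons_of_mem _ hy), wordC, M7.mat_mul]

theorem imgN_mem {r : ℕ} (hr : r < 12) (t : F3) : imgN r t ∈ permGroup := by
  have hsimple : ∀ x ∈ [4, 5, 6, 7], ∀ s, imgN x s ∈ permGroup := by
    intro x hx s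
    have hx' : x < 12 := by
      simp only [List.mem_cons, List.not_mem_nil, or_false] at hx
      omega
    have h1 : imgN x 1 ∈ permGroup := by
      simp only [List.mem_cons, List.not_mem_nil, or_false] at hx
      rcases hx with rfl | rfl | rfl | rfl
      · exact mem_permGroup_of_table (imgN_val hx' 1) table_ok4
      · exact mem_permGroup_of_table (imgN_val hx' 1) table_ok5
      · exact mem_permGroup_of_table (imgN_val hx' 1) table_ok6
      · exact mem_permGroup_of_table (imgN_val hx' 1) table_ok7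
    cases s with
    | o =>
      have e : imgN x F3.o = 1 := Units.ext (by
        rw [imgN_val hx']
        exact (congrArg M7.mat (img_zero ⟨x, hx'⟩)).trans M7.mat_one)
      rw [e]; exact one_mem _
    | e => exact h1
    | n =>
      have e : imgN x F3.n = (imgN x 1)⁻¹ := (imgN_inv hx' 1).symm
      rw [e]; exact inv_mem h1
  obtain ⟨hw, hl⟩ := word_ok ⟨r, hr⟩
  have hlt : ∀ x ∈ imgWord r, x.1 < 12 := fun x hx => by
    rcases hl x hx with e | e | e | e <;> omega
  have hone : imgN r 1 ∈ permGroup := by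
    have e : imgN r 1 = ((imgWord r).map fun x => imgN x.1 x.2).prod := Units.ext (by
      rw [word_val _ hlt, imgN_val hr]
      exact congrArg M7.mat hw.symm)
    rw [e]
    refine Subgroup.list_prod_mem _ fun y hy => ?_
    obtain ⟨x, hx, rfl⟩ := List.mem_map.1 hy
    exact hsimple x.1 (by simpa using hl x hx) x.2
  cases t with
  | o =>
    have e : imgN r F3.o = 1 := Units.ext (by
      rw [imgN_val hr]
      exact (congrArg M7.mat (img_zero ⟨r, hr⟩)).trans M7.mat_one)
    rw [e]; exact one_mem _
  | e => exact hone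
  | n =>
    have e : imgN r F3.n = (imgN r 1)⁻¹ := (imgN_inv hr 1).symm
    rw [e]; exact inv_mem hone

theorem comm_lt : ∀ r s : Fin 12, ∀ c ∈ chevG2.commTerms r.1 s.1, c.1 < 12 := by decide +kernel

variable {K : Type u} [Field K] [Fintype K]

/-- the representation of Steinberg's cover -/
theorem exists_hom (hK : Fintype.card K = 3) : ∃ (e : K ≃+* F3)
    (φ : chevG2.SteinbergCover K →* permGroup),
    ∀ r, r < 12 → ∀ t, ((φ (chevG2.scGen K r t) : permGroup) : G7) = imgN r (e t) := by
  classical
  let e : K ≃+* F3 := FiniteField.ringEquivOfCardEq (hK.trans F3.card.symm)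
  let L : FreeGroup (Fin chevG2.nroots × K) →* G7 := FreeGroup.lift fun q => imgN q.1.1 (e q.2)
  have hX : ∀ {r : ℕ}, r < 12 → ∀ t, L (chevG2.stX r t) = imgN r (e t) := fun {r} hr t =>
    lift_stX (D := chevG2) (fun r t => imgN r (e t)) (show r < chevG2.nroots from hr) t
  have hrels : ∀ x ∈ chevG2.steinbergRelsAB K, L x = 1 := by
    rintro x (⟨r, t, u, hr, rfl⟩ | ⟨r, s, t, u, hr, hs, h1, h2, rfl⟩)
    · replace hr : r < 12 := hr
      rw [map_mul, map_mul, map_inv, hX hr, hX hr, hX hr, mul_inv_eq_one]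
      refine Units.ext ?_
      rw [Units.val_mul, imgN_val hr, imgN_val hr, imgN_val hr, ← M7.mat_mul, rel_one_spec hr,
        map_add]
    · replace hr : r < 12 := hr
      replace hs : s < 12 := hs
      simp only [map_mul, map_inv, hX hr, hX hs, mul_inv_eq_one, imgN_inv hr, imgN_inv hs]
      have hlt : ∀ y ∈ chevG2.commWord F3 r s (e t) (e u), y.1 < 12 := fun y hy => by
        simp only [commWord, List.mem_map] at hy
        obtain ⟨c, hc, rfl⟩ := hy
        exact comm_lt ⟨r, hr⟩ ⟨s, hs⟩ c hc
      have hw : L (chevG2.stWord (chevG2.commWord K r s t u)) =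
          ((chevG2.commWord F3 r s (e t) (e u)).map fun x => imgN x.1 x.2).prod := by
        rw [stWord, map_list_prod]
        simp only [commWord, List.map_map]
        congr 1
        refine List.map_congr_left fun c hc => ?_
        simp only [Function.comp_apply]
        rw [hX (comm_lt ⟨r, hr⟩ ⟨s, hs⟩ c hc), map_mul, map_mul, map_pow, map_pow, map_intCast,
          map_neg]
      rw [hw]
      refine Units.ext ?_
      simp only [Units.val_mul, imgN_val hr, imgN_val hs]
      rw [word_val _ hlt, ← rel_two_spec hr hs h1 h2 (e t) (e u), M7.mat_mul, M7.mat_mul, M7.mat_mul]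
  let φ0 : chevG2.SteinbergCover K →* G7 := PresentedGroup.toGroup hrels
  have hgen : ∀ r, r < 12 → ∀ t, φ0 (chevG2.scGen K r t) = imgN r (e t) := fun r hr t => hX hr t
  have hmem : ∀ x, φ0 x ∈ permGroup := by
    intro x
    induction x using PresentedGroup.induction_on with
    | _ z =>
      induction z using FreeGroup.induction_on with
      | C1 => rw [map_one, map_one]; exact one_mem _
      | of q =>
        show φ0 (PresentedGroup.of q) ∈ _
        rw [PresentedGroup.toGroup.of]
        exact imgN_mem q.1.2 _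
      | inv_of q ih => rw [map_inv, map_inv]; exact inv_mem ih
      | mul a b iha ihb => rw [map_mul, map_mul]; exact mul_mem iha ihb
  exact ⟨e, φ0.codRestrict permGroup hmem, fun r hr t => hgen r hr t⟩

theorem stem_cover (hK : Fintype.card K = 3) [Finite (chevG2.SteinbergCover K)] :
    ∃ (P : Type u) (_ : Group P) (_ : Finite P) (X : CExt P (chevG2.SteinbergCover K)),
      X.p.ker ≤ commutator P ∧ Nat.card X.p.ker = 3 := by
  obtain ⟨e, φ, hφ⟩ := exists_hom hK
  let c : Cocycle (chevG2.SteinbergCover K) F3 :=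
    { f := fun x y => cocycle.f (φ x) (φ y)
      one_left := fun g => by rw [map_one]; exact cocycle.one_left _
      one_right := fun g => by rw [map_one]; exact cocycle.one_right _
      assoc := fun x y z => by rw [map_mul, map_mul]; exact cocycle.assoc _ _ _ }
  refine ⟨c.Ext, inferInstance, inferInstance,
    ⟨c.proj, c.proj_surjective, c.ker_le_center⟩, ?_, ?_⟩
  · set a := chevG2.scGen K 7 1
    set b := chevG2.scGen K 11 1
    have hab : a * b = b * a :=
      comK_free (K := K) (by decide : 7 < chevG2.nroots) (free_of_b free_pairs.1) 1 1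
    have va : ((φ a : permGroup) : G7).val = (img 7 1).mat := by
      rw [hφ 7 (by omega), map_one, imgN_val (by omega)]
    have vb : ((φ b : permGroup) : G7).val = (img 11 1).mat := by
      rw [hφ 11 (by omega), map_one, imgN_val (by omega)]
    have hf : c.f a b - c.f b a = 1 := by
      show cocycle.f (φ a) (φ b) - cocycle.f (φ b) (φ a) = 1
      rw [cocycle_table va vb table_ok7 table_ok11, cocycle_table vb va table_ok11 table_ok7]
      exact sum_delta
    have hone : (⟨1, 1⟩ : c.Ext) ∈ commutator c.Ext := by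
      rw [c.commutator_lift hab 1 hf.symm, _root_.commutator_def]
      exact Subgroup.commutator_mem_commutator (Subgroup.mem_top _) (Subgroup.mem_top _)
    intro x hx
    obtain ⟨α, g⟩ := x
    obtain rfl : g = 1 := hx
    have hsq : (⟨1, 1⟩ : c.Ext) * ⟨1, 1⟩ = ⟨1 + 1, 1⟩ := by
      refine Cocycle.Ext.ext ?_ (one_mul _)
      show (1 : F3) + 1 + c.f 1 1 = 1 + 1
      rw [c.one_left, add_zero]
    cases α with
    | o => exact one_mem _
    | e => exact hone
    | n =>
      have : (⟨F3.n, 1⟩ : c.Ext) = ⟨1 + 1, 1⟩ := rfl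
      rw [this, ← hsq]
      exact mul_mem hone hone
  · show Nat.card c.proj.ker = 3
    rw [Nat.card_congr c.kerEquiv.toEquiv, Nat.card_congr Multiplicative.toAdd,
      Nat.card_eq_fintype_card, F3.card]

theorem hasCyclicSchurMultiplier (hK : Fintype.card K = 3) :
    Cfsg.HasCyclicSchurMultiplier ↥(chevG2.group K) 3 := by
  have hmem : chevG2 ∈ [chevG2, chevB2, chevD4, chevF4, chevE6, chevE7, chevE8] := by simp
  obtain ⟨Q, hrel, hA⟩ := exists_stData hmem K
  have := charP_of_card (K := K) (q := 3) (k := 1) (by norm_num) hK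
  have hperf : commutator (chevG2.SteinbergCover K) = ⊤ :=
    S2395.result chevG2 hmem fun _ => ⟨-1, neg_ne_zero.2 one_ne_zero, fun h => by
      refine neg_one_zpow_ne hK (k := 1) (by norm_num) (Units.ext ?_)
      simpa using h⟩
  have hfin : Finite (chevG2.SteinbergCover K) := finite_cover Q hrel hA hperf
  obtain ⟨e, -⟩ := cover_equiv Q hrel hA
  obtain ⟨θ, hθ, hker, -⟩ := steinberg Q hrel hA
  have hinj : Function.Injective θ := by
    rw [← MonoidHom.ker_eq_bot_iff, hker]
    exact S1078.result chevG2 (by simp)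
  let ψ : chevG2.SteinbergCover K ≃* ↥(chevG2.group K) :=
    e.trans (MulEquiv.ofBijective θ ⟨hinj, hθ⟩)
  have hprime : Fact (Nat.Prime 3) := ⟨Nat.prime_three⟩
  constructor
  · obtain ⟨P, _, _, X, hd, hcard⟩ := stem_cover hK
    have hk : (ψ.toMonoidHom.comp X.p).ker = X.p.ker := MonoidHom.ker_mulEquiv_comp X.p ψ
    obtain ⟨Δ, j1, j2, τ, hτ, ⟨k⟩⟩ := H74.Schur.exists_stem_small (σ := ψ.toMonoidHom.comp X.p)
      ⟨ψ.surjective.comp X.surj, hk.le.trans X.central, hk.le.trans hd⟩
    refine ⟨Δ, j1, j2, τ, hτ, ⟨(k.symm.trans (MulEquiv.subgroupCongr hk)).trans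
      (mulEquivOfPrimeCardEq hcard ?_)⟩⟩
    rw [Nat.card_congr Multiplicative.toAdd, Nat.card_zmod]
  · intro Γ _ _ σ hσ
    have hk : (ψ.symm.toMonoidHom.comp σ).ker = σ.ker := MonoidHom.ker_mulEquiv_comp σ ψ.symm
    let X : CExt Γ (chevG2.SteinbergCover K) :=
      ⟨ψ.symm.toMonoidHom.comp σ, ψ.symm.surjective.comp hσ.1, hk.le.trans hσ.2.1⟩
    have hle := ker_le_zpowers hK X (hk.le.trans hσ.2.2)
    have hδ : delta X ∈ σ.ker := hk.le (delta_cube hK X).2
    let d : σ.ker := ⟨delta X, hδ⟩
    let f : Multiplicative (ZMod 3) →* σ.ker := AddMonoidHom.toMultiplicativeLeft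
      (ZMod.lift 3 ⟨zmultiplesHom (Additive σ.ker) (Additive.ofMul d), by
        rw [zmultiplesHom_apply, natCast_zsmul, ← ofMul_pow,
          show d ^ 3 = 1 from Subtype.ext (delta_cube hK X).1]
        rfl⟩)
    refine ⟨f, fun z => ?_⟩
    obtain ⟨i, hi⟩ := Subgroup.mem_zpowers_iff.1 (hle (hk.symm.le z.2))
    refine ⟨Multiplicative.ofAdd (i : ZMod 3), ?_⟩
    show Additive.toMul (ZMod.lift 3 _ (i : ZMod 3)) = z
    rw [ZMod.lift_coe]
    refine Subtype.ext ?_
    simpa [d] using hi

end Cfsg.Agent.H50.GTwoThree
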